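import Groth.Agent.Lib.Helper68.JShriekSheaf

/-!
# Extension by zero along a functor equivalent to a slice projection (helper68)

Let `G : D ⥤ C` be a functor which identifies `D` with a slice category `Over Uo` of `C`
(`e : D ≌ Over Uo`, `e.functor ⋙ Over.forget Uo ≅ G`).  Then precomposition with `G.op` on presheaves
has an explicit left adjoint (`lanPre`) which preserves monomorphisms when coproducts are exact, and
consequently the abstract pullback functor `G.sheafPullback A J K` on sheaves preserves monomorphisms,
and is exact in the abelian setting.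
-/

open CategoryTheory Limits Opposite

namespace Groth.Agent.Lib.Helper68.ShriekGen

universe w' w v₁ u₁ v₂ u₂

variable {C : Type u₁} [Category.{v₁} C] {D : Type u₂} [Category.{v₂} D] {G : D ⥤ C}
  {Uo : C} (e : D ≌ Over Uo) (φ : e.functor ⋙ Over.forget Uo ≅ G)
  (A : Type w) [Category.{w'} A] [HasCoproducts.{v₁} A]

/-- The explicit left adjoint of precomposition with `G.op`. -/
noncomputable def lanPre : (Dᵒᵖ ⥤ A) ⥤ (Cᵒᵖ ⥤ A) :=
  (Functor.whiskeringLeft _ _ A).obj e.inverse.op ⋙ JShriek.shriekPre Uo A

/-- The comparison of right adjoints. -/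
noncomputable def rightIso :
    JShriek.restrPre (A := A) Uo ⋙ (Functor.whiskeringLeft _ _ A).obj e.functor.op ≅
      (Functor.whiskeringLeft _ _ A).obj G.op :=
  NatIso.ofComponents (fun Q => (Functor.associator _ _ _).symm ≪≫
    Functor.isoWhiskerRight (NatIso.op φ).symm Q) (by
      intro Q Q' γ
      ext V
      simp)

/-- The adjunction between `lanPre` and precomposition with `G.op`. -/
noncomputable def lanPreAdj : lanPre e A ⊣ (Functor.whiskeringLeft _ _ A).obj G.op :=
  ((e.op.congrLeft (E := A)).toAdjunction.comp (JShriek.adjPre Uo A)).ofNatIsoRight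
    (rightIso e φ A)

instance [HasPullbacks A] [AB4OfSize.{v₁} A] : (lanPre e A).PreservesMonomorphisms := by
  dsimp only [lanPre]
  have : ((Functor.whiskeringLeft _ _ A).obj e.inverse.op).PreservesMonomorphisms :=
    inferInstanceAs ((e.op.congrLeft (E := A)).functor).PreservesMonomorphisms
  infer_instance

section Sheaf

variable (J : GrothendieckTopology D) (K : GrothendieckTopology C) [G.IsContinuous J K]
  [HasWeakSheafify K A]

/-- The explicit pullback functor on sheaves. -/
noncomputable def shriekSh : Sheaf J A ⥤ Sheaf K A :=
  sheafToPresheaf J A ⋙ lanPre e A ⋙ presheafToSheaf K A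

/-- The adjunction between the explicit pullback and the pushforward. -/
noncomputable def shriekShAdj : shriekSh e A J K ⊣ G.sheafPushforwardContinuous A J K :=
  ((lanPreAdj e φ A).comp (sheafificationAdjunction K A)).restrictFullyFaithful
    (fullyFaithfulSheafToPresheaf J A) (Functor.FullyFaithful.id _) (Iso.refl _) (Iso.refl _)

include φ in
lemma isRightAdjoint : (G.sheafPushforwardContinuous A J K).IsRightAdjoint :=
  (shriekShAdj e φ A J K).isRightAdjoint

instance [HasPullbacks A] [AB4OfSize.{v₁} A] [(presheafToSheaf K A).PreservesMonomorphisms] :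
    (shriekSh e A J K).PreservesMonomorphisms := by
  dsimp only [shriekSh]
  infer_instance

/-- The abstract pullback is isomorphic to the explicit one. -/
noncomputable def sheafPullbackIso [(G.sheafPushforwardContinuous A J K).IsRightAdjoint] :
    G.sheafPullback A J K ≅ shriekSh e A J K :=
  Adjunction.leftAdjointUniq (G.sheafAdjunctionContinuous A J K) (shriekShAdj e φ A J K)

include e φ in
lemma preservesMonomorphisms_sheafPullback [HasPullbacks A] [AB4OfSize.{v₁} A]
    [(presheafToSheaf K A).PreservesMonomorphisms]
    [(G.sheafPushforwardContinuous A J K).IsRightAdjoint] :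
    (G.sheafPullback A J K).PreservesMonomorphisms :=
  Functor.PreservesMonomorphisms.of_iso (sheafPullbackIso e φ A J K).symm

end Sheaf

end Groth.Agent.Lib.Helper68.ShriekGen
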