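import Groth.Prelude.Def_EtShriek2
import Groth.Agent.Lib.Helper68.ShriekGen

open CategoryTheory Limits Opposite AlgebraicGeometry

namespace Groth.Agent.Lib.Helper68.EtShriekExact

universe u

variable {U X : Scheme.{u}} (j : U ⟶ X) [hj : Etale j]

/-- `U` as an object of the small etale site of `X`. -/
noncomputable def Uo : X.Etale := MorphismProperty.Over.mk ⊤ j hj

set_option backward.isDefEq.respectTransparency.types false in
/-- The functor from the small etale site of `U` to the slice of that of `X` over `U`. -/
noncomputable def toOver : U.Etale ⥤ Over (Uo j) where
  obj V := Over.mk (Y := (EtShriek.compEtale j).obj V)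
    (MorphismProperty.Over.homMk V.hom rfl : (EtShriek.compEtale j).obj V ⟶ Uo j)
  map {V V'} g := Over.homMk ((EtShriek.compEtale j).map g) (by
    apply MorphismProperty.Over.Hom.ext
    exact MorphismProperty.Over.w g)
  map_id V := by
    apply Over.OverMorphism.ext
    exact (EtShriek.compEtale j).map_id V
  map_comp f g := by
    apply Over.OverMorphism.ext
    exact (EtShriek.compEtale j).map_comp f g

set_option backward.isDefEq.respectTransparency.types false in
lemma toOver_map_left_left {V V' : U.Etale} (g : V ⟶ V') :
    ((toOver j).map g).left.left = g.left := rfl

set_option backward.isDefEq.respectTransparency.types false in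
/-- `toOver` is fully faithful. -/
noncomputable def fullyFaithfulToOver : (toOver j).FullyFaithful where
  preimage {V V'} h := MorphismProperty.Over.homMk h.left.left (by
    have := congrArg (fun k => k.left) (Over.w h)
    exact this)
  map_preimage {V V'} h := by
    apply Over.OverMorphism.ext
    apply MorphismProperty.Over.Hom.ext
    rfl
  preimage_map {V V'} g := by
    apply MorphismProperty.Over.Hom.ext
    rfl

instance : (toOver j).Full := (fullyFaithfulToOver j).full
instance : (toOver j).Faithful := (fullyFaithfulToOver j).faithful

set_option backward.isDefEq.respectTransparency.types false in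
instance : (toOver j).EssSurj where
  mem_essImage W := by
    have e : W.hom.left ≫ j = W.left.hom := MorphismProperty.Over.w W.hom
    have hW : EtCoh.etaleMP (W.hom.left ≫ j) := by
      rw [e]; exact W.left.prop
    refine ⟨MorphismProperty.Over.mk ⊤ W.hom.left
      (EtCoh.etaleMP.of_postcomp (W' := EtCoh.etaleMP) W.hom.left j hj hW), ⟨?_⟩⟩
    refine Over.isoMk (MorphismProperty.Over.isoMk (Iso.refl _) ?_) ?_
    · exact (Category.id_comp _).trans e.symm
    · apply MorphismProperty.Over.Hom.ext
      exact Category.id_comp _

instance : (toOver j).IsEquivalence where

/-- The equivalence between the small etale site of `U` and a slice of that of `X`. -/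
noncomputable def equiv : U.Etale ≌ Over (Uo j) := (toOver j).asEquivalence

/-- Compatibility with `compEtale`. -/
noncomputable def equivIso : (equiv j).functor ⋙ Over.forget (Uo j) ≅ EtShriek.compEtale j :=
  NatIso.ofComponents (fun V => Iso.refl _) (by
    intro V V' g
    simp only [Iso.refl_hom]
    rfl)

variable [EtShriek.JCont j]

instance ab4Small : AB4OfSize.{u} AddCommGrpCat.{u + 1} :=
  AB4OfSize_shrink.{u, u + 1} AddCommGrpCat.{u + 1}

instance preservesMonomorphisms_extZero : (EtShriek.extZero j).PreservesMonomorphisms :=
  ShriekGen.preservesMonomorphisms_sheafPullback (equiv j) (equivIso j) AddCommGrpCat.{u + 1}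
    U.smallEtaleTopology X.smallEtaleTopology

instance additive_extZero : (EtShriek.extZero j).Additive :=
  have : (EtShriek.restrAlong j).Additive :=
    have : PreservesLimitsOfSize.{0, 0} (EtShriek.restrAlong j) :=
      (EtShriek.extZeroAdj j).rightAdjoint_preservesLimits
    Functor.additive_of_preserves_binary_products _
  (EtShriek.extZeroAdj j).left_adjoint_additive

instance preservesFiniteColimits_extZero : PreservesFiniteColimits (EtShriek.extZero j) :=
  have := (EtShriek.extZeroAdj j).leftAdjoint_preservesColimits
  inferInstance

/-- Extension by zero along an etale morphism is exact. -/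
theorem preservesFiniteLimits_extZero : PreservesFiniteLimits (EtShriek.extZero j) :=
  JShriek.preservesFiniteLimits_of_preservesMonomorphisms _

end Groth.Agent.Lib.Helper68.EtShriekExact
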