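import Mathlib
import Groth.Agent.Lib.Helper12.ShriekDualizing
import Groth.Agent.Lib.Helper12.DualizingBC
import Groth.Agent.Lib.Helper12.FlatExtendScalars

/-!
# Twisting by an invertible module is an autoequivalence of `D(A)` preserving dualizing complexes
(helper68)
-/

set_option autoImplicit false
universe u
open CategoryTheory CategoryTheory.Limits MonoidalCategory
attribute [local instance] HasDerivedCategory.standard

namespace Groth.Agent.Lib.Helper68.InvTwist

variable {A : Type u} [CommRing A]

section Flat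

variable (M : ModuleCat.{u} A) [Module.Flat A M]

/-- the functor on `D(A)` induced by the exact functor `- ⊗ M` (`M` flat) -/
noncomputable abbrev tD : Dual.D A ⥤ Dual.D A := (tensorRight M).mapDerivedCategory

/-- `tensorKh` factors through `Qh` for flat `M` -/
noncomputable def tensorKhIso : DerivedCategory.Qh ⋙ tD M ≅ DRing.tensorKh A M :=
  (tensorRight M).mapDerivedCategoryFactorsh

lemma isInvertedBy_tensorKh :
    (HomotopyCategory.quasiIso (ModuleCat.{u} A) (ComplexShape.up ℤ)).IsInvertedBy
      (DRing.tensorKh A M) := by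
  have h : (HomotopyCategory.quasiIso (ModuleCat.{u} A) (ComplexShape.up ℤ)).IsInvertedBy
      (DerivedCategory.Qh ⋙ tD M) :=
    MorphismProperty.IsInvertedBy.of_comp _ _ (Localization.inverts DerivedCategory.Qh _) _
  exact (MorphismProperty.IsInvertedBy.iff_of_iso _ (tensorKhIso M)).mp h

/-- for a flat module, the derived tensor product is the functor induced by the exact functor
`- ⊗ M` -/
noncomputable def lTensorIsoTD [DRing.HasLTensor A M] : DRing.LTensor A M ≅ tD M := by
  have hiso : IsIso ((DRing.tensorKh A M).totalLeftDerivedCounit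
      DerivedCategory.Qh (HomotopyCategory.quasiIso (ModuleCat.{u} A) (ComplexShape.up ℤ))) :=
    Functor.isIso_of_isLeftDerivedFunctor_of_inverts _ _ (isInvertedBy_tensorKh M)
  let e : DerivedCategory.Qh ⋙ DRing.LTensor A M ≅ DerivedCategory.Qh ⋙ tD M :=
    asIso ((DRing.tensorKh A M).totalLeftDerivedCounit
      DerivedCategory.Qh (HomotopyCategory.quasiIso (ModuleCat.{u} A) (ComplexShape.up ℤ))) ≪≫
      (tensorKhIso M).symm
  letI : Localization.Lifting DerivedCategory.Qh
      (HomotopyCategory.quasiIso (ModuleCat.{u} A) (ComplexShape.up ℤ))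
      (DerivedCategory.Qh ⋙ DRing.LTensor A M) (DRing.LTensor A M) := ⟨Iso.refl _⟩
  letI : Localization.Lifting DerivedCategory.Qh
      (HomotopyCategory.quasiIso (ModuleCat.{u} A) (ComplexShape.up ℤ))
      (DerivedCategory.Qh ⋙ tD M) (tD M) := ⟨Iso.refl _⟩
  exact Localization.liftNatIso DerivedCategory.Qh
    (HomotopyCategory.quasiIso (ModuleCat.{u} A) (ComplexShape.up ℤ)) _ _ _ _ e

end Flat

section Equiv

variable (P Q : ModuleCat.{u} A) [Module.Flat A P] [Module.Flat A Q]
  (e : P ⊗ Q ≅ 𝟙_ (ModuleCat.{u} A))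

/-- `(- ⊗ P) ⊗ Q ≅ id` -/
noncomputable def compIso : tensorRight P ⋙ tensorRight Q ≅ 𝟭 (ModuleCat.{u} A) :=
  (tensorRightTensor P Q).symm ≪≫ (tensoringRight _).mapIso e ≪≫ rightUnitorNatIso _

/-- the same on complexes -/
noncomputable def mapHCCompIso :
    (tensorRight P).mapHomologicalComplex (ComplexShape.up ℤ) ⋙
      (tensorRight Q).mapHomologicalComplex (ComplexShape.up ℤ) ≅ 𝟭 _ :=
  NatIso.ofComponents (fun K => HomologicalComplex.Hom.isoOfComponents
    (fun i => (compIso P Q e).app (K.X i))
    (fun i j _ => ((compIso P Q e).hom.naturality (K.d i j)).symm))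
    (fun f => by
      apply HomologicalComplex.hom_ext
      intro i
      exact (compIso P Q e).hom.naturality (f.f i))

/-- the same on derived categories -/
noncomputable def tDCompIso : tD P ⋙ tD Q ≅ 𝟭 (Dual.D A) := by
  let W := HomologicalComplex.quasiIso (ModuleCat.{u} A) (ComplexShape.up ℤ)
  let F1 : CochainComplex (ModuleCat.{u} A) ℤ ⥤ Dual.D A :=
    ((tensorRight P).mapHomologicalComplex (ComplexShape.up ℤ) ⋙
      (tensorRight Q).mapHomologicalComplex (ComplexShape.up ℤ)) ⋙ DerivedCategory.Q
  letI : Localization.Lifting DerivedCategory.Q W F1 (tD P ⋙ tD Q) :=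
    ⟨(Functor.associator _ _ _).symm ≪≫
      Functor.isoWhiskerRight (tensorRight P).mapDerivedCategoryFactors _ ≪≫
      Functor.associator _ _ _ ≪≫
      Functor.isoWhiskerLeft _ (tensorRight Q).mapDerivedCategoryFactors ≪≫
      (Functor.associator _ _ _).symm⟩
  letI : Localization.Lifting DerivedCategory.Q W DerivedCategory.Q (𝟭 (Dual.D A)) :=
    ⟨Functor.rightUnitor _⟩
  exact Localization.liftNatIso DerivedCategory.Q W F1 DerivedCategory.Q _ _
    (Functor.isoWhiskerRight (mapHCCompIso P Q e) _ ≪≫ Functor.leftUnitor _)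

end Equiv

section Dualizing

open Groth.Agent.Lib.Helper12 Groth.Agent.Lib.Helper12.Shriek Groth.Agent.Lib.Helper12.DualizingBC

variable (P Q : ModuleCat.{u} A) [Module.Flat A P] [Module.Flat A Q] [Module.Finite A P]
  (e : P ⊗ Q ≅ 𝟙_ (ModuleCat.{u} A)) (e' : Q ⊗ P ≅ 𝟙_ (ModuleCat.{u} A))

/-- the autoequivalence of `D(A)` given by an invertible module -/
noncomputable def twistEquiv : Dual.D A ≌ Dual.D A :=
  CategoryTheory.Equivalence.mk (tD P) (tD Q) (tDCompIso P Q e).symm (tDCompIso Q P e')

include e e' in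
/-- twisting by an invertible module preserves dualizing complexes -/
theorem isDualizing_tD (ω : Dual.D A) (hω : Dual.IsDualizing A ω) :
    Dual.IsDualizing A ((tD P).obj ω) := by
  haveI hfull : (tD P).Full := (twistEquiv P Q e e').full_functor
  haveI hfaith : (tD P).Faithful := (twistEquiv P Q e e').faithful_functor
  haveI hfaithQ : (tD Q).Faithful := (twistEquiv P Q e e').faithful_inverse
  obtain ⟨a, b, hab⟩ := hω.finite_injective_dimension
  refine ⟨hω.isNoetherianRing, ⟨a, b, fun M _ _ i hi => ?_⟩, fun i => ?_, ?_, fun i hi => ?_⟩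
  · -- finite injective dimension
    have hsub := hab ((tensorRight Q).obj (ModuleCat.of A M)) i hi
    let α : (tD Q).obj (Dual.inD A M) ≅
        (DerivedCategory.singleFunctor (ModuleCat.{u} A) 0).obj
          ((tensorRight Q).obj (ModuleCat.of A M)) :=
      ((tensorRight Q).mapDerivedCategorySingleFunctor 0).app (ModuleCat.of A M)
    let β : (tD Q).obj (((tD P).obj ω)⟦i⟧) ≅ ω⟦i⟧ :=
      ((tD Q).commShiftIso i).app ((tD P).obj ω) ≪≫
        (shiftFunctor (Dual.D A) i).mapIso ((tDCompIso P Q e).app ω)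
    refine ⟨fun f g => (tD Q).map_injective ?_⟩
    rw [← cancel_epi α.inv, ← cancel_mono β.hom]
    exact hsub.elim _ _
  · -- finite cohomology
    have h1 := hω.finite_cohomology i
    let ι : (DerivedCategory.homologyFunctor (ModuleCat.{u} A) i).obj ((tD P).obj ω) ≅
        (tensorRight P).obj ((DerivedCategory.homologyFunctor (ModuleCat.{u} A) i).obj ω) :=
      (mapDerivedCategoryHomologyIso (tensorRight P) i).app ω
    haveI : Module.Finite A ((tensorRight P).obj
        ((DerivedCategory.homologyFunctor (ModuleCat.{u} A) i).obj ω)) :=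
      (inferInstance : Module.Finite A (TensorProduct A
        ((DerivedCategory.homologyFunctor (ModuleCat.{u} A) i).obj ω) P))
    exact Module.Finite.equiv ι.toLinearEquiv.symm
  · -- endomorphisms
    have h1 : ∀ x : A, x • 𝟙 ((tD P).obj ω) = (tD P).map (x • 𝟙 ω) := fun x => by
      rw [Functor.map_smul, CategoryTheory.Functor.map_id]
    constructor
    · intro x y hxy
      have hxy' : x • 𝟙 ((tD P).obj ω) = y • 𝟙 ((tD P).obj ω) := hxy
      rw [h1, h1] at hxy'
      exact hω.toEnd_bijective.1 ((tD P).map_injective hxy')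
    · intro f
      obtain ⟨g, rfl⟩ := (tD P).map_surjective f
      obtain ⟨x, rfl⟩ := hω.toEnd_bijective.2 g
      exact ⟨x, h1 x⟩
  · -- no self-extensions
    have hsub := hω.ext_self_subsingleton i hi
    let γ : (tD P).obj (ω⟦i⟧) ≅ ((tD P).obj ω)⟦i⟧ := ((tD P).commShiftIso i).app ω
    refine ⟨fun f g => ?_⟩
    rw [← cancel_mono γ.inv]
    obtain ⟨f', hf'⟩ := (tD P).map_surjective (f ≫ γ.inv)
    obtain ⟨g', hg'⟩ := (tD P).map_surjective (g ≫ γ.inv)
    rw [← hf', ← hg', hsub.elim f' g']

end Dualizing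

/-- **S11183** -/
theorem isDualizing_lTensor_invertible_shift [IsNoetherianRing A] (ω : Dual.D A)
    (hω : Dual.IsDualizing A ω) (P : Type u) [AddCommGroup P] [Module A P] [Module.Invertible A P]
    [DRing.HasLTensor A (ModuleCat.of A P)] (n : ℤ) :
    Dual.IsDualizing A (((DRing.LTensor A (ModuleCat.of A P)).obj ω)⟦n⟧) := by
  let P' : ModuleCat.{u} A := ModuleCat.of A P
  let Q' : ModuleCat.{u} A := ModuleCat.of A (Module.Dual A P)
  haveI : Module.Flat A P' := (inferInstance : Module.Flat A P)
  haveI : Module.Flat A Q' := (inferInstance : Module.Flat A (Module.Dual A P))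
  haveI : Module.Finite A P' := (inferInstance : Module.Finite A P)
  let e' : Q' ⊗ P' ≅ 𝟙_ (ModuleCat.{u} A) := (Module.Invertible.linearEquiv A P).toModuleIso
  let e : P' ⊗ Q' ≅ 𝟙_ (ModuleCat.{u} A) := (β_ P' Q') ≪≫ e'
  have h1 := isDualizing_tD P' Q' e e' ω hω
  have h2 := Groth.Agent.Lib.Helper12.DualizingBC.isDualizing_of_iso
    ((lTensorIsoTD P').app ω).symm h1
  exact Groth.Agent.Lib.Helper12.Shriek.isDualizing_shift _ h2 n

end Groth.Agent.Lib.Helper68.InvTwist
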