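import Mathlib
import Groth.Agent.Lib.Helper68.InvTwist
import Groth.Agent.Lib.Helper36.HomSingleProj
import Groth.Agent.Lib.Helper12.DRingPCShift
import Groth.Agent.Lib.Helper12.DRingCanTrunc

set_option autoImplicit false
universe u
open CategoryTheory CategoryTheory.Limits MonoidalCategory
open scoped TensorProduct
attribute [local instance] HasDerivedCategory.standard

namespace Groth.Agent.Lib.Helper68.InvTwist

variable {A : Type u} [CommRing A]

section Chain

variable (W : CochainComplex (ModuleCat.{u} A) ℤ) (L : ModuleCat.{u} A)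

/-- `W ⊗ L` -/
noncomputable abbrev WL : CochainComplex (ModuleCat.{u} A) ℤ :=
  ((tensorRight L).mapHomologicalComplex (ComplexShape.up ℤ)).obj W

/-- `w ↦ w ⊗ l` -/
noncomputable def mkL (l : L) : W ⟶ WL W L where
  f j := ModuleCat.ofHom ((TensorProduct.mk A (W.X j) L).flip l)
  comm' i j _ := by
    ext w
    rfl

/-- `w ⊗ l ↦ φ l • w` -/
noncomputable def evL (φ : L →ₗ[A] A) : WL W L ⟶ W where
  f j := ModuleCat.ofHom ((TensorProduct.rid A (W.X j)).toLinearMap ∘ₗ LinearMap.lTensor (W.X j) φ)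
  comm' i j _ := by
    apply ModuleCat.hom_ext
    apply TensorProduct.ext'
    intro w l
    show (W.d i j).hom (φ l • w) = φ l • (W.d i j).hom w
    rw [map_smul]

lemma mkL_f_apply (l : L) (j : ℤ) (w : W.X j) : ((mkL W L l).f j).hom w = w ⊗ₜ[A] l := rfl

lemma evL_f_apply (φ : L →ₗ[A] A) (j : ℤ) (w : W.X j) (l : L) :
    ((evL W L φ).f j).hom (w ⊗ₜ[A] l) = φ l • w := rfl

lemma mkL_add (l l' : L) : mkL W L (l + l') = mkL W L l + mkL W L l' := by
  apply HomologicalComplex.hom_ext
  intro j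
  apply ModuleCat.hom_ext
  apply LinearMap.ext
  intro w
  show w ⊗ₜ[A] (l + l') = w ⊗ₜ[A] l + w ⊗ₜ[A] l'
  rw [TensorProduct.tmul_add]

lemma mkL_smul (a : A) (l : L) : mkL W L (a • l) = a • mkL W L l := by
  apply HomologicalComplex.hom_ext
  intro j
  apply ModuleCat.hom_ext
  apply LinearMap.ext
  intro w
  show w ⊗ₜ[A] (a • l) = a • (w ⊗ₜ[A] l)
  rw [TensorProduct.tmul_smul]

lemma mkL_sum {ι : Type*} (s : Finset ι) (a : ι → A) (l : ι → L) :
    mkL W L (∑ i ∈ s, a i • l i) = ∑ i ∈ s, a i • mkL W L (l i) := by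
  classical
  induction s using Finset.induction_on with
  | empty =>
    simp only [Finset.sum_empty]
    apply HomologicalComplex.hom_ext
    intro j
    apply ModuleCat.hom_ext
    apply LinearMap.ext
    intro w
    show w ⊗ₜ[A] (0 : L) = 0
    rw [TensorProduct.tmul_zero]
  | insert i s hi ih =>
    rw [Finset.sum_insert hi, Finset.sum_insert hi, mkL_add, mkL_smul, ih]

lemma mkL_comp_evL (l : L) (φ : L →ₗ[A] A) : mkL W L l ≫ evL W L φ = φ l • 𝟙 W := by
  apply HomologicalComplex.hom_ext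
  intro j
  apply ModuleCat.hom_ext
  apply LinearMap.ext
  intro w
  rfl

lemma sum_evL_comp_mkL {ι : Type*} (s : Finset ι) (l : ι → L) (φ : ι → (L →ₗ[A] A))
    (h : ∀ x : L, ∑ i ∈ s, φ i x • l i = x) :
    ∑ i ∈ s, evL W L (φ i) ≫ mkL W L (l i) = 𝟙 (WL W L) := by
  apply HomologicalComplex.hom_ext
  intro j
  apply ModuleCat.hom_ext
  apply TensorProduct.ext'
  intro w x
  let t : (WL W L).X j := (w ⊗ₜ[A] x : W.X j ⊗[A] L)
  let E : (WL W L ⟶ WL W L) →+ ((WL W L).X j) :=
    { toFun := fun f => (f.f j).hom t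
      map_zero' := rfl
      map_add' := fun f g => rfl }
  have h1 : E (∑ i ∈ s, evL W L (φ i) ≫ mkL W L (l i)) =
      ∑ i ∈ s, E (evL W L (φ i) ≫ mkL W L (l i)) := map_sum E _ _
  have h2 : ∀ i, E (evL W L (φ i) ≫ mkL W L (l i)) =
      ((φ i x • w) ⊗ₜ[A] l i : W.X j ⊗[A] L) := fun i => rfl
  show E (∑ i ∈ s, evL W L (φ i) ≫ mkL W L (l i)) = t
  rw [h1]
  simp only [h2]
  show _ = (w ⊗ₜ[A] x : W.X j ⊗[A] L)
  conv_rhs => rw [← h x, TensorProduct.tmul_sum]
  refine Finset.sum_congr rfl fun i _ => ?_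
  rw [TensorProduct.smul_tmul, TensorProduct.tmul_smul]

end Chain

section Theta

open DerivedCategory

variable (W : CochainComplex (ModuleCat.{u} A) ℤ) (L : ModuleCat.{u} A) [Module.Finite A L]
  [Module.Projective A L]
  (hW : Function.Bijective (fun a : A => a • 𝟙 (Q.obj W : Dual.D A)))

/-- the linear map `l ↦ Q(w ↦ w ⊗ l)` -/
noncomputable def thetaL : L →ₗ[A] ((Q.obj W : Dual.D A) ⟶ Q.obj (WL W L)) where
  toFun l := Q.map (mkL W L l)
  map_add' l l' := by rw [mkL_add, Functor.map_add]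
  map_smul' a l := by
    rw [mkL_smul, Functor.map_smul]
    rfl

lemma thetaL_apply (l : L) : thetaL W L l = Q.map (mkL W L l) := rfl

include hW in
/-- `Hom_{D(A)}(W, W ⊗ L) ≅ L` for `L` finite projective and `End(W) = A` -/
theorem bijective_thetaL : Function.Bijective (thetaL W L) := by
  classical
  obtain ⟨n, f, g, -, -, hfg⟩ := Module.Finite.exists_comp_eq_id_of_projective A L
  let li : Fin n → L := fun i => f (fun j => if i = j then 1 else 0)
  let φi : Fin n → (L →ₗ[A] A) := fun i => LinearMap.proj i ∘ₗ g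
  have hsum : ∀ x : L, ∑ i ∈ Finset.univ, φi i x • li i = x := by
    intro x
    have h1 : f (g x) = x := by
      rw [← LinearMap.comp_apply, hfg]
      rfl
    conv_rhs => rw [← h1, LinearMap.pi_apply_eq_sum_univ f (g x)]
    rfl
  have hcomp : ∀ (l : L) (i : Fin n), thetaL W L l ≫ Q.map (evL W L (φi i)) =
      φi i l • 𝟙 (Q.obj W : Dual.D A) := by
    intro l i
    rw [thetaL_apply, ← Functor.map_comp, mkL_comp_evL, Functor.map_smul,
      CategoryTheory.Functor.map_id]
  constructor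
  · intro l l' hll
    have h2 : ∀ i, φi i l = φi i l' := by
      intro i
      apply hW.1
      show φi i l • 𝟙 (Q.obj W : Dual.D A) = φi i l' • 𝟙 (Q.obj W : Dual.D A)
      rw [← hcomp l i, ← hcomp l' i, hll]
    rw [← hsum l, ← hsum l']
    exact Finset.sum_congr rfl fun i _ => by rw [h2 i]
  · intro x
    choose a ha using fun i => hW.2 (x ≫ Q.map (evL W L (φi i)))
    have ha' : ∀ i, a i • 𝟙 (Q.obj W : Dual.D A) = x ≫ Q.map (evL W L (φi i)) := ha
    refine ⟨∑ i ∈ Finset.univ, a i • li i, ?_⟩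
    rw [thetaL_apply, mkL_sum, Functor.map_sum]
    have hx : x = x ≫ Q.map (∑ i ∈ Finset.univ, evL W L (φi i) ≫ mkL W L (li i)) := by
      rw [sum_evL_comp_mkL W L Finset.univ li φi hsum, CategoryTheory.Functor.map_id,
        Category.comp_id]
    conv_rhs => rw [hx, Functor.map_sum, Preadditive.comp_sum]
    refine Finset.sum_congr rfl fun i _ => ?_
    rw [Functor.map_smul, Functor.map_comp, ← Category.assoc, ← ha' i, Linear.smul_comp,
      Category.id_comp]

end Theta

section Comp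

variable (P Q R : ModuleCat.{u} A) [Module.Flat A P] [Module.Flat A Q] [Module.Flat A R]
  (e : P ⊗ Q ≅ R)

/-- `(- ⊗ P) ⊗ Q ≅ - ⊗ R` -/
noncomputable def compIso' : tensorRight P ⋙ tensorRight Q ≅ tensorRight R :=
  (tensorRightTensor P Q).symm ≪≫ (tensoringRight _).mapIso e

/-- the same on complexes -/
noncomputable def mapHCCompIso' :
    (tensorRight P).mapHomologicalComplex (ComplexShape.up ℤ) ⋙
      (tensorRight Q).mapHomologicalComplex (ComplexShape.up ℤ) ≅
      (tensorRight R).mapHomologicalComplex (ComplexShape.up ℤ) :=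
  NatIso.ofComponents (fun K => HomologicalComplex.Hom.isoOfComponents
    (fun i => (compIso' P Q R e).app (K.X i))
    (fun i j _ => ((compIso' P Q R e).hom.naturality (K.d i j)).symm))
    (fun f => by
      apply HomologicalComplex.hom_ext
      intro i
      exact (compIso' P Q R e).hom.naturality (f.f i))

/-- the same on derived categories -/
noncomputable def tDCompIso' : tD P ⋙ tD Q ≅ tD R := by
  let W := HomologicalComplex.quasiIso (ModuleCat.{u} A) (ComplexShape.up ℤ)
  let F1 : CochainComplex (ModuleCat.{u} A) ℤ ⥤ Dual.D A :=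
    ((tensorRight P).mapHomologicalComplex (ComplexShape.up ℤ) ⋙
      (tensorRight Q).mapHomologicalComplex (ComplexShape.up ℤ)) ⋙ DerivedCategory.Q
  let F2 : CochainComplex (ModuleCat.{u} A) ℤ ⥤ Dual.D A :=
    (tensorRight R).mapHomologicalComplex (ComplexShape.up ℤ) ⋙ DerivedCategory.Q
  letI : Localization.Lifting DerivedCategory.Q W F1 (tD P ⋙ tD Q) :=
    ⟨(Functor.associator _ _ _).symm ≪≫
      Functor.isoWhiskerRight (tensorRight P).mapDerivedCategoryFactors _ ≪≫
      Functor.associator _ _ _ ≪≫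
      Functor.isoWhiskerLeft _ (tensorRight Q).mapDerivedCategoryFactors ≪≫
      (Functor.associator _ _ _).symm⟩
  letI : Localization.Lifting DerivedCategory.Q W F2 (tD R) :=
    ⟨(tensorRight R).mapDerivedCategoryFactors⟩
  exact Localization.liftNatIso DerivedCategory.Q W F1 F2 _ _
    (Functor.isoWhiskerRight (mapHCCompIso' P Q R e) _)

end Comp

section ShiftEq

open Groth.Agent.Lib.Helper12 Groth.Agent.Lib.Helper36.HSP

variable (P Q : ModuleCat.{u} A) [Module.Flat A P] [Module.Flat A Q]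
  (e : P ⊗ Q ≅ 𝟙_ (ModuleCat.{u} A))

include e in
lemma isZero_tensor_iff (H : ModuleCat.{u} A) : IsZero ((tensorRight P).obj H) ↔ IsZero H := by
  constructor
  · intro h
    have h2 : IsZero ((tensorRight Q).obj ((tensorRight P).obj H)) :=
      (tensorRight Q).map_isZero h
    exact h2.of_iso ((compIso P Q e).app H).symm
  · intro h
    exact (tensorRight P).map_isZero h

/-- cohomology of a shifted twist -/
noncomputable def HFTwistShiftIso (ω : Dual.D A) (n i j : ℤ) (h : n + i = j) :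
    (HF A i).obj (((tD P).obj ω)⟦n⟧) ≅ (tensorRight P).obj ((HF A j).obj ω) :=
  (HFShiftIso n i j h).app ((tD P).obj ω) ≪≫
    (mapDerivedCategoryHomologyIso (tensorRight P) j).app ω

lemma exists_isZero_HF_of_dualizing (ω : Dual.D A) (hω : Dual.IsDualizing A ω) :
    ∃ a b : ℤ, ∀ i : ℤ, (i < a ∨ b < i) → IsZero ((HF A i).obj ω) := by
  obtain ⟨a, b, hab⟩ := hω.finite_injective_dimension
  refine ⟨a, b, fun i hi => ?_⟩
  have hsub := hab A i hi
  haveI : Module.Projective A (ModuleCat.of A A) := (inferInstance : Module.Projective A A)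
  have hbij := Φ_bijective (ModuleCat.of A A) (ω⟦i⟧)
  have hz : IsZero ((HF A 0).obj (ω⟦i⟧)) := by
    apply @ModuleCat.isZero_of_subsingleton _ _ _ ?_
    refine ⟨fun m m' => ?_⟩
    let g : ∀ m : ((HF A 0).obj (ω⟦i⟧)), ModuleCat.of A A ⟶ (HF A 0).obj (ω⟦i⟧) := fun m =>
      ModuleCat.ofHom (LinearMap.toSpanSingleton A _ m)
    obtain ⟨x, hx⟩ := hbij.2 (g m)
    obtain ⟨x', hx'⟩ := hbij.2 (g m')
    have hgg : g m = g m' := by rw [← hx, ← hx', hsub.elim x x']
    have h1 : (g m).hom (1 : A) = (g m').hom (1 : A) := by rw [hgg]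
    simpa [g] using h1
  exact hz.of_iso ((HFShiftIso i 0 i (add_zero i)).app ω).symm

lemma exists_not_isZero_HF [Nontrivial A] (ω : Dual.D A) (hω : Dual.IsDualizing A ω) :
    ∃ j : ℤ, ¬ IsZero ((HF A j).obj ω) := by
  by_contra hcon
  push_neg at hcon
  have hz : IsZero ω := isZero_of_forall_isZero_HF ω hcon
  have h1 : (1 : A) • 𝟙 ω = (0 : A) • 𝟙 ω := hz.eq_of_src _ _
  exact one_ne_zero (hω.toEnd_bijective.1 h1)

lemma false_of_periodic [Nontrivial A] (ω : Dual.D A) (hω : Dual.IsDualizing A ω) (d : ℤ)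
    (hd : 0 < d)
    (hinv : ∀ j : ℤ, IsZero ((HF A j).obj ω) ↔ IsZero ((HF A (j + d)).obj ω)) : False := by
  obtain ⟨a, b, hab⟩ := exists_isZero_HF_of_dualizing ω hω
  obtain ⟨j₀, hj₀⟩ := exists_not_isZero_HF ω hω
  have hk : ∀ k : ℕ, ¬ IsZero ((HF A (j₀ + k * d)).obj ω) := by
    intro k
    induction k with
    | zero => simpa using hj₀
    | succ k ih =>
      intro hz
      apply ih
      rw [hinv]
      have : j₀ + (k : ℤ) * d + d = j₀ + ((k + 1 : ℕ) : ℤ) * d := by push_cast; ring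
      rw [this]
      exact hz
  have hbig : b < j₀ + ((b - j₀).toNat + 1 : ℕ) * d := by
    have h1 : b - j₀ ≤ ((b - j₀).toNat : ℤ) := Int.self_le_toNat _
    have h2 : (((b - j₀).toNat + 1 : ℕ) : ℤ) ≤ ((b - j₀).toNat + 1 : ℕ) * d := by
      have : (0 : ℤ) ≤ (((b - j₀).toNat + 1 : ℕ) : ℤ) := Int.natCast_nonneg _
      nlinarith
    push_cast at h2 ⊢
    linarith
  exact hk _ (hab _ (Or.inr hbig))

end ShiftEq

end Groth.Agent.Lib.Helper68.InvTwist
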