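import Mathlib

/-!
# Basic stability properties of K-injective complexes (helper68)

* `isKInjective_map_of_adjunction`: a right adjoint of an exact functor preserves K-injective
  complexes.
-/

open CategoryTheory Limits

namespace Groth.Agent.Lib.Helper68.KInj

universe v v' u u'

section Adjunction

variable {A : Type u} [Category.{v} A] [Abelian A]
  {B : Type u'} [Category.{v'} B] [Abelian B] {u : A ⥤ B} {w : B ⥤ A} (adj : w ⊣ u)
  [u.Additive] [w.Additive]

omit [Abelian A] [Abelian B] [u.Additive] [w.Additive] in
lemma aux1 {X X' : B} {Y Y' : A} (a : X ⟶ u.obj Y) (a' : X' ⟶ u.obj Y') (d : X ⟶ X')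
    (e : Y ⟶ Y') (hc : a ≫ u.map e = d ≫ a') :
    (w.map a ≫ adj.counit.app Y) ≫ e = w.map d ≫ (w.map a' ≫ adj.counit.app Y') := by
  rw [← w.map_comp_assoc, ← hc]
  simp

omit [Abelian A] [Abelian B] [u.Additive] [w.Additive] in
lemma aux2 {X : B} {Y : A} (a : X ⟶ u.obj Y) :
    adj.unit.app X ≫ u.map (w.map a ≫ adj.counit.app Y) = a := by
  simp

set_option backward.isDefEq.respectTransparency false in
/-- The unit of the adjunction as a morphism of complexes. -/
@[simps]
def unitCx (K : CochainComplex B ℤ) :
    K ⟶ (u.mapHomologicalComplex _).obj ((w.mapHomologicalComplex _).obj K) where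
  f n := adj.unit.app (K.X n)
  comm' i j _ := (adj.unit.naturality (K.d i j)).symm

set_option backward.isDefEq.respectTransparency false in
/-- The transpose of a morphism of complexes `K ⟶ u(I)`. -/
@[simps]
def transpose {K : CochainComplex B ℤ} {I : CochainComplex A ℤ}
    (f : K ⟶ (u.mapHomologicalComplex _).obj I) : (w.mapHomologicalComplex _).obj K ⟶ I where
  f n := w.map (f.f n) ≫ adj.counit.app (I.X n)
  comm' i j _ := by
    exact aux1 adj (f.f i) (f.f j) (K.d i j) (I.d i j) (f.comm i j)

set_option backward.isDefEq.respectTransparency false in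
lemma unitCx_transpose {K : CochainComplex B ℤ} {I : CochainComplex A ℤ}
    (f : K ⟶ (u.mapHomologicalComplex _).obj I) :
    unitCx adj K ≫ (u.mapHomologicalComplex _).map (transpose adj f) = f := by
  ext n
  exact aux2 adj (f.f n)

lemma acyclic_map [PreservesFiniteLimits w] [PreservesFiniteColimits w]
    {K : CochainComplex B ℤ} (hK : K.Acyclic) :
    ((w.mapHomologicalComplex (ComplexShape.up ℤ)).obj K).Acyclic := by
  intro n
  exact (hK n).map w

include adj in
/-- A right adjoint of an exact functor preserves K-injective complexes. -/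
lemma isKInjective_map_of_adjunction [PreservesFiniteLimits w] [PreservesFiniteColimits w]
    (I : CochainComplex A ℤ) [I.IsKInjective] :
    CochainComplex.IsKInjective ((u.mapHomologicalComplex (ComplexShape.up ℤ)).obj I) where
  nonempty_homotopy_zero {K} f hK := by
    obtain ⟨h⟩ := CochainComplex.IsKInjective.nonempty_homotopy_zero (transpose adj f)
      (acyclic_map hK)
    refine ⟨(Homotopy.ofEq (unitCx_transpose adj f).symm).trans
      (((u.mapHomotopy h).compLeft (unitCx adj K)).trans (Homotopy.ofEq ?_))⟩
    simp

end Adjunction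

section Limits

open CochainComplex HomComplex

variable {A : Type u} [Category.{v} A] [Abelian A] {J : Type*} [Category J]
  {F : J ⥤ CochainComplex A ℤ} (c : Cone F)
  (hc : ∀ q : ℤ, IsLimit ((HomologicalComplex.eval A (ComplexShape.up ℤ) q).mapCone c))

include hc in
/-- Cochains with values in a termwise limit are determined by their projections. -/
lemma cochain_ext {K : CochainComplex A ℤ} {n : ℤ} (β β' : Cochain K c.pt n)
    (h : ∀ j, β.comp (Cochain.ofHom (c.π.app j)) (add_zero n) =
      β'.comp (Cochain.ofHom (c.π.app j)) (add_zero n)) : β = β' := by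
  ext p q hpq
  apply (hc q).hom_ext
  intro j
  have := Cochain.congr_v (h j) p q hpq
  simp only [Cochain.comp_zero_cochain_v, Cochain.ofHom_v] at this
  exact this

include hc in
/-- A compatible family of cochains lifts to the termwise limit. -/
lemma exists_cochain {K : CochainComplex A ℤ} {n : ℤ} (α : ∀ j, Cochain K (F.obj j) n)
    (hα : ∀ (j j' : J) (g : j ⟶ j'),
      (α j).comp (Cochain.ofHom (F.map g)) (add_zero n) = α j') :
    ∃ β : Cochain K c.pt n, ∀ j, β.comp (Cochain.ofHom (c.π.app j)) (add_zero n) = α j := by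
  refine ⟨Cochain.mk (fun p q hpq => (hc q).lift ⟨K.X p,
    { app := fun j => (α j).v p q hpq
      naturality := fun j j' g => ?_ }⟩), fun j => ?_⟩
  · have := Cochain.congr_v (hα j j' g) p q hpq
    simp only [Cochain.comp_zero_cochain_v, Cochain.ofHom_v] at this
    exact (Category.id_comp _).trans this.symm
  · ext p q hpq
    simp only [Cochain.comp_zero_cochain_v, Cochain.ofHom_v]
    exact (hc q).fac _ j

/-- The evaluation functors preserve all limits that exist (they are right adjoints). -/
noncomputable def isLimitMapConeEval {ι : Type} {c' : ComplexShape ι} [c'.HasNoLoop]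
    {F : J ⥤ HomologicalComplex A c'} {c : Cone F} (hc : IsLimit c) (q : ι) :
    IsLimit ((HomologicalComplex.eval A c' q).mapCone c) := by
  apply coyonedaJointlyReflectsLimits
  rintro ⟨X⟩
  have : PreservesLimit F (HomologicalComplex.eval A c' q ⋙ coyoneda.obj (Opposite.op X)) :=
    preservesLimit_of_natIso F
      (Functor.coreprW (HomologicalComplex.eval A c' q ⋙ coyoneda.obj (Opposite.op X)))
  exact isLimitOfPreserves (HomologicalComplex.eval A c' q ⋙ coyoneda.obj (Opposite.op X)) hc

include hc in
/-- Homotopies to a termwise limit can be glued from compatible families of homotopies. -/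
lemma nonempty_homotopy_zero_of_limit {K : CochainComplex A ℤ} (f : K ⟶ c.pt)
    (α : ∀ j, Cochain K (F.obj j) (-1))
    (hα : ∀ (j j' : J) (g : j ⟶ j'),
      (α j).comp (Cochain.ofHom (F.map g)) (add_zero (-1)) = α j')
    (hδ : ∀ j, δ (-1) 0 (α j) = Cochain.ofHom (f ≫ c.π.app j)) :
    Nonempty (Homotopy f 0) := by
  obtain ⟨β, hβ⟩ := exists_cochain c hc α hα
  refine ⟨(Cochain.equivHomotopy f 0).symm ⟨β, ?_⟩⟩
  rw [Cochain.ofHom_zero, add_zero]
  apply cochain_ext c hc
  intro j
  rw [← δ_comp_ofHom, hβ, hδ, Cochain.ofHom_comp]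

end Limits

section Products

open CochainComplex HomComplex

variable {A : Type u} [Category.{v} A] [Abelian A]

/-- A product of K-injective complexes is K-injective. -/
lemma isKInjective_pi {T : Type*} (I : T → CochainComplex A ℤ) [HasProduct I]
    [∀ t, (I t).IsKInjective] : (∏ᶜ I).IsKInjective where
  nonempty_homotopy_zero {K} f hK := by
    have hc := fun q : ℤ => isLimitMapConeEval (limit.isLimit (Discrete.functor I)) q
    have H : ∀ t : Discrete T, ∃ α : Cochain K (I t.as) (-1),
        δ (-1) 0 α = Cochain.ofHom (f ≫ Pi.π I t.as) := by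
      rintro ⟨t⟩
      obtain ⟨h⟩ := IsKInjective.nonempty_homotopy_zero (f ≫ Pi.π I t) hK
      obtain ⟨z, hz⟩ := Cochain.equivHomotopy _ _ h
      refine ⟨z, ?_⟩
      rw [Cochain.ofHom_zero, add_zero] at hz
      exact hz.symm
    choose α hα using H
    refine nonempty_homotopy_zero_of_limit (limit.cone (Discrete.functor I)) hc f α ?_ hα
    rintro ⟨t⟩ ⟨t'⟩ g
    obtain rfl : t = t' := Discrete.eq_of_hom g
    obtain rfl : g = 𝟙 _ := Subsingleton.elim _ _
    rw [CategoryTheory.Functor.map_id]
    exact Cochain.comp_id _

end Products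

end Groth.Agent.Lib.Helper68.KInj
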