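import Groth.Agent.Lib.Helper68.JShriekPre
import Groth.Agent.Lib.Helper68.KInj

/-!
# Extension by zero for sheaves on a slice site (helper68)

The restriction functor `Sheaf J A ⥤ Sheaf (J.over U) A` has a left adjoint `shriek J U A`
(extension by zero), which preserves monomorphisms when coproducts are exact in `A`.
-/

open CategoryTheory Limits Opposite

namespace Groth.Agent.Lib.Helper68.JShriek

universe w' w v u

variable {C : Type u} [Category.{v} C] (J : GrothendieckTopology C) (U : C)
  (A : Type w) [Category.{w'} A] [HasCoproducts.{v} A] [HasWeakSheafify J A]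

/-- The restriction functor to the slice site. -/
abbrev restr : Sheaf J A ⥤ Sheaf (J.over U) A :=
  (Over.forget U).sheafPushforwardContinuous A (J.over U) J

/-- Extension by zero for sheaves. -/
noncomputable def shriek : Sheaf (J.over U) A ⥤ Sheaf J A :=
  sheafToPresheaf (J.over U) A ⋙ shriekPre U A ⋙ presheafToSheaf J A

/-- The adjunction between extension by zero and restriction. -/
noncomputable def adj : shriek J U A ⊣ restr J U A :=
  ((adjPre U A).comp (sheafificationAdjunction J A)).restrictFullyFaithful
    (fullyFaithfulSheafToPresheaf (J.over U) A) (Functor.FullyFaithful.id _)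
    (Iso.refl _) (Iso.refl _)

instance [HasPullbacks A] [AB4OfSize.{v} A] [(presheafToSheaf J A).PreservesMonomorphisms] :
    (shriek J U A).PreservesMonomorphisms := by
  dsimp only [shriek]
  infer_instance

/-- An additive functor between abelian categories which preserves finite colimits and
monomorphisms is exact. -/
lemma preservesFiniteLimits_of_preservesMonomorphisms {C D : Type*} [Category C] [Category D]
    [Abelian C] [Abelian D] (F : C ⥤ D) [F.Additive] [PreservesFiniteColimits F]
    [F.PreservesMonomorphisms] : PreservesFiniteLimits F := by
  have h0 : ∀ (S : ShortComplex C), S.ShortExact → (S.map F).Exact ∧ Epi (F.map S.g) :=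
    (Functor.preservesFiniteColimits_iff_forall_exact_map_and_epi F).1 inferInstance
  have h : ∀ (S : ShortComplex C), S.ShortExact → (S.map F).Exact ∧ Mono (F.map S.f) :=
    fun S hS =>
      ⟨(h0 S hS).1, by
        have := hS.mono_f
        infer_instance⟩
  exact ((Functor.preservesFiniteLimits_tfae F).out 0 3).1 h

section Ab

variable {C : Type u} [SmallCategory C] (J : GrothendieckTopology C) (U : C)

instance : (restr J U AddCommGrpCat.{u}).Additive :=
  have : (restr J U AddCommGrpCat.{u}).IsRightAdjoint := (adj J U AddCommGrpCat.{u}).isRightAdjoint
  have : PreservesLimitsOfSize.{0, 0} (restr J U AddCommGrpCat.{u}) :=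
    (adj J U AddCommGrpCat.{u}).rightAdjoint_preservesLimits
  Functor.additive_of_preserves_binary_products _

instance : (shriek J U AddCommGrpCat.{u}).Additive :=
  (adj J U AddCommGrpCat.{u}).left_adjoint_additive

instance : PreservesFiniteColimits (shriek J U AddCommGrpCat.{u}) :=
  have := (adj J U AddCommGrpCat.{u}).leftAdjoint_preservesColimits
  inferInstance

instance : PreservesFiniteLimits (shriek J U AddCommGrpCat.{u}) :=
  preservesFiniteLimits_of_preservesMonomorphisms _

/-- Restriction to a slice site preserves K-injective complexes of abelian sheaves. -/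
lemma isKInjective_restr (I : CochainComplex (Sheaf J AddCommGrpCat.{u}) ℤ) [I.IsKInjective] :
    CochainComplex.IsKInjective
      (((restr J U AddCommGrpCat.{u}).mapHomologicalComplex (ComplexShape.up ℤ)).obj I) :=
  KInj.isKInjective_map_of_adjunction (adj J U AddCommGrpCat.{u}) I

end Ab

end Groth.Agent.Lib.Helper68.JShriek
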