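import Groth.Agent.Lib.Helper68.HilbBasic
import Mathlib.Algebra.MvPolynomial.Rename

/-! Membership in monomial ideals, slices (helper68). -/

set_option autoImplicit false
universe u

namespace Groth.Agent.Lib.Helper68

open W4c1hilbpn MvPolynomial

variable {σ : Type*} {k : Type u} [Field k]

/-- Membership in a monomial ideal is tested on the monomials of the support. -/
theorem IsMonomial_mem_iff {I : Ideal (MvPolynomial σ k)} (hI : IsMonomial I)
    (p : MvPolynomial σ k) : p ∈ I ↔ ∀ β ∈ p.support, monomial β (1 : k) ∈ I := by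
  refine ⟨fun hp β hβ => hI p hp β hβ, fun h => ?_⟩
  rw [as_sum p]
  refine sum_mem fun β hβ => ?_
  have : monomial β (coeff β p) = C (coeff β p) * monomial β (1 : k) := by
    rw [C_mul_monomial, mul_one]
  rw [this]
  exact Ideal.mul_mem_left _ _ (h β hβ)

/-- Membership of `p * x^δ` in a monomial ideal. -/
theorem IsMonomial_mul_monomial_mem_iff {I : Ideal (MvPolynomial σ k)} (hI : IsMonomial I)
    (p : MvPolynomial σ k) (δ : σ →₀ ℕ) :
    p * monomial δ (1 : k) ∈ I ↔ ∀ β ∈ p.support, monomial (β + δ) (1 : k) ∈ I := by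
  constructor
  · intro hp β hβ
    refine hI _ hp (β + δ) ?_
    rw [mem_support_iff, coeff_mul_monomial, mul_one]
    exact mem_support_iff.mp hβ
  · intro h
    rw [as_sum p, Finset.sum_mul]
    refine sum_mem fun β hβ => ?_
    have : monomial β (coeff β p) * monomial δ (1 : k) = C (coeff β p) * monomial (β + δ) (1 : k) := by
      rw [monomial_mul, C_mul_monomial, mul_one]
    rw [this]
    exact Ideal.mul_mem_left _ _ (h β hβ)

end Groth.Agent.Lib.Helper68
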