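import Groth.Agent.Lib.Helper68.KInj

/-!
# Adjunctions between exact functors: derived categories and Ext groups (helper68)

Let `w : B ⥤ A` and `u : A ⥤ B` be exact additive functors between abelian categories with
`adj : w ⊣ u`. We construct
* the adjunction `adjCx adj : w.mapHomologicalComplex _ ⊣ u.mapHomologicalComplex _` on
  cochain complexes;
* the adjunction `adjDer adj : w.mapDerivedCategory ⊣ u.mapDerivedCategory`;
* the additive equivalence `extAddEquiv adj X Y n : Ext (w.obj X) Y n ≃+ Ext X (u.obj Y) n`.
-/

open CategoryTheory Limits

namespace Groth.Agent.Lib.Helper68.ExtAdj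

open Groth.Agent.Lib.Helper68.KInj

universe w₁ w₂ v v' u u'

variable {A : Type u} [Category.{v} A] [Abelian A]
  {B : Type u'} [Category.{v'} B] [Abelian B] {u : A ⥤ B} {w : B ⥤ A} (adj : w ⊣ u)
  [u.Additive] [w.Additive]

set_option backward.isDefEq.respectTransparency false in
/-- The counit of the adjunction as a morphism of complexes. -/
@[simps]
def counitCx (I : CochainComplex A ℤ) :
    (w.mapHomologicalComplex _).obj ((u.mapHomologicalComplex _).obj I) ⟶ I where
  f n := adj.counit.app (I.X n)
  comm' i j _ := (adj.counit.naturality (I.d i j)).symm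

set_option backward.isDefEq.respectTransparency false in
/-- The adjunction on cochain complexes induced by an adjunction of additive functors. -/
def adjCx : w.mapHomologicalComplex (ComplexShape.up ℤ) ⊣
    u.mapHomologicalComplex (ComplexShape.up ℤ) :=
  { unit :=
      { app := fun K => unitCx adj K
        naturality := fun K L f => by
          ext n
          exact adj.unit.naturality (f.f n) }
    counit :=
      { app := fun I => counitCx adj I
        naturality := fun I I' f => by
          ext n
          exact adj.counit.naturality (f.f n) }
    left_triangle_components := fun K => by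
      ext n
      exact adj.left_triangle_components (K.X n)
    right_triangle_components := fun I => by
      ext n
      exact adj.right_triangle_components (I.X n) }

section Derived

variable [PreservesFiniteLimits w] [PreservesFiniteColimits w] [PreservesFiniteLimits u]
  [PreservesFiniteColimits u] [HasDerivedCategory.{w₁} A] [HasDerivedCategory.{w₂} B]

/-- The adjunction on derived categories induced by an adjunction of exact functors. -/
noncomputable def adjDer : w.mapDerivedCategory ⊣ u.mapDerivedCategory :=
  letI : CatCommSq (w.mapHomologicalComplex (ComplexShape.up ℤ)) DerivedCategory.Q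
      DerivedCategory.Q w.mapDerivedCategory := ⟨w.mapDerivedCategoryFactors.symm⟩
  letI : CatCommSq (u.mapHomologicalComplex (ComplexShape.up ℤ)) DerivedCategory.Q
      DerivedCategory.Q u.mapDerivedCategory := ⟨u.mapDerivedCategoryFactors.symm⟩
  (adjCx adj).localization DerivedCategory.Q (HomologicalComplex.quasiIso B (ComplexShape.up ℤ))
    DerivedCategory.Q (HomologicalComplex.quasiIso A (ComplexShape.up ℤ))
    w.mapDerivedCategory u.mapDerivedCategory

end Derived

section Ext

open Abelian

/-- Precomposition with an isomorphism as an additive equivalence. -/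
@[simps]
def precompAddEquiv {C : Type*} [Category C] [Preadditive C] {X X' : C} (e : X ≅ X') (Y : C) :
    (X' ⟶ Y) ≃+ (X ⟶ Y) where
  toFun f := e.hom ≫ f
  invFun g := e.inv ≫ g
  left_inv f := by simp
  right_inv g := by simp
  map_add' f g := by simp

/-- Postcomposition with an isomorphism as an additive equivalence. -/
@[simps]
def postcompAddEquiv {C : Type*} [Category C] [Preadditive C] (X : C) {Y Y' : C} (e : Y ≅ Y') :
    (X ⟶ Y) ≃+ (X ⟶ Y') where
  toFun f := f ≫ e.hom
  invFun g := g ≫ e.inv
  left_inv f := by simp
  right_inv g := by simp
  map_add' f g := by simp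

variable [PreservesFiniteLimits w] [PreservesFiniteColimits w] [PreservesFiniteLimits u]
  [PreservesFiniteColimits u] [HasExt.{w₁} A] [HasExt.{w₂} B]

/-- For an adjunction `w ⊣ u` between exact functors, `Ext^n(w X, Y) ≃+ Ext^n(X, u Y)`. -/
noncomputable def extAddEquiv (X : B) (Y : A) (n : ℕ) :
    Ext.{w₁} (w.obj X) Y n ≃+ Ext.{w₂} X (u.obj Y) n :=
  letI := HasDerivedCategory.standard A
  letI := HasDerivedCategory.standard B
  (Ext.homAddEquiv (X := w.obj X) (Y := Y) (n := n)).trans <|
    (precompAddEquiv ((w.mapDerivedCategorySingleFunctor 0).app X) _).trans <|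
    ((adjDer adj).homAddEquiv _ _).trans <|
    (postcompAddEquiv _ ((u.mapDerivedCategory.commShiftIso (n : ℤ)).app _ ≪≫
      (shiftFunctor _ (n : ℤ)).mapIso ((u.mapDerivedCategorySingleFunctor 0).app Y))).trans <|
    (Ext.homAddEquiv (X := X) (Y := u.obj Y) (n := n)).symm

end Ext

end Groth.Agent.Lib.Helper68.ExtAdj
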