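import Groth.Agent.Lib.Helper68.HZeroLocal3
import Groth.Prelude.Def_FreeSh
import Mathlib.CategoryTheory.Sites.EpiMono
import Mathlib.CategoryTheory.Sites.LocallyBijective
import Mathlib.Algebra.Homology.DerivedCategory.HomologySequence

set_option autoImplicit false
universe u
open CategoryTheory CategoryTheory.Limits Opposite

namespace Groth.Agent.Lib.Helper68.HZeroSheaf

open Groth.Agent.Lib.Helper68.HZeroLocal

variable {C : Type u} [SmallCategory C] {J : GrothendieckTopology C}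

/-- epimorphisms onto `ℤ_U` locally admit sections -/
lemma exists_cover_lift {U : C} {A' : Sheaf J AddCommGrpCat.{u}}
    (π : A' ⟶ CohCx.freeSheaf J U) [Epi π] :
    ∃ R ∈ J U, ∀ ⦃V : C⦄ (j : V ⟶ U), R j →
      ∃ u : CohCx.freeSheaf J V ⟶ A', u ≫ π = CohCx.freeSheafMap J j := by
  have : Sheaf.IsLocallySurjective π := (Sheaf.isLocallySurjective_iff_epi' _ π).2 inferInstance
  refine ⟨Presheaf.imageSieve π.hom (CohFree.gen J U), Presheaf.imageSieve_mem J π.hom _, ?_⟩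
  rintro V j ⟨t, ht⟩
  refine ⟨CohFree.ofSect J V A' t, ?_⟩
  apply (CohFree.homEquivSect J V _).injective
  rw [CohFree.homEquivSect_apply, CohFree.homEquivSect_apply]
  have h1 : CohFree.evalGen J V _ (CohFree.ofSect J V A' t ≫ π) =
      (π.hom.app (op V)).hom (CohFree.evalGen J V _ (CohFree.ofSect J V A' t)) := rfl
  rw [h1, CohFree.evalGen_ofSect]
  refine ht.trans ?_
  exact (CohFree.freeSheafMap_gen J j).symm


variable [HasDerivedCategory.{u} (Sheaf J AddCommGrpCat.{u})]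

/-- the presheaf `U ↦ Hom_D(ℤ_U[0], L)` -/
noncomputable abbrev P' (L : DerivedCategory (Sheaf J AddCommGrpCat.{u})) : Cᵒᵖ ⥤ AddCommGrpCat.{u} :=
  (yoneda ⋙ (Functor.whiskeringRight _ _ _).obj AddCommGrpCat.free.{u} ⋙
      presheafToSheaf J AddCommGrpCat.{u} ⋙
      DerivedCategory.singleFunctor (Sheaf J AddCommGrpCat.{u}) 0).op ⋙ preadditiveYoneda.obj L

/-- `Φ` as an additive map -/
noncomputable def ΦHom (A : Sheaf J AddCommGrpCat.{u})
    (L : DerivedCategory (Sheaf J AddCommGrpCat.{u})) :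
    (S.obj A ⟶ L) →+ (A ⟶ H.obj L) :=
  AddMonoidHom.mk' Φ Φ_add

lemma ΦHom_apply (A : Sheaf J AddCommGrpCat.{u})
    (L : DerivedCategory (Sheaf J AddCommGrpCat.{u})) (ξ : S.obj A ⟶ L) :
    ΦHom A L ξ = Φ ξ := rfl

/-- the comparison map on sections -/
noncomputable def ηU (L : DerivedCategory (Sheaf J AddCommGrpCat.{u})) (U : C) :
    (S.obj (CohCx.freeSheaf J U) ⟶ L) →+ (H.obj L).obj.obj (op U) :=
  (CohFree.evalGen J U (H.obj L)).comp (ΦHom (CohCx.freeSheaf J U) L)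

lemma ηU_apply (L : DerivedCategory (Sheaf J AddCommGrpCat.{u})) (U : C)
    (ξ : S.obj (CohCx.freeSheaf J U) ⟶ L) :
    ηU L U ξ = CohFree.evalGen J U (H.obj L) (Φ ξ) := rfl

lemma ηU_res (L : DerivedCategory (Sheaf J AddCommGrpCat.{u})) {U V : C} (f : V ⟶ U)
    (ξ : S.obj (CohCx.freeSheaf J U) ⟶ L) :
    ηU L V (S.map (CohCx.freeSheafMap J f) ≫ ξ) = ((H.obj L).obj.map f.op).hom (ηU L U ξ) := by
  rw [ηU_apply, ηU_apply, Φ_precomp, CohFree.evalGen_freeSheafMap_comp]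

/-- the comparison map of presheaves -/
noncomputable def η (L : DerivedCategory (Sheaf J AddCommGrpCat.{u})) : P' L ⟶ (H.obj L).obj where
  app U := AddCommGrpCat.ofHom (ηU L U.unop)
  naturality X Y f := by
    apply AddCommGrpCat.hom_ext
    apply AddMonoidHom.ext
    intro ξ
    exact ηU_res L f.unop ξ


lemma η_app_apply (L : DerivedCategory (Sheaf J AddCommGrpCat.{u})) (U : C)
    (ξ : S.obj (CohCx.freeSheaf J U) ⟶ L) :
    (η L).app (op U) ξ = ηU L U ξ := rfl

lemma P'_map_apply (L : DerivedCategory (Sheaf J AddCommGrpCat.{u})) {U V : C} (f : V ⟶ U)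
    (ξ : S.obj (CohCx.freeSheaf J U) ⟶ L) :
    (P' L).map f.op ξ = S.map (CohCx.freeSheafMap J f) ≫ ξ := rfl

lemma locInj_aux (L : DerivedCategory (Sheaf J AddCommGrpCat.{u})) (U : C)
    (ξ₁ ξ₂ : S.obj (CohCx.freeSheaf J U) ⟶ L) (h : ηU L U ξ₁ = ηU L U ξ₂) :
    ∃ R ∈ J U, ∀ ⦃V : C⦄ (j : V ⟶ U), R j →
      S.map (CohCx.freeSheafMap J j) ≫ ξ₁ = S.map (CohCx.freeSheafMap J j) ≫ ξ₂ := by
  have h0 : ηU L U (ξ₁ - ξ₂) = 0 := by
    rw [map_sub, sub_eq_zero]
    exact h
  have h1 : Φ (ξ₁ - ξ₂) = 0 := by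
    apply (CohFree.homEquivSect J U _).injective
    rw [map_zero]
    exact h0
  obtain ⟨A', π, hπ, hz⟩ := exists_refinement_inj L (ξ₁ - ξ₂) h1
  obtain ⟨R, hR, hlift⟩ := exists_cover_lift π
  refine ⟨R, hR, ?_⟩
  intro V j hj
  obtain ⟨u, hu⟩ := hlift j hj
  rw [← sub_eq_zero, ← Preadditive.comp_sub, ← hu,
    Functor.map_comp, Category.assoc, hz, comp_zero]

instance (L : DerivedCategory (Sheaf J AddCommGrpCat.{u})) :
    Presheaf.IsLocallyInjective J (η L) where
  equalizerSieve_mem {X} ξ₁ ξ₂ h := by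
    induction X using Opposite.rec with | _ U => ?_
    obtain ⟨R, hR, hR'⟩ := locInj_aux L U ξ₁ ξ₂ h
    refine J.superset_covering ?_ hR
    intro V j hj
    exact hR' j hj

instance (L : DerivedCategory (Sheaf J AddCommGrpCat.{u})) :
    Presheaf.IsLocallySurjective J (η L) where
  imageSieve_mem {U} s := by
    obtain ⟨A', π, hπ, ξ, hξ⟩ := exists_refinement_surj L (CohFree.ofSect J U (H.obj L) s)
    obtain ⟨R, hR, hlift⟩ := exists_cover_lift π
    refine J.superset_covering ?_ hR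
    intro V j hj
    obtain ⟨u, hu⟩ := hlift j hj
    refine ⟨S.map u ≫ ξ, ?_⟩
    rw [η_app_apply, ηU_apply, Φ_precomp, hξ, ← Category.assoc, hu,
      CohFree.evalGen_freeSheafMap_comp, CohFree.evalGen_ofSect]

/-- the sheafification of `U ↦ Hom_D(ℤ_U[0], L)` is `H⁰(L)` -/
noncomputable def sheafifyIso (L : DerivedCategory (Sheaf J AddCommGrpCat.{u})) :
    (presheafToSheaf J AddCommGrpCat.{u}).obj (P' L) ≅ H.obj L := by
  have hW : J.W (η L) := GrothendieckTopology.W_of_isLocallyBijective _ _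
  rw [GrothendieckTopology.W_iff] at hW
  exact (asIso ((presheafToSheaf J AddCommGrpCat.{u}).map (η L))).trans
    (sheafificationIso (H.obj L)).symm

theorem main (K : DerivedCategory (Sheaf J AddCommGrpCat.{u})) (q : ℤ) :
    Nonempty ((presheafToSheaf J AddCommGrpCat.{u}).obj (CohCx.HDUPresheaf K q) ≅ CohCx.HD K q) :=
  ⟨(sheafifyIso ((shiftFunctor (DerivedCategory (Sheaf J AddCommGrpCat.{u})) q).obj K)).trans
    (((DerivedCategory.homologyFunctor (Sheaf J AddCommGrpCat.{u}) 0).shiftIso q 0 q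
      (add_zero q)).app K)⟩

end Groth.Agent.Lib.Helper68.HZeroSheaf
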