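import Groth.Agent.Lib.Helper68.DerLimSh3

set_option autoImplicit false
universe u
open CategoryTheory Limits Opposite

namespace Groth.Agent.Lib.Helper68.DerLimSh

open Groth.Agent.Lib.Helper68.HZeroLocal Groth.Agent.Lib.Helper68.HZeroSheaf DerivedCategory

variable {C : Type u} [SmallCategory C] {J : GrothendieckTopology C}
  [HasDerivedCategory.{u} (Sheaf J AddCommGrpCat.{u})]

section Main

variable (F : ℕ → Sheaf J AddCommGrpCat.{u}) (t : ∀ n, F (n + 1) ⟶ F n) (B : Set C)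
  (hB : ∀ U : C, ∃ (ι : Type u) (Y : ι → C) (f : ∀ i, Y i ⟶ U),
    Sieve.ofArrows Y f ∈ J U ∧ ∀ i, Y i ∈ B)
  (h1 : ∀ U ∈ B, ∀ (p n : ℕ), Subsingleton (CohSite.HU (F n) (p + 1) U))
  (h2 : ∀ U ∈ B, CohCx.LimOneIsZero (fun n => (F n).obj.obj (op U))
    (fun n => ((t n).hom.app (op U)).hom))
  [HasProduct (KK F)] {Z : DerivedCategory (Sheaf J AddCommGrpCat.{u})}
  {a : ∀ n, Z ⟶ KK F n} (hZ : CohCx.IsRlimVia (KK F) (tt F t) Z a)
  (θ : S.obj (Flim F t) ⟶ Z) (hθ : ∀ n, θ ≫ a n = S.map (proj F t n))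

lemma evalGen_comp' (U : C) {G G' : Sheaf J AddCommGrpCat.{u}}
    (φ : CohCx.freeSheaf J U ⟶ G) (g : G ⟶ G') :
    CohFree.evalGen J U G' (φ ≫ g) = (g.hom.app (op U)).hom (CohFree.evalGen J U G φ) := rfl

include hθ in
lemma psi_injective (V : C) : Function.Injective ((Φ θ).hom.app (op V)) := by
  rw [injective_iff_map_eq_zero]
  intro r hr
  let g := CohFree.ofSect J V (Flim F t) r
  have hg : g ≫ Φ θ = 0 := by
    apply (CohFree.homEquivSect J V _).injective
    rw [CohFree.homEquivSect_apply, CohFree.homEquivSect_apply, evalGen_comp',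
      CohFree.evalGen_ofSect, map_zero]
    exact hr
  have h0 : Φ (S.map g ≫ θ) = 0 := by rw [Φ_precomp, hg]
  obtain ⟨A', π, hπ, hz⟩ := exists_refinement_inj Z (S.map g ≫ θ) h0
  obtain ⟨R, hR, hlift⟩ := exists_cover_lift π
  apply eq_of_equalizerSieve_mem
  refine J.superset_covering ?_ hR
  intro W j hj
  obtain ⟨u, hu⟩ := hlift j hj
  have h3 : CohCx.freeSheafMap J j ≫ g = 0 := by
    apply theta_inj F t θ hθ W
    rw [← hu, Functor.map_comp, Functor.map_comp, Category.assoc, Category.assoc, hz, comp_zero]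
  change ((Flim F t).obj.map j.op).hom r = ((Flim F t).obj.map j.op).hom 0
  rw [map_zero, ← CohFree.evalGen_ofSect J V (Flim F t) r, ← CohFree.evalGen_freeSheafMap_comp, h3,
    map_zero]

include hB h1 hZ hθ in
lemma psi_locallySurjective : Sheaf.IsLocallySurjective (Φ θ) where
  imageSieve_mem {V} s := by
    refine covering_of_B B hB (Presheaf.imageSieve (η Z) s) (Presheaf.imageSieve_mem J _ s) _ ?_
    intro W j hj Y f hY
    obtain ⟨ξ, hξ⟩ : ∃ ξ : S.obj (CohCx.freeSheaf J W) ⟶ Z,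
        ηU Z W ξ = ((H.obj Z).obj.map j.op).hom s := hj
    obtain ⟨g, hg⟩ := theta_surj F t B h1 hZ θ hθ Y hY (S.map (CohCx.freeSheafMap J f) ≫ ξ)
    refine ⟨CohFree.evalGen J Y _ g, ?_⟩
    change ((Φ θ).hom.app (op Y)).hom (CohFree.evalGen J Y _ g) =
      ((H.obj Z).obj.map (f ≫ j).op).hom s
    rw [← evalGen_comp', ← Φ_precomp, hg, ← ηU_apply, ηU_res, hξ, op_comp, Functor.map_comp]
    rfl

include hB h1 hZ hθ in
lemma isIso_psi : IsIso (Φ θ) := by
  refine (Sheaf.isLocallyBijective_iff_isIso (Φ θ)).1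
    ⟨?_, psi_locallySurjective F t B hB h1 hZ θ hθ⟩
  apply Presheaf.isLocallyInjective_of_injective
  intro V
  induction V using Opposite.rec with | _ V => ?_
  exact psi_injective F t θ hθ V

include hB h1 hZ hθ in
lemma isIso_H_map_theta : IsIso (H.map θ) := by
  have h0 := isIso_psi F t B hB h1 hZ θ hθ
  have h3 : H.map θ = (singleFunctorCompHomologyFunctorIso _ 0).hom.app (Flim F t) ≫ Φ θ := by
    dsimp only [Φ]
    rw [← Category.assoc]
    erw [Iso.hom_inv_id_app]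
    exact (Category.id_comp _).symm
  rw [h3]
  infer_instance

include hB h1 h2 hZ hθ in
lemma isIso_theta : IsIso θ := by
  rw [DerivedCategory.isIso_iff]
  intro n
  by_cases hn : n = 0
  · subst hn
    exact isIso_H_map_theta F t B hB h1 hZ θ hθ
  · have hs : IsZero ((DerivedCategory.homologyFunctor _ n).obj (S.obj (Flim F t))) := by
      rcases lt_or_gt_of_ne hn with hn | hn
      · exact DerivedCategory.isZero_of_isGE _ 0 n hn
      · exact DerivedCategory.isZero_of_isLE _ 0 n hn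
    have ht := isZero_homology F t B hB h1 h2 hZ n hn
    exact ⟨⟨0, hs.eq_of_src _ _, ht.eq_of_src _ _⟩⟩

end Main

theorem main (F : ℕ → Sheaf J AddCommGrpCat.{u}) (t : ∀ n, F (n + 1) ⟶ F n)
    [HasProduct fun n => (DerivedCategory.singleFunctor (Sheaf J AddCommGrpCat.{u}) 0).obj (F n)]
    (B : Set C)
    (hB : ∀ U : C, ∃ (ι : Type u) (Y : ι → C) (f : ∀ i, Y i ⟶ U),
      Sieve.ofArrows Y f ∈ J U ∧ ∀ i, Y i ∈ B)
    (h1 : ∀ U ∈ B, ∀ (p n : ℕ), Subsingleton (CohSite.HU (F n) (p + 1) U))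
    (h2 : ∀ U ∈ B, CohCx.LimOneIsZero (fun n => (F n).obj.obj (op U))
      (fun n => ((t n).hom.app (op U)).hom)) :
    DCoh.IsRlim (fun n => (DerivedCategory.singleFunctor _ 0).obj (F n))
      (fun n => (DerivedCategory.singleFunctor _ 0).map (t n))
      ((DerivedCategory.singleFunctor _ 0).obj (limit (CohCx.opSequence F t))) ∧
    ∀ U ∈ B, ∀ p : ℕ, Subsingleton (CohSite.HU (limit (CohCx.opSequence F t)) (p + 1) U) := by
  obtain ⟨Z, a, hZ⟩ := exists_rlim (KK F) (tt F t)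
  obtain ⟨θ, hθ⟩ := exists_theta F t hZ
  have hiso := isIso_theta F t B hB h1 h2 hZ θ hθ
  refine ⟨isRlim_of_iso a hZ (asIso θ), ?_⟩
  intro U hU p
  have e1 : CohSite.HU (limit (CohCx.opSequence F t)) (p + 1) U ≃
      (S.obj (CohCx.freeSheaf J U) ⟶ (S.obj (Flim F t))⟦((p + 1 : ℕ) : ℤ)⟧) :=
    Abelian.Ext.homEquiv
  refine e1.subsingleton_congr.2 ⟨fun x y => ?_⟩
  have hx : ∀ x : S.obj (CohCx.freeSheaf J U) ⟶ (S.obj (Flim F t))⟦((p + 1 : ℕ) : ℤ)⟧, x = 0 := by
    intro x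
    have h3 := hom_Z_eq_zero F t B h1 h2 hZ U hU ((p + 1 : ℕ) : ℤ) (by omega)
      (x ≫ θ⟦((p + 1 : ℕ) : ℤ)⟧')
    have h4 := congrArg (fun f => f ≫ (inv θ)⟦((p + 1 : ℕ) : ℤ)⟧') h3
    simpa [← Functor.map_comp] using h4
  rw [hx x, hx y]

end Groth.Agent.Lib.Helper68.DerLimSh
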