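import Groth.Agent.Lib.Helper68.HZeroLocal2

set_option autoImplicit false
universe w v u
open CategoryTheory CategoryTheory.Limits

namespace Groth.Agent.Lib.Helper68.HZeroLocal

open DerivedCategory HomologicalComplex

variable {𝒜 : Type u} [Category.{v} 𝒜] [Abelian 𝒜] [HasDerivedCategory.{w} 𝒜]

/-- homotopy data for a coboundary -/
noncomputable def bdryHom {B : 𝒜} {M : CochainComplex 𝒜 ℤ} (x : B ⟶ M.X (-1)) (i j : ℤ) :
    ((single 𝒜 (ComplexShape.up ℤ) 0).obj B).X i ⟶ M.X j :=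
  if hi : i = 0 then
    (if hj : j = -1 then
      (singleObjXIsoOfEq (ComplexShape.up ℤ) 0 B i hi).hom ≫ x ≫ (M.XIsoOfEq hj.symm).hom
    else 0)
  else 0

/-- a coboundary is null-homotopic -/
noncomputable def bdryHomotopy {B : 𝒜} {M : CochainComplex 𝒜 ℤ} (x : B ⟶ M.X (-1))
    (z : B ⟶ M.cycles 0) (hz : z ≫ M.iCycles 0 = x ≫ M.d (-1) 0) :
    Homotopy (ofCycle z) 0 where
  hom := bdryHom x
  zero i j hij := by
    dsimp only [bdryHom]
    split_ifs with hi hj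
    · exfalso
      apply hij
      subst hi hj
      simp
    · rfl
    · rfl
  comm i := by
    by_cases hi : i = 0
    · subst hi
      rw [dNext_eq (bdryHom x) (show (ComplexShape.up ℤ).Rel 0 1 by simp),
        prevD_eq (bdryHom x) (show (ComplexShape.up ℤ).Rel (-1) 0 by simp)]
      rw [ofCycle_f, hz]
      simp [bdryHom, singleObjXSelf]
    · exact (isZero_single_obj_X (ComplexShape.up ℤ) 0 B i hi).eq_of_src _ _

lemma Q_map_ofCycle_eq_zero {B : 𝒜} {M : CochainComplex 𝒜 ℤ} (x : B ⟶ M.X (-1))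
    (z : B ⟶ M.cycles 0) (hz : z ≫ M.iCycles 0 = x ≫ M.d (-1) 0) :
    Q.map (ofCycle z) = 0 := by
  have h := HomotopyCategory.eq_of_homotopy _ _ (bdryHomotopy x z hz)
  have h2 : Q.map (ofCycle z) = Qh.map ((HomotopyCategory.quotient _ _).map (ofCycle z)) := rfl
  rw [h2, h, Functor.map_zero, Functor.map_zero]
  rfl

end Groth.Agent.Lib.Helper68.HZeroLocal

namespace Groth.Agent.Lib.Helper68.HZeroLocal

open DerivedCategory HomologicalComplex

variable {𝒜 : Type u} [Category.{v} 𝒜] [Abelian 𝒜] [HasDerivedCategory.{w} 𝒜]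

lemma exists_boundary {B : 𝒜} {M : CochainComplex 𝒜 ℤ} (z : B ⟶ M.cycles 0)
    (hz : z ≫ M.homologyπ 0 = 0) :
    ∃ (B' : 𝒜) (π : B' ⟶ B) (_ : Epi π) (x : B' ⟶ M.X (-1)),
      (π ≫ z) ≫ M.iCycles 0 = x ≫ M.d (-1) 0 := by
  have hex : (ShortComplex.mk (M.toCycles (-1) 0) (M.homologyπ 0)
      (M.toCycles_comp_homologyπ (-1) 0)).Exact :=
    ShortComplex.exact_of_g_is_cokernel _ (M.homologyIsCokernel (-1) 0 (by simp))
  obtain ⟨B', π, hπ, x, hx⟩ := hex.exact_up_to_refinements z hz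
  refine ⟨B', π, hπ, x, ?_⟩
  dsimp at hx
  rw [hx, Category.assoc, toCycles_i]

lemma S_map_eq {A A' : 𝒜} (π : A' ⟶ A) :
    (S (𝒜 := 𝒜)).map π = Q.map ((single 𝒜 (ComplexShape.up ℤ) 0).map π) := rfl

/-- injectivity of `Φ` up to refinement, complex version -/
lemma exists_refinement_inj_Q {A : 𝒜} (M : CochainComplex 𝒜 ℤ)
    (ξ : Q.obj ((single 𝒜 (ComplexShape.up ℤ) 0).obj A) ⟶ Q.obj M)
    (h : H.map ξ = 0) :
    ∃ (A' : 𝒜) (π : A' ⟶ A) (_ : Epi π),
      Q.map ((single 𝒜 (ComplexShape.up ℤ) 0).map π) ≫ ξ = 0 := by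
  obtain ⟨X', s, hs, g, rfl⟩ := right_fac ξ
  have hg : H.map (Q.map g) = 0 := by
    have : H.map (Q.map s) ≫ H.map (inv (Q.map s) ≫ Q.map g) = H.map (Q.map g) := by
      rw [← Functor.map_comp, IsIso.hom_inv_id_assoc]
    rw [← this, h, comp_zero]
  have hg' : homologyMap g 0 = 0 := by
    have h1 := (homologyFunctorFactors 𝒜 0).hom.naturality g
    dsimp at h1
    rw [hg, zero_comp] at h1
    exact (cancel_epi ((homologyFunctorFactors 𝒜 0).hom.app X')).1 (h1.symm.trans comp_zero.symm)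
  have hqi : QuasiIso s := (DerivedCategory.isIso_Q_map_iff_quasiIso _ s).1 hs
  let π₁ : X'.cycles 0 ⟶ A := X'.iCycles 0 ≫ s.f 0 ≫ (singleObjXSelf (ComplexShape.up ℤ) 0 A).hom
  have hπ₁ : π₁ = X'.homologyπ 0 ≫ homologyMap s 0 ≫
      (singleObjHomologySelfIso (ComplexShape.up ℤ) 0 A).hom := by
    rw [homologyπ_naturality_assoc, homologyπ_singleObjHomologySelfIso_hom,
      singleObjCyclesSelfIso_hom, cyclesMap_i_assoc]
  have : Epi π₁ := by
    rw [hπ₁]
    infer_instance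
  have hz : cyclesMap g 0 ≫ M.homologyπ 0 = 0 := by
    rw [← homologyπ_naturality, hg', comp_zero]
  obtain ⟨B', π₂, hπ₂, x, hx⟩ := exists_boundary (cyclesMap g 0) hz
  have hzero := Q_map_ofCycle_eq_zero x (π₂ ≫ cyclesMap g 0) hx
  refine ⟨B', π₂ ≫ π₁, inferInstance, ?_⟩
  have e1 : (single 𝒜 (ComplexShape.up ℤ) 0).map π₁ = ofCycle (𝟙 (X'.cycles 0)) ≫ s := by
    apply from_single_hom_ext
    rw [single_map_f_self, comp_f, ofCycle_f]
    simp [π₁]
  have e2 : (single 𝒜 (ComplexShape.up ℤ) 0).map π₂ ≫ ofCycle (𝟙 (X'.cycles 0)) ≫ g =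
      ofCycle (π₂ ≫ cyclesMap g 0) := by
    apply from_single_hom_ext
    rw [comp_f, comp_f, single_map_f_self, ofCycle_f, ofCycle_f]
    simp
  rw [Functor.map_comp, e1]
  simp only [Functor.map_comp, Category.assoc, IsIso.hom_inv_id_assoc]
  rw [← Functor.map_comp, ← Functor.map_comp, e2, hzero]

/-- injectivity of `Φ` up to refinement -/
lemma exists_refinement_inj {A : 𝒜} (K : DerivedCategory 𝒜) (ξ : S.obj A ⟶ K) (h : Φ ξ = 0) :
    ∃ (A' : 𝒜) (π : A' ⟶ A) (_ : Epi π), S.map π ≫ ξ = 0 := by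
  let M := Q.objPreimage K
  let e : Q.obj M ≅ K := Q.objObjPreimageIso K
  have h' : H.map (ξ ≫ e.inv) = 0 := by
    rw [Functor.map_comp, (Φ_eq_zero_iff ξ).1 h, zero_comp]
  obtain ⟨A', π, hπ, hξ⟩ := exists_refinement_inj_Q M (ξ ≫ e.inv) h'
  refine ⟨A', π, hπ, ?_⟩
  have h2 : (S.map π ≫ ξ) ≫ e.inv = 0 := by
    rw [Category.assoc]
    exact hξ
  rw [← cancel_mono e.inv, h2, zero_comp]

end Groth.Agent.Lib.Helper68.HZeroLocal
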