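import Groth.Agent.Lib.Helper68.RlimMilnor2

set_option autoImplicit false
open CategoryTheory Limits Pretriangulated

namespace Groth.Agent.Lib.Helper68.RlimInj

open Groth.Agent.Lib.Helper68.RlimMilnor

variable {D : Type*} [Category D] [Preadditive D] [HasZeroObject D] [HasShift D ℤ]
  [∀ n : ℤ, (shiftFunctor D n).Additive] [Pretriangulated D]

variable (K : ℕ → D) (t : ∀ n, K (n + 1) ⟶ K n) [HasProduct K] (L : D) (a : ∀ n, L ⟶ K n)
  (hL : CohCx.IsRlimVia K t L a)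

include hL

lemma a_succ (n : ℕ) : a (n + 1) ≫ t n = a n := by
  obtain ⟨c, hT⟩ := hL
  have h0 : Pi.lift a ≫ (Pi.lift fun n => Pi.π K n - Pi.π K (n + 1) ≫ t n) = 0 :=
    comp_distTriang_mor_zero₁₂ _ hT
  have h1 := congrArg (fun f => f ≫ Pi.π K n) h0
  simp only [Category.assoc, Pi.lift_π, Preadditive.comp_sub, Pi.lift_π_assoc, zero_comp] at h1
  exact (sub_eq_zero.1 h1).symm

lemma a_transition (n k : ℕ) : a (n + k) ≫ CohCx.transition K t n k = a n := by
  induction k with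
  | zero => exact Category.comp_id _
  | succ k ih =>
    change a (n + k + 1) ≫ t (n + k) ≫ CohCx.transition K t n k = a n
    rw [← Category.assoc, a_succ K t L a hL, ih]

variable (A : D) (m : ℤ)

lemma comp_a_eq_zero_of_le (N : ℕ) (ξ : A ⟶ L⟦m⟧) (hξ : ξ ≫ (a N)⟦m⟧' = 0) :
    ∀ (d n : ℕ), n + d = N → ξ ≫ (a n)⟦m⟧' = 0 := by
  intro d
  induction d with
  | zero =>
    intro n hn
    obtain rfl : n = N := by omega
    exact hξ
  | succ d ih =>
    intro n hn
    have h1 := ih (n + 1) (by omega)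
    rw [← a_succ K t L a hL n, Functor.map_comp, ← Category.assoc, h1, zero_comp]

theorem eq_zero_of_comp_eq_zero (N : ℕ)
    (h1 : CohCx.LimOneIsZero (fun n => (A ⟶ (K n)⟦m - 1⟧))
      (fun n => Preadditive.rightComp _ ((shiftFunctor _ (m - 1)).map (t n))))
    (h2 : ∀ k : ℕ, Function.Injective
      (Preadditive.rightComp A ((shiftFunctor _ m).map (CohCx.transition K t N k)) :
        (A ⟶ (K (N + k))⟦m⟧) → (A ⟶ (K N)⟦m⟧)))
    (ξ : A ⟶ L⟦m⟧) (hξ : ξ ≫ (a N)⟦m⟧' = 0) : ξ = 0 := by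
  apply eq_zero_of_limOne K t L a hL A m h1 ξ
  intro n
  by_cases hn : n ≤ N
  · exact comp_a_eq_zero_of_le K t L a hL A m N ξ hξ (N - n) n (by omega)
  · obtain ⟨k, rfl⟩ := Nat.exists_eq_add_of_le (le_of_not_ge hn)
    apply h2 k
    change (ξ ≫ (a (N + k))⟦m⟧') ≫ (CohCx.transition K t N k)⟦m⟧' =
      0 ≫ (CohCx.transition K t N k)⟦m⟧'
    rw [Category.assoc, ← Functor.map_comp, a_transition K t L a hL, hξ, zero_comp]

end Groth.Agent.Lib.Helper68.RlimInj
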