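import Groth.Agent.Lib.Helper68.RlimInj2
import Mathlib.Topology.Sheaves.Stalks

set_option autoImplicit false
universe u
open CategoryTheory Limits Opposite TopologicalSpace

namespace Groth.Agent.Lib.Helper68.RlimInj

open Groth.Agent.Lib.Helper68.HZeroLocal Groth.Agent.Lib.Helper68.HZeroSheaf

section Transfer

variable {C : Type u} [SmallCategory C] {J : GrothendieckTopology C}
  [HasDerivedCategory.{u} (Sheaf J AddCommGrpCat.{u})]

/-- transfer of monomorphism property from `H⁰(-[m])` to `H^m` -/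
lemma mono_transfer {L K' : DerivedCategory (Sheaf J AddCommGrpCat.{u})} (α : L ⟶ K') (m : ℤ)
    {𝒜 : Type*} [Category 𝒜] (ev : Sheaf J AddCommGrpCat.{u} ⥤ 𝒜)
    (h2 : Mono (ev.map (H.map (α⟦m⟧')))) :
    Mono (ev.map ((DerivedCategory.homologyFunctor _ m).map α)) := by
  let e := (DerivedCategory.homologyFunctor (Sheaf J AddCommGrpCat.{u}) 0).shiftIso m 0 m
    (add_zero m)
  let eL : H.obj (L⟦m⟧) ≅ (DerivedCategory.homologyFunctor _ m).obj L := e.app L
  let eK : H.obj (K'⟦m⟧) ≅ (DerivedCategory.homologyFunctor _ m).obj K' := e.app K'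
  have hnat : H.map (α⟦m⟧') ≫ eK.hom =
      eL.hom ≫ (DerivedCategory.homologyFunctor _ m).map α := e.hom.naturality α
  have h4 : ev.map eL.hom ≫ ev.map ((DerivedCategory.homologyFunctor _ m).map α) =
      ev.map (H.map (α⟦m⟧')) ≫ ev.map eK.hom := by
    rw [← ev.map_comp, ← ev.map_comp, hnat]
  have h5 : Mono (ev.map eL.hom ≫ ev.map ((DerivedCategory.homologyFunctor _ m).map α)) := by
    rw [h4]
    infer_instance
  have h7 : ev.map ((DerivedCategory.homologyFunctor _ m).map α) =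
      ev.map eL.inv ≫ (ev.map eL.hom ≫
        ev.map ((DerivedCategory.homologyFunctor _ m).map α)) := by
    rw [← Category.assoc, ← ev.map_comp, eL.inv_hom_id, ev.map_id, Category.id_comp]
  rw [h7]
  infer_instance

end Transfer

section Top

variable {X : TopCat.{u}} [HasDerivedCategory.{u} (CohTop.Ab X)]
  (K : ℕ → DerivedCategory (CohTop.Ab X)) (t : ∀ n, K (n + 1) ⟶ K n) [HasProduct K]
  (L : DerivedCategory (CohTop.Ab X)) (a : ∀ n, L ⟶ K n) (hL : CohCx.IsRlimVia K t L a)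
  (x : X) (m : ℤ) (nx : ℕ)

include hL in
theorem stalk_injective_H0
    (h : ∀ V : Opens X, x ∈ V → ∃ U : Opens X, x ∈ U ∧ U ≤ V ∧ Good K t m nx U) :
    Function.Injective ((TopCat.Presheaf.stalkFunctor AddCommGrpCat.{u} x).map
      (H.map ((a nx)⟦m⟧')).hom) := by
  rw [injective_iff_map_eq_zero]
  intro z hz
  obtain ⟨U, hxU, s, rfl⟩ := TopCat.Presheaf.exists_germ_eq (H.obj (L⟦m⟧)).obj z
  rw [TopCat.Presheaf.stalkFunctor_map_germ_apply] at hz
  have hz' : TopCat.Presheaf.germ (H.obj ((K nx)⟦m⟧)).obj U x hxU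
        ((H.map ((a nx)⟦m⟧')).hom.app (op U) s) =
      TopCat.Presheaf.germ (H.obj ((K nx)⟦m⟧)).obj U x hxU 0 := hz.trans (map_zero _).symm
  obtain ⟨W, hxW, iU, iV, hW⟩ := TopCat.Presheaf.germ_eq _ x hxU hxU _ _ hz'
  let s' := (H.obj (L⟦m⟧)).obj.map iU.op s
  have hs' : ((H.map ((a nx)⟦m⟧')).hom.app (op W)).hom s' = 0 := by
    have h2 := ConcreteCategory.congr_hom ((H.map ((a nx)⟦m⟧')).hom.naturality iU.op) s
    rw [ConcreteCategory.comp_apply, ConcreteCategory.comp_apply] at h2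
    refine h2.trans (hW.trans ?_)
    exact map_zero _
  obtain ⟨T, hT, hT'⟩ := exists_local_lift ((a nx)⟦m⟧') W s' hs'
  obtain ⟨W', g, hg, hxW'⟩ := hT x hxW
  obtain ⟨ξ, hξ, hξ0⟩ := hT' g hg
  obtain ⟨U', hxU', hle, hgood⟩ := h W' hxW'
  have h0 : S.map (CohCx.freeSheafMap _ (homOfLE hle)) ≫ ξ = 0 := by
    apply eq_zero_of_good K t L a hL m nx U' hgood
    rw [Category.assoc, hξ0, comp_zero]
  have h1 : ((H.obj (L⟦m⟧)).obj.map (homOfLE hle).op).hom
      (((H.obj (L⟦m⟧)).obj.map g.op).hom s') = 0 := by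
    rw [← hξ, ← ηU_res, h0, map_zero]
  have h3 : TopCat.Presheaf.germ (H.obj (L⟦m⟧)).obj U x hxU s =
      TopCat.Presheaf.germ (H.obj (L⟦m⟧)).obj U' x hxU'
        (((H.obj (L⟦m⟧)).obj.map (homOfLE hle).op).hom
      (((H.obj (L⟦m⟧)).obj.map g.op).hom s')) := by
    rw [TopCat.Presheaf.germ_res_apply, TopCat.Presheaf.germ_res_apply,
      TopCat.Presheaf.germ_res_apply]
  rw [h3, h1, map_zero]
  rfl

include hL in
theorem stalk_injective_Hm
    (h : ∀ V : Opens X, x ∈ V → ∃ U : Opens X, x ∈ U ∧ U ≤ V ∧ Good K t m nx U) :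
    Function.Injective ((TopCat.Presheaf.stalkFunctor AddCommGrpCat.{u} x).map
      ((DerivedCategory.homologyFunctor (CohTop.Ab X) m).map (a nx)).hom) := by
  have h0 := stalk_injective_H0 K t L a hL x m nx h
  let ev : CohTop.Ab X ⥤ AddCommGrpCat.{u} :=
    sheafToPresheaf _ _ ⋙ TopCat.Presheaf.stalkFunctor AddCommGrpCat.{u} x
  have h2 : Mono (ev.map (H.map ((a nx)⟦m⟧'))) :=
    (AddCommGrpCat.mono_iff_injective _).2 h0
  exact (AddCommGrpCat.mono_iff_injective _).1 (mono_transfer (a nx) m ev h2)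

end Top

end Groth.Agent.Lib.Helper68.RlimInj
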