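import Groth.Agent.Lib.Helper68.TruncRlim2
import Groth.Agent.Lib.Helper68.RlimInj3

set_option autoImplicit false
universe u
open CategoryTheory Limits Pretriangulated DerivedCategory Opposite

namespace Groth.Agent.Lib.Helper68.TruncRlim

open Groth.Agent.Lib.Helper68.HZeroLocal Groth.Agent.Lib.Helper68.HZeroSheaf
open Groth.Agent.Lib.Helper68.RlimMilnor Groth.Agent.Lib.Helper68.DerLimSh

section Abstract

variable {D : Type*} [Category D] [Preadditive D] [HasZeroObject D] [HasShift D ℤ]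
  [∀ n : ℤ, (shiftFunctor D n).Additive] [Pretriangulated D]
  {K : ℕ → D} {t : ∀ n, K (n + 1) ⟶ K n} [HasProduct K]

lemma isRlimVia_of_iso {L Z : D} (b : ∀ n, Z ⟶ K n) (hZ : CohCx.IsRlimVia K t Z b) (e : L ≅ Z)
    (a : ∀ n, L ⟶ K n) (ha : ∀ n, e.hom ≫ b n = a n) : CohCx.IsRlimVia K t L a := by
  obtain ⟨c, hT⟩ := hZ
  refine ⟨c ≫ e.inv⟦(1 : ℤ)⟧', isomorphic_distinguished _ hT _ ?_⟩
  refine Triangle.isoMk _ _ e (Iso.refl _) (Iso.refl _) ?_ ?_ ?_
  · change Pi.lift a ≫ 𝟙 _ = e.hom ≫ Pi.lift b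
    rw [Category.comp_id]
    apply Pi.hom_ext
    intro n
    rw [Pi.lift_π, Category.assoc, Pi.lift_π, ha]
  · exact (Category.comp_id _).trans (Category.id_comp _).symm
  · change (c ≫ (shiftFunctor D (1 : ℤ)).map e.inv) ≫ (shiftFunctor D (1 : ℤ)).map e.hom = 𝟙 _ ≫ c
    rw [Category.id_comp, Category.assoc, ← Functor.map_comp, e.inv_hom_id,
      CategoryTheory.Functor.map_id, Category.comp_id]

/-- abstract nonsense: if `φ ≫ β = α` with `α` iso and `β` mono, then `φ` is iso -/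
lemma isIso_of_fac {𝒜 : Type*} [Category 𝒜] {X Y Z : 𝒜} (φ : X ⟶ Y) (β : Y ⟶ Z) (α : X ⟶ Z)
    (h : φ ≫ β = α) [IsIso α] [Mono β] : IsIso φ := by
  have h1 : (inv α ≫ φ) ≫ β = 𝟙 _ := by rw [Category.assoc, h, IsIso.inv_hom_id]
  have h2 : IsSplitEpi β := ⟨⟨⟨inv α ≫ φ, h1⟩⟩⟩
  have h3 : IsIso β := isIso_of_mono_of_isSplitEpi β
  have h4 : φ = α ≫ inv β := by rw [← h, Category.assoc, IsIso.hom_inv_id, Category.comp_id]
  rw [h4]
  infer_instance

end Abstract

variable {C : Type u} [SmallCategory C] {J : GrothendieckTopology C}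
  [HasDerivedCategory.{u} (Sheaf J AddCommGrpCat.{u})]
  (E : DerivedCategory (Sheaf J AddCommGrpCat.{u}))

section Site

variable [HasProduct (CohCx.truncTower E)]
  {Z : DerivedCategory (Sheaf J AddCommGrpCat.{u})} (b : ∀ n, Z ⟶ CohCx.truncTower E n)
  (hZ : CohCx.IsRlimVia (CohCx.truncTower E) (CohCx.truncTowerMap E) Z b)
  (θ : E ⟶ Z) (hθ : ∀ n, θ ≫ b n = CohCx.toTruncTower E n)

include hZ hθ in
/-- local criterion at an object `V` -/
lemma isIso_app_of_van (m : ℤ) (V : C) (p : ℤ → ℤ)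
    (h : ∀ T ∈ J V, ∃ (ι : Type u) (Y : ι → C) (f : ∀ i, Y i ⟶ V), (∀ i, T.arrows (f i)) ∧
      Sieve.ofArrows Y f ∈ J V ∧ ∀ i, Van E p (Y i)) :
    IsIso (((DerivedCategory.homologyFunctor _ m).map θ).hom.app (op V)) := by
  let nV : ℕ := max (Nj p m) (-m).toNat
  have hinj : Function.Injective
      (((DerivedCategory.homologyFunctor _ m).map (b nV)).hom.app (op V)) := by
    apply RlimInj.injective_Hm _ _ Z b hZ m nV V
    intro T hT
    obtain ⟨ι, Y, f, hf, hcov, hvan⟩ := h T hT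
    exact ⟨ι, Y, f, hf, hcov, fun i => good_of_van (hvan i) m nV (le_max_left _ _)⟩
  have hmono : Mono (((DerivedCategory.homologyFunctor _ m).map (b nV)).hom.app (op V)) :=
    (AddCommGrpCat.mono_iff_injective _).2 hinj
  have hiso : IsIso ((DerivedCategory.homologyFunctor _ m).map (CohCx.toTruncTower E nV)) :=
    isIso_homology_toTruncTower E nV m (by
      have : (-m).toNat ≤ nV := le_max_right _ _
      omega)
  let ev : Sheaf J AddCommGrpCat.{u} ⥤ AddCommGrpCat.{u} :=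
    sheafToPresheaf J _ ⋙ (evaluation _ _).obj (op V)
  have hiso' : IsIso (ev.map ((DerivedCategory.homologyFunctor _ m).map (CohCx.toTruncTower E nV))) :=
    inferInstance
  have hfac : ev.map ((DerivedCategory.homologyFunctor _ m).map θ) ≫
      ev.map ((DerivedCategory.homologyFunctor _ m).map (b nV)) =
      ev.map ((DerivedCategory.homologyFunctor _ m).map (CohCx.toTruncTower E nV)) := by
    rw [← Functor.map_comp, ← Functor.map_comp, hθ]
  have hmono' : Mono (ev.map ((DerivedCategory.homologyFunctor _ m).map (b nV))) := hmono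
  exact isIso_of_fac (ev.map ((DerivedCategory.homologyFunctor _ m).map θ))
    (ev.map ((DerivedCategory.homologyFunctor _ m).map (b nV))) _ hfac

include hθ in
lemma mono_homology_theta (m : ℤ) : Mono ((DerivedCategory.homologyFunctor _ m).map θ) := by
  have hiso : IsIso ((DerivedCategory.homologyFunctor _ m).map (CohCx.toTruncTower E (-m).toNat)) :=
    isIso_homology_toTruncTower E _ m (by omega)
  have hfac : (DerivedCategory.homologyFunctor _ m).map θ ≫
      (DerivedCategory.homologyFunctor _ m).map (b (-m).toNat) =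
      (DerivedCategory.homologyFunctor _ m).map (CohCx.toTruncTower E (-m).toNat) := by
    rw [← Functor.map_comp, hθ]
  have : Mono ((DerivedCategory.homologyFunctor _ m).map θ ≫
      (DerivedCategory.homologyFunctor _ m).map (b (-m).toNat)) := by
    rw [hfac]
    infer_instance
  exact mono_of_mono _ ((DerivedCategory.homologyFunctor _ m).map (b (-m).toNat))

include hZ hθ in
theorem isIso_theta_site (B : Set C)
    (hB : ∀ U : C, ∃ (ι : Type u) (Y : ι → C) (f : ∀ i, Y i ⟶ U),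
      Sieve.ofArrows Y f ∈ J U ∧ ∀ i, Y i ∈ B)
    (h : ∀ V ∈ B, ∃ p : ℤ → ℤ, ∀ T ∈ J V, ∃ (ι : Type u) (Y : ι → C) (f : ∀ i, Y i ⟶ V),
      (∀ i, T.arrows (f i)) ∧ Sieve.ofArrows Y f ∈ J V ∧ ∀ i, Van E p (Y i)) :
    IsIso θ := by
  rw [DerivedCategory.isIso_iff]
  intro m
  have hmono := mono_homology_theta E b θ hθ m
  have hepi : Epi ((DerivedCategory.homologyFunctor _ m).map θ) := by
    rw [← Sheaf.isLocallySurjective_iff_epi']
    constructor
    intro W s
    refine covering_of_B B hB ⊤ (J.top_mem W) _ ?_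
    intro W' j _ V f hV
    obtain ⟨p, hp⟩ := h V hV
    have hiso := isIso_app_of_van E b hZ θ hθ m V p hp
    obtain ⟨x, hx⟩ := (ConcreteCategory.bijective_of_isIso
      (((DerivedCategory.homologyFunctor _ m).map θ).hom.app (op V))).2
      ((((DerivedCategory.homologyFunctor _ m).obj Z).obj.map (f ≫ j).op).hom s)
    exact ⟨x, hx⟩
  exact isIso_of_mono_of_epi _

end Site

theorem main_site [HasProduct (CohCx.truncTower E)] (B : Set C)
    (hB : ∀ U : C, ∃ (ι : Type u) (Y : ι → C) (f : ∀ i, Y i ⟶ U),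
      Sieve.ofArrows Y f ∈ J U ∧ ∀ i, Y i ∈ B)
    (h : ∀ V ∈ B, ∃ p : ℤ → ℤ, ∀ T ∈ J V, ∃ (ι : Type u) (Y : ι → C) (f : ∀ i, Y i ⟶ V),
      (∀ i, T.arrows (f i)) ∧ Sieve.ofArrows Y f ∈ J V ∧
      ∀ (i : ι) (m : ℤ) (k : ℕ), p m < k → Subsingleton (CohSite.HU (CohCx.HD E (m - k)) k (Y i))) :
    CohCx.IsRlimVia (CohCx.truncTower E) (CohCx.truncTowerMap E) E (CohCx.toTruncTower E) := by
  obtain ⟨Z, b, hZ⟩ := exists_rlim (CohCx.truncTower E) (CohCx.truncTowerMap E)
  obtain ⟨θ, hθ⟩ := exists_lift_zero hZ E (CohCx.toTruncTower E) (toTruncTower_succ E)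
  have hiso : IsIso θ := isIso_theta_site E b hZ θ hθ B hB h
  exact isRlimVia_of_iso b hZ (asIso θ) _ hθ

end Groth.Agent.Lib.Helper68.TruncRlim
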