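import Groth.Agent.Lib.Helper68.DerLimSh4
import Groth.Prelude.Def_CohTop

set_option autoImplicit false
universe u
open CategoryTheory

namespace Groth.Agent.Lib.Helper68.DerLimSh

open TopologicalSpace Opposite CategoryTheory.Limits in
/-- A basis of opens gives coverings of every open by members of the basis. -/
theorem hB_site {X : TopCat.{u}} (B : Set (Opens X)) (hB : Opens.IsBasis B) :
    ∀ U : Opens X, ∃ (ι : Type u) (Y : ι → Opens X) (f : ∀ i, Y i ⟶ U),
      Sieve.ofArrows Y f ∈ Opens.grothendieckTopology X U ∧ ∀ i, Y i ∈ B := by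
  intro U
  refine ⟨{W : Opens X // W ∈ B ∧ W ≤ U}, fun W => W.1, fun W => homOfLE W.2.2, ?_, fun W => W.2.1⟩
  rw [Opens.mem_grothendieckTopology]
  intro x hx
  obtain ⟨W, hWB, hxW, hWU⟩ := Opens.isBasis_iff_nbhd.1 hB hx
  exact ⟨W, homOfLE hWU, Sieve.ofArrows_mk _ _ (⟨W, hWB, hWU⟩ : {W : Opens X // W ∈ B ∧ W ≤ U}), hxW⟩

end Groth.Agent.Lib.Helper68.DerLimSh
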