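import Groth.Agent.Lib.Helper99.KInjRes
import Groth.Agent.Lib.Helper99.ProdCxU

set_option autoImplicit false
universe w t v u
open CategoryTheory Limits DerivedCategory

namespace Groth.Agent.Lib.Helper68.DerProd

variable {A : Type u} [Category.{v} A] [Abelian A] [IsGrothendieckAbelian.{v} A]
  [HasDerivedCategory.{w} A]

/-- every object of the derived category of a Grothendieck abelian category is represented by a
K-injective complex -/
lemma exists_kInjective_iso (K : DerivedCategory A) :
    ∃ (I : CochainComplex A ℤ), I.IsKInjective ∧ Nonempty (K ≅ Q.obj I) := by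
  obtain ⟨I, f, hI, hf, -, -⟩ :=
    Groth.Agent.Lib.Helper99.KInj.exists_kInjective_resolution (Q.objPreimage K)
  have : IsIso (Q.map f) := by
    rw [isIso_Q_map_iff_quasiIso]
    exact hf
  exact ⟨I, hI, ⟨(Q.objObjPreimageIso K).symm ≪≫ asIso (Q.map f)⟩⟩

/-- products exist in the derived category of a Grothendieck abelian category -/
lemma hasProduct {ι : Type t} [HasLimitsOfShape (Discrete ι) A] (K : ι → DerivedCategory A) :
    HasProduct K := by
  choose I hI e using fun n => exists_kInjective_iso (K n)
  have h1 : HasProduct (fun n => Q.obj (I n)) :=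
    Groth.Agent.Lib.Helper99.ProdCxU.hasProduct_Q I hI
  have e' : Discrete.functor K ≅ Discrete.functor (fun n => Q.obj (I n)) :=
    Discrete.natIso (fun n => (e n.as).some)
  exact hasLimit_of_iso e'.symm

end Groth.Agent.Lib.Helper68.DerProd
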