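import Groth.Agent.Lib.Helper68.HLimSeq2

set_option autoImplicit false
universe u
open CategoryTheory Limits Opposite

namespace Groth.Agent.Lib.Helper68.HLimSeq

open Groth.Agent.Lib.Helper68.HZeroLocal Groth.Agent.Lib.Helper68.HZeroSheaf DerivedCategory
open Groth.Agent.Lib.Helper68.DerLimSh

variable {C : Type u} [SmallCategory C] {J : GrothendieckTopology C}
  [HasDerivedCategory.{u} (Sheaf J AddCommGrpCat.{u})]
  (F : ℕᵒᵖ ⥤ Sheaf J AddCommGrpCat.{u})
  (B : Set C)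
  (hB : ∀ U : C, ∃ (ι : Type u) (Y : ι → C) (f : ∀ i, Y i ⟶ U),
    Sieve.ofArrows Y f ∈ J U ∧ ∀ i, Y i ∈ B)
  (h1 : ∀ U ∈ B, ∀ (p n : ℕ), Subsingleton (CohSite.HU (F.obj (op n)) (p + 1) U))
  (h2 : ∀ U ∈ B, ∀ n : ℕ,
    Function.Surjective ((F.map (homOfLE (Nat.le_succ n)).op).hom.app (op U)).hom)
  [HasProduct (KK (Fobj F))] (c : Cone F) (hc : IsLimit c)

include hB h1 h2 hc in
/-- the limit of a tower of sheaves with vanishing higher cohomology and surjective transition maps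
on a basis has vanishing higher cohomology on the basis -/
theorem subsingleton_HU_of_isLimit (U : C) (hU : U ∈ B) (q : ℕ) :
    Subsingleton (CohSite.HU c.pt (q + 1) U) := by
  have hL := isRlimVia_of_isLimit F B hB h1 h2 c hc
  have e1 : CohSite.HU c.pt (q + 1) U ≃
      (S.obj (CohCx.freeSheaf J U) ⟶ (S.obj c.pt)⟦((q + 1 : ℕ) : ℤ)⟧) :=
    Abelian.Ext.homEquiv
  refine e1.subsingleton_congr.2 ⟨fun x y => ?_⟩
  have hx : ∀ x : S.obj (CohCx.freeSheaf J U) ⟶ (S.obj c.pt)⟦((q + 1 : ℕ) : ℤ)⟧, x = 0 := by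
    intro x
    exact hom_Z_eq_zero (Fobj F) (Ftr F) B h1
      (fun U hU => TruncRlim.limOneIsZero_of_surjective _ _ (fun k => h2 U hU k)) hL U hU
      ((q + 1 : ℕ) : ℤ) (by omega) x
  rw [hx x, hx y]

end Groth.Agent.Lib.Helper68.HLimSeq
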