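import Groth.Agent.Lib.Helper68.HLimSeq2
import Groth.Agent.Lib.Cohomology.Helper1_SerreVanishing
import Groth.Agent.Lib.Cohomology.helper5_Leray
import Groth.Agent.Lib.QCoh.Local
import Groth.Agent.Lib.QCoh.Extension
import Groth.Agent.S6160

/-!
# Towers of quasi-coherent modules: hypotheses on affine opens for the derived limit machinery (helper68)
-/

set_option autoImplicit false
universe u
open CategoryTheory CategoryTheory.Limits AlgebraicGeometry Opposite

namespace Groth.Agent.Lib.Helper68.QCohTower

variable {Y : Scheme.{u}} (G : ℕᵒᵖ ⥤ Y.Modules)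
  (hq : ∀ n : ℕ, (G.obj (op n)).IsQuasicoherent)
  (hepi : ∀ n : ℕ, Epi (G.map (homOfLE (Nat.le_succ n)).op))

/-- the forgetful functor to abelian sheaves -/
noncomputable abbrev TY (Y : Scheme.{u}) :
    Y.Modules ⥤ Sheaf (Opens.grothendieckTopology Y) AddCommGrpCat.{u} :=
  SheafOfModules.toSheaf.{u} Y.ringCatSheaf

include hq in
lemma h1 : ∀ V ∈ (Y.affineOpens : Set Y.Opens), ∀ (q n : ℕ),
    Subsingleton (CohSite.HU ((G ⋙ TY Y).obj (op n)) (q + 1) V) := by
  intro V hV q n
  have : (G.obj (op n)).IsQuasicoherent := hq n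
  exact Groth.Agent.Lib.Cohomology.HU_succ_subsingleton_of_isAffineOpen (G.obj (op n)) V hV q

include hq hepi in
lemma h2 : ∀ V ∈ (Y.affineOpens : Set Y.Opens), ∀ n : ℕ,
    Function.Surjective (((G ⋙ TY Y).map (homOfLE (Nat.le_succ n)).op).hom.app (op V)).hom := by
  intro V hV n
  let τ : G.obj (op (n + 1)) ⟶ G.obj (op n) := G.map (homOfLE (Nat.le_succ n)).op
  have : (G.obj (op n)).IsQuasicoherent := hq n
  have : (G.obj (op (n + 1))).IsQuasicoherent := hq (n + 1)
  have : (kernel τ).IsQuasicoherent := Groth.Agent.Lib.QCoh.isQuasicoherent_kernel τ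
  let S : ShortComplex Y.Modules := ShortComplex.mk (kernel.ι τ) τ (kernel.condition τ)
  have hS : S.ShortExact :=
    ShortComplex.ShortExact.mk' (ShortComplex.exact_of_f_is_kernel S (kernelIsKernel τ))
      (inferInstanceAs (Mono (kernel.ι τ))) (hepi n)
  have hS' : (S.map (Groth.Agent.Lib.QCoh.toAbFunctor Y)).ShortExact := hS.map_of_exact _
  have h3 := Groth.Agent.Lib.Cohomology.Leray.sections_surjective_of_H1 hS' V
    (Groth.Agent.Lib.Cohomology.HU_succ_subsingleton_of_isAffineOpen (kernel τ) V hV 0)
  intro y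
  obtain ⟨x, hx⟩ := h3 y
  exact ⟨x, hx⟩

section Restr

variable {X Y : Scheme.{u}} (f : Y ⟶ X) [IsOpenImmersion f]

/-- restriction along an open immersion followed by the forgetful functor to abelian sheaves -/
noncomputable abbrev RT : X.Modules ⥤ Sheaf (Opens.grothendieckTopology Y) AddCommGrpCat.{u} :=
  Scheme.Modules.restrictFunctor f ⋙ SheafOfModules.toSheaf.{u} Y.ringCatSheaf

/-- restriction to an open subscheme followed by the forgetful functor preserves limit cones -/
noncomputable def isLimitMapCone {K : Type} [SmallCategory K] (G : K ⥤ X.Modules) :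
    IsLimit ((RT f).mapCone (limit.cone G)) := by
  let T : X.Modules ⥤ Sheaf (Opens.grothendieckTopology X) AddCommGrpCat.{u} :=
    SheafOfModules.toSheaf.{u} X.ringCatSheaf
  have hpres : PreservesLimitsOfSize.{u, u} T :=
    Groth.Agent.S6160.toSheaf_preservesLimitsOfSize X.ringCatSheaf
  have hpres0 : PreservesLimitsOfSize.{0, 0} T := preservesSmallestLimits_of_preservesLimits T
  apply isLimitOfReflects (sheafToPresheaf (Opens.grothendieckTopology Y) AddCommGrpCat.{u})
  apply evaluationJointlyReflectsLimits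
  intro V
  have h1 := isLimitOfPreserves T (limit.isLimit G)
  have h2 := isLimitOfPreserves (sheafToPresheaf (Opens.grothendieckTopology X) AddCommGrpCat.{u}) h1
  have h3 := isLimitOfPreserves ((evaluation _ _).obj (op (f ''ᵁ V.unop))) h2
  exact h3

end Restr

end Groth.Agent.Lib.Helper68.QCohTower
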