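import Mathlib
import Groth.Prelude.Def_DRing2
import Groth.Agent.Lib.Helper46.TorBaseChange
import Groth.Agent.Lib.Helper46.TorPrime

/-!
# Tor along a flat base change (helper68)

`R → P` flat, `Q'` a `P`-module, `N` an `R`-module, `T ≅ P ⊗[R] N` as `P`-modules:
`Tor^R_p(Q', N) = 0 → Tor^P_p(Q', T) = 0`.  Application: `P = R[x]`, `T = R'[x]`.
-/

set_option autoImplicit false

namespace Groth.Agent.Lib.Helper68.TorPoly

open CategoryTheory Limits MonoidalCategory
open Groth.Agent.Lib.Helper46

universe u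

theorem subsingleton_tor_of_flat_baseChange
    (R P : Type u) [CommRing R] [CommRing P] [Algebra R P] [Module.Flat R P]
    (Q' : Type u) [AddCommGroup Q'] [Module P Q'] [Module R Q'] [IsScalarTower R P Q']
    (N : Type u) [AddCommGroup N] [Module R N]
    (T : Type u) [AddCommGroup T] [Module P T]
    (e : TensorProduct R P N ≃ₗ[P] T) (p : ℕ)
    (h : Subsingleton (DRing.Tor R p Q' N)) : Subsingleton (DRing.Tor P p Q' T) := by
  have h0 : IsZero (((Tor (ModuleCat.{u} R) p).obj (ModuleCat.of R Q')).obj (ModuleCat.of R N)) :=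
    ModuleCat.isZero_of_subsingleton _
  have h1 : IsZero (((Tor (ModuleCat.{u} R) p).obj (ModuleCat.of R N)).obj (ModuleCat.of R Q')) :=
    h0.of_iso (TorPrime.torSymm (ModuleCat.of R N) (ModuleCat.of R Q') p)
  haveI : Module.Flat R (ModuleCat.of R P) := inferInstanceAs (Module.Flat R P)
  have hM : ∀ q : ℕ, IsZero (((Tor (ModuleCat.{u} R) (q + 1)).obj (ModuleCat.of R N)).obj
      (ModuleCat.of R P)) := fun q =>
    TorLES.isZero_tor_succ_of_flat_right (ModuleCat.of R P) q (ModuleCat.of R N)
  have i1 := TorBaseChange.torBaseChangeIso R P Q' (ModuleCat.of R N) hM p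
  have h2 : IsZero ((TorBaseChange.rs R P).obj
      (((Tor (ModuleCat.{u} P) p).obj ((TorBaseChange.bc R P).obj (ModuleCat.of R N))).obj
        (ModuleCat.of P Q'))) := h1.of_iso i1.symm
  have h3 : IsZero (((Tor (ModuleCat.{u} P) p).obj ((TorBaseChange.bc R P).obj (ModuleCat.of R N))).obj
        (ModuleCat.of P Q')) := by
    haveI : Subsingleton ((TorBaseChange.rs R P).obj
      (((Tor (ModuleCat.{u} P) p).obj ((TorBaseChange.bc R P).obj (ModuleCat.of R N))).obj
        (ModuleCat.of P Q'))) := ModuleCat.subsingleton_of_isZero h2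
    haveI : Subsingleton (((Tor (ModuleCat.{u} P) p).obj ((TorBaseChange.bc R P).obj (ModuleCat.of R N))).obj
        (ModuleCat.of P Q')) := ‹_›
    exact ModuleCat.isZero_of_subsingleton _
  let eT : (TorBaseChange.bc R P).obj (ModuleCat.of R N) ≅ ModuleCat.of P T := e.toModuleIso
  have h4 : IsZero (((Tor (ModuleCat.{u} P) p).obj (ModuleCat.of P T)).obj (ModuleCat.of P Q')) :=
    h3.of_iso (((Tor (ModuleCat.{u} P) p).mapIso eT).app (ModuleCat.of P Q')).symm
  have h5 : IsZero (((Tor (ModuleCat.{u} P) p).obj (ModuleCat.of P Q')).obj (ModuleCat.of P T)) :=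
    h4.of_iso (TorPrime.torSymm (ModuleCat.of P Q') (ModuleCat.of P T) p)
  exact ModuleCat.subsingleton_of_isZero h5

end Groth.Agent.Lib.Helper68.TorPoly
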