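import Mathlib
import Groth.Prelude.Def_DerCA
import Groth.Agent.S13563
import Groth.Agent.S2137
import Groth.Agent.Lib.Helper12.DerivedAdjunction
import Groth.Agent.Lib.Helper36.HasLeftDerived
import Groth.Agent.Lib.Helper68.TorPoly

set_option autoImplicit false
universe u
open CategoryTheory CategoryTheory.Limits
attribute [local instance] HasDerivedCategory.standard
open TensorProduct

namespace Groth.Agent.Lib.Helper68.RelPCBC

open DRing

/-- iso-invariance of m-pseudo-coherence -/
lemma isPseudoCoherent_of_iso {A : Type u} [CommRing A] {m : ℤ} {K L : Dual.D A} (e : K ≅ L)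
    (hK : IsPseudoCoherent A m K) : IsPseudoCoherent A m L := by
  obtain ⟨E, a, b, α, h1, h2, h3, h4⟩ := hK
  refine ⟨E, a, b, α ≫ e.hom, h1, h2, ?_, ?_⟩
  · intro i hi
    haveI := h3 i hi
    rw [Functor.map_comp]
    infer_instance
  · haveI := h4
    rw [Functor.map_comp]
    infer_instance


section Main

variable {R A R' : Type u} [CommRing R] [CommRing A] [CommRing R'] [Algebra R A] [Algebra R R']

/-- the base-changed presentation -/
noncomputable def α' {n : ℕ} (α : MvPolynomial (Fin n) R →ₐ[R] A) :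
    MvPolynomial (Fin n) R' →ₐ[R'] (R' ⊗[R] A) :=
  MvPolynomial.aeval (fun i => (1 : R') ⊗ₜ[R] α (MvPolynomial.X i))

lemma α'_map {n : ℕ} (α : MvPolynomial (Fin n) R →ₐ[R] A) (p : MvPolynomial (Fin n) R) :
    α' (R' := R') α (MvPolynomial.map (algebraMap R R') p) = (1 : R') ⊗ₜ[R] α p := by
  induction p using MvPolynomial.induction_on with
  | C r =>
    simp only [MvPolynomial.map_C, α', MvPolynomial.algHom_C]
    rw [Algebra.TensorProduct.algebraMap_apply, Algebra.algebraMap_eq_smul_one r,
      Algebra.algebraMap_eq_smul_one (A := A) r, TensorProduct.tmul_smul, TensorProduct.smul_tmul']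
    simp
  | add p q hp hq => rw [map_add, map_add, hp, hq, map_add, TensorProduct.tmul_add]
  | mul_X p i hp =>
    rw [map_mul, map_mul, hp, MvPolynomial.map_X, map_mul]
    simp only [α', MvPolynomial.aeval_X]
    rw [Algebra.TensorProduct.tmul_mul_tmul, mul_one]

lemma α'_surjective {n : ℕ} (α : MvPolynomial (Fin n) R →ₐ[R] A) (hα : Function.Surjective α) :
    Function.Surjective (α' (R' := R') α) := by
  intro x
  induction x using TensorProduct.induction_on with
  | zero => exact ⟨0, map_zero _⟩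
  | tmul r a =>
    obtain ⟨p, rfl⟩ := hα a
    refine ⟨MvPolynomial.C r * MvPolynomial.map (algebraMap R R') p, ?_⟩
    rw [map_mul, α'_map, α', MvPolynomial.aeval_C, Algebra.TensorProduct.algebraMap_apply,
      Algebra.TensorProduct.tmul_mul_tmul, mul_one, one_mul]
    simp
  | add x y hx hy =>
    obtain ⟨p, rfl⟩ := hx
    obtain ⟨q, rfl⟩ := hy
    exact ⟨p + q, map_add _ _ _⟩


set_option maxHeartbeats 1600000 in
set_option synthInstance.maxHeartbeats 200000 in
theorem via_baseChange (htor : ∀ p : ℕ, 0 < p → Subsingleton (DRing.Tor R p A R'))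
    [DRing.HasLBaseChange (Algebra.TensorProduct.includeRight : A →ₐ[R] R' ⊗[R] A).toRingHom]
    (K : Dual.D A) (m : ℤ) {n : ℕ} (α : MvPolynomial (Fin n) R →ₐ[R] A)
    (hK : DerCA.IsRelPseudoCoherentVia α m K) :
    DerCA.IsRelPseudoCoherentVia (α' (R' := R') α) m
      ((DRing.LBaseChange (Algebra.TensorProduct.includeRight : A →ₐ[R] R' ⊗[R] A).toRingHom).obj K) := by
  letI iPA : Algebra (MvPolynomial (Fin n) R) A := (α : MvPolynomial (Fin n) R →+* A).toAlgebra
  letI iPP' : Algebra (MvPolynomial (Fin n) R) (MvPolynomial (Fin n) R') :=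
    MvPolynomial.algebraMvPolynomial
  letI iAA' : Algebra A (R' ⊗[R] A) := Algebra.TensorProduct.rightAlgebra
  letI iP'A' : Algebra (MvPolynomial (Fin n) R') (R' ⊗[R] A) :=
    (α' (R' := R') α : MvPolynomial (Fin n) R' →+* R' ⊗[R] A).toAlgebra
  letI iPA' : Algebra (MvPolynomial (Fin n) R) (R' ⊗[R] A) :=
    ((algebraMap A (R' ⊗[R] A)).comp (algebraMap (MvPolynomial (Fin n) R) A)).toAlgebra
  haveI t1 : IsScalarTower (MvPolynomial (Fin n) R) A (R' ⊗[R] A) :=
    IsScalarTower.of_algebraMap_eq fun x => rfl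
  have hcomm : ∀ x : MvPolynomial (Fin n) R,
      algebraMap A (R' ⊗[R] A) (algebraMap (MvPolynomial (Fin n) R) A x) =
        algebraMap (MvPolynomial (Fin n) R') (R' ⊗[R] A)
          (algebraMap (MvPolynomial (Fin n) R) (MvPolynomial (Fin n) R') x) := by
    intro x
    exact (α'_map (R' := R') α x).symm
  haveI t2 : IsScalarTower (MvPolynomial (Fin n) R) (MvPolynomial (Fin n) R') (R' ⊗[R] A) :=
    IsScalarTower.of_algebraMap_eq fun x => hcomm x
  haveI pushLeft : Algebra.IsPushout R (MvPolynomial (Fin n) R) R' (MvPolynomial (Fin n) R') :=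
    inferInstance
  haveI pushBig : Algebra.IsPushout R A R' (R' ⊗[R] A) := TensorProduct.isPushout'
  haveI t3 : IsScalarTower R' (MvPolynomial (Fin n) R') (R' ⊗[R] A) :=
    IsScalarTower.of_algebraMap_eq fun x => ((α' (R' := R') α).commutes x).symm
  haveI t4 : IsScalarTower R (MvPolynomial (Fin n) R') (R' ⊗[R] A) :=
    IsScalarTower.of_algebraMap_eq fun x => by
      rw [IsScalarTower.algebraMap_apply R R' (R' ⊗[R] A),
        IsScalarTower.algebraMap_apply R R' (MvPolynomial (Fin n) R'),
        ← IsScalarTower.algebraMap_apply R' (MvPolynomial (Fin n) R') (R' ⊗[R] A)]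
  haveI t5 : IsScalarTower R (MvPolynomial (Fin n) R) A :=
    IsScalarTower.of_algebraMap_eq fun x => (α.commutes x).symm
  haveI pushRight : Algebra.IsPushout (MvPolynomial (Fin n) R) A (MvPolynomial (Fin n) R')
      (R' ⊗[R] A) :=
    (Algebra.IsPushout.comp_iff R (MvPolynomial (Fin n) R) R' (MvPolynomial (Fin n) R')).mp pushBig
  have htorP : ∀ p : ℕ, 1 ≤ p → Subsingleton (DRing.Tor (MvPolynomial (Fin n) R) p A
      (MvPolynomial (Fin n) R')) := by
    intro p hp
    exact Groth.Agent.Lib.Helper68.TorPoly.subsingleton_tor_of_flat_baseChange R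
      (MvPolynomial (Fin n) R) A R' (MvPolynomial (Fin n) R') pushLeft.out.equiv p (htor p hp)
  haveI hL1 : DRing.HasLBaseChange (algebraMap (MvPolynomial (Fin n) R) (MvPolynomial (Fin n) R')) :=
    Groth.Agent.Lib.Helper36.LT.hasLBaseChange _
  haveI hL2 : DRing.HasLBaseChange (algebraMap A (R' ⊗[R] A)) :=
    ‹DRing.HasLBaseChange (Algebra.TensorProduct.includeRight : A →ₐ[R] R' ⊗[R] A).toRingHom›
  have hsq : (algebraMap A (R' ⊗[R] A)).comp (algebraMap (MvPolynomial (Fin n) R) A) =
      (algebraMap (MvPolynomial (Fin n) R') (R' ⊗[R] A)).comp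
        (algebraMap (MvPolynomial (Fin n) R) (MvPolynomial (Fin n) R')) := RingHom.ext hcomm
  have hiso := Groth.Agent.S13563.result (MvPolynomial (Fin n) R) A (MvPolynomial (Fin n) R')
    (R' ⊗[R] A) htorP
    (Groth.Agent.Lib.Helper12.lBaseChangeAdj _) (Groth.Agent.Lib.Helper12.lBaseChangeAdj _) hsq K
  have hpc := Groth.Agent.S2137.result
    (algebraMap (MvPolynomial (Fin n) R) (MvPolynomial (Fin n) R'))
    ((DRing.restrictD (algebraMap (MvPolynomial (Fin n) R) A)).obj K) m hK
  haveI := hiso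
  exact isPseudoCoherent_of_iso (asIso (TrivBC.cmp (Groth.Agent.Lib.Helper12.lBaseChangeAdj _)
    (Groth.Agent.Lib.Helper12.lBaseChangeAdj _) hsq K)) hpc


end Main

end Groth.Agent.Lib.Helper68.RelPCBC
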