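import Groth.Agent.Lib.Helper68.CompactFS3

/-!
# Compactness with respect to uniformly bounded below sums: the induction (helper68)
-/

set_option autoImplicit false
universe w₂ w' w v u
open CategoryTheory Limits DerivedCategory Pretriangulated

namespace Groth.Agent.Lib.Helper68.CompactFS

variable {𝒜 : Type u} [Category.{v} 𝒜] [Abelian 𝒜] [HasDerivedCategory.{w} 𝒜] [HasExt.{w₂} 𝒜]
  {I : Type w'} [HasColimitsOfShape (Discrete I) 𝒜] [HasExactColimitsOfShape (Discrete I) 𝒜]
  (Zo : 𝒜) (hZ : ExtSumGen Zo I)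

lemma FS_of_isZero_pt {D : Type*} [Category D] [Preadditive D] {M : I → D} {c : Cofan M}
    (hc : IsColimit c) (h : IsZero c.pt) (Z : D) : FS hc Z :=
  fun _ => ⟨∅, (h.eq_of_tgt _ _)⟩

include hZ in
lemma FS_bounded (k : ℕ) : ∀ (a b : ℤ), b < a + k → ∀ (M : I → DerivedCategory 𝒜) (c : Cofan M)
    (hc : IsColimit c), (∀ i, (M i).IsGE a) → (∀ i, (M i).IsLE b) →
    FS hc ((singleFunctor 𝒜 0).obj Zo) := by
  have := hasCoproductsOfShape' 𝒜 I
  induction k with
  | zero =>
    intro a b hab M c hc hGE hLE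
    have h1 := isGE_pt hc a hGE
    have h2 := isLE_pt hc b hLE
    exact FS_of_isZero_pt hc (TStructure.t.isZero c.pt b a (by simpa using hab)) _
  | succ k ih =>
    intro a b hab M c hc hGE hLE
    have FA : FS (coproductIsCoproduct (fun i => (TStructure.t.truncLT b).obj (M i)))
        ((singleFunctor 𝒜 0).obj Zo) :=
      ih a (b - 1) (by push_cast at hab; omega) _ _ _ (fun i => inferInstance)
        (fun i => inferInstance)
    have hY : ∀ i, ∃ Y : 𝒜, Nonempty ((TStructure.t.truncGE b).obj (M i) ≅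
        (singleFunctor 𝒜 b).obj Y) :=
      fun i => exists_iso_singleFunctor_obj_of_isGE_of_isLE _ b
    choose Y eY using hY
    have FC : FS (coproductIsCoproduct (fun i => (TStructure.t.truncGE b).obj (M i)))
        ((singleFunctor 𝒜 0).obj Zo) :=
      FS_of_iso (isColimitMapSingle b (coproductIsCoproduct Y)) _ (fun i => (eY i).some.symm) _
        (FS_single Zo hZ b (coproductIsCoproduct Y))
    exact FS_ext _ hc _ (fun i => (TStructure.t.truncLTι b).app (M i))
      (fun i => (TStructure.t.truncGEπ b).app (M i))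
      (fun i => (TStructure.t.truncGEδLT b).app (M i))
      (fun i => TStructure.t.triangleLTGE_distinguished b (M i)) _ FA FC

include hZ in
/-- every map from `Zo[0]` to a coproduct of uniformly bounded below objects has finite
support -/
theorem FS_of_isGE (a : ℤ) (M : I → DerivedCategory 𝒜) {c : Cofan M} (hc : IsColimit c)
    (hGE : ∀ i, (M i).IsGE a) : FS hc ((singleFunctor 𝒜 0).obj Zo) := by
  have := hasCoproductsOfShape' 𝒜 I
  have FA : FS (coproductIsCoproduct (fun i => (TStructure.t.truncLT 1).obj (M i)))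
      ((singleFunctor 𝒜 0).obj Zo) :=
    FS_bounded Zo hZ (1 - a).toNat a 0 (by omega) _ _ _ (fun i => inferInstance)
      (fun i => TStructure.t.isLE_truncLT_obj (M i) 1 0)
  have FC : FS (coproductIsCoproduct (fun i => (TStructure.t.truncGE 1).obj (M i)))
      ((singleFunctor 𝒜 0).obj Zo) := by
    intro φ
    have h1 := isGE_pt (coproductIsCoproduct (fun i => (TStructure.t.truncGE 1).obj (M i))) 1
      (fun i => inferInstance)
    have : φ = 0 := by
      have h0 : ∀ φ' : (singleFunctor 𝒜 0).obj Zo ⟶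
          (Cofan.mk (∐ fun i => (TStructure.t.truncGE 1).obj (M i))
            (Sigma.ι fun i => (TStructure.t.truncGE 1).obj (M i))).pt, φ' = 0 :=
        fun φ' => TStructure.t.zero φ' 0 1 (by omega)
      exact h0 φ
    exact ⟨∅, by rw [this, zero_comp]⟩
  exact FS_ext _ hc _ (fun i => (TStructure.t.truncLTι 1).app (M i))
    (fun i => (TStructure.t.truncGEπ 1).app (M i))
    (fun i => (TStructure.t.truncGEδLT 1).app (M i))
    (fun i => TStructure.t.triangleLTGE_distinguished 1 (M i)) _ FA FC

omit [HasColimitsOfShape (Discrete I) 𝒜] [HasExactColimitsOfShape (Discrete I) 𝒜] in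
theorem bijective_of_isGE {I : Type w} [HasColimitsOfShape (Discrete I) 𝒜]
    [HasExactColimitsOfShape (Discrete I) 𝒜] (hZ : ExtSumGen Zo I) (a : ℤ)
    (M : I → DerivedCategory 𝒜) [HasCoproduct M] (hGE : ∀ i, (M i).IsGE a) :
    Function.Bijective (CohDer.homSumToHomCoprod ((singleFunctor 𝒜 0).obj Zo) M) :=
  bijective_of_FS M _ (FS_of_isGE Zo hZ a M (coproductIsCoproduct M) hGE)

end Groth.Agent.Lib.Helper68.CompactFS
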