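import Mathlib
import Groth.Agent.Lib.Helper36.HomCxKFlat.Bidual

set_option autoImplicit false
universe u
open CategoryTheory CategoryTheory.Limits HomologicalComplex CochainComplex
open HomComplex

namespace Groth.Agent.Lib.Helper68.Bidu

open Groth.Agent.Lib.Helper36.HCA Groth.Agent.Lib.Helper36.BD

variable {A : Type u} [CommRing A]

/-- termwise iso in degrees `≥ t` gives termwise iso of `Hom•(-, I)` in degrees `≤ a - t` when
`I` vanishes below `a` -/
lemma isIso_homCxPre_f_of_ge {K K' I : DRing.Cx A} (φ : K ⟶ K') (a t : ℤ)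
    (hI : ∀ q, q < a → IsZero (I.X q)) (hφ : ∀ p, t ≤ p → IsIso (φ.f p)) (j : ℤ)
    (hj : j ≤ a - t) : IsIso ((homCxPre φ I).f j) := by
  rw [ConcreteCategory.isIso_iff_bijective]
  constructor
  · intro (z : Cochain K' I j) (z' : Cochain K' I j) h
    have h' : (Cochain.ofHom φ).comp z (zero_add j) = (Cochain.ofHom φ).comp z' (zero_add j) := h
    refine Cochain.ext z z' (fun p q hpq => ?_)
    by_cases hp : t ≤ p
    · have := hφ p hp
      have h2 := congrArg (fun c => c.v p q hpq) h'
      simp only [Cochain.zero_cochain_comp_v, Cochain.ofHom_v] at h2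
      exact (cancel_epi (φ.f p)).1 h2
    · exact (hI q (by omega)).eq_of_tgt _ _
  · intro (w : Cochain K I j)
    refine ⟨Cochain.mk (fun p q hpq => if hp : t ≤ p then
      (have := hφ p hp; inv (φ.f p)) ≫ w.v p q hpq else 0), ?_⟩
    change (Cochain.ofHom φ).comp _ (zero_add j) = w
    refine Cochain.ext _ w (fun p q hpq => ?_)
    by_cases hp : t ≤ p
    · have := hφ p hp
      simp [Cochain.zero_cochain_comp_v, Cochain.ofHom_v, hp]
    · exact (hI q (by omega)).eq_of_tgt _ _

/-- termwise iso in degrees `≤ t` gives termwise iso of `Hom•(-, I)` in degrees `≥ b - t` when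
`I` vanishes above `b` -/
lemma isIso_homCxPre_f_of_le {K K' I : DRing.Cx A} (φ : K ⟶ K') (b t : ℤ)
    (hI : ∀ q, b < q → IsZero (I.X q)) (hφ : ∀ p, p ≤ t → IsIso (φ.f p)) (j : ℤ)
    (hj : b - t ≤ j) : IsIso ((homCxPre φ I).f j) := by
  rw [ConcreteCategory.isIso_iff_bijective]
  constructor
  · intro (z : Cochain K' I j) (z' : Cochain K' I j) h
    have h' : (Cochain.ofHom φ).comp z (zero_add j) = (Cochain.ofHom φ).comp z' (zero_add j) := h
    refine Cochain.ext z z' (fun p q hpq => ?_)
    by_cases hp : p ≤ t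
    · have := hφ p hp
      have h2 := congrArg (fun c => c.v p q hpq) h'
      simp only [Cochain.zero_cochain_comp_v, Cochain.ofHom_v] at h2
      exact (cancel_epi (φ.f p)).1 h2
    · exact (hI q (by omega)).eq_of_tgt _ _
  · intro (w : Cochain K I j)
    refine ⟨Cochain.mk (fun p q hpq => if hp : p ≤ t then
      (have := hφ p hp; inv (φ.f p)) ≫ w.v p q hpq else 0), ?_⟩
    change (Cochain.ofHom φ).comp _ (zero_add j) = w
    refine Cochain.ext _ w (fun p q hpq => ?_)
    by_cases hp : p ≤ t
    · have := hφ p hp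
      simp [Cochain.zero_cochain_comp_v, Cochain.ofHom_v, hp]
    · exact (hI q (by omega)).eq_of_tgt _ _

/-- a chain map which is an isomorphism in degrees `n-1, n, n+1` is an isomorphism on `H^n` -/
lemma isIso_homologyMap_of_isIso_f {C : Type*} [Category C] [Abelian C]
    {K L : CochainComplex C ℤ} (φ : K ⟶ L) (j : ℤ)
    (h₁ : IsIso (φ.f (j - 1))) (h₂ : IsIso (φ.f j)) (h₃ : IsIso (φ.f (j + 1))) :
    IsIso (HomologicalComplex.homologyMap φ j) := by
  have e₁ : IsIso (φ.f ((ComplexShape.up ℤ).prev j)) := by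
    rw [CochainComplex.prev]; exact h₁
  have e₃ : IsIso (φ.f ((ComplexShape.up ℤ).next j)) := by
    rw [CochainComplex.next]; exact h₃
  have t₁ : Epi ((HomologicalComplex.shortComplexFunctor C (ComplexShape.up ℤ) j).map φ).τ₁ := by
    change Epi (φ.f ((ComplexShape.up ℤ).prev j)); infer_instance
  have t₂ : IsIso ((HomologicalComplex.shortComplexFunctor C (ComplexShape.up ℤ) j).map φ).τ₂ := by
    change IsIso (φ.f j); infer_instance
  have t₃ : Mono ((HomologicalComplex.shortComplexFunctor C (ComplexShape.up ℤ) j).map φ).τ₃ := by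
    change Mono (φ.f ((ComplexShape.up ℤ).next j)); infer_instance
  exact ShortComplex.isIso_homologyMap_of_epi_of_isIso_of_mono' _ t₁ t₂ t₃

end Groth.Agent.Lib.Helper68.Bidu
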