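import Mathlib
import Groth.Agent.Lib.Helper32.TenLowDeg
import Groth.Agent.Lib.Helper12.HomFinite
import Groth.Agent.Lib.Helper36.KProjHtpy

set_option autoImplicit false
universe u
open CategoryTheory CategoryTheory.Limits HomologicalComplex CochainComplex

attribute [local instance] HasDerivedCategory.standard

namespace Groth.Agent.Lib.Helper68.Bidu

open Groth.Agent.Lib.Helper12 DRing

variable {A : Type u} [CommRing A]

section SubCx

variable (K : DRing.Cx A) (S : ∀ p : ℤ, Submodule A (K.X p))
  (hS : ∀ (p q : ℤ) (x : K.X p), x ∈ S p → (K.d p q).hom x ∈ S q)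

/-- the subcomplex given by a family of submodules stable under the differential -/
noncomputable def subCx : DRing.Cx A where
  X p := ModuleCat.of A (S p)
  d p q := ModuleCat.ofHom ((K.d p q).hom.restrict (hS p q))
  shape p q h := by
    ext x
    simp [K.shape p q h]
  d_comp_d' p q r _ _ := by
    ext x
    simp only [ModuleCat.hom_comp, ModuleCat.hom_ofHom, LinearMap.coe_comp, Function.comp_apply,
      LinearMap.coe_restrict_apply, ModuleCat.hom_zero, LinearMap.zero_apply,
      ZeroMemClass.coe_zero]
    have := K.d_comp_d p q r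
    exact congr($this (x : K.X p))

/-- the inclusion of a subcomplex -/
noncomputable def subCxι : subCx K S hS ⟶ K where
  f p := ModuleCat.ofHom (S p).subtype
  comm' p q _ := by
    ext x
    rfl

lemma subCxι_f_apply (p : ℤ) (x : S p) : ((subCxι K S hS).f p).hom x = (x : K.X p) := rfl

lemma subCxι_d_apply (p q : ℤ) (x : (subCx K S hS).X p) :
    ((subCxι K S hS).f q).hom (((subCx K S hS).d p q).hom x) =
      (K.d p q).hom (((subCxι K S hS).f p).hom x) := rfl

lemma subCxι_f_injective (p : ℤ) : Function.Injective ((subCxι K S hS).f p).hom :=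
  Subtype.val_injective

lemma exists_subCxι_f_eq (p : ℤ) (x : K.X p) (hx : x ∈ S p) :
    ∃ y : (subCx K S hS).X p, ((subCxι K S hS).f p).hom y = x :=
  ⟨⟨x, hx⟩, rfl⟩

lemma subCxι_f_mem (p : ℤ) (y : (subCx K S hS).X p) : ((subCxι K S hS).f p).hom y ∈ S p :=
  Subtype.property (p := fun z => z ∈ S p) y

lemma isIso_subCxι_f (p : ℤ) (h : S p = ⊤) : IsIso ((subCxι K S hS).f p) := by
  rw [ConcreteCategory.isIso_iff_bijective]
  constructor
  · exact Subtype.val_injective
  · intro x
    exact ⟨⟨x, h ▸ Submodule.mem_top⟩, rfl⟩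

lemma isZero_subCx_X (p : ℤ) (h : S p = ⊥) : IsZero ((subCx K S hS).X p) := by
  have : Subsingleton (S p) := by
    rw [h]
    infer_instance
  exact @ModuleCat.isZero_of_subsingleton _ _ (ModuleCat.of A (S p)) this

end SubCx

/-- way-out data for a degreewise property of complexes -/
structure WayOut (Pn : DRing.Cx A → ℤ → Prop) (c₁ c₂ : ℤ) : Prop where
  qis : ∀ {K K' : DRing.Cx A} (φ : K ⟶ K'), QuasiIso φ → ∀ n : ℤ, (Pn K n ↔ Pn K' n)
  ge : ∀ {K K' : DRing.Cx A} (φ : K ⟶ K') (t : ℤ), (∀ p : ℤ, t ≤ p → IsIso (φ.f p)) →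
    ∀ n : ℤ, t + c₁ ≤ n → (Pn K n ↔ Pn K' n)
  le : ∀ {K K' : DRing.Cx A} (φ : K ⟶ K') (t : ℤ), (∀ p : ℤ, p ≤ t → IsIso (φ.f p)) →
    ∀ n : ℤ, n ≤ t - c₂ → (Pn K n ↔ Pn K' n)
  perf : ∀ (P : DRing.Cx A) (a b : ℤ), DRing.VanishesOutside P a b →
    DRing.TermwiseFiniteProjective P → ∀ n : ℤ, Pn P n

namespace WayOut

variable {Pn : DRing.Cx A → ℤ → Prop} {c₁ c₂ : ℤ} (h : WayOut Pn c₁ c₂)
include h

/-- bounded above complexes of finite free modules -/
lemma of_free (F : DRing.Cx A) (bF : ℤ) (hF : DRing.VanishesAbove F bF)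
    (hff : DRing.TermwiseFiniteFree F) (n : ℤ) : Pn F n := by
  set t : ℤ := n - c₁ with ht
  let S : ∀ p : ℤ, Submodule A (F.X p) := fun p => if t ≤ p then ⊤ else ⊥
  have hS : ∀ (p q : ℤ) (x : F.X p), x ∈ S p → (F.d p q).hom x ∈ S q := by
    intro p q x hx
    by_cases hq : t ≤ q
    · simp only [S, if_pos hq, Submodule.mem_top]
    · by_cases hp : t ≤ p
      · rw [F.shape p q (by simp only [ComplexShape.up_Rel]; omega)]
        exact Submodule.zero_mem _
      · simp only [S, if_neg hp, Submodule.mem_bot] at hx
        rw [hx, map_zero]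
        exact Submodule.zero_mem _
  have hiso : ∀ p : ℤ, t ≤ p → IsIso ((subCxι F S hS).f p) := fun p hp =>
    isIso_subCxι_f F S hS p (by simp only [S, if_pos hp])
  have hvan : DRing.VanishesOutside (subCx F S hS) t bF := by
    intro p hp
    rcases hp with hp | hp
    · exact isZero_subCx_X F S hS p (by simp only [S, if_neg (not_le.2 hp)])
    · have h1 : Subsingleton (F.X p) := ModuleCat.subsingleton_of_isZero (hF p hp)
      have h2 : Subsingleton (S p) := inferInstance
      exact @ModuleCat.isZero_of_subsingleton _ _ (ModuleCat.of A (S p)) h2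
  have hfp : DRing.TermwiseFiniteProjective (subCx F S hS) := by
    intro p
    by_cases hp : t ≤ p
    · have := hiso p hp
      let e := (asIso ((subCxι F S hS).f p)).toLinearEquiv
      have := (hff p).1
      have := (hff p).2
      exact ⟨Module.Finite.equiv e.symm, Module.Projective.of_equiv e.symm⟩
    · have : Subsingleton ((subCx F S hS).X p) :=
        ModuleCat.subsingleton_of_isZero (isZero_subCx_X F S hS p (by simp only [S, if_neg hp]))
      exact ⟨inferInstance, inferInstance⟩
  exact (h.ge (subCxι F S hS) t hiso n (by omega)).1 (h.perf _ t bF hvan hfp n)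

/-- invariance under isomorphisms in the derived category -/
lemma of_Diso {K K' : DRing.Cx A} (e : toD K ≅ toD K') (n : ℤ) : Pn K n ↔ Pn K' n := by
  obtain ⟨P, f, hf, hP, -⟩ := Groth.Agent.Lib.Helper36.KP.exists_resolution K
  have := hP
  obtain ⟨g, hg⟩ := exists_map_of_isKProjective P K' (DerivedCategory.Q.map f ≫ e.hom)
  have hg' : QuasiIso g := by
    rw [← DerivedCategory.isIso_Q_map_iff_quasiIso, hg]
    have : IsIso (DerivedCategory.Q.map f) :=
      (DerivedCategory.isIso_Q_map_iff_quasiIso _ f).2 hf
    infer_instance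
  exact (h.qis f hf n).symm.trans (h.qis g hg' n)

/-- complexes with bounded above finite cohomology -/
lemma of_boundedAbove [IsNoetherianRing A] (T : DRing.Cx A) (m : ℤ)
    (hT : ∀ i : ℤ, m < i → IsZero (T.homology i))
    (hfin : ∀ i : ℤ, Module.Finite A (T.homology i)) (n : ℤ) : Pn T n := by
  have hpc : IsPseudoCoherent' A (toD T) :=
    HomFinite.isPseudoCoherent'_of_finite_HF (toD T) m
      (fun i hi => (hT i hi).of_iso (HFQIso i T))
      (fun i => by
        have := hfin i
        exact Module.Finite.equiv (HFQIso i T).symm.toLinearEquiv)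
  obtain ⟨F, bF, hF, hff, ⟨e⟩⟩ := hpc
  exact (h.of_Diso e n).1 (h.of_free F bF hF hff n)

/-- the way-out lemma: complexes with finite cohomology -/
theorem main [IsNoetherianRing A] (K : DRing.Cx A)
    (hK : ∀ i : ℤ, Module.Finite A (K.homology i)) (n : ℤ) : Pn K n := by
  set m : ℤ := n + c₂ + 1 with hm
  let S : ∀ p : ℤ, Submodule A (K.X p) := fun p =>
    if p < m then ⊤ else if p = m then LinearMap.ker (K.d p (p + 1)).hom else ⊥
  have hS : ∀ (p q : ℤ) (x : K.X p), x ∈ S p → (K.d p q).hom x ∈ S q := by
    intro p q x hx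
    by_cases hpq : p + 1 = q
    · subst hpq
      by_cases hq : p + 1 < m
      · simp only [S, if_pos hq, Submodule.mem_top]
      · by_cases hq' : p + 1 = m
        · simp only [S, if_neg hq, if_pos hq', LinearMap.mem_ker]
          have := K.d_comp_d p (p + 1) (p + 1 + 1)
          exact congr($this x)
        · have hp : ¬ p < m := by omega
          simp only [S, if_neg hp] at hx
          by_cases hp' : p = m
          · simp only [if_pos hp', LinearMap.mem_ker] at hx
            rw [hx]
            exact Submodule.zero_mem _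
          · simp only [if_neg hp', Submodule.mem_bot] at hx
            rw [hx, map_zero]
            exact Submodule.zero_mem _
    · rw [K.shape p q hpq]
      exact Submodule.zero_mem _
  have hiso : ∀ p : ℤ, p ≤ m - 1 → IsIso ((subCxι K S hS).f p) := fun p hp =>
    isIso_subCxι_f K S hS p (by simp only [S, if_pos (show p < m by omega)])
  have hq : ∀ j : ℤ, j ≤ m → IsIso (HomologicalComplex.homologyMap (subCxι K S hS) j) := by
    intro j hj
    refine Groth.Agent.Lib.Helper32.TenLowDeg.isIso_homologyMap_of_chase (subCxι K S hS)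
      (j - 1) j (j + 1) (by simp) (by simp) ?_ ?_
    · intro z' hz'
      have hmem : z' ∈ S j := by
        by_cases hj' : j < m
        · simp only [S, if_pos hj', Submodule.mem_top]
        · have : j = m := by omega
          simp only [S, if_neg hj', if_pos this, LinearMap.mem_ker]
          exact hz'
      obtain ⟨z, hz⟩ := exists_subCxι_f_eq K S hS j z' hmem
      refine ⟨z, ?_, 0, ?_⟩
      · apply subCxι_f_injective K S hS (j + 1)
        rw [subCxι_d_apply, hz, hz', map_zero]
      · rw [hz, sub_self, map_zero]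
    · intro z hz ⟨w', hw'⟩
      obtain ⟨w, hw⟩ := exists_subCxι_f_eq K S hS (j - 1) w'
        (by simp only [S, if_pos (show j - 1 < m by omega), Submodule.mem_top])
      refine ⟨w, ?_⟩
      apply subCxι_f_injective K S hS j
      rw [subCxι_d_apply, hw, hw']
  have hfinT : ∀ i : ℤ, Module.Finite A ((subCx K S hS).homology i) := by
    intro i
    by_cases hi : i ≤ m
    · have := hq i hi
      have := hK i
      exact Module.Finite.equiv
        (asIso (HomologicalComplex.homologyMap (subCxι K S hS) i)).symm.toLinearEquiv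
    · have h0 : IsZero ((subCx K S hS).X i) :=
        isZero_subCx_X K S hS i (by
          simp only [S, if_neg (show ¬ i < m by omega), if_neg (show ¬ i = m by omega)])
      have : Subsingleton ((subCx K S hS).homology i) :=
        ModuleCat.subsingleton_of_isZero
          ((HomologicalComplex.ExactAt.of_isZero h0).isZero_homology)
      infer_instance
  have hzeroT : ∀ i : ℤ, m < i → IsZero ((subCx K S hS).homology i) := by
    intro i hi
    have h0 : IsZero ((subCx K S hS).X i) :=
      isZero_subCx_X K S hS i (by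
        simp only [S, if_neg (show ¬ i < m by omega), if_neg (show ¬ i = m by omega)])
    exact (HomologicalComplex.ExactAt.of_isZero h0).isZero_homology
  exact (h.le (subCxι K S hS) (m - 1) hiso n (by omega)).1
    (h.of_boundedAbove _ m hzeroT hfinT n)

end WayOut

end Groth.Agent.Lib.Helper68.Bidu
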