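import Mathlib
import Groth.Agent.Lib.Helper68.BiduTermwise
import Groth.Agent.Lib.Helper68.BiduWayOut
import Groth.Agent.Lib.Helper36.HomCxKFlat.RHomRep

set_option autoImplicit false
universe u
open CategoryTheory CategoryTheory.Limits HomologicalComplex CochainComplex
open HomComplex

attribute [local instance] HasDerivedCategory.standard

namespace Groth.Agent.Lib.Helper68.Bidu

open Groth.Agent.Lib.Helper36.HCA Groth.Agent.Lib.Helper36.BD Groth.Agent.Lib.Helper36.PInd
open Groth.Agent.Lib.Helper36.RHR Groth.Agent.Lib.Helper36.HKF Groth.Agent.Lib.Helper36.HKI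

variable {A : Type u} [CommRing A]

lemma isNoetherian_of_exact (S : ShortComplex (ModuleCat.{u} A)) (hS : S.Exact)
    (h1 : IsNoetherian A S.X₁) (h3 : IsNoetherian A S.X₃) : IsNoetherian A S.X₂ :=
  isNoetherian_of_range_eq_ker S.f.hom S.g.hom
    ((ShortComplex.moduleCat_exact_iff_range_eq_ker S).1 hS)

/-- all cohomology modules of `Hom•(P, I)` are Noetherian -/
def FinH (I P : DRing.Cx A) : Prop := ∀ i : ℤ, IsNoetherian A ((DRing.homCx P I).homology i)

theorem dev_finH [IsNoetherianRing A] (I : DRing.Cx A)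
    (hI : ∀ i : ℤ, Module.Finite A (I.homology i)) : Dev (FinH I) where
  retract {P F} i r h hF j := by
    have := hF j
    have h1 : HomologicalComplex.homologyMap (homCxPre r I) j ≫
        HomologicalComplex.homologyMap (homCxPre i I) j = 𝟙 _ := by
      rw [← HomologicalComplex.homologyMap_comp, ← homCxPre_comp, h, homCxPre_id,
        HomologicalComplex.homologyMap_id]
    have h2 : Function.Surjective (HomologicalComplex.homologyMap (homCxPre i I) j).hom := by
      intro x
      exact ⟨(HomologicalComplex.homologyMap (homCxPre r I) j).hom x, congr($h1 x)⟩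
    exact isNoetherian_of_surjective (HomologicalComplex.homologyMap (homCxPre i I) j).hom
      (LinearMap.range_eq_top.2 h2)
  split₂ S σ h1 h3 j :=
    isNoetherian_of_exact _ ((shortExact_homCxPre S σ I).homology_exact₂ j) (h3 j) (h1 j)
  split₃ S σ h1 h2 j :=
    isNoetherian_of_exact _ ((shortExact_homCxPre S σ I).homology_exact₁ (j - 1) j (by simp))
      (h1 (j - 1)) (h2 j)
  split₁ S σ h2 h3 j :=
    isNoetherian_of_exact _ ((shortExact_homCxPre S σ I).homology_exact₃ j (j + 1) (by simp))
      (h2 j) (h3 (j + 1))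
  contr C h j := by
    have h1 := (homotopyIdHomCx I h).homologyMap_eq j
    rw [HomologicalComplex.homologyMap_id, HomologicalComplex.homologyMap_zero] at h1
    have h2 : IsZero ((DRing.homCx C I).homology j) := (IsZero.iff_id_eq_zero _).2 h1
    have : Subsingleton ((DRing.homCx C I).homology j) := ModuleCat.subsingleton_of_isZero h2
    infer_instance
  unit j := by
    have := hI j
    have h0 : IsNoetherian A (I.homology j) := isNoetherian_of_isNoetherianRing_of_finite A _
    have h1 : IsIso (HomologicalComplex.homologyMap (homCxUnitIso I).hom j) :=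
      inferInstanceAs (IsIso ((HomologicalComplex.homologyFunctor _ _ j).map (homCxUnitIso I).hom))
    let e := (asIso (HomologicalComplex.homologyMap (homCxUnitIso I).hom j)).toLinearEquiv
    exact isNoetherian_of_linearEquiv e.symm

/-- degree-`n` finiteness, reindexed -/
def FinAt (I K : DRing.Cx A) (n : ℤ) : Prop :=
  IsNoetherian A ((DRing.homCx K I).homology (-n))

lemma finAt_iff_of_isIso (I : DRing.Cx A) {K K' : DRing.Cx A} (φ : K ⟶ K') (n : ℤ)
    (h : IsIso (HomologicalComplex.homologyMap (homCxPre φ I) (-n))) :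
    FinAt I K n ↔ FinAt I K' n := by
  let e := (asIso (HomologicalComplex.homologyMap (homCxPre φ I) (-n))).toLinearEquiv
  exact ⟨fun (h : IsNoetherian A _) => isNoetherian_of_linearEquiv e.symm,
    fun (h : IsNoetherian A _) => isNoetherian_of_linearEquiv e⟩

theorem wayOut_fin [IsNoetherianRing A] (I : DRing.Cx A) [I.IsKInjective] (a b : ℤ)
    (hI : DRing.VanishesOutside I a b) (hfin : ∀ i : ℤ, Module.Finite A (I.homology i)) :
    WayOut (FinAt I) (1 - a) (b + 1) where
  qis φ hφ n := by
    have := hφ
    have h1 : QuasiIso (homCxPre φ I) := quasiIso_homCxPre φ I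
    exact finAt_iff_of_isIso I φ n
      ((quasiIsoAt_iff_isIso_homologyMap (homCxPre φ I) (-n)).1 inferInstance)
  ge φ t hφ n hn := by
    have h1 : ∀ j : ℤ, j ≤ a - t → IsIso ((homCxPre φ I).f j) := fun j hj =>
      isIso_homCxPre_f_of_ge φ a t (fun q hq => hI q (Or.inl hq)) hφ j hj
    exact finAt_iff_of_isIso I φ n
      (isIso_homologyMap_of_isIso_f _ (-n) (h1 _ (by omega)) (h1 _ (by omega)) (h1 _ (by omega)))
  le φ t hφ n hn := by
    have h1 : ∀ j : ℤ, b - t ≤ j → IsIso ((homCxPre φ I).f j) := fun j hj =>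
      isIso_homCxPre_f_of_le φ b t (fun q hq => hI q (Or.inr hq)) hφ j hj
    exact finAt_iff_of_isIso I φ n
      (isIso_homologyMap_of_isIso_f _ (-n) (h1 _ (by omega)) (h1 _ (by omega)) (h1 _ (by omega)))
  perf P a' b' hP hfp n := (dev_finH I hfin).of_strictlyPerfect P a' b' hP hfp (-n)

/-- finiteness of the cohomology of `Hom•(K, I)` -/
theorem finite_homology_homCx [IsNoetherianRing A] (I : DRing.Cx A) [I.IsKInjective] (a b : ℤ)
    (hI : DRing.VanishesOutside I a b) (hfin : ∀ i : ℤ, Module.Finite A (I.homology i))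
    (K : DRing.Cx A) (hK : ∀ i : ℤ, Module.Finite A (K.homology i)) (i : ℤ) :
    Module.Finite A ((DRing.homCx K I).homology i) := by
  obtain ⟨j, rfl⟩ : ∃ j, i = -j := ⟨-i, (neg_neg i).symm⟩
  have h : IsNoetherian A ((DRing.homCx K I).homology (-j)) :=
    (wayOut_fin I a b hI hfin).main K hK j
  exact Module.IsNoetherian.finite A _

end Groth.Agent.Lib.Helper68.Bidu
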