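import Mathlib

set_option autoImplicit false
universe u
open TensorProduct

namespace Groth.Agent.Lib.Helper68.HomInjFlat

variable {A : Type u} [CommRing A]

/-- injectivity transfers along linear equivalences -/
lemma injective_of_linearEquiv {M N : Type u} [AddCommGroup M] [Module A M] [AddCommGroup N]
    [Module A N] (e : M ≃ₗ[A] N) [Module.Injective A M] : Module.Injective A N where
  out X Y _ _ _ _ f hf g := by
    obtain ⟨h, hh⟩ := Module.Injective.extension_property A M X Y f hf (e.symm.toLinearMap ∘ₗ g)
    refine ⟨e.toLinearMap ∘ₗ h, fun x => ?_⟩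
    have := LinearMap.congr_fun hh x
    simp only [LinearMap.coe_comp, Function.comp_apply, LinearEquiv.coe_coe] at this ⊢
    rw [this, LinearEquiv.apply_symm_apply]

/-- `Hom(P, I)` is injective for `P` flat and `I` injective -/
theorem injective_linearMap_of_flat (P I : Type u) [AddCommGroup P] [Module A P]
    [AddCommGroup I] [Module A I] [Module.Flat A P] [Module.Injective A I] :
    Module.Injective A (P →ₗ[A] I) where
  out X Y _ _ _ _ f hf g := by
    have hf' : Function.Injective (f.rTensor P) :=
      Module.Flat.rTensor_preserves_injective_linearMap f hf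
    obtain ⟨h, hh⟩ := Module.Injective.extension_property A I (X ⊗[A] P) (Y ⊗[A] P)
      (f.rTensor P) hf' (TensorProduct.lift g)
    refine ⟨TensorProduct.curry h, fun x => ?_⟩
    ext p
    have := LinearMap.congr_fun hh (x ⊗ₜ p)
    simpa using this

/-- `Hom(E, E')` is flat for `E`, `E'` injective over a Noetherian ring -/
theorem flat_linearMap_of_injective [IsNoetherianRing A] (E E' : Type u) [AddCommGroup E]
    [Module A E] [AddCommGroup E'] [Module A E'] [Module.Injective A E]
    [Module.Injective A E'] : Module.Flat A (E →ₗ[A] E') := by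
  rw [Module.Flat.iff_forall_isTrivialRelation]
  intro l f x hfx
  let a : (Fin l → A) →ₗ[A] A := ∑ i, f i • (LinearMap.proj i : (Fin l → A) →ₗ[A] A)
  have ha : ∀ c, a c = ∑ i, f i * c i := fun c => by
    simp [a, LinearMap.sum_apply]
  obtain ⟨k, b, hb⟩ := (Submodule.fg_iff_exists_fin_generating_family).1
    (IsNoetherian.noetherian (LinearMap.ker a))
  have hbK : ∀ j, b j ∈ LinearMap.ker a := fun j =>
    hb ▸ Submodule.subset_span (Set.mem_range_self j)
  let β : (Fin l → E) →ₗ[A] (Fin k → E) :=
    LinearMap.pi (fun j => ∑ i, b j i • (LinearMap.proj i : (Fin l → E) →ₗ[A] E))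
  have hβ : ∀ v j, β v j = ∑ i, b j i • v i := fun v j => by
    simp [β, LinearMap.sum_apply]
  let lam : (Fin l → E) →ₗ[A] E' := ∑ i, (x i) ∘ₗ (LinearMap.proj i : (Fin l → E) →ₗ[A] E)
  have hlam : ∀ v, lam v = ∑ i, x i (v i) := fun v => by
    simp [lam, LinearMap.sum_apply]
  have hker : LinearMap.ker β ≤ LinearMap.ker lam := by
    intro v hv
    rw [LinearMap.mem_ker] at hv ⊢
    have hv' : ∀ j, ∑ i, b j i • v i = 0 := fun j => by
      rw [← hβ, hv]
      rfl
    -- find `e` with `v i = f i • e`
    let g₀ : (Fin l → A) →ₗ[A] E :=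
      ∑ i, (LinearMap.toSpanSingleton A E (v i)) ∘ₗ (LinearMap.proj i : (Fin l → A) →ₗ[A] A)
    have hg₀ : ∀ c, g₀ c = ∑ i, c i • v i := fun c => by
      simp [g₀, LinearMap.sum_apply]
    have hK : LinearMap.ker a ≤ LinearMap.ker g₀ := by
      rw [← hb, Submodule.span_le]
      rintro _ ⟨j, rfl⟩
      change b j ∈ LinearMap.ker g₀
      rw [LinearMap.mem_ker, hg₀]
      exact hv' j
    have hinj : Function.Injective ((LinearMap.ker a).liftQ a le_rfl) := by
      rw [← LinearMap.ker_eq_bot]
      exact Submodule.ker_liftQ_eq_bot _ _ _ le_rfl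
    obtain ⟨h, hh⟩ := Module.Injective.extension_property A E _ _
      ((LinearMap.ker a).liftQ a le_rfl) hinj ((LinearMap.ker a).liftQ g₀ hK)
    have hvi : ∀ i, v i = f i • h 1 := by
      intro i
      have h1 := LinearMap.congr_fun hh (Submodule.Quotient.mk (Pi.single i 1))
      simp only [LinearMap.coe_comp, Function.comp_apply, Submodule.liftQ_apply] at h1
      rw [ha, hg₀] at h1
      simp only [Pi.single_apply, mul_ite, mul_one, mul_zero, Finset.sum_ite_eq',
        Finset.mem_univ, if_true, ite_smul, one_smul, zero_smul] at h1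
      rw [← h1, ← map_smul, smul_eq_mul, mul_one]
    rw [hlam]
    have : ∑ i, x i (v i) = (∑ i, f i • x i) (h 1) := by
      rw [LinearMap.sum_apply]
      refine Finset.sum_congr rfl (fun i _ => ?_)
      rw [hvi i, map_smul, LinearMap.smul_apply]
    rw [this, hfx, LinearMap.zero_apply]
  have hinjβ : Function.Injective ((LinearMap.ker β).liftQ β le_rfl) := by
    rw [← LinearMap.ker_eq_bot]
    exact Submodule.ker_liftQ_eq_bot _ _ _ le_rfl
  obtain ⟨μ, hμ⟩ := Module.Injective.extension_property A E' _ _
    ((LinearMap.ker β).liftQ β le_rfl) hinjβ ((LinearMap.ker β).liftQ lam hker)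
  have hμ' : ∀ v, μ (β v) = lam v := fun v => by
    have h1 := LinearMap.congr_fun hμ (Submodule.Quotient.mk v)
    simpa only [LinearMap.coe_comp, Function.comp_apply, Submodule.liftQ_apply] using h1
  refine ⟨k, fun i j => b j i, fun j => μ ∘ₗ LinearMap.single A (fun _ => E) j, ?_, ?_⟩
  · intro i
    ext e
    have h1 : lam (Pi.single i e) = x i e := by
      rw [hlam]
      rw [Finset.sum_eq_single i]
      · rw [Pi.single_eq_same]
      · intro i' _ hi'
        rw [Pi.single_eq_of_ne hi', map_zero]
      · intro hi
        exact absurd (Finset.mem_univ i) hi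
    have h2 : β (Pi.single i e) = ∑ j, Pi.single j (b j i • e) := by
      ext j
      rw [hβ, Finset.sum_apply, Finset.sum_eq_single i, Pi.single_eq_same,
        Finset.sum_eq_single j, Pi.single_eq_same]
      · intro j' _ hj'
        rw [Pi.single_eq_of_ne hj'.symm]
      · intro hj
        exact absurd (Finset.mem_univ j) hj
      · intro i' _ hi'
        rw [Pi.single_eq_of_ne hi', smul_zero]
      · intro hi
        exact absurd (Finset.mem_univ i) hi
    rw [← h1, ← hμ', h2, map_sum, LinearMap.sum_apply]
    refine Finset.sum_congr rfl (fun j _ => ?_)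
    rw [LinearMap.smul_apply, LinearMap.comp_apply, LinearMap.single_apply, ← map_smul,
      ← Pi.single_smul]
  · intro j
    have := hbK j
    rw [LinearMap.mem_ker, ha] at this
    exact this

end Groth.Agent.Lib.Helper68.HomInjFlat
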