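import Mathlib
import Groth.Prelude.Def_DRing4
import Groth.Agent.Lib.Helper68.HomInjFlat

set_option autoImplicit false
universe u
open CategoryTheory CategoryTheory.Limits HomologicalComplex CochainComplex
open HomComplex

namespace Groth.Agent.Lib.Helper68.Bidu

open Groth.Agent.Lib.Helper68.HomInjFlat

variable {A : Type u} [CommRing A]

lemma vanishesOutside_homCx (P I : DRing.Cx A) (a' b' a b : ℤ)
    (hP : DRing.VanishesOutside P a' b') (hI : DRing.VanishesOutside I a b) :
    DRing.VanishesOutside (DRing.homCx P I) (a - b') (b - a') := by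
  intro n hn
  have : Subsingleton (Cochain P I n) := by
    refine ⟨fun z z' => Cochain.ext _ _ (fun p q hpq => ?_)⟩
    by_cases hp : p < a' ∨ b' < p
    · exact (hP p hp).eq_of_src _ _
    · exact (hI q (by omega)).eq_of_tgt _ _
  exact @ModuleCat.isZero_of_subsingleton _ _ (ModuleCat.of A (Cochain P I n)) this

/-- a product of flat modules, almost all of which vanish, is flat -/
lemma flat_pi_of_finite_support {ι : Type} (M : ι → Type u) [∀ i, AddCommGroup (M i)]
    [∀ i, Module A (M i)] [∀ i, Module.Flat A (M i)] (S : Finset ι)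
    (hS : ∀ i, i ∉ S → Subsingleton (M i)) : Module.Flat A (∀ i, M i) := by
  classical
  let i₀ : (∀ i, M i) →ₗ[A] Π₀ i, M i :=
    (DFinsupp.lmk S) ∘ₗ (LinearMap.pi fun (j : (↑S : Set ι)) => LinearMap.proj j.1)
  let r₀ : (Π₀ i, M i) →ₗ[A] (∀ i, M i) := DFinsupp.coeFnLinearMap A
  refine Module.Flat.of_retract i₀ r₀ ?_
  ext z j
  change (DFinsupp.mk S (fun j => z j.1)) j = z j
  by_cases hj : j ∈ S
  · rw [DFinsupp.mk_of_mem hj]
  · rw [DFinsupp.mk_of_notMem hj]
    have := hS j hj
    exact Subsingleton.elim _ _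

lemma injective_cochain (P I : DRing.Cx A) (n : ℤ)
    (h : ∀ p q : ℤ, Module.Injective A (P.X p →ₗ[A] I.X q)) :
    Module.Injective A (Cochain P I n) := by
  have : ∀ T : HomComplex.Triplet n, Module.Injective A (P.X T.p ⟶ I.X T.q) := fun T => by
    have := h T.p T.q
    exact injective_of_linearEquiv (ModuleCat.homLinearEquiv (S := A)).symm
  exact inferInstanceAs (Module.Injective A (∀ T : HomComplex.Triplet n, P.X T.p ⟶ I.X T.q))

lemma flat_cochain (J I : DRing.Cx A) (n aJ bJ : ℤ) (hJ : DRing.VanishesOutside J aJ bJ)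
    (h : ∀ p q : ℤ, Module.Flat A (J.X p →ₗ[A] I.X q)) :
    Module.Flat A (Cochain J I n) := by
  classical
  have h1 : ∀ T : HomComplex.Triplet n, Module.Flat A (J.X T.p ⟶ I.X T.q) := fun T => by
    have := h T.p T.q
    exact Module.Flat.of_linearEquiv (ModuleCat.homLinearEquiv (S := A))
  let S : Finset (HomComplex.Triplet n) :=
    (Finset.Icc aJ bJ).image (fun p => (⟨p, p + n, rfl⟩ : HomComplex.Triplet n))
  have h2 : ∀ T : HomComplex.Triplet n, T ∉ S → Subsingleton (J.X T.p ⟶ I.X T.q) := by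
    intro T hT
    have hp : T.p < aJ ∨ bJ < T.p := by
      by_contra hcon
      apply hT
      rw [Finset.mem_image]
      refine ⟨T.p, Finset.mem_Icc.2 (by omega), ?_⟩
      obtain ⟨p, q, hpq⟩ := T
      subst hpq
      rfl
    exact ⟨fun f g => (hJ T.p hp).eq_of_src _ _⟩
  exact flat_pi_of_finite_support (A := A)
    (fun T : HomComplex.Triplet n => (J.X T.p ⟶ I.X T.q)) S h2

end Groth.Agent.Lib.Helper68.Bidu
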