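import Mathlib
import Groth.Agent.Lib.Helper68.BiduTermwise
import Groth.Agent.Lib.Helper68.BiduWayOut
import Groth.Agent.Lib.Helper36.HomCxKFlat.RHomRep

set_option autoImplicit false
universe u
open CategoryTheory CategoryTheory.Limits HomologicalComplex CochainComplex
open HomComplex

attribute [local instance] HasDerivedCategory.standard

namespace Groth.Agent.Lib.Helper68.Bidu

open Groth.Agent.Lib.Helper36.HCA Groth.Agent.Lib.Helper36.BD Groth.Agent.Lib.Helper36.PInd
open Groth.Agent.Lib.Helper36.RHR

variable {A : Type u} [CommRing A]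

/-- degree-`n` biduality -/
def TBat (I K : DRing.Cx A) (n : ℤ) : Prop :=
  IsIso (HomologicalComplex.homologyMap (eta I K) n)

lemma tb_iff_forall (I K : DRing.Cx A) : TB I K ↔ ∀ n : ℤ, TBat I K n := by
  unfold TB TBat
  rw [DerivedCategory.isIso_Q_map_iff_quasiIso, quasiIso_iff]
  simp only [quasiIsoAt_iff_isIso_homologyMap]

lemma tbat_iff_of_isIso (I : DRing.Cx A) {K K' : DRing.Cx A} (φ : K ⟶ K') (n : ℤ)
    (h1 : IsIso (HomologicalComplex.homologyMap φ n))
    (h2 : IsIso (HomologicalComplex.homologyMap (dd I φ) n)) : TBat I K n ↔ TBat I K' n := by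
  have hnat : HomologicalComplex.homologyMap (eta I K) n ≫
      HomologicalComplex.homologyMap (dd I φ) n =
      HomologicalComplex.homologyMap φ n ≫ HomologicalComplex.homologyMap (eta I K') n := by
    rw [← HomologicalComplex.homologyMap_comp, ← HomologicalComplex.homologyMap_comp,
      eta_naturality]
  constructor
  · intro (h : IsIso (HomologicalComplex.homologyMap (eta I K) n))
    have e : HomologicalComplex.homologyMap (eta I K') n =
        inv (HomologicalComplex.homologyMap φ n) ≫ HomologicalComplex.homologyMap (eta I K) n ≫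
          HomologicalComplex.homologyMap (dd I φ) n := by
      rw [hnat, IsIso.inv_hom_id_assoc]
    unfold TBat
    rw [e]
    infer_instance
  · intro (h : IsIso (HomologicalComplex.homologyMap (eta I K') n))
    have e : HomologicalComplex.homologyMap (eta I K) n =
        HomologicalComplex.homologyMap φ n ≫ HomologicalComplex.homologyMap (eta I K') n ≫
          inv (HomologicalComplex.homologyMap (dd I φ) n) := by
      rw [← Category.assoc, ← hnat, Category.assoc, IsIso.hom_inv_id, Category.comp_id]
    unfold TBat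
    rw [e]
    infer_instance

/-- the way-out structure for biduality -/
theorem wayOut_tb (I : DRing.Cx A) [I.IsKInjective] (a b : ℤ)
    (hI : DRing.VanishesOutside I a b) (hdev : Dev (TB I)) :
    WayOut (TBat I) (max (b - a) 0 + 1) (max (b - a) 0 + 1) where
  qis φ hφ n := by
    have := hφ
    have h1 : QuasiIso (homCxPre φ I) := quasiIso_homCxPre φ I
    have h2 : QuasiIso (dd I φ) := quasiIso_homCxPre (homCxPre φ I) I
    exact tbat_iff_of_isIso I φ n
      ((quasiIsoAt_iff_isIso_homologyMap φ n).1 inferInstance)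
      ((quasiIsoAt_iff_isIso_homologyMap (dd I φ) n).1 inferInstance)
  ge φ t hφ n hn := by
    have h1 : ∀ j : ℤ, j ≤ a - t → IsIso ((homCxPre φ I).f j) := fun j hj =>
      isIso_homCxPre_f_of_ge φ a t (fun q hq => hI q (Or.inl hq)) hφ j hj
    have h2 : ∀ k : ℤ, b - (a - t) ≤ k → IsIso ((dd I φ).f k) := fun k hk =>
      isIso_homCxPre_f_of_le (homCxPre φ I) b (a - t) (fun q hq => hI q (Or.inr hq)) h1 k hk
    exact tbat_iff_of_isIso I φ n
      (isIso_homologyMap_of_isIso_f φ n (hφ _ (by omega)) (hφ _ (by omega)) (hφ _ (by omega)))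
      (isIso_homologyMap_of_isIso_f (dd I φ) n (h2 _ (by omega)) (h2 _ (by omega))
        (h2 _ (by omega)))
  le φ t hφ n hn := by
    have h1 : ∀ j : ℤ, b - t ≤ j → IsIso ((homCxPre φ I).f j) := fun j hj =>
      isIso_homCxPre_f_of_le φ b t (fun q hq => hI q (Or.inr hq)) hφ j hj
    have h2 : ∀ k : ℤ, k ≤ a - (b - t) → IsIso ((dd I φ).f k) := fun k hk =>
      isIso_homCxPre_f_of_ge (homCxPre φ I) a (b - t) (fun q hq => hI q (Or.inl hq)) h1 k hk
    exact tbat_iff_of_isIso I φ n
      (isIso_homologyMap_of_isIso_f φ n (hφ _ (by omega)) (hφ _ (by omega)) (hφ _ (by omega)))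
      (isIso_homologyMap_of_isIso_f (dd I φ) n (h2 _ (by omega)) (h2 _ (by omega))
        (h2 _ (by omega)))
  perf P a' b' hP hfp n := (tb_iff_forall I P).1 (hdev.of_strictlyPerfect P a' b' hP hfp) n

/-- biduality for complexes with finite cohomology -/
theorem tb_of_finite [IsNoetherianRing A] (I : DRing.Cx A) [I.IsKInjective] (a b : ℤ)
    (hI : DRing.VanishesOutside I a b) (hdev : Dev (TB I)) (K : DRing.Cx A)
    (hK : ∀ i : ℤ, Module.Finite A (K.homology i)) : TB I K :=
  (tb_iff_forall I K).2 (fun n => (wayOut_tb I a b hI hdev).main K hK n)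

end Groth.Agent.Lib.Helper68.Bidu
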