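import Mathlib
import Groth.Agent.Lib.Helper36.HomCxKFlat.Bidual
import Groth.Agent.Lib.Helper36.KInjBasics
import Groth.Agent.Lib.Helper32.TenLowDeg

set_option autoImplicit false
universe u
open CategoryTheory CategoryTheory.Limits MonoidalCategory HomologicalComplex CochainComplex
open HomComplex

attribute [local instance] HasDerivedCategory.standard

namespace Groth.Agent.Lib.Helper68.Bidu

open Groth.Agent.Lib.Helper36.HCA Groth.Agent.Lib.Helper36.BD Groth.Agent.Lib.Helper36.HKF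
open Groth.Agent.Lib.Helper36.CxPairing Groth.Agent.Lib.Helper36.HKI

variable {A : Type u} [CommRing A]

/-- the generator of the degree zero part of the unit complex -/
noncomputable def u₀ : (U (A := A)).X 0 := (unitIso0 A).inv.hom (1 : A)

lemma exists_smul_u₀ (x : (U (A := A)).X 0) : ∃ r : A, x = r • u₀ := by
  refine ⟨(unitIso0 A).hom.hom x, ?_⟩
  have h1 : (unitIso0 A).inv.hom ((unitIso0 A).hom.hom x) = x := by
    have := (unitIso0 A).hom_inv_id
    exact congr($this x)
  have h2 : ((unitIso0 A).hom.hom x : A) = ((unitIso0 A).hom.hom x : A) • (1 : A) := by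
    rw [smul_eq_mul, mul_one]
  rw [u₀, ← map_smul, ← h2, h1]

lemma subsingleton_U_X (j : ℤ) (hj : j ≠ 0) : Subsingleton ((U (A := A)).X j) :=
  ModuleCat.subsingleton_of_isZero (isZero_unit_X j hj)

lemma eval_u₀ {P L : DRing.Cx A} (ψ : U ⟶ DRing.homCx P L) :
    ((ψ.f 0).hom u₀ : Cochain P L 0) = Cochain.ofHom ((λ_ P).inv ≫ uncurry ψ) := by
  refine Cochain.ext _ _ (fun p q hpq => ?_)
  obtain rfl : p = q := by omega
  rw [Cochain.ofHom_v, HomologicalComplex.comp_f, leftUnitor_inv_f]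
  refine ModuleCat.hom_ext (LinearMap.ext fun e => ?_)
  have h1 : compT (Cochain.ofHom (uncurry ψ)) 0 p p (by omega) =
      compH (Cochain.ofHom ψ) 0 p p (by omega) := by
    rw [ofHom_uncurry, compT_unc]
  have h2 := compT_eq (Cochain.ofHom (uncurry ψ)) 0 p p (by omega) p (zero_add p)
  rw [Cochain.ofHom_v] at h2
  have h3 := compH_tmul (Cochain.ofHom ψ) 0 p p (by omega) 0 (add_zero 0) u₀ e
  rw [Cochain.ofHom_v] at h3
  rw [← h3, ← h1, h2]
  rfl

/-- the comparison map `A[0] ⟶ Hom•(L, L)` -/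
noncomputable def psi (L : DRing.Cx A) : U ⟶ DRing.homCx L L :=
  eta L U ≫ homCxPre (homCxUnitIso L).inv L

lemma uncurry_psi (L : DRing.Cx A) :
    uncurry (psi L) = (DTen.braidCx (U (A := A)) L).hom ≫ (ρ_ L).hom := by
  rw [psi, uncurry_comp_homCxPre, eta, uncurry_curry]
  have h1 := DTen.braidCx_naturality (𝟙 (U (A := A))) (homCxUnitIso L).inv
  rw [MonoidalCategory.id_tensorHom, MonoidalCategory.tensorHom_id] at h1
  rw [← Category.assoc, h1, Category.assoc, ← uncurry_eq]
  change _ ≫ uncurry (curry (ρ_ L).hom) = _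
  rw [uncurry_curry]

/-- the chain map `L ⟶ L` corresponding to `psi L` -/
noncomputable def gmap (L : DRing.Cx A) : L ⟶ L := (λ_ L).inv ≫ uncurry (psi L)

instance (L : DRing.Cx A) : IsIso (gmap L) := by
  rw [gmap, uncurry_psi]
  infer_instance

lemma psi_u₀ (L : DRing.Cx A) : (((psi L).f 0).hom u₀ : Cochain L L 0) = Cochain.ofHom (gmap L) :=
  eval_u₀ (psi L)

lemma tb_unit_iff (L : DRing.Cx A) : TB L U ↔ QuasiIso (psi L) := by
  have h4 : IsIso (homCxPre (homCxUnitIso L).inv L) :=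
    (homCxPreIso (homCxUnitIso L).symm L).isIso_hom
  rw [TB, DerivedCategory.isIso_Q_map_iff_quasiIso, psi]
  constructor
  · intro h
    infer_instance
  · intro h
    exact quasiIso_of_comp_right (eta L U) (homCxPre (homCxUnitIso L).inv L)

open DerivedCategory in
lemma exists_cobdry (I : DRing.Cx A) [I.IsKInjective] (n : ℤ)
    (hExt : Subsingleton (DRing.toD I ⟶ (DRing.toD I)⟦n⟧)) (z : Cochain I I n)
    (hz : δ n (n + 1) z = 0) : ∃ β : Cochain I I (n - 1), δ (n - 1) n β = z := by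
  let x : Cocycle I I n := Cocycle.mk z (n + 1) rfl hz
  let f : I ⟶ I⟦n⟧ := Cocycle.equivHomShift.symm x
  have hQ : (Q.map f : (Q.obj I : Dual.D A) ⟶ _) = 0 := by
    have h1 : (Q.map f : (Q.obj I : Dual.D A) ⟶ _) ≫ (Q.commShiftIso n).hom.app I = 0 :=
      hExt.elim _ _
    rw [← cancel_mono ((Q.commShiftIso n).hom.app I), h1, zero_comp]
  have hQ' : (Q.map f : (Q.obj I : Dual.D A) ⟶ _) = Q.map 0 := by
    rw [hQ, Functor.map_zero]
  obtain ⟨H⟩ := Groth.Agent.Lib.Helper36.KIB.nonempty_homotopy_of_Q_map_eq f 0 hQ'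
  have h0 : CohomologyClass.toHom (CohomologyClass.mk x) = 0 := by
    rw [CohomologyClass.toHom_mk]
    exact (HomotopyCategory.quotient_map_eq_zero_iff _).2 ⟨H⟩
  rw [CohomologyClass.toHom_mk_eq_zero_iff, mem_coboundaries_iff x (n - 1) (by omega)] at h0
  obtain ⟨β, hβ⟩ := h0
  exact ⟨β, hβ⟩

lemma ofHom_smul' {K L : DRing.Cx A} (a : A) (g : K ⟶ L) :
    Cochain.ofHom (a • g) = a • Cochain.ofHom g := by
  refine Cochain.ext _ _ (fun p q hpq => ?_)
  obtain rfl : p = q := by omega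
  simp

lemma homCx_d_apply (K L : DRing.Cx A) (i j : ℤ) (z : Cochain K L i) :
    ((DRing.homCx K L).d i j).hom z = δ i j z := rfl

open DerivedCategory in
theorem quasiIso_psi (I : DRing.Cx A) [I.IsKInjective]
    (hEnd : Function.Bijective (fun a : A => a • 𝟙 (DRing.toD I)))
    (hExt : ∀ i : ℤ, i ≠ 0 → Subsingleton (DRing.toD I ⟶ (DRing.toD I)⟦i⟧)) :
    QuasiIso (psi I) := by
  have hg : IsIso (Q.map (gmap I) : (Q.obj I : Dual.D A) ⟶ _) := inferInstance
  rw [quasiIso_iff]
  intro n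
  rw [quasiIsoAt_iff_isIso_homologyMap]
  refine Groth.Agent.Lib.Helper32.TenLowDeg.isIso_homologyMap_of_chase (psi I)
    (n - 1) n (n + 1) (by simp) (by simp) ?_ ?_
  · intro (z' : Cochain I I n) hz'
    have hz : δ n (n + 1) z' = 0 := hz'
    by_cases hn : n = 0
    · subst hn
      let f' : I ⟶ I := Cocycle.homOf (Cocycle.mk z' 1 (zero_add 1) hz)
      have hf' : Cochain.ofHom f' = z' := Cocycle.cochain_ofHom_homOf_eq_coe _
      obtain ⟨a, ha⟩ := hEnd.2 (Q.map f' ≫ inv (Q.map (gmap I)))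
      have ha' : a • 𝟙 (DRing.toD I) = Q.map f' ≫ inv (Q.map (gmap I)) := ha
      have h1 : (Q.map (a • gmap I) : (Q.obj I : Dual.D A) ⟶ _) = Q.map f' := by
        rw [Functor.map_smul]
        have : (Q.map f' : (Q.obj I : Dual.D A) ⟶ _) =
            (Q.map f' ≫ inv (Q.map (gmap I))) ≫ Q.map (gmap I) := by
          rw [Category.assoc, IsIso.inv_hom_id, Category.comp_id]
        rw [this, ← ha', Linear.smul_comp, Category.id_comp]
      obtain ⟨H⟩ := Groth.Agent.Lib.Helper36.KIB.nonempty_homotopy_of_Q_map_eq _ _ h1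
      obtain ⟨β, hβ⟩ := Cochain.equivHomotopy _ _ H
      refine ⟨a • u₀, ?_, β, ?_⟩
      · have : Subsingleton ((U (A := A)).X (0 + 1)) := subsingleton_U_X _ (by omega)
        exact Subsingleton.elim _ _
      · rw [map_smul, psi_u₀, ← hf']
        change a • Cochain.ofHom (gmap I) - Cochain.ofHom f' = δ (-1) 0 β
        rw [← ofHom_smul', hβ, add_sub_cancel_right]
    · obtain ⟨β, hβ⟩ := exists_cobdry I n (hExt n hn) z' hz
      refine ⟨0, map_zero _, -β, ?_⟩
      rw [map_zero]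
      change (0 : Cochain I I n) - z' = δ (n - 1) n (-β)
      rw [zero_sub, δ_neg, hβ]
  · intro z hz ⟨(w' : Cochain I I (n - 1)), hw'⟩
    by_cases hn : n = 0
    · subst hn
      obtain ⟨r, rfl⟩ := exists_smul_u₀ z
      rw [map_smul, psi_u₀] at hw'
      have hw'' : Cochain.ofHom (r • gmap I) = δ (-1) 0 w' := by
        rw [ofHom_smul']
        exact hw'
      have H : Homotopy (r • gmap I) 0 :=
        (Cochain.equivHomotopy _ _).symm ⟨w', by
          rw [Cochain.ofHom_zero, add_zero, hw'']⟩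
      have h1 : (Q.map (r • gmap I) : (Q.obj I : Dual.D A) ⟶ _) = 0 := by
        rw [DerivedCategory.Q_map_eq_of_homotopy _ H, Functor.map_zero]
      rw [Functor.map_smul] at h1
      have h2 : r • 𝟙 (DRing.toD I) = (0 : A) • 𝟙 (DRing.toD I) := by
        have : r • 𝟙 (DRing.toD I) = (r • Q.map (gmap I)) ≫ inv (Q.map (gmap I)) := by
          rw [Linear.smul_comp, IsIso.hom_inv_id]
        rw [this, h1, zero_comp, zero_smul]
      have h3 : r = 0 := hEnd.1 h2
      refine ⟨0, ?_⟩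
      rw [h3, zero_smul, map_zero]
    · have : Subsingleton ((U (A := A)).X n) := subsingleton_U_X _ hn
      exact ⟨0, Subsingleton.elim _ _⟩

theorem tb_unit_of_dualizing (I : DRing.Cx A) [I.IsKInjective]
    (hEnd : Function.Bijective (fun a : A => a • 𝟙 (DRing.toD I)))
    (hExt : ∀ i : ℤ, i ≠ 0 → Subsingleton (DRing.toD I ⟶ (DRing.toD I)⟦i⟧)) : TB I U :=
  (tb_unit_iff I).2 (quasiIso_psi I hEnd hExt)

end Groth.Agent.Lib.Helper68.Bidu
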