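import Groth.Agent.Lib.Helper99.KInjRes
import Mathlib.Algebra.Homology.HomotopyCategory.MappingCone

set_option autoImplicit false
universe w v u
open CategoryTheory CategoryTheory.Limits CategoryTheory.MorphismProperty

namespace Groth.Agent.Lib.Helper68.Bousfield

open Groth.Agent.Lib.Helper99.KInj

variable {A : Type u} [Category.{v} A] [Abelian A] [IsGrothendieckAbelian.{v} A]

section SOAGeneral

variable {C : Type u} [Category.{v} C] [Abelian C] [IsGrothendieckAbelian.{v} C]

/-- A small family of monomorphisms in a Grothendieck abelian category permits the small object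
argument. -/
theorem hasSmallObjectArgument_ofHoms {κ₀ : Type w} [Small.{v} κ₀] {D B : κ₀ → C}
    (f : ∀ k, D k ⟶ B k) (hf : ∀ k, Mono (f k)) :
    HasSmallObjectArgument.{v} (ofHoms f) := by
  have hmono : ofHoms f ≤ monomorphisms C := by
    rintro _ _ _ ⟨k⟩
    exact hf k
  obtain ⟨κ, hκ', hκ⟩ := HasCardinalLT.exists_regular_cardinal.{v}
    (Σ (k : κ₀), Subobject (D k))
  have : Fact κ.IsRegular := ⟨hκ'⟩
  have : Nonempty κ.ord.ToType := by simpa using hκ'.ne_zero
  have := WellFoundedLT.toOrderBot κ.ord.ToType
  exact ⟨κ, inferInstance, inferInstance,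
    { preservesColimit {K L X Y} i hi g hg := by
        let hf' : (monomorphisms C).TransfiniteCompositionOfShape
            κ.ord.ToType g :=
          { toTransfiniteCompositionOfShape := hg.toTransfiniteCompositionOfShape
            map_mem j hj := by
              have := (hg.attachCells j hj).pushouts_coproducts
              simp only [ofHoms_homFamily] at this
              refine (?_ : _ ≤ monomorphisms C) _ this
              simp only [pushouts_le_iff, coproducts_le_iff]
              exact hmono }
        have (j j' : κ.ord.ToType) (φ : j ⟶ j') : Mono (hf'.F.map φ) := hf'.mem_map φ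
        apply IsGrothendieckAbelian.preservesColimit_coyoneda_obj_of_mono (Y := hf'.F) (κ := κ)
        obtain ⟨i₀⟩ := hi
        exact hκ.of_injective (fun S => (⟨i₀, S⟩ : Σ (k : κ₀), Subobject (D k)))
          (fun S S' hSS' => by simpa using hSS') }⟩

end SOAGeneral

end Groth.Agent.Lib.Helper68.Bousfield
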