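import Groth.Agent.Lib.Helper99.KInjRes
import Mathlib.Algebra.Homology.HomotopyCategory.MappingCone
import Mathlib.Algebra.Homology.HomotopyCategory.HomComplexShift
import Mathlib.Algebra.Homology.HomotopyCategory.KInjective

set_option autoImplicit false
universe w v u
open CategoryTheory CategoryTheory.Limits CategoryTheory.MorphismProperty
open CochainComplex HomComplex

namespace Groth.Agent.Lib.Helper68.Bousfield

open Groth.Agent.Lib.Helper99.KInj

variable {A : Type u} [Category.{v} A] [Abelian A]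

/-- extension of null-homotopies (cochain form) -/
theorem exists_cochain_ext {A' B' Y : CochainComplex A ℤ} (j : A' ⟶ B') [∀ n, Mono (j.f n)]
    (hY : ∀ n, Injective (Y.X n))
    (H : ∀ w : Cocycle B' Y 1, (Cochain.ofHom j).comp w.1 (zero_add 1) = 0 →
      ∃ γ : Cochain B' Y 0, δ 0 1 γ = w.1 ∧ (Cochain.ofHom j).comp γ (zero_add 0) = 0)
    (z : Cochain B' Y 1) (hz : δ 1 2 z = 0) (βA : Cochain A' Y 0)
    (h : δ 0 1 βA = (Cochain.ofHom j).comp z (zero_add 1)) :
    ∃ β : Cochain B' Y 0, δ 0 1 β = z ∧ (Cochain.ofHom j).comp β (zero_add 0) = βA := by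
  let β' : Cochain B' Y 0 :=
    Cochain.mk (fun p q hpq => Injective.factorThru (βA.v p q hpq) (j.f p))
  have hβ' : (Cochain.ofHom j).comp β' (zero_add 0) = βA := by
    ext p
    simp [β', Injective.comp_factorThru]
  let w : Cocycle B' Y 1 := Cocycle.mk (z - δ 0 1 β') 2 (by norm_num) (by simp [δ_δ, hz])
  have hw : (Cochain.ofHom j).comp w.1 (zero_add 1) = 0 := by
    have : (w : Cochain B' Y 1) = z - δ 0 1 β' := rfl
    rw [this, Cochain.comp_sub, ← δ_ofHom_comp, hβ', h, sub_self]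
  obtain ⟨γ, hγ, hγ'⟩ := H w hw
  refine ⟨β' + γ, ?_, ?_⟩
  · have : (w : Cochain B' Y 1) = z - δ 0 1 β' := rfl
    rw [δ_add, hγ, this]
    abel
  · rw [Cochain.comp_add, hβ', hγ', add_zero]


theorem cochain_eq_zero_of_epi_comp {B' C' Y : CochainComplex A ℤ} (π : B' ⟶ C') [∀ n, Epi (π.f n)]
    {n : ℤ} (c : Cochain C' Y n) (h : (Cochain.ofHom π).comp c (zero_add n) = 0) : c = 0 := by
  ext p q hpq
  have := Cochain.congr_v h p q hpq
  rw [Cochain.zero_cochain_comp_v, Cochain.ofHom_v, Cochain.zero_v] at this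
  rw [Cochain.zero_v, ← cancel_epi (π.f p), this, comp_zero]

/-- hypothesis `H` for a trivial cofibration and a K-injective target -/
theorem H_of_trivCof {A' B' Y : CochainComplex A ℤ} (j : A' ⟶ B') (hj : trivCof A j)
    [Y.IsKInjective] (w : Cocycle B' Y 1) (hw : (Cochain.ofHom j).comp w.1 (zero_add 1) = 0) :
    ∃ γ : Cochain B' Y 0, δ 0 1 γ = w.1 ∧ (Cochain.ofHom j).comp γ (zero_add 0) = 0 := by
  have := hj.1
  have hS := shortExact_cokernel j
  have hSp : ∀ p : ℤ, ((ShortComplex.mk j (cokernel.π j) (cokernel.condition j)).map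
      (HomologicalComplex.eval A (ComplexShape.up ℤ) p)).ShortExact :=
    fun p => hS.map_of_exact _
  have hepi : ∀ p : ℤ, Epi ((cokernel.π j).f p) := fun p => (hSp p).epi_g
  have hjw : ∀ p q (hpq : p + 1 = q), j.f p ≫ w.1.v p q hpq = 0 := by
    intro p q hpq
    have := Cochain.congr_v hw p q hpq
    rwa [Cochain.zero_cochain_comp_v, Cochain.ofHom_v, Cochain.zero_v] at this
  let w'' : Cochain (cokernel j) Y 1 :=
    Cochain.mk (fun p q hpq => by
      haveI := (hSp p).epi_g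
      exact (hSp p).exact.desc (w.1.v p q hpq) (hjw p q hpq))
  have hπw : (Cochain.ofHom (cokernel.π j)).comp w'' (zero_add 1) = w.1 := by
    ext p q hpq
    rw [Cochain.zero_cochain_comp_v, Cochain.ofHom_v]
    have := (hSp p).epi_g
    exact (hSp p).exact.g_desc _ _
  have hcoc : δ 1 2 w'' = 0 := by
    apply cochain_eq_zero_of_epi_comp (cokernel.π j)
    rw [← δ_ofHom_comp, hπw, Cocycle.δ_eq_zero]
  obtain ⟨γ'', hγ''⟩ := IsKInjective.eq_δ_of_cocycle (Cocycle.mk w'' 2 (by norm_num) hcoc)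
    (acyclic_cokernel_of_trivCof j hj) 0 (zero_add 1)
  refine ⟨(Cochain.ofHom (cokernel.π j)).comp γ'' (zero_add 0), ?_, ?_⟩
  · rw [δ_ofHom_comp, hγ'']
    exact hπw
  · rw [← Cochain.comp_assoc_of_first_is_zero_cochain, ← Cochain.ofHom_comp, cokernel.condition,
      Cochain.ofHom_zero, Cochain.zero_comp]


/-- hypothesis `H` for `inr : X ⟶ mappingCone (𝟙 X)` when all maps `X ⟶ Y` are null-homotopic -/
theorem H_of_inr {X Y : CochainComplex A ℤ} (hXY : ∀ f : X ⟶ Y, Nonempty (Homotopy f 0))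
    (w : Cocycle (mappingCone (𝟙 X)) Y 1)
    (hw : (Cochain.ofHom (mappingCone.inr (𝟙 X))).comp w.1 (zero_add 1) = 0) :
    ∃ γ : Cochain (mappingCone (𝟙 X)) Y 0, δ 0 1 γ = w.1 ∧
      (Cochain.ofHom (mappingCone.inr (𝟙 X))).comp γ (zero_add 0) = 0 := by
  let w₁ : Cochain X Y 0 := (mappingCone.inl (𝟙 X)).comp w.1 (neg_add_cancel 1)
  have hw₁ : w.1 = (mappingCone.fst (𝟙 X)).1.comp w₁ (add_zero 1) := by
    rw [mappingCone.ext_cochain_from_iff (𝟙 X) 0 1 (zero_add 1)]
    constructor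
    · rw [mappingCone.inl_fst_assoc]
    · rw [mappingCone.inr_fst_assoc, hw]
  have hδ : δ 0 1 w₁ = 0 := by
    have h1 : δ 1 2 w.1 = 0 := Cocycle.δ_eq_zero w 2
    rw [hw₁, δ_comp_zero_cochain _ _ 2 (by norm_num), Cocycle.δ_eq_zero, Cochain.zero_comp,
      add_zero] at h1
    have h2 := congrArg (fun c => (mappingCone.inl (𝟙 X)).comp c (by norm_num : (-1 : ℤ) + 2 = 1)) h1
    simp only [Cochain.comp_zero] at h2
    rwa [mappingCone.inl_fst_assoc] at h2
  let f : X ⟶ Y := Cocycle.homOf (Cocycle.mk w₁ 1 (zero_add 1) hδ)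
  have hf : Cochain.ofHom f = w₁ := by
    simp [f]
  obtain ⟨ho⟩ := hXY f
  obtain ⟨κ, hκ⟩ := Cochain.equivHomotopy f 0 ho
  rw [Cochain.ofHom_zero, add_zero, hf] at hκ
  refine ⟨(mappingCone.fst (𝟙 X)).1.comp κ (add_neg_cancel 1), ?_, ?_⟩
  · rw [δ_comp _ _ (add_neg_cancel 1) 2 0 1 (zero_add 1) (by norm_num) (neg_add_cancel 1),
      Cocycle.δ_eq_zero, Cochain.zero_comp, smul_zero, add_zero, ← hκ, hw₁]
  · rw [mappingCone.inr_fst_assoc]

/-- the path fibration -/
noncomputable def ev (Y : CochainComplex A ℤ) : mappingCone (𝟙 Y) ⟶ Y⟦(1 : ℤ)⟧ :=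
  Cocycle.equivHomShift.symm (mappingCone.fst (𝟙 Y))

theorem hasLiftingProperty_ev {A' B' Y : CochainComplex A ℤ} (j : A' ⟶ B') [∀ n, Mono (j.f n)]
    (hY : ∀ n, Injective (Y.X n))
    (H : ∀ w : Cocycle B' Y 1, (Cochain.ofHom j).comp w.1 (zero_add 1) = 0 →
      ∃ γ : Cochain B' Y 0, δ 0 1 γ = w.1 ∧ (Cochain.ofHom j).comp γ (zero_add 0) = 0) :
    HasLiftingProperty j (ev Y) := by
  constructor
  intro a b sq
  let z : Cocycle B' Y 1 := Cocycle.equivHomShift b
  let βA : Cochain A' Y 0 := (Cochain.ofHom a).comp (mappingCone.snd (𝟙 Y)) (zero_add 0)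
  have key : (Cochain.ofHom a).comp (mappingCone.fst (𝟙 Y)).1 (zero_add 1) =
      (Cochain.ofHom j).comp z.1 (zero_add 1) := by
    have h1 := congrArg (fun t => (Cocycle.equivHomShift t : Cocycle A' Y 1).1) sq.w
    simp only [Cocycle.equivHomShift_comp] at h1
    simpa [ev, z] using h1
  have h : δ 0 1 βA = (Cochain.ofHom j).comp (-z.1) (zero_add 1) := by
    simp only [βA]
    rw [δ_ofHom_comp, mappingCone.δ_snd, Cochain.comp_neg, Cochain.comp_neg, ← key]
    simp
  obtain ⟨β, hβ, hβ'⟩ := exists_cochain_ext j hY H (-z.1) (by simp) βA h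
  let ℓ : B' ⟶ mappingCone (𝟙 Y) := mappingCone.lift (𝟙 Y) z β (by
    rw [hβ]
    simp)
  refine ⟨⟨{ l := ℓ, fac_left := ?_, fac_right := ?_ }⟩⟩
  · apply (Cocycle.equivHom _ _).injective
    ext : 1
    simp only [Cocycle.equivHom_apply, Cocycle.ofHom_coe]
    rw [Cochain.ofHom_comp, mappingCone.ext_cochain_to_iff (𝟙 Y) 0 1 (zero_add 1)]
    constructor
    · rw [Cochain.comp_assoc_of_first_is_zero_cochain, mappingCone.lift_fst, key]
    · rw [Cochain.comp_assoc_of_first_is_zero_cochain, mappingCone.lift_snd, hβ']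
  · apply Cocycle.equivHomShift.injective
    rw [Cocycle.equivHomShift_comp]
    ext : 1
    simp only [ev, AddEquiv.apply_symm_apply, Cocycle.precomp_coe]
    exact mappingCone.lift_fst _ _ _ _

end Groth.Agent.Lib.Helper68.Bousfield
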