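import Groth.Agent.Lib.Helper68.Bous1
import Groth.Agent.Lib.Helper68.Bous2
import Mathlib.Algebra.Homology.HomotopyCategory.Pretriangulated

set_option autoImplicit false
universe w v u
open CategoryTheory CategoryTheory.Limits CategoryTheory.MorphismProperty
open CochainComplex HomComplex ZeroObject

namespace Groth.Agent.Lib.Helper68.Bousfield

open Groth.Agent.Lib.Helper99.KInj

variable {A : Type u} [Category.{v} A] [Abelian A]

instance mono_inr_id (K : CochainComplex A ℤ) : Mono (mappingCone.inr (𝟙 K)) := by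
  apply HomologicalComplex.mono_of_mono_f
  intro n
  exact mono_of_mono_fac (mappingCone.inr_f_snd_v (𝟙 K) n)

theorem mono_f_of_mono {K L : CochainComplex A ℤ} (f : K ⟶ L) [Mono f] (n : ℤ) : Mono (f.f n) :=
  inferInstanceAs (Mono ((HomologicalComplex.eval A _ n).map f))

variable [IsGrothendieckAbelian.{v} A]
variable (G : A) {ι : Type v} (X : ι → CochainComplex A ℤ)

/-- sources of the generating maps -/
noncomputable def domL : JIdx G ⊕ ι → CochainComplex A ℤ
  | .inl i => (i.2.1 : CochainComplex A ℤ)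
  | .inr j => X j

/-- targets of the generating maps -/
noncomputable def codL : JIdx G ⊕ ι → CochainComplex A ℤ
  | .inl i => cokernel i.1.arrow
  | .inr j => mappingCone (𝟙 (X j))

/-- the generating maps -/
noncomputable def homL : ∀ k, domL G X k ⟶ codL G X k
  | .inl i => i.2.1.arrow
  | .inr j => mappingCone.inr (𝟙 (X j))

/-- generating maps for the Bousfield localization -/
def genL : MorphismProperty (CochainComplex A ℤ) := ofHoms (homL G X)

theorem mono_homL (k : JIdx G ⊕ ι) : Mono (homL G X k) := by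
  cases k with
  | inl i => exact inferInstanceAs (Mono i.2.1.arrow)
  | inr j => exact inferInstanceAs (Mono (mappingCone.inr (𝟙 (X j))))

instance : HasSmallObjectArgument.{v} (genL G X) :=
  hasSmallObjectArgument_ofHoms (homL G X) (mono_homL G X)

theorem genL_rlp_iff {E B : CochainComplex A ℤ} (p : E ⟶ B) :
    (genL G X).rlp p ↔ (genJ G).rlp p ∧
      ∀ j, HasLiftingProperty (mappingCone.inr (𝟙 (X j))) p := by
  constructor
  · intro h
    have key : ∀ i : JIdx G, HasLiftingProperty i.2.1.arrow p :=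
      fun i => h _ (ofHoms.mk (f := homL G X) (Sum.inl i))
    refine ⟨?_, fun j => h _ (ofHoms.mk (f := homL G X) (Sum.inr j))⟩
    rintro K₁ K₂ f₁ ⟨i⟩
    exact key i
  · rintro ⟨h1, h2⟩ K₁ K₂ f₁ ⟨k⟩
    cases k with
    | inl i => exact h1 _ (ofHoms.mk i)
    | inr j => exact h2 j


/-- fibrant and local complexes -/
structure IsFL (Y : CochainComplex A ℤ) : Prop where
  ext : ∀ {K L : CochainComplex A ℤ} (i : K ⟶ L), trivCof A i → ∀ f : K ⟶ Y, ∃ g : L ⟶ Y, i ≫ g = f
  loc : ∀ j (f : X j ⟶ Y), Nonempty (Homotopy f 0)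

variable {X}

omit [IsGrothendieckAbelian.{v} A] in
theorem IsFL.isKInjective {Y : CochainComplex A ℤ} (hY : IsFL X Y) : Y.IsKInjective :=
  isKInjective_of_ext Y hY.ext

omit [IsGrothendieckAbelian.{v} A] in
theorem IsFL.injective_X {Y : CochainComplex A ℤ} (hY : IsFL X Y) (n : ℤ) : Injective (Y.X n) :=
  injective_X_of_ext Y hY.ext n

variable {G}

theorem IsFL.rlp_zero {Y : CochainComplex A ℤ} (hY : IsFL X Y) :
    (genL G X).rlp (0 : Y ⟶ 0) := by
  rw [genL_rlp_iff]
  constructor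
  · intro K L i hi
    constructor
    intro f g sq
    obtain ⟨g', hg'⟩ := hY.ext i (genJ_le_trivCof G _ hi) f
    exact ⟨⟨{ l := g', fac_left := hg', fac_right := (isZero_zero _).eq_of_tgt _ _ }⟩⟩
  · intro j
    constructor
    intro f g sq
    obtain ⟨ho⟩ := hY.loc j f
    obtain ⟨κ, hκ⟩ := Cochain.equivHomotopy f 0 ho
    rw [Cochain.ofHom_zero, add_zero] at hκ
    refine ⟨⟨{ l := mappingCone.desc (𝟙 (X j)) κ f (by rw [Category.id_comp, hκ]),
               fac_left := mappingCone.inr_desc _ _ _ _,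
               fac_right := (isZero_zero _).eq_of_tgt _ _ }⟩⟩

theorem isFL_of_rlp (hG : IsSeparator G) {Z : CochainComplex A ℤ}
    (hZ : (genL G X).rlp (0 : Z ⟶ 0)) : IsFL X Z := by
  rw [genL_rlp_iff] at hZ
  obtain ⟨h1, h2⟩ := hZ
  have hp : (trivCof A).rlp (0 : Z ⟶ 0) := (transHyp_genJ hG).rlp_le _ h1
  constructor
  · intro K L i hW f
    have := hp i hW
    have sq : CommSq f i (0 : Z ⟶ 0) (0 : L ⟶ 0) := ⟨(isZero_zero _).eq_of_tgt _ _⟩
    exact ⟨sq.lift, sq.fac_left⟩
  · intro j f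
    have := h2 j
    have sq : CommSq f (mappingCone.inr (𝟙 (X j))) (0 : Z ⟶ 0)
        (0 : mappingCone (𝟙 (X j)) ⟶ 0) := ⟨(isZero_zero _).eq_of_tgt _ _⟩
    have hf : mappingCone.inr (𝟙 (X j)) ≫ sq.lift = f := sq.fac_left
    refine ⟨(Homotopy.ofEq ?_).trans ((((mappingCone.homotopyToZeroOfId (X j)).compRight
      sq.lift).compLeft (mappingCone.inr (𝟙 (X j)))).trans (Homotopy.ofEq ?_))⟩
    · rw [Category.id_comp, hf]
    · rw [zero_comp, comp_zero]

/-- surjectivity: maps into FL complexes extend along maps in `llp (rlp genL)` -/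
theorem exists_ext_of_llp {K₀ Z₀ : CochainComplex A ℤ} (i : K₀ ⟶ Z₀)
    (hi : (genL G X).rlp.llp i) {Y : CochainComplex A ℤ} (hY : IsFL X Y) (f : K₀ ⟶ Y) :
    ∃ g : Z₀ ⟶ Y, i ≫ g = f := by
  have := hi _ (hY.rlp_zero (G := G))
  have sq : CommSq f i (0 : Y ⟶ 0) (0 : Z₀ ⟶ 0) := ⟨(isZero_zero _).eq_of_tgt _ _⟩
  exact ⟨sq.lift, sq.fac_left⟩

theorem IsFL.rlp_ev {Y : CochainComplex A ℤ} (hY : IsFL X Y) :
    (genL G X).rlp (ev Y) := by
  have := hY.isKInjective
  rw [genL_rlp_iff]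
  constructor
  · intro K L i hi
    have hi' := genJ_le_trivCof G _ hi
    have := hi'.1
    have : ∀ n, Mono (i.f n) := fun n => mono_f_of_mono i n
    exact hasLiftingProperty_ev i hY.injective_X (H_of_trivCof i hi')
  · intro j
    have : ∀ n, Mono ((mappingCone.inr (𝟙 (X j))).f n) := fun n => mono_f_of_mono _ n
    exact hasLiftingProperty_ev _ hY.injective_X (H_of_inr (hY.loc j))

/-- injectivity: null-homotopies descend along maps in `llp (rlp genL)` -/
theorem homotopy_zero_of_llp {K₀ Z₀ : CochainComplex A ℤ} (i : K₀ ⟶ Z₀)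
    (hi : (genL G X).rlp.llp i) {Y : CochainComplex A ℤ} (hY : IsFL X Y) (b : Z₀ ⟶ Y⟦(1 : ℤ)⟧)
    (h : Homotopy (i ≫ b) 0) : Nonempty (Homotopy b 0) := by
  have := hi _ (hY.rlp_ev (G := G))
  obtain ⟨κ, hκ⟩ := Cochain.equivHomotopy (i ≫ b) 0 h
  rw [Cochain.ofHom_zero, add_zero] at hκ
  let z₀ : Cocycle K₀ Y 1 := Cocycle.equivHomShift (i ≫ b)
  let β₀ : Cochain K₀ Y 0 := κ.rightUnshift 0 (neg_add_cancel 1)
  have hβ₀ : δ 0 1 β₀ = -z₀.1 := by
    simp only [β₀]
    rw [Cochain.δ_rightUnshift κ 0 (neg_add_cancel 1) 1 0 (zero_add 1), ← hκ]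
    simp [z₀, Cocycle.equivHomShift_apply]
  let a : K₀ ⟶ mappingCone (𝟙 Y) := mappingCone.lift (𝟙 Y) z₀ β₀ (by
    rw [hβ₀]
    simp)
  have ha : a ≫ ev Y = i ≫ b := by
    apply Cocycle.equivHomShift.injective
    rw [Cocycle.equivHomShift_comp]
    ext : 1
    simp only [ev, AddEquiv.apply_symm_apply, Cocycle.precomp_coe]
    exact mappingCone.lift_fst _ _ _ _
  have sq : CommSq a i (ev Y) b := ⟨ha⟩
  have hℓ : sq.lift ≫ ev Y = b := sq.fac_right
  refine ⟨(Homotopy.ofEq ?_).trans ((((mappingCone.homotopyToZeroOfId Y).compRight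
    (ev Y)).compLeft sq.lift).trans (Homotopy.ofEq ?_))⟩
  · rw [Category.id_comp, hℓ]
  · rw [zero_comp, comp_zero]

end Groth.Agent.Lib.Helper68.Bousfield
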