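import Groth.Agent.Lib.Helper68.Bous3
import Mathlib.Algebra.Homology.DerivedCategory.KInjective

set_option autoImplicit false
universe w v u
open CategoryTheory CategoryTheory.Limits CategoryTheory.MorphismProperty
open CochainComplex HomComplex ZeroObject DerivedCategory

namespace Groth.Agent.Lib.Helper68.Bousfield

open Groth.Agent.Lib.Helper99.KInj

section Gen

variable {A : Type u} [Category.{v} A] [Abelian A] [HasDerivedCategory.{w} A]

theorem Q_map_eq_zero_iff {M Y : CochainComplex A ℤ} [Y.IsKInjective] (g : M ⟶ Y) :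
    (Q.map g = 0) ↔ Nonempty (Homotopy g 0) := by
  constructor
  · intro h
    have h1 : Qh.map ((HomotopyCategory.quotient _ _).map g) = 0 := by
      have := quotientCompQhIso_hom_naturality g
      rw [h, comp_zero] at this
      rw [← cancel_mono ((quotientCompQhIso A).hom.app Y), this, zero_comp]
    have h2 : (HomotopyCategory.quotient _ _).map g = 0 := by
      apply (IsKInjective.Qh_map_bijective _ Y).1
      rw [h1, Functor.map_zero]
    rw [← (HomotopyCategory.quotient A (ComplexShape.up ℤ)).map_zero] at h2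
    exact ⟨HomotopyCategory.homotopyOfEq _ _ h2⟩
  · rintro ⟨ho⟩
    have h2 : (HomotopyCategory.quotient _ _).map g = 0 := by
      rw [HomotopyCategory.eq_of_homotopy _ _ ho, Functor.map_zero]
    have := quotientCompQhIso_hom_naturality g
    rw [h2, Functor.map_zero, zero_comp] at this
    rw [← cancel_epi ((quotientCompQhIso A).hom.app M), ← this, comp_zero]

theorem exists_Q_map_eq {M Y : CochainComplex A ℤ} [Y.IsKInjective] (φ : Q.obj M ⟶ Q.obj Y) :
    ∃ g : M ⟶ Y, Q.map g = φ := by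
  obtain ⟨ψ, hψ⟩ := (IsKInjective.Qh_map_bijective ((HomotopyCategory.quotient _ _).obj M) Y).2
    ((quotientCompQhIso A).hom.app M ≫ φ ≫ (quotientCompQhIso A).inv.app Y)
  obtain ⟨g, rfl⟩ := (HomotopyCategory.quotient A (ComplexShape.up ℤ)).map_surjective ψ
  refine ⟨g, ?_⟩
  have := quotientCompQhIso_hom_naturality g
  rw [hψ] at this
  simp only [Category.assoc, Iso.inv_hom_id_app, Functor.comp_obj] at this
  rw [← cancel_epi ((quotientCompQhIso A).hom.app M), ← this]
  simp

theorem isRightAdjoint_ι_of_reflections {D : Type*} [Category D] (P : ObjectProperty D)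
    (h : ∀ K : D, ∃ (Z : D) (η : K ⟶ Z), P Z ∧
      ∀ L, P L → Function.Bijective (fun v : Z ⟶ L => η ≫ v)) : P.ι.IsRightAdjoint := by
  choose Cobj η hC hU using h
  let F_obj : D → P.FullSubcategory := fun K => ⟨Cobj K, hC K⟩
  let e : ∀ (X : D) (Y : P.FullSubcategory), (F_obj X ⟶ Y) ≃ (X ⟶ P.ι.obj Y) := fun X Y =>
    (P.fullyFaithfulι.homEquiv (X := F_obj X) (Y := Y)).trans
      (Equiv.ofBijective _ (hU X Y.obj Y.property))
  exact ⟨_, ⟨Adjunction.adjunctionOfEquivLeft e (by
    intro X Y Y' g h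
    simp [e, F_obj]
    rfl)⟩⟩

end Gen


section Main

variable {A : Type u} [Category.{v} A] [Abelian A] [IsGrothendieckAbelian.{v} A]
  [HasDerivedCategory.{w} A] {ι : Type v} (X : ι → CochainComplex A ℤ)

/-- the right orthogonal of the family `X` in the derived category -/
def locProp : ObjectProperty (DerivedCategory A) := fun K => ∀ j, Subsingleton (Q.obj (X j) ⟶ K)

variable {X}

omit [IsGrothendieckAbelian.{v} A] in
theorem locProp_of_isFL {Z : CochainComplex A ℤ} (hZ : IsFL X Z) : locProp X (Q.obj Z) := by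
  have := hZ.isKInjective
  intro j
  constructor
  intro φ ψ
  obtain ⟨g, rfl⟩ := exists_Q_map_eq φ
  obtain ⟨g', rfl⟩ := exists_Q_map_eq ψ
  rw [(Q_map_eq_zero_iff g).2 (hZ.loc j g), (Q_map_eq_zero_iff g').2 (hZ.loc j g')]

theorem exists_isFL_rep (L : DerivedCategory A) (hL : locProp X L) :
    ∃ Y : CochainComplex A ℤ, IsFL X Y ∧ Nonempty (Q.obj Y ≅ L) := by
  let G := separator A
  have hG : IsSeparator G := isSeparator_separator A
  let M := Q.objPreimage L
  let e : Q.obj M ≅ L := Q.objObjPreimageIso L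
  let fac := (functorialFactorizationData (genJ G).rlp.llp (genJ G).rlp).factorizationData
    (0 : M ⟶ 0)
  have hi : trivCof A fac.i := llp_rlp_genJ_le G _ fac.hi
  have hp : (trivCof A).rlp fac.p := (transHyp_genJ hG).rlp_le _ fac.hp
  have hZ : ∀ {K L : CochainComplex A ℤ} (i : K ⟶ L), trivCof A i → ∀ f : K ⟶ fac.Z,
      ∃ g : L ⟶ fac.Z, i ≫ g = f := by
    intro K L i hW f
    have := hp i hW
    have sq : CommSq f i fac.p (0 : L ⟶ 0) := ⟨(isZero_zero _).eq_of_tgt _ _⟩
    exact ⟨sq.lift, sq.fac_left⟩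
  have hK : fac.Z.IsKInjective := isKInjective_of_ext _ hZ
  have := hi.2
  have hiso : IsIso (Q.map fac.i) := by
    rw [DerivedCategory.isIso_Q_map_iff_quasiIso]
    infer_instance
  let e' : Q.obj fac.Z ≅ L := (asIso (Q.map fac.i)).symm ≪≫ e
  refine ⟨fac.Z, ⟨hZ, fun j f => ?_⟩, ⟨e'⟩⟩
  rw [← Q_map_eq_zero_iff]
  have := hL j
  rw [← cancel_mono e'.hom, zero_comp]
  exact Subsingleton.elim _ _

theorem exists_reflection (hshift : ∀ L, locProp X L → locProp X (L⟦(-1 : ℤ)⟧))
    (K : DerivedCategory A) :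
    ∃ (Z : DerivedCategory A) (η : K ⟶ Z), locProp X Z ∧
      ∀ L, locProp X L → Function.Bijective (fun v : Z ⟶ L => η ≫ v) := by
  let G := separator A
  have hG : IsSeparator G := isSeparator_separator A
  let K₀ := Q.objPreimage K
  let e : Q.obj K₀ ≅ K := Q.objObjPreimageIso K
  let fac := (functorialFactorizationData (genL G X).rlp.llp (genL G X).rlp).factorizationData
    (0 : K₀ ⟶ 0)
  have hp0 : fac.p = 0 := (isZero_zero _).eq_of_tgt _ _
  have hZ : IsFL X fac.Z := isFL_of_rlp hG (by rw [← hp0]; exact fac.hp)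
  refine ⟨Q.obj fac.Z, e.inv ≫ Q.map fac.i, locProp_of_isFL hZ, fun L hL => ⟨?_, ?_⟩⟩
  · -- injectivity
    have key : ∀ v : Q.obj fac.Z ⟶ L, (e.inv ≫ Q.map fac.i) ≫ v = 0 → v = 0 := by
      intro v hv
      obtain ⟨Y', hY', ⟨e'⟩⟩ := exists_isFL_rep (L⟦(-1 : ℤ)⟧) (hshift L hL)
      have := hY'.isKInjective
      let θ : L ≅ Q.obj (Y'⟦(1 : ℤ)⟧) :=
        ((shiftFunctorCompIsoId (DerivedCategory A) (-1 : ℤ) 1 (by norm_num)).app L).symm ≪≫
          (CategoryTheory.shiftFunctor (DerivedCategory A) (1 : ℤ)).mapIso e'.symm ≪≫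
          ((Q.commShiftIso (1 : ℤ)).app Y').symm
      obtain ⟨b, hb⟩ := exists_Q_map_eq (v ≫ θ.hom)
      have h1 : Q.map (fac.i ≫ b) = 0 := by
        rw [Functor.map_comp, hb, ← Category.assoc, ← cancel_epi e.inv, ← Category.assoc,
          ← Category.assoc, hv, zero_comp, comp_zero]
      obtain ⟨ho⟩ := (Q_map_eq_zero_iff _).1 h1
      obtain ⟨ho'⟩ := homotopy_zero_of_llp (G := G) fac.i fac.hi hY' b ho
      have h2 : Q.map b = 0 := (Q_map_eq_zero_iff b).2 ⟨ho'⟩
      rw [← cancel_mono θ.hom, ← hb, h2, zero_comp]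
    intro v₁ v₂ hv
    have : v₁ - v₂ = 0 := key _ (by
      dsimp only at hv
      rw [Preadditive.comp_sub, hv, sub_self])
    exact sub_eq_zero.1 this
  · -- surjectivity
    intro u
    obtain ⟨Y, hY, ⟨e₂⟩⟩ := exists_isFL_rep L hL
    have := hY.isKInjective
    obtain ⟨g, hg⟩ := exists_Q_map_eq (e.hom ≫ u ≫ e₂.inv)
    obtain ⟨g', hg'⟩ := exists_ext_of_llp (G := G) fac.i fac.hi hY g
    refine ⟨Q.map g' ≫ e₂.hom, ?_⟩
    dsimp only
    rw [Category.assoc, ← Category.assoc (Q.map fac.i), ← Functor.map_comp, hg', hg]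
    simp

theorem isRightAdjoint_ι_locProp (hshift : ∀ L, locProp X L → locProp X (L⟦(-1 : ℤ)⟧)) :
    (locProp X).ι.IsRightAdjoint :=
  isRightAdjoint_ι_of_reflections _ (exists_reflection hshift)

end Main

end Groth.Agent.Lib.Helper68.Bousfield
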