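import Groth.Agent.Lib.Helper68.Bous4
import Groth.Agent.S0484
import Groth.Prelude.Def_DerComp

set_option autoImplicit false
universe u
open CategoryTheory CategoryTheory.Limits Opposite
attribute [local instance] HasDerivedCategory.standard
open DerComp

namespace Groth.Agent.Lib.Helper68.Bousfield

section ShiftLemmas

variable {D : Type*} [Category D] [HasShift D ℤ]

theorem subsingleton_shift_iff (T K : D) (n : ℤ) :
    Subsingleton (T ⟶ K⟦n⟧) ↔ Subsingleton (T⟦-n⟧ ⟶ K) := by
  let e : (T⟦-n⟧ ⟶ K) ≃ (T ⟶ K⟦n⟧) := (shiftEquiv D n).symm.toAdjunction.homEquiv T K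
  exact ⟨fun h => e.subsingleton, fun h => e.symm.subsingleton⟩

omit [HasShift D ℤ] in
theorem subsingleton_hom_iff_of_iso {T T' K K' : D} (e : T ≅ T') (e' : K ≅ K') :
    Subsingleton (T ⟶ K) ↔ Subsingleton (T' ⟶ K') := by
  let ee : (T ⟶ K) ≃ (T' ⟶ K') := Iso.homCongr e e'
  exact ⟨fun h => ee.symm.subsingleton, fun h => ee.subsingleton⟩

end ShiftLemmas

variable {C : Type u} [SmallCategory C] {J : GrothendieckTopology C}
  (O : Sheaf J CommRingCat.{u}) (I : DerComp.IdealSh O)

/-- index type for the family of test objects -/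
abbrev TestIdx : Type u := (Σ U : C, {f : O.obj.obj (op U) // f ∈ I.ideal U}) × ℤ

/-- the test objects `j_{U!} O_{U,f}[-n]` -/
noncomputable def testCx : TestIdx O I → CochainComplex (ModSite.Mod O) ℤ := fun k =>
  ((CochainComplex.singleFunctor (ModSite.Mod O) 0).obj
    ((ModSite.extZero O k.1.1).obj (DerComp.awayOver O k.1.1 k.1.2.1)))⟦-k.2⟧

theorem isDerComp_iff_locProp (K : DerivedCategory (ModSite.Mod O)) :
    DerComp.IsDerComp O I K ↔ locProp (testCx O I) K := by
  have key : ∀ (U : C) (f : O.obj.obj (op U)) (hf : f ∈ I.ideal U) (n : ℤ),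
      Subsingleton (SiteCmp.inD O ((ModSite.extZero O U).obj (DerComp.awayOver O U f)) ⟶ K⟦n⟧) ↔
      Subsingleton (DerivedCategory.Q.obj (testCx O I ⟨⟨U, ⟨f, hf⟩⟩, n⟩) ⟶ K) := by
    intro U f hf n
    rw [subsingleton_shift_iff]
    let M := (ModSite.extZero O U).obj (DerComp.awayOver O U f)
    let e₁ : SiteCmp.inD O M ≅
        DerivedCategory.Q.obj ((CochainComplex.singleFunctor (ModSite.Mod O) 0).obj M) :=
      (DerivedCategory.singleFunctorIsoCompQ (ModSite.Mod O) 0).app M
    let e₂ : (SiteCmp.inD O M)⟦-n⟧ ≅ DerivedCategory.Q.obj (testCx O I ⟨⟨U, ⟨f, hf⟩⟩, n⟩) :=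
      (CategoryTheory.shiftFunctor _ (-n)).mapIso e₁ ≪≫
        ((DerivedCategory.Q.commShiftIso (-n)).app _).symm
    exact subsingleton_hom_iff_of_iso e₂ (Iso.refl K)
  constructor
  · intro h k
    obtain ⟨⟨U, ⟨f, hf⟩⟩, n⟩ := k
    exact (key U f hf n).1 (h U f hf n)
  · intro h U f hf n
    exact (key U f hf n).2 (h ⟨⟨U, ⟨f, hf⟩⟩, n⟩)

theorem isDerComp_shift (K : DerivedCategory (ModSite.Mod O)) (hK : DerComp.IsDerComp O I K)
    (m : ℤ) : DerComp.IsDerComp O I (K⟦m⟧) := by
  intro U f hf n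
  have := hK U f hf (m + n)
  exact (subsingleton_hom_iff_of_iso (Iso.refl _)
    ((shiftFunctorAdd' (DerivedCategory (ModSite.Mod O)) m n (m + n) rfl).app K)).1 this

/-- **Derived completion exists for every sheaf of ideals** (Bousfield localization). -/
theorem hasDerCompletion : DerComp.HasDerCompletion O I := by
  have : IsGrothendieckAbelian.{u} (ModSite.Mod O) := Groth.Agent.S0484.result J (ModSite.ringSh O)
  have heq : DerComp.IsDerComp O I = locProp (testCx O I) := by
    funext K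
    exact propext (isDerComp_iff_locProp O I K)
  have hshift : ∀ L, locProp (testCx O I) L → locProp (testCx O I) (L⟦(-1 : ℤ)⟧) := by
    intro L hL
    rw [← isDerComp_iff_locProp] at hL ⊢
    exact isDerComp_shift O I L hL (-1)
  unfold DerComp.HasDerCompletion
  rw [heq]
  exact isRightAdjoint_ι_locProp hshift

end Groth.Agent.Lib.Helper68.Bousfield
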