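import Mathlib.CategoryTheory.Sites.Sheafification
import Mathlib.CategoryTheory.Sites.Limits
import Mathlib.CategoryTheory.Limits.Shapes.IsTerminal
import Mathlib.CategoryTheory.Sites.LeftExact
import Mathlib.CategoryTheory.Limits.Shapes.Products

/-! Cofans of sheafified representables (helper68). -/

set_option autoImplicit false
universe u v₁ u₁

namespace Groth.Agent.Lib.Helper68

open CategoryTheory CategoryTheory.Limits Opposite

/-- A cofan is a colimit iff maps out of its point correspond bijectively to families of maps. -/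
theorem cofan_isColimit_iff {D : Type u₁} [Category.{v₁} D] {ι : Type*} {f : ι → D}
    (c : Cofan f) :
    Nonempty (IsColimit c) ↔
      ∀ T : D, Function.Bijective (fun (g : c.pt ⟶ T) (i : ι) => c.inj i ≫ g) := by
  constructor
  · rintro ⟨hc⟩ T
    constructor
    · intro g g' h
      exact Cofan.IsColimit.hom_ext hc _ _ fun i => congrFun h i
    · intro t
      exact ⟨Cofan.IsColimit.desc hc t, funext fun i => Cofan.IsColimit.fac hc t i⟩
  · intro h
    refine ⟨Cofan.IsColimit.mk c (fun t => ((h t.pt).2 t.inj).choose) ?_ ?_⟩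
    · intro t i
      exact congrFun ((h t.pt).2 t.inj).choose_spec i
    · intro t m hm
      apply (h t.pt).1
      funext i
      dsimp only
      rw [hm i]
      exact (congrFun ((h t.pt).2 t.inj).choose_spec i).symm

variable {C : Type u} [SmallCategory C] (J : GrothendieckTopology C)

/-- Morphisms from the sheafification of a representable to a sheaf are sections. -/
noncomputable def sheafifyYonedaEquiv (X : C) (F : Sheaf J (Type u)) :
    ((presheafToSheaf J (Type u)).obj (yoneda.obj X) ⟶ F) ≃ F.obj.obj (op X) :=
  ((sheafificationAdjunction J (Type u)).homEquiv _ F).trans yonedaEquiv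

theorem sheafifyYonedaEquiv_naturality {X Y : C} (s : Y ⟶ X) (F : Sheaf J (Type u))
    (g : (presheafToSheaf J (Type u)).obj (yoneda.obj X) ⟶ F) :
    sheafifyYonedaEquiv J Y F ((presheafToSheaf J (Type u)).map (yoneda.map s) ≫ g) =
      F.obj.map s.op (sheafifyYonedaEquiv J X F g) := by
  unfold sheafifyYonedaEquiv
  simp only [Equiv.trans_apply]
  rw [Adjunction.homEquiv_naturality_left, yonedaEquiv_naturality]

/-- The cofan of sheafified representables attached to a family `s i : Y i ⟶ X` is a coproduct
iff every sheaf turns the family into a product decomposition. -/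
theorem sheafify_yoneda_cofan_isColimit_iff {X : C} {ι : Type u} (Y : ι → C) (s : ∀ i, Y i ⟶ X) :
    Nonempty (IsColimit (Cofan.mk ((presheafToSheaf J (Type u)).obj (yoneda.obj X))
      (fun i => (presheafToSheaf J (Type u)).map (yoneda.map (s i))))) ↔
    ∀ F : Sheaf J (Type u), Function.Bijective
      (fun (t : F.obj.obj (op X)) (i : ι) => F.obj.map (s i).op t) := by
  rw [cofan_isColimit_iff]
  refine forall_congr' fun F => ?_
  change Function.Bijective (fun (g : (presheafToSheaf J (Type u)).obj (yoneda.obj X) ⟶ F) (i : ι) =>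
        (presheafToSheaf J (Type u)).map (yoneda.map (s i)) ≫ g) ↔ _
  have hcomm : ∀ g : (presheafToSheaf J (Type u)).obj (yoneda.obj X) ⟶ F,
      (fun i => sheafifyYonedaEquiv J (Y i) F
        ((presheafToSheaf J (Type u)).map (yoneda.map (s i)) ≫ g)) =
      (fun i => F.obj.map (s i).op (sheafifyYonedaEquiv J X F g)) :=
    fun g => funext fun i => sheafifyYonedaEquiv_naturality J (s i) F g
  let ePi : (∀ i, (presheafToSheaf J (Type u)).obj (yoneda.obj (Y i)) ⟶ F) ≃
      (∀ i, F.obj.obj (op (Y i))) :=
    Equiv.piCongrRight fun i => sheafifyYonedaEquiv J (Y i) F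
  have hsq : (fun (t : F.obj.obj (op X)) (i : ι) => F.obj.map (s i).op t) ∘
      (sheafifyYonedaEquiv J X F) =
      ePi ∘ (fun (g : (presheafToSheaf J (Type u)).obj (yoneda.obj X) ⟶ F) (i : ι) =>
        (presheafToSheaf J (Type u)).map (yoneda.map (s i)) ≫ g) := by
    funext g
    exact (hcomm g).symm
  constructor
  · intro h
    have h1 : Function.Bijective (ePi ∘ (fun (g : (presheafToSheaf J (Type u)).obj (yoneda.obj X) ⟶ F)
        (i : ι) => (presheafToSheaf J (Type u)).map (yoneda.map (s i)) ≫ g)) :=
      ePi.bijective.comp h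
    rw [← hsq] at h1
    exact (Function.Bijective.of_comp_iff _ (sheafifyYonedaEquiv J X F).bijective).mp h1
  · intro h
    have h1 : Function.Bijective ((fun (t : F.obj.obj (op X)) (i : ι) => F.obj.map (s i).op t) ∘
        (sheafifyYonedaEquiv J X F)) := h.comp (sheafifyYonedaEquiv J X F).bijective
    rw [hsq] at h1
    exact (Function.Bijective.of_comp_iff' ePi.bijective _).mp h1

/-- A sheaf has exactly one section over an object covered by the empty sieve. -/
theorem existsUnique_section_of_bot_mem {X : C} (h : (⊥ : Sieve X) ∈ J X) (F : Sheaf J (Type u)) :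
    ∃! _t : F.obj.obj (op X), True := by
  have hF := (isSheaf_iff_isSheaf_of_type J F.obj).mp F.property
  let x : Presieve.FamilyOfElements F.obj (⊥ : Sieve X).arrows :=
    fun Y f hf => False.elim hf
  have hx : x.Compatible := by
    intro Y₁ Y₂ Z' g₁ g₂ f₁ f₂ hf₁
    exact False.elim hf₁
  obtain ⟨t, _, ht⟩ := hF _ h x hx
  refine ⟨t, trivial, fun t' _ => ht t' ?_⟩
  intro Y f hf
  exact False.elim hf

theorem subsingleton_section_of_bot_mem {X : C} (h : (⊥ : Sieve X) ∈ J X) (F : Sheaf J (Type u)) :
    Subsingleton (F.obj.obj (op X)) :=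
  ⟨fun _ _ => (existsUnique_section_of_bot_mem J h F).unique trivial trivial⟩

end Groth.Agent.Lib.Helper68
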