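import Groth.Agent.Lib.Helper53.ToposGiraud
import Groth.Agent.Lib.Helper68.SheafCofan
import Groth.Agent.S6131
import Groth.Agent.S6132
import Groth.Agent.S6139
import Mathlib.CategoryTheory.Limits.VanKampen
import Mathlib.CategoryTheory.Limits.Shapes.DisjointCoproduct

/-! Disjoint universal coproducts and the canonical topology (helper68). -/

set_option autoImplicit false
universe u

open CategoryTheory CategoryTheory.Limits Opposite

namespace Groth.Agent.Lib.Helper68

section Discrete

variable {D : Type*} [Category D] {ι : Type*}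

/-- A cocone over a discrete diagram is a colimit as soon as maps out of its point correspond
bijectively to families of maps out of the objects of the diagram. -/
theorem discrete_isColimit_of_bijective {F' : Discrete ι ⥤ D} (c' : Cocone F')
    (h : ∀ T : D, Function.Bijective (fun (g : c'.pt ⟶ T) (i : ι) => c'.ι.app ⟨i⟩ ≫ g)) :
    Nonempty (IsColimit c') := by
  refine ⟨IsColimit.mk (fun t => ((h t.pt).surjective (fun i => t.ι.app ⟨i⟩)).choose) ?_ ?_⟩
  · rintro t ⟨i⟩
    exact congrFun ((h t.pt).surjective (fun i => t.ι.app ⟨i⟩)).choose_spec i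
  · intro t m hm
    refine (h t.pt).injective (Eq.trans ?_
      ((h t.pt).surjective (fun i => t.ι.app ⟨i⟩)).choose_spec.symm)
    funext i
    exact hm ⟨i⟩

end Discrete

section Universal

variable {C : Type u} [SmallCategory C] {X : C} {ι : Type u} (Y : ι → C) (s : ∀ i, Y i ⟶ X)
  [∀ (i : ι) (Z : C) (g : Z ⟶ X), HasPullback (s i) g]

/-- The base change of a universal coproduct is a coproduct. -/
theorem pullback_cofan_isColimit (hu : IsUniversalColimit (Cofan.mk X s)) {Z : C} (g : Z ⟶ X) :
    Nonempty (IsColimit (Cofan.mk Z (fun i => pullback.snd (s i) g))) := by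
  refine hu (Cofan.mk Z (fun i => pullback.snd (s i) g))
    (Discrete.natTrans (fun i => pullback.fst (s i.as) g)) g ?_ (NatTrans.Equifibered.of_discrete _)
    ?_
  · ext ⟨i⟩
    exact pullback.condition
  · rintro ⟨i⟩
    exact (IsPullback.of_hasPullback (s i) g).flip

/-- An object mapping compatibly to two different summands of a universal coproduct with a
disjoint pair of summands is initial. -/
theorem isInitial_of_two_summands (hu : IsUniversalColimit (Cofan.mk X s)) {i j : ι} (hij : i ≠ j)
    (hP : IsInitial (pullback (s i) (s j))) {W : C} (a : W ⟶ Y i) (b : W ⟶ Y j)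
    (hab : a ≫ s i = b ≫ s j) : Nonempty (IsInitial W) := by
  classical
  obtain ⟨hc⟩ := pullback_cofan_isColimit Y s hu (a ≫ s i)
  have hsub : ∀ (T : C) (p q : W ⟶ T), p = q := by
    intro T p q
    let fam : ∀ k, pullback (s k) (a ≫ s i) ⟶ T :=
      fun k => pullback.snd (s k) (a ≫ s i) ≫ (if k = j then q else p)
    let d := Cofan.IsColimit.desc hc fam
    have hd : ∀ k, pullback.snd (s k) (a ≫ s i) ≫ d = fam k := fun k => Cofan.IsColimit.fac hc fam k
    obtain ⟨σi, hσi⟩ : ∃ σ : W ⟶ pullback (s i) (a ≫ s i),
        σ ≫ pullback.snd (s i) (a ≫ s i) = 𝟙 W :=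
      ⟨pullback.lift a (𝟙 W) (by simp), pullback.lift_snd _ _ _⟩
    obtain ⟨σj, hσj⟩ : ∃ σ : W ⟶ pullback (s j) (a ≫ s i),
        σ ≫ pullback.snd (s j) (a ≫ s i) = 𝟙 W :=
      ⟨pullback.lift b (𝟙 W) (by simp [hab]), pullback.lift_snd _ _ _⟩
    have h1 : d = p := by
      have e1 : fam i = pullback.snd (s i) (a ≫ s i) ≫ p := by
        simp only [fam, if_neg hij]
      calc d = 𝟙 W ≫ d := (Category.id_comp d).symm
        _ = (σi ≫ pullback.snd (s i) (a ≫ s i)) ≫ d := by rw [hσi]
        _ = σi ≫ fam i := by rw [Category.assoc, hd i]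
        _ = (σi ≫ pullback.snd (s i) (a ≫ s i)) ≫ p := by rw [e1, Category.assoc]
        _ = p := by rw [hσi, Category.id_comp]
    have h2 : d = q := by
      have e1 : fam j = pullback.snd (s j) (a ≫ s i) ≫ q := by
        simp only [fam, if_true]
      calc d = 𝟙 W ≫ d := (Category.id_comp d).symm
        _ = (σj ≫ pullback.snd (s j) (a ≫ s i)) ≫ d := by rw [hσj]
        _ = σj ≫ fam j := by rw [Category.assoc, hd j]
        _ = (σj ≫ pullback.snd (s j) (a ≫ s i)) ≫ q := by rw [e1, Category.assoc]
        _ = q := by rw [hσj, Category.id_comp]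
    exact h1.symm.trans h2
  exact ⟨IsInitial.ofUniqueHom (fun T => pullback.lift a b hab ≫ hP.to T)
    (fun T m => hsub T _ _)⟩

/-- The base change of the sieve generated by a family is generated by the base-changed family. -/
theorem pullback_ofArrows_eq {Z : C} (g : Z ⟶ X) :
    (Sieve.ofArrows Y s).pullback g =
      Sieve.ofArrows (fun i => pullback (s i) g) (fun i => pullback.snd (s i) g) := by
  ext W h
  rw [Sieve.pullback_apply, Sieve.mem_ofArrows_iff, Sieve.mem_ofArrows_iff]
  constructor
  · rintro ⟨i, a, ha⟩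
    exact ⟨i, pullback.lift a h ha.symm, (pullback.lift_snd _ _ _).symm⟩
  · rintro ⟨i, a, rfl⟩
    exact ⟨i, a ≫ pullback.fst (s i) g, by rw [Category.assoc, Category.assoc, pullback.condition]⟩

/-- A universal coproduct decomposition is a covering family for the canonical topology. -/
theorem ofArrows_mem_canonical_of_universal (hu : IsUniversalColimit (Cofan.mk X s)) :
    Sieve.ofArrows Y s ∈ Sheaf.canonicalTopology C X := by
  refine Sheaf.mem_finestTopology_of_forall_isSheafFor ?_
  rintro P ⟨T, rfl⟩ Z g
  rw [pullback_ofArrows_eq Y s g]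
  obtain ⟨hc⟩ := pullback_cofan_isColimit Y s hu g
  have h2 : Presieve.IsSheafFor (yoneda.obj T)
      (Presieve.ofArrows (fun i => pullback (s i) g) (fun i => pullback.snd (s i) g)) := by
    rw [Presieve.isSheafFor_arrows_iff]
    intro x _
    refine ⟨Cofan.IsColimit.desc hc x, fun i => Cofan.IsColimit.fac hc x i, ?_⟩
    intro t ht
    exact Cofan.IsColimit.hom_ext hc _ _ (fun i => (ht i).trans (Cofan.IsColimit.fac hc x i).symm)
  exact (Presieve.isSheafFor_iff_generate _).mp h2

/-- A disjoint universal coproduct decomposition of `X` induces a coproduct decomposition of the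
associated sheaf of `h_X` for the canonical topology. -/
theorem canon_cofan_isColimit_of_disjoint_universal
    (hc : Nonempty (IsColimit (Cofan.mk X s))) (hd : CoproductDisjoint Y)
    (hu : IsUniversalColimit (Cofan.mk X s)) :
    Nonempty (IsColimit (Cofan.mk
        ((presheafToSheaf (Sheaf.canonicalTopology C) (Type u)).obj (yoneda.obj X))
        (fun i => (presheafToSheaf (Sheaf.canonicalTopology C) (Type u)).map
          (yoneda.map (s i))))) := by
  obtain ⟨hc⟩ := hc
  refine Groth.Agent.S6132.result (Sheaf.canonicalTopology C) Y s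
    (ofArrows_mem_canonical_of_universal Y s hu)
    (fun i => CoproductDisjoint.mono_inj hc i) ?_
  intro i j hij
  have hP : IsInitial (pullback (s i) (s j)) :=
    IsInitial.ofCoproductDisjointOfIsColimit hij hc
  rw [Groth.Agent.S6139.result]
  refine ⟨⟨hP⟩, fun W f => ?_⟩
  obtain ⟨hW⟩ := isInitial_of_two_summands Y s hu hij hP (f ≫ pullback.fst (s i) (s j))
    (f ≫ pullback.snd (s i) (s j)) (by rw [Category.assoc, Category.assoc, pullback.condition])
  exact ⟨hP.to W, hW.hom_ext _ _, hP.hom_ext _ _⟩

end Universal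

section Converse

open Groth.Agent.Helper53.TF

variable {C : Type u} [SmallCategory C]

/-- The representable presheaf as a sheaf for the canonical topology. -/
def canonYoneda (T : C) : Sheaf (Sheaf.canonicalTopology C) (Type u) :=
  ⟨yoneda.obj T, (isSheaf_iff_isSheaf_of_type _ _).mpr (Sheaf.isSheaf_yoneda_obj T)⟩

/-- If the associated sheaves for the canonical topology form a coproduct, so do the objects. -/
theorem bijective_of_canon_cofan_isColimit {Z : C} {ι : Type u} (Y' : ι → C)
    (s' : ∀ i, Y' i ⟶ Z)
    (h : Nonempty (IsColimit (Cofan.mk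
        ((presheafToSheaf (Sheaf.canonicalTopology C) (Type u)).obj (yoneda.obj Z))
        (fun i => (presheafToSheaf (Sheaf.canonicalTopology C) (Type u)).map
          (yoneda.map (s' i)))))) (T : C) :
    Function.Bijective (fun (g : Z ⟶ T) (i : ι) => s' i ≫ g) :=
  (sheafify_yoneda_cofan_isColimit_iff (Sheaf.canonicalTopology C) Y' s').mp h (canonYoneda T)

/-- The functor `X ↦ a(h_X)` for the canonical topology reflects monomorphisms. -/
theorem mono_of_mono_canon {V X : C} (f : V ⟶ X)
    (h : Mono ((presheafToSheaf (Sheaf.canonicalTopology C) (Type u)).map (yoneda.map f))) :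
    Mono f := by
  constructor
  intro W g g' hgg'
  have e : (presheafToSheaf (Sheaf.canonicalTopology C) (Type u)).map (yoneda.map g) =
      (presheafToSheaf (Sheaf.canonicalTopology C) (Type u)).map (yoneda.map g') := by
    rw [← cancel_mono ((presheafToSheaf (Sheaf.canonicalTopology C) (Type u)).map (yoneda.map f)),
      ← Functor.map_comp, ← Functor.map_comp, ← Functor.map_comp, ← Functor.map_comp, hgg']
  let k := (sheafifyYonedaEquiv (Sheaf.canonicalTopology C) V (canonYoneda V)).symm (𝟙 V)
  have h1 := sheafifyYonedaEquiv_naturality (Sheaf.canonicalTopology C) g (canonYoneda V) k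
  have h2 := sheafifyYonedaEquiv_naturality (Sheaf.canonicalTopology C) g' (canonYoneda V) k
  rw [e] at h1
  have h3 := h1.symm.trans h2
  have e2 : sheafifyYonedaEquiv (Sheaf.canonicalTopology C) V (canonYoneda V) k = 𝟙 V :=
    Equiv.apply_symm_apply _ _
  rw [e2] at h3
  change g ≫ 𝟙 V = g' ≫ 𝟙 V at h3
  simpa using h3

variable {X : C} {ι : Type u} (Y : ι → C) (s : ∀ i, Y i ⟶ X)
  [∀ (i : ι) (Z : C) (g : Z ⟶ X), HasPullback (s i) g]

/-- If the associated sheaves for the canonical topology form a coproduct decomposition, the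
decomposition of `X` is a disjoint universal coproduct. -/
theorem disjoint_universal_of_canon_cofan_isColimit
    (h : Nonempty (IsColimit (Cofan.mk
        ((presheafToSheaf (Sheaf.canonicalTopology C) (Type u)).obj (yoneda.obj X))
        (fun i => (presheafToSheaf (Sheaf.canonicalTopology C) (Type u)).map
          (yoneda.map (s i)))))) :
    Nonempty (IsColimit (Cofan.mk X s)) ∧ CoproductDisjoint Y ∧
      IsUniversalColimit (Cofan.mk X s) := by
  obtain ⟨hcov, hdiag, hinit⟩ :=
    (isColimit_cofan_eps_iff (J := Sheaf.canonicalTopology C) Y s).mpr h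
  have hmono : ∀ i, Mono (s i) := fun i =>
    mono_of_mono_canon (s i) ((isIso_map_diagonal_iff_mono (J := Sheaf.canonicalTopology C)
      (s i)).mp (hdiag i))
  have hcolim : Nonempty (IsColimit (Cofan.mk X s)) := by
    rw [cofan_isColimit_iff]
    exact fun T => bijective_of_canon_cofan_isColimit Y s h T
  refine ⟨hcolim, ?_, ?_⟩
  · -- disjointness
    obtain ⟨hc⟩ := hcolim
    have : ∀ i, Mono ((Cofan.mk X s).inj i) := hmono
    have hQ : ∀ i j, i ≠ j → Nonempty (IsInitial (pullback (s i) (s j))) := by
      intro i j hij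
      obtain ⟨hI⟩ := hinit i j hij
      have hI' : IsInitial ((presheafToSheaf (Sheaf.canonicalTopology C) (Type u)).obj
          (yoneda.obj (pullback (s i) (s j)))) :=
        hI.ofIso ((presheafToSheaf (Sheaf.canonicalTopology C) (Type u)).mapIso
          (PreservesPullback.iso yoneda (s i) (s j))).symm
      have hbot := (Groth.Agent.S6131.result (Sheaf.canonicalTopology C)
        (pullback (s i) (s j))).mp ⟨hI'⟩
      exact ((Groth.Agent.S6139.result (pullback (s i) (s j))).mp hbot).1
    exact CoproductDisjoint.of_cofan hc (fun {i j} _ => pullback.cone (s i) (s j))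
      (fun {i j} _ => pullback.isLimit (s i) (s j)) (fun {i j} hij => (hQ i j hij).some)
  · -- universality
    intro F' c' α f hcomm _ hpb
    have hsq : ∀ i, IsPullback (c'.ι.app ⟨i⟩) (α.app ⟨i⟩) f (s i) := fun i => hpb ⟨i⟩
    have hmono' : ∀ i, Mono (c'.ι.app ⟨i⟩) := fun i =>
      (hsq i).mono_fst_of_mono (hmono i)
    apply discrete_isColimit_of_bijective
    apply bijective_of_canon_cofan_isColimit (fun i => F'.obj ⟨i⟩) (fun i => c'.ι.app ⟨i⟩)
    rw [← isColimit_cofan_eps_iff (J := Sheaf.canonicalTopology C)]
    refine ⟨?_, ?_, ?_⟩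
    · refine (Sheaf.canonicalTopology C).superset_covering ?_
        ((Sheaf.canonicalTopology C).pullback_stable f hcov)
      intro W k hk
      rw [Sieve.pullback_apply, Sieve.mem_ofArrows_iff] at hk
      obtain ⟨i, a, ha⟩ := hk
      rw [Sieve.mem_ofArrows_iff]
      exact ⟨i, (hsq i).lift k a ha, ((hsq i).lift_fst k a ha).symm⟩
    · intro i
      rw [isIso_map_diagonal_iff_mono]
      have := hmono' i
      infer_instance
    · intro i j hij
      obtain ⟨hI⟩ := hinit i j hij
      let m : pullback (yoneda.map (c'.ι.app ⟨i⟩)) (yoneda.map (c'.ι.app ⟨j⟩)) ⟶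
          pullback (yoneda.map (s i)) (yoneda.map (s j)) :=
        pullback.map _ _ _ _ (yoneda.map (α.app ⟨i⟩)) (yoneda.map (α.app ⟨j⟩)) (yoneda.map f)
          (by rw [← Functor.map_comp, ← Functor.map_comp, (hsq i).w])
          (by rw [← Functor.map_comp, ← Functor.map_comp, (hsq j).w])
      exact ⟨isInitial_of_hom_to
        ((presheafToSheaf (Sheaf.canonicalTopology C) (Type u)).map m) hI⟩

end Converse

end Groth.Agent.Lib.Helper68
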