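import Groth.Agent.Lib.Helper53.ToposGiraud
import Mathlib.CategoryTheory.Sites.Subcanonical
import Mathlib.CategoryTheory.Sites.EffectiveEpimorphic
import Mathlib.CategoryTheory.Sites.LocallySurjective
import Mathlib.CategoryTheory.Limits.Shapes.KernelPair

/-!
# Equivalence relations in a small category and the canonical topology

For a small category `C` with pullbacks, an equivalence relation `p₁ p₂ : R ⇉ X` with coequalizer
`π` is effective and universal iff the Yoneda embedding into sheaves for the canonical topology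
takes `π` to a coequalizer of `p₁, p₂` (SGA 4 II 4.?).
-/

set_option autoImplicit false
universe u
open CategoryTheory Limits Opposite

namespace Groth.Agent.Lib.Helper68

section General

variable {C : Type*} [Category C]

/-- For a reflexive pair, a coequalizer is also a pushout. -/
theorem isPushout_of_isColimit_cofork {R X : C} {p₁ p₂ : R ⟶ X} (ρ : X ⟶ R)
    (h1 : ρ ≫ p₁ = 𝟙 X) (h2 : ρ ≫ p₂ = 𝟙 X) (c : Cofork p₁ p₂) (hc : IsColimit c) :
    IsPushout p₁ p₂ c.π c.π := by
  have hxy : ∀ s : PushoutCocone p₁ p₂, s.inl = s.inr := by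
    intro s
    have := congrArg (ρ ≫ ·) s.condition
    simp only [← Category.assoc, h1, h2, Category.id_comp] at this
    exact this
  refine ⟨⟨c.condition⟩, ⟨PushoutCocone.IsColimit.mk c.condition
    (fun s => Cofork.IsColimit.desc hc s.inl (by rw [s.condition, hxy s])) ?_ ?_ ?_⟩⟩
  · intro s
    exact Cofork.IsColimit.π_desc' hc _ _
  · intro s
    exact (Cofork.IsColimit.π_desc' hc _ _).trans (hxy s)
  · intro s m hm1 hm2
    apply Cofork.IsColimit.hom_ext hc
    rw [hm1]
    exact (Cofork.IsColimit.π_desc' hc _ _).symm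

/-- If `π` is a pushout of `p₁, p₂` along itself, it is a coequalizer of `p₁, p₂`. -/
noncomputable def isColimitCoforkOfIsPushout {R X B : C} {p₁ p₂ : R ⟶ X} {π : X ⟶ B}
    (h : IsPushout p₁ p₂ π π) : IsColimit (Cofork.ofπ π h.w) :=
  Cofork.IsColimit.mk _ (fun s => h.desc s.π s.π s.condition) (fun s => h.inl_desc _ _ _)
    (fun s m hm => h.hom_ext (hm.trans (h.inl_desc _ _ _).symm) (hm.trans (h.inr_desc _ _ _).symm))

/-- A fully faithful functor preserving kernel pairs reflects effective epimorphisms. -/
theorem effectiveEpi_of_map_of_fullyFaithful {D : Type*} [Category D] (F : C ⥤ D) [F.Full]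
    [F.Faithful] {X B : C} (f : X ⟶ B) [HasPullback f f] [PreservesLimit (cospan f f) F]
    [EffectiveEpi (F.map f)] : EffectiveEpi f := by
  have hpb : IsPullback (F.map (pullback.fst f f)) (F.map (pullback.snd f f)) (F.map f)
      (F.map f) := (IsPullback.of_hasPullback f f).map F
  have key : ∀ {W : C} (e : X ⟶ W),
      (∀ {Z : C} (g₁ g₂ : Z ⟶ X), g₁ ≫ f = g₂ ≫ f → g₁ ≫ e = g₂ ≫ e) →
      ∀ {Z : D} (g₁ g₂ : Z ⟶ F.obj X), g₁ ≫ F.map f = g₂ ≫ F.map f →
        g₁ ≫ F.map e = g₂ ≫ F.map e := by
    intro W e he Z g₁ g₂ hg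
    obtain ⟨k, rfl, rfl⟩ : ∃ k, k ≫ F.map (pullback.fst f f) = g₁ ∧
        k ≫ F.map (pullback.snd f f) = g₂ :=
      ⟨hpb.lift g₁ g₂ hg, hpb.lift_fst _ _ _, hpb.lift_snd _ _ _⟩
    rw [Category.assoc, Category.assoc, ← F.map_comp, ← F.map_comp, he _ _ pullback.condition]
  refine ⟨⟨{ desc := fun e he => F.preimage (EffectiveEpi.desc (F.map f) (F.map e) (key e he))
             fac := ?_
             uniq := ?_ }⟩⟩
  · intro W e he
    apply F.map_injective
    rw [F.map_comp, F.map_preimage, EffectiveEpi.fac]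
  · intro W e he m hm
    apply F.map_injective
    rw [F.map_preimage]
    apply EffectiveEpi.uniq
    rw [← F.map_comp, hm]

end General

section Site

variable {C : Type u} [SmallCategory C]

/-- The canonical functor `X ↦ a(h_X)` is isomorphic to the sheaf-valued Yoneda embedding when
the topology is subcanonical. -/
noncomputable def yonedaIsoYonedaCompSheafify (J : GrothendieckTopology C) [J.Subcanonical] :
    J.yoneda ≅ yoneda ⋙ presheafToSheaf J (Type u) :=
  (Functor.rightUnitor _).symm ≪≫ Functor.isoWhiskerLeft J.yoneda (sheafificationNatIso J _) ≪≫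
    (Functor.associator _ _ _).symm ≪≫
    Functor.isoWhiskerRight J.yonedaCompSheafToPresheaf (presheafToSheaf J (Type u))

variable [HasPullbacks C]

/-- The Yoneda embedding into sheaves takes equivalence relations to equivalence relations. -/
theorem isEquivRel_yoneda_map (J : GrothendieckTopology C) [J.Subcanonical] {R X : C}
    {p₁ p₂ : R ⟶ X} (hR : SGA4.IsEquivRel p₁ p₂) :
    SGA4.IsEquivRel (J.yoneda.map p₁) (J.yoneda.map p₂) := by
  intro T
  constructor
  · intro a b hab
    simp only [Prod.mk.injEq] at hab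
    apply J.hom_ext_yoneda
    intro U p
    obtain ⟨a', ha'⟩ := J.yoneda.map_surjective (p ≫ a)
    obtain ⟨b', hb'⟩ := J.yoneda.map_surjective (p ≫ b)
    rw [← ha', ← hb']
    congr 1
    apply (hR U).1
    simp only [Prod.mk.injEq]
    constructor
    · apply J.yoneda.map_injective
      rw [Functor.map_comp, Functor.map_comp, ha', hb', Category.assoc, Category.assoc, hab.1]
    · apply J.yoneda.map_injective
      rw [Functor.map_comp, Functor.map_comp, ha', hb', Category.assoc, Category.assoc, hab.2]
  · obtain ⟨ρ, hρ1, hρ2⟩ := (hR X).2.refl (𝟙 X)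
    obtain ⟨σ, hσ1, hσ2⟩ := (hR R).2.symm ⟨𝟙 R, Category.id_comp _, Category.id_comp _⟩
    obtain ⟨τ, hτ1, hτ2⟩ := (hR (pullback p₂ p₁)).2.trans
      ⟨pullback.fst p₂ p₁, rfl, rfl⟩ ⟨pullback.snd p₂ p₁, pullback.condition.symm, rfl⟩
    have hpb : IsPullback (J.yoneda.map (pullback.fst p₂ p₁)) (J.yoneda.map (pullback.snd p₂ p₁))
        (J.yoneda.map p₂) (J.yoneda.map p₁) := (IsPullback.of_hasPullback p₂ p₁).map J.yoneda
    refine ⟨fun a => ⟨a ≫ J.yoneda.map ρ, ?_, ?_⟩, ?_, ?_⟩
    · rw [Category.assoc, ← Functor.map_comp, hρ1, CategoryTheory.Functor.map_id, Category.comp_id]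
    · rw [Category.assoc, ← Functor.map_comp, hρ2, CategoryTheory.Functor.map_id, Category.comp_id]
    · rintro a b ⟨f, h1, h2⟩
      refine ⟨f ≫ J.yoneda.map σ, ?_, ?_⟩
      · rw [Category.assoc, ← Functor.map_comp, hσ1, h2]
      · rw [Category.assoc, ← Functor.map_comp, hσ2, h1]
    · rintro a b c ⟨f, hf1, hf2⟩ ⟨g, hg1, hg2⟩
      refine ⟨hpb.lift f g (hf2.trans hg1.symm) ≫ J.yoneda.map τ, ?_, ?_⟩
      · rw [Category.assoc, ← Functor.map_comp, hτ1, Functor.map_comp, ← Category.assoc,
          hpb.lift_fst, hf1]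
      · rw [Category.assoc, ← Functor.map_comp, hτ2, Functor.map_comp, ← Category.assoc,
          hpb.lift_snd, hg2]

/-- A universally effective epimorphism generates a covering sieve of the canonical topology. -/
theorem generate_singleton_mem_canonical {X B : C} (π : X ⟶ B)
    (h : ∀ (B' : C) (g : B' ⟶ B), EffectiveEpi (pullback.snd π g)) :
    Sieve.generate (Presieve.singleton π) ∈ Sheaf.canonicalTopology C B := by
  refine Sheaf.mem_finestTopology_of_forall_isSheafFor ?_
  rintro P ⟨T, rfl⟩ Z g
  have e : (Sieve.generate (Presieve.singleton π)).pullback g =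
      Sieve.generate (Presieve.singleton (pullback.snd π g)) := by
    rw [Sieve.generateSingleton_eq, Sieve.generateSingleton_eq]
    ext W h'
    constructor
    · rintro ⟨a, ha⟩
      exact ⟨pullback.lift a h' ha, pullback.lift_snd _ _ _⟩
    · rintro ⟨a, rfl⟩
      exact ⟨a ≫ pullback.fst π g, by rw [Category.assoc, Category.assoc, pullback.condition]⟩
  rw [e]
  have := h Z g
  exact (Presieve.isSheafFor_iff_generate _).mp
    (Presieve.IsSheafFor.singleton_of_isRepresentable_of_effectiveEpi _ _)

omit [HasPullbacks C] in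
/-- A morphism generating a covering sieve becomes an epimorphism of sheaves. -/
theorem epi_yoneda_map_of_mem (J : GrothendieckTopology C) [J.Subcanonical] {X B : C} (π : X ⟶ B)
    (h : Sieve.generate (Presieve.singleton π) ∈ J B) : Epi (J.yoneda.map π) := by
  rw [← Sheaf.isLocallySurjective_iff_epi]
  constructor
  intro U s
  refine J.superset_covering ?_ (J.pullback_stable (show U ⟶ B from s) h)
  rintro V f ⟨W, i, p, ⟨⟩, hfac⟩
  exact ⟨i, hfac⟩

open Groth.Agent.Helper53.TF in
/-- SGA 4 II 4.?: for an equivalence relation with a coequalizer in a small category with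
pullbacks, being effective and universal is equivalent to the coequalizer being preserved by
the embedding into sheaves for the canonical topology. -/
theorem isEffectiveUniversalEquivRel_iff_yoneda_cofork {R X B : C} (p₁ p₂ : R ⟶ X)
    (hR : SGA4.IsEquivRel p₁ p₂) (π : X ⟶ B) (w : p₁ ≫ π = p₂ ≫ π)
    (hc : IsColimit (Cofork.ofπ π w)) :
    SGA4.IsEffectiveUniversalEquivRel p₁ p₂ ↔
      Nonempty (IsColimit (Cofork.ofπ ((Sheaf.canonicalTopology C).yoneda.map π)
        (by rw [← Functor.map_comp, w, Functor.map_comp]) :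
        Cofork ((Sheaf.canonicalTopology C).yoneda.map p₁)
          ((Sheaf.canonicalTopology C).yoneda.map p₂))) := by
  set J := Sheaf.canonicalTopology C
  constructor
  · rintro ⟨B', π', hpb, hpo, heff⟩
    have hc' : IsColimit (Cofork.ofπ π' hpo.w) := isColimitCoforkOfIsPushout hpo
    let e : B ≅ B' := hc.coconePointUniqueUpToIso hc'
    have he : π ≫ e.hom = π' :=
      hc.comp_coconePointUniqueUpToIso_hom hc' WalkingParallelPair.one
    have he' : π' ≫ e.inv = π := by rw [← he, Category.assoc, e.hom_inv_id, Category.comp_id]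
    have hcov := generate_singleton_mem_canonical π' heff
    have hepi' : Epi (J.yoneda.map π') := epi_yoneda_map_of_mem J π' hcov
    have hepi : Epi (J.yoneda.map π) := by
      rw [← he', Functor.map_comp]
      exact epi_comp _ _
    have hk : IsKernelPair π p₁ p₂ := by
      have hk' : IsKernelPair (π ≫ e.hom) p₁ p₂ := by rw [he]; exact hpb
      exact hk'.cancel_right_of_mono
    have hkY : IsKernelPair (J.yoneda.map π) (J.yoneda.map p₁) (J.yoneda.map p₂) :=
      IsPullback.map J.yoneda hk
    have : IsRegularEpi (J.yoneda.map π) := IsRegularEpiCategory.regularEpiOfEpi _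
    exact ⟨hkY.toCoequalizer'⟩
  · rintro ⟨h⟩
    have hE := isEquivRel_yoneda_map J hR
    obtain ⟨B', π', hpb, hpo, heff⟩ := isEffectiveUniversalEquivRel hE
    have hc' : IsColimit (Cofork.ofπ π' hpo.w) := isColimitCoforkOfIsPushout hpo
    let e : J.yoneda.obj B ≅ B' := h.coconePointUniqueUpToIso hc'
    have he : J.yoneda.map π ≫ e.hom = π' :=
      h.comp_coconePointUniqueUpToIso_hom hc' WalkingParallelPair.one
    have he' : π' ≫ e.inv = J.yoneda.map π := by
      rw [← he, Category.assoc, e.hom_inv_id, Category.comp_id]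
    have hkY : IsKernelPair (J.yoneda.map π) (J.yoneda.map p₁) (J.yoneda.map p₂) := by
      have hk' : IsKernelPair (π' ≫ e.inv) (J.yoneda.map p₁) (J.yoneda.map p₂) :=
        IsKernelPair.comp_of_mono hpb
      rwa [he'] at hk'
    have hepi : Epi (J.yoneda.map π) := by
      rw [← he']
      have : Epi π' := (Cofork.IsColimit.epi hc')
      exact epi_comp _ _
    obtain ⟨ρ, hρ1, hρ2⟩ := (hR X).2.refl (𝟙 X)
    refine ⟨B, π, IsPullback.of_map J.yoneda w hkY,
      isPushout_of_isColimit_cofork ρ hρ1 hρ2 (Cofork.ofπ π w) hc, ?_⟩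
    intro B'' g
    have h1 : J.yoneda.map (pullback.snd π g) =
        (PreservesPullback.iso J.yoneda π g).hom ≫
          pullback.snd (J.yoneda.map π) (J.yoneda.map g) :=
      (PreservesPullback.iso_hom_snd J.yoneda π g).symm
    have h2 : Epi (pullback.snd (J.yoneda.map π) (J.yoneda.map g)) := epi_pullback_snd _ _
    have h3 : Epi (J.yoneda.map (pullback.snd π g)) := by
      rw [h1]
      exact epi_comp _ _
    have h4 : EffectiveEpi (J.yoneda.map (pullback.snd π g)) := effectiveEpi_of_epi _
    exact effectiveEpi_of_map_of_fullyFaithful J.yoneda (pullback.snd π g)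

end Site

end Groth.Agent.Lib.Helper68
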