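import Groth.Agent.Lib.Helper53.ToposGiraud
import Mathlib.CategoryTheory.Limits.Shapes.Multiequalizer
import Mathlib.CategoryTheory.Limits.Types.Limits
import Mathlib.CategoryTheory.Limits.Yoneda

/-!
# The canonical topology of a sheaf topos (SGA 4 IV 1.2, II 4.?)

For `E = Sh(C, J)` with `C` small: covering sieves of the canonical topology of `E` are those
containing a small jointly epimorphic family, and a presheaf on `E` is a sheaf for the canonical
topology iff it turns small colimits into limits.
-/

set_option autoImplicit false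
universe w v u
open CategoryTheory Limits Opposite

namespace Groth.Agent.Lib.Helper68

open Groth.Agent.Helper53.TF ToposFin

section General

variable {D : Type*} [Category D]

/-- The base change of the sieve generated by a family is generated by the base-changed family. -/
theorem pullback_ofArrows_eq' {X : D} {ι : Type*} (Y : ι → D) (s : ∀ i, Y i ⟶ X)
    [∀ (i : ι) (Z : D) (g : Z ⟶ X), HasPullback (s i) g] {Z : D} (g : Z ⟶ X) :
    (Sieve.ofArrows Y s).pullback g =
      Sieve.ofArrows (fun i => pullback (s i) g) (fun i => pullback.snd (s i) g) := by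
  ext W h
  rw [Sieve.pullback_apply, Sieve.mem_ofArrows_iff, Sieve.mem_ofArrows_iff]
  constructor
  · rintro ⟨i, a, ha⟩
    exact ⟨i, pullback.lift a h ha.symm, (pullback.lift_snd _ _ _).symm⟩
  · rintro ⟨i, a, rfl⟩
    exact ⟨i, a ≫ pullback.fst (s i) g, by rw [Category.assoc, Category.assoc, pullback.condition]⟩

end General

variable {C : Type u} [SmallCategory C] {J : GrothendieckTopology C}

/-- A small jointly epimorphic family in a sheaf topos generates a covering sieve of the
canonical topology. -/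
theorem ofArrows_mem_canonical_of_JE {ι : Type u} {X : Sh J} {F : ι → Sh J} (π : ∀ i, F i ⟶ X)
    (h : JE π) : Sieve.ofArrows F π ∈ Sheaf.canonicalTopology (Sh J) X := by
  refine Sheaf.mem_finestTopology_of_forall_isSheafFor ?_
  rintro P ⟨T, rfl⟩ Z g
  rw [pullback_ofArrows_eq' F π g]
  have h' : JE (fun i => pullback.snd (π i) g) := h.pullback_snd g
  refine (Presieve.isSheafFor_iff_generate _).mp ?_
  rw [Presieve.isSheafFor_arrows_iff_pullbacks]
  intro x hx
  obtain ⟨d, hd⟩ := h'.exists_desc x (fun k l => hx k l)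
  exact ⟨d, hd, fun d' hd' => h' _ _ (fun i => (hd' i).trans (hd i).symm)⟩

/-- A covering sieve of the canonical topology of a sheaf topos is jointly epimorphic. -/
theorem eq_of_mem_canonical {X Z : Sh J} {S : Sieve X}
    (hS : S ∈ Sheaf.canonicalTopology (Sh J) X) (a b : X ⟶ Z)
    (hab : ∀ ⦃Y : Sh J⦄ (f : Y ⟶ X), S f → f ≫ a = f ≫ b) : a = b :=
  (Sheaf.isSheaf_yoneda_obj Z S hS).isSeparatedFor.ext (fun _ f hf => hab f hf)

/-- A covering sieve of the canonical topology of a sheaf topos contains a small jointly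
epimorphic family (of morphisms from the generators). -/
theorem JE_of_mem_canonical {X : Sh J} {S : Sieve X}
    (hS : S ∈ Sheaf.canonicalTopology (Sh J) X) :
    JE (fun p : Σ U : C, {g : eps J U ⟶ X // S g} => p.2.1) := by
  intro Z a b hab
  refine eq_of_mem_canonical hS a b (fun Y f hf => ?_)
  apply JE_eps_sections Y
  intro q
  rw [← Category.assoc, ← Category.assoc]
  exact hab ⟨q.1, ⟨(epsEquiv q.1 Y).symm q.2 ≫ f, S.downward_closed hf _⟩⟩

section LimitPreserving

variable {ι : Type u} {X : Sh J} {F : ι → Sh J} (π : ∀ i, F i ⟶ X)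

/-- The Čech multispan index of a family. -/
noncomputable def cechIndex : MultispanIndex (.prod ι) (Sh J) where
  left p := pullback (π p.1) (π p.2)
  right i := F i
  fst p := pullback.fst (π p.1) (π p.2)
  snd p := pullback.snd (π p.1) (π p.2)

/-- The Čech multicofork of a family. -/
noncomputable def cechCofork : Multicofork (cechIndex π) :=
  Multicofork.ofπ (cechIndex π) X π (fun _ => pullback.condition)

/-- A jointly epimorphic family in a sheaf topos is effective: the target is the colimit of
the Čech diagram. -/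
theorem cechCofork_isColimit (h : JE π) : Nonempty (IsColimit (cechCofork π)) := by
  have hex : ∀ E : Multicofork (cechIndex π), ∃ d : X ⟶ E.pt, ∀ i, π i ≫ d = E.π i :=
    fun E => h.exists_desc (fun i => E.π i) (fun k l => E.condition (k, l))
  choose d hd using hex
  exact ⟨Multicofork.IsColimit.mk _ d hd (fun E m hm => h _ _ (fun i => (hm i).trans (hd E i).symm))⟩

/-- A presheaf of types on a sheaf topos which turns small colimits into limits satisfies the
sheaf condition for every small jointly epimorphic family. -/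
theorem isSheafFor_ofArrows_of_preservesLimits (G : (Sh J)ᵒᵖ ⥤ Type w)
    [PreservesLimitsOfSize.{u, u} G] (h : JE π) :
    Presieve.IsSheafFor G (Presieve.ofArrows F π) := by
  obtain ⟨hc⟩ := cechCofork_isColimit π h
  have hl : IsLimit (G.mapCone (cechCofork π).op) := isLimitOfPreserves G hc.op
  rw [Presieve.isSheafFor_arrows_iff_pullbacks]
  intro x hx
  let s' : ∀ a : WalkingMultispan (.prod ι), G.obj (op ((cechIndex π).multispan.obj a)) := fun a =>
    match a with
    | .left p => G.map (pullback.fst (π p.1) (π p.2)).op (x p.1)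
    | .right i => x i
  have hs : (fun j : (WalkingMultispan (.prod ι))ᵒᵖ => s' j.unop) ∈
      ((cechIndex π).multispan.op ⋙ G).sections := by
    rintro ⟨a⟩ ⟨b⟩ ⟨f⟩
    cases f with
    | id A =>
      change G.map (𝟙 _) _ = _
      rw [G.map_id]
      rfl
    | fst p => rfl
    | snd p => exact (hx p.1 p.2).symm
  obtain ⟨t, ht, hu⟩ := (Types.isLimit_iff _).1 ⟨hl⟩ _ hs
  refine ⟨t, fun i => ht (op (.right i)), fun t' ht' => hu t' ?_⟩
  rintro ⟨a⟩
  cases a with
  | left p =>
    change G.map (pullback.fst (π p.1) (π p.2) ≫ π p.1).op t' = G.map _ (x p.1)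
    rw [op_comp, G.map_comp, ← ht' p.1]
    rfl
  | right i => exact ht' i

end LimitPreserving

/-- A presheaf of types on a sheaf topos turning small colimits into limits is a sheaf for the
canonical topology. -/
theorem isSheaf_canonical_of_preservesLimits (G : (Sh J)ᵒᵖ ⥤ Type w)
    [PreservesLimitsOfSize.{u, u} G] :
    Presieve.IsSheaf (Sheaf.canonicalTopology (Sh J)) G := by
  intro X S hS
  have hJE := JE_of_mem_canonical hS
  have hle : (Sieve.ofArrows _ (fun p : Σ U : C, {g : eps J U ⟶ X // S g} => p.2.1) :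
      Presieve X) ≤ S := by
    rintro Y f ⟨Z, a, b, ⟨p⟩, rfl⟩
    exact S.downward_closed p.2.2 a
  refine Presieve.isSheafFor_subsieve G hle (fun Y f => ?_)
  rw [pullback_ofArrows_eq' _ _ f]
  exact (Presieve.isSheafFor_iff_generate _).mp
    (isSheafFor_ofArrows_of_preservesLimits _ G (hJE.pullback_snd f))

section SheafToLimits

variable (G : (Sh J)ᵒᵖ ⥤ Type w)

/-- A sheaf for the canonical topology is separated for small jointly epimorphic families. -/
theorem eq_of_JE_of_isSheaf (hG : Presieve.IsSheaf (Sheaf.canonicalTopology (Sh J)) G)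
    {ι : Type u} {X : Sh J} {F : ι → Sh J} (π : ∀ i, F i ⟶ X) (h : JE π)
    (y₁ y₂ : G.obj (op X)) (hy : ∀ i, G.map (π i).op y₁ = G.map (π i).op y₂) : y₁ = y₂ := by
  have hS := ofArrows_mem_canonical_of_JE π h
  refine (hG _ hS).isSeparatedFor.ext ?_
  rintro Y f ⟨Z, a, b, ⟨i⟩, rfl⟩
  rw [op_comp, G.map_comp]
  change G.map a.op (G.map (π i).op y₁) = G.map a.op (G.map (π i).op y₂)
  rw [hy i]

variable {K : Type u} [Category.{u} K] (D : K ⥤ (Sh J)ᵒᵖ)

/-- The relation generating the pointwise colimit of the sections of a diagram of sheaves. -/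
def colimRel (U : Cᵒᵖ) (p q : Σ k : K, (D.obj k).unop.obj.obj U) : Prop :=
  ∃ φ : q.1 ⟶ p.1, (D.map φ).unop.hom.app U p.2 = q.2

lemma colimRel_map {U V : Cᵒᵖ} (f : U ⟶ V) {p q : Σ k : K, (D.obj k).unop.obj.obj U}
    (h : colimRel D U p q) :
    colimRel D V ⟨p.1, (D.obj p.1).unop.obj.map f p.2⟩ ⟨q.1, (D.obj q.1).unop.obj.map f q.2⟩ := by
  obtain ⟨φ, hφ⟩ := h
  refine ⟨φ, ?_⟩
  dsimp only
  rw [← hφ]
  exact NatTrans.naturality_apply (D.map φ).unop.hom f p.2

/-- The pointwise colimit presheaf of a diagram of sheaves (given as a functor to the opposite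
category). -/
def colimPresheaf : Cᵒᵖ ⥤ Type u where
  obj U := Quot (colimRel D U)
  map {U V} f := TypeCat.ofHom (Quot.map
    (fun p => (⟨p.1, (D.obj p.1).unop.obj.map f p.2⟩ : Σ k : K, (D.obj k).unop.obj.obj V))
    (fun _ _ h => colimRel_map D f h))
  map_id U := by
    ext ⟨p⟩
    change Quot.mk _ (⟨p.1, (D.obj p.1).unop.obj.map (𝟙 U) p.2⟩ :
      Σ k : K, (D.obj k).unop.obj.obj U) = Quot.mk _ p
    rw [(D.obj p.1).unop.obj.map_id]
    rfl
  map_comp f g := by
    ext ⟨p⟩
    change Quot.mk _ (⟨p.1, (D.obj p.1).unop.obj.map (f ≫ g) p.2⟩ :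
      Σ k : K, (D.obj k).unop.obj.obj _) = Quot.mk _ (⟨p.1, (D.obj p.1).unop.obj.map g
        ((D.obj p.1).unop.obj.map f p.2)⟩ : Σ k : K, (D.obj k).unop.obj.obj _)
    rw [(D.obj p.1).unop.obj.map_comp]
    rfl

/-- The canonical map from a member of the diagram to the sheafified pointwise colimit. -/
noncomputable def toColimSheaf (k : K) :
    (D.obj k).unop ⟶ (presheafToSheaf J (Type u)).obj (colimPresheaf D) :=
  ⟨{ app := fun U => TypeCat.ofHom (fun a => (Quot.mk _ ⟨k, a⟩ : (colimPresheaf D).obj U))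
     naturality := fun U V f => by
       ext a
       rfl } ≫ toSheafify J (colimPresheaf D)⟩

lemma toColimSheaf_app (k : K) {U : Cᵒᵖ} (a : (D.obj k).unop.obj.obj U) :
    (toColimSheaf D k).hom.app U a =
      (toSheafify J (colimPresheaf D)).app U (Quot.mk _ ⟨k, a⟩) := rfl

lemma toColimSheaf_comp {k l : K} (φ : k ⟶ l) :
    (D.map φ).unop ≫ toColimSheaf D k = toColimSheaf D l := by
  ext U b
  change (toColimSheaf D k).hom.app U ((D.map φ).unop.hom.app U b) =
    (toColimSheaf D l).hom.app U b
  rw [toColimSheaf_app, toColimSheaf_app]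
  congr 1
  exact (Quot.sound (⟨φ, rfl⟩ : colimRel D U ⟨l, b⟩ ⟨k, (D.map φ).unop.hom.app U b⟩)).symm

/-- The cone with vertex the sheafified pointwise colimit. -/
noncomputable def colimSheafCone : Cone D where
  pt := op ((presheafToSheaf J (Type u)).obj (colimPresheaf D))
  π :=
    { app := fun k => (toColimSheaf D k).op
      naturality := fun k l φ => by
        rw [Functor.const_obj_map]
        refine (Category.id_comp _).trans ?_
        exact Quiver.Hom.unop_inj ((toColimSheaf_comp D φ)).symm }

variable {D}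

/-- The legs of a cone in the opposite category, as morphisms of the original category. -/
abbrev coneLeg (c : Cone D) (k : K) : (D.obj k).unop ⟶ c.pt.unop := (c.π.app k).unop

/-- Two sections of members of the diagram with the same image in the colimit are locally
connected by a zigzag. -/
theorem exists_cover_eqvGen (c : Cone D) (hc : IsLimit c) {k l : K} {U : C}
    (a : (D.obj k).unop.obj.obj (op U)) (b : (D.obj l).unop.obj.obj (op U))
    (hab : (c.π.app k).unop.hom.app _ a = (c.π.app l).unop.hom.app _ b) :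
    ∃ S ∈ J U, ∀ ⦃V : C⦄ (f : V ⟶ U), S f →
      Relation.EqvGen (colimRel D (op V)) ⟨k, (D.obj k).unop.obj.map f.op a⟩
        ⟨l, (D.obj l).unop.obj.map f.op b⟩ := by
  let m : c.pt.unop ⟶ (presheafToSheaf J (Type u)).obj (colimPresheaf D) :=
    (hc.lift (colimSheafCone D)).unop
  have hm : ∀ k, (c.π.app k).unop ≫ m = toColimSheaf D k := fun k =>
    congrArg Quiver.Hom.unop (hc.fac (colimSheafCone D) k)
  have h1 : (toColimSheaf D k).hom.app _ a = (toColimSheaf D l).hom.app _ b := by
    rw [← hm k, ← hm l]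
    change m.hom.app _ ((c.π.app k).unop.hom.app _ a) = m.hom.app _ ((c.π.app l).unop.hom.app _ b)
    rw [hab]
  rw [toColimSheaf_app, toColimSheaf_app] at h1
  refine ⟨_, Presheaf.equalizerSieve_mem J (toSheafify J (colimPresheaf D)) (X := op U)
    (Quot.mk _ ⟨k, a⟩) (Quot.mk _ ⟨l, b⟩) h1, fun V f hf => ?_⟩
  exact Quot.eqvGen_exact hf

lemma epsMap_comp_epsEquiv_symm {V W : C} (f : W ⟶ V) {F : Sh J} (a : F.obj.obj (op V)) :
    epsMap J f ≫ (epsEquiv V F).symm a = (epsEquiv W F).symm (F.obj.map f.op a) := by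
  apply (epsEquiv W F).injective
  rw [epsEquiv_naturality_left, Equiv.apply_symm_apply, Equiv.apply_symm_apply]

/-- A compatible family for the diagram takes the same value on sections connected by a
zigzag. -/
theorem map_eq_of_eqvGen {s : ∀ k, G.obj (D.obj k)}
    (hs : ∀ {k l : K} (φ : k ⟶ l), G.map (D.map φ) (s k) = s l) {V : C}
    (p q : Σ k : K, (D.obj k).unop.obj.obj (op V))
    (h : Relation.EqvGen (colimRel D (op V)) p q) :
    G.map ((epsEquiv V (D.obj p.1).unop).symm p.2).op (s p.1) =
      G.map ((epsEquiv V (D.obj q.1).unop).symm q.2).op (s q.1) := by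
  induction h with
  | rel p q h =>
    obtain ⟨φ, hφ⟩ := h
    have e : (epsEquiv V (D.obj q.1).unop).symm q.2 =
        (epsEquiv V (D.obj p.1).unop).symm p.2 ≫ (D.map φ).unop := by
      rw [epsEquiv_symm_comp, hφ]
    rw [e, op_comp, G.map_comp, ← hs φ]
    rfl
  | refl p => rfl
  | symm p q _ ih => exact ih.symm
  | trans p q r _ _ ih1 ih2 => exact ih1.trans ih2

/-- A compatible family for a limit cone in the opposite of a sheaf topos is compatible in the
sense of the covering family formed by the cone. -/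
theorem compatible_of_isSheaf (hG : Presieve.IsSheaf (Sheaf.canonicalTopology (Sh J)) G)
    (c : Cone D) (hc : IsLimit c) (s : ∀ k, G.obj (D.obj k))
    (hs : ∀ {k l : K} (φ : k ⟶ l), G.map (D.map φ) (s k) = s l) :
    Presieve.Arrows.Compatible G (coneLeg c) s := by
  intro k l Z g g' hgg'
  refine eq_of_JE_of_isSheaf G hG _ (JE_eps_sections Z) _ _ ?_
  rintro ⟨V, z⟩
  change G.map ((epsEquiv V Z).symm z).op (G.map g.op (s k)) =
    G.map ((epsEquiv V Z).symm z).op (G.map g'.op (s l))
  rw [← ConcreteCategory.comp_apply, ← ConcreteCategory.comp_apply, ← G.map_comp, ← G.map_comp,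
    ← op_comp, ← op_comp, epsEquiv_symm_comp, epsEquiv_symm_comp]
  have hab : (c.π.app k).unop.hom.app _ (g.hom.app _ z) =
      (c.π.app l).unop.hom.app _ (g'.hom.app _ z) :=
    congrArg (fun ψ : Z ⟶ c.pt.unop => ψ.hom.app (op V) z) hgg'
  obtain ⟨S, hS, hSV⟩ := exists_cover_eqvGen c hc _ _ hab
  refine eq_of_JE_of_isSheaf G hG
    (fun p : Σ W : C, {f : W ⟶ V // S f} => epsMap J p.2.1) ?_ _ _ ?_
  · rw [JE_epsMap_iff]
    refine J.superset_covering ?_ hS
    intro W f hf
    exact Sieve.ofArrows_mk _ _ (⟨W, f, hf⟩ : Σ W : C, {f : W ⟶ V // S f})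
  · rintro ⟨W, f, hf⟩
    change G.map (epsMap J f).op (G.map _ (s k)) = G.map (epsMap J f).op (G.map _ (s l))
    rw [← ConcreteCategory.comp_apply, ← ConcreteCategory.comp_apply, ← G.map_comp, ← G.map_comp,
      ← op_comp, ← op_comp, epsMap_comp_epsEquiv_symm, epsMap_comp_epsEquiv_symm]
    exact map_eq_of_eqvGen G hs
      (⟨k, (D.obj k).unop.obj.map f.op (g.hom.app _ z)⟩ : Σ k : K, (D.obj k).unop.obj.obj (op W))
      (⟨l, (D.obj l).unop.obj.map f.op (g'.hom.app _ z)⟩ : Σ k : K, (D.obj k).unop.obj.obj (op W))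
      (hSV f hf)

/-- A sheaf of types for the canonical topology of a sheaf topos turns small colimits into
limits. -/
theorem preservesLimit_of_isSheaf (hG : Presieve.IsSheaf (Sheaf.canonicalTopology (Sh J)) G)
    (D : K ⥤ (Sh J)ᵒᵖ) : PreservesLimit D G := by
  constructor
  intro c hc
  rw [Types.isLimit_iff]
  intro s hs
  have hJE : JE (coneLeg c) := by
    intro Z a b hab
    have : a.op = b.op := hc.hom_ext (fun k => Quiver.Hom.unop_inj (hab k))
    exact Quiver.Hom.op_inj this
  have hS := ofArrows_mem_canonical_of_JE _ hJE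
  have hsh := (Presieve.isSheafFor_iff_generate _).mpr (hG _ hS)
  rw [Presieve.isSheafFor_arrows_iff] at hsh
  exact hsh s (compatible_of_isSheaf G hG c hc s (fun φ => hs φ))

theorem preservesLimitsOfSize_of_isSheaf
    (hG : Presieve.IsSheaf (Sheaf.canonicalTopology (Sh J)) G) :
    PreservesLimitsOfSize.{u, u} G :=
  ⟨fun {_} _ => ⟨fun {D} => preservesLimit_of_isSheaf G hG D⟩⟩

end SheafToLimits

/-- SGA 4 IV 1.2 / II 4.?: a presheaf on a sheaf topos, with values in any category, is a sheaf for
the canonical topology iff it turns small colimits into limits. -/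
theorem isSheaf_canonical_iff_preservesLimits {E' : Type v} [Category.{w} E']
    (F : (Sh J)ᵒᵖ ⥤ E') :
    Presheaf.IsSheaf (Sheaf.canonicalTopology (Sh J)) F ↔ PreservesLimitsOfSize.{u, u} F := by
  constructor
  · intro hF
    refine ⟨fun {K} _ => ⟨fun {D} => ⟨fun {c} hc =>
      ⟨coyonedaJointlyReflectsLimits _ _ (fun T => ?_)⟩⟩⟩⟩
    have := preservesLimit_of_isSheaf (F ⋙ coyoneda.obj T) (hF T.unop) D
    exact isLimitOfPreserves (F ⋙ coyoneda.obj T) hc
  · intro hF T
    exact isSheaf_canonical_of_preservesLimits (F ⋙ coyoneda.obj (op T))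

end Groth.Agent.Lib.Helper68
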