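import Groth.Agent.Lib.Helper6.Compact
import Mathlib

/-!
# Maps into a coproduct with finite support (helper68)

For a colimit cofan `c` of a family `M : I → D` in a preadditive category, `e hc s` is the
idempotent of `c.pt` projecting onto the finite sub-sum indexed by `s`.  `FS Z hc` says that
every map `Z ⟶ c.pt` is fixed by some `e hc s`.  It is stable under extensions
(a by-hand four lemma) and implies bijectivity of `CohDer.homSumToHomCoprod`.
-/

set_option autoImplicit false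
universe w v u
open CategoryTheory Limits

namespace Groth.Agent.Lib.Helper68.CompactFS

attribute [local instance] Classical.propDecidable

section Idem

variable {D : Type u} [Category.{v} D] [Preadditive D] {I : Type w} {M : I → D}
  {c : Cofan M} (hc : IsColimit c)

/-- projection onto the finite sub-sum indexed by `s` -/
noncomputable def e (s : Finset I) : c.pt ⟶ c.pt :=
  Cofan.IsColimit.desc hc (fun i => if i ∈ s then c.inj i else 0)

lemma inj_e (s : Finset I) (i : I) : c.inj i ≫ e hc s = if i ∈ s then c.inj i else 0 :=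
  Cofan.IsColimit.fac hc _ i

lemma inj_e_of_mem (s : Finset I) (i : I) (h : i ∈ s) : c.inj i ≫ e hc s = c.inj i := by
  rw [inj_e, if_pos h]

lemma inj_e_of_not_mem (s : Finset I) (i : I) (h : i ∉ s) : c.inj i ≫ e hc s = 0 := by
  rw [inj_e, if_neg h]

lemma e_e (s t : Finset I) : e hc s ≫ e hc t = e hc (s ∩ t) := by
  apply Cofan.IsColimit.hom_ext hc
  intro i
  by_cases hs : i ∈ s
  · rw [← Category.assoc, inj_e_of_mem hc s i hs]
    by_cases ht : i ∈ t
    · rw [inj_e_of_mem hc t i ht, inj_e_of_mem hc _ i (Finset.mem_inter.2 ⟨hs, ht⟩)]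
    · rw [inj_e_of_not_mem hc t i ht, inj_e_of_not_mem hc _ i (fun h => ht (Finset.mem_inter.1 h).2)]
  · rw [← Category.assoc, inj_e_of_not_mem hc s i hs, zero_comp,
      inj_e_of_not_mem hc _ i (fun h => hs (Finset.mem_inter.1 h).1)]

lemma comp_e_mono {Z : D} (φ : Z ⟶ c.pt) {s t : Finset I} (h : s ⊆ t) (hφ : φ ≫ e hc s = φ) :
    φ ≫ e hc t = φ := by
  rw [← hφ, Category.assoc, e_e, Finset.inter_eq_left.2 h]

/-- the maps with finite support form a subgroup -/
noncomputable def FSsub (Z : D) : AddSubgroup (Z ⟶ c.pt) where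
  carrier := {φ | ∃ s : Finset I, φ ≫ e hc s = φ}
  zero_mem' := ⟨∅, zero_comp⟩
  add_mem' := by
    classical
    rintro φ ψ ⟨s, hs⟩ ⟨t, ht⟩
    refine ⟨s ∪ t, ?_⟩
    rw [Preadditive.add_comp, comp_e_mono hc φ Finset.subset_union_left hs,
      comp_e_mono hc ψ Finset.subset_union_right ht]
  neg_mem' := by
    rintro φ ⟨s, hs⟩
    exact ⟨s, by rw [Preadditive.neg_comp, hs]⟩

lemma mem_FSsub {Z : D} (φ : Z ⟶ c.pt) : φ ∈ FSsub hc Z ↔ ∃ s : Finset I, φ ≫ e hc s = φ :=
  Iff.rfl

lemma comp_inj_mem {Z : D} (i : I) (ψ : Z ⟶ M i) : ψ ≫ c.inj i ∈ FSsub hc Z := by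
  classical
  exact ⟨{i}, by rw [Category.assoc, inj_e_of_mem hc _ i (Finset.mem_singleton_self i)]⟩

/-- every map from `Z` to the coproduct has finite support -/
def FS (Z : D) : Prop := ∀ φ : Z ⟶ c.pt, ∃ s : Finset I, φ ≫ e hc s = φ

lemma FS_of_subsingleton (Z : D) [Subsingleton (Z ⟶ c.pt)] : FS hc Z :=
  fun _ => ⟨∅, Subsingleton.elim _ _⟩

end Idem

section Map

variable {D : Type u} [Category.{v} D] [Preadditive D] {I : Type w} {A B : I → D}
  {cA : Cofan A} (hA : IsColimit cA) {cB : Cofan B} (hB : IsColimit cB)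

/-- the map of coproducts induced by a family of maps -/
noncomputable def mapC (f : ∀ i, A i ⟶ B i) : cA.pt ⟶ cB.pt :=
  Cofan.IsColimit.desc hA (fun i => f i ≫ cB.inj i)

variable (cB) in
lemma inj_mapC (f : ∀ i, A i ⟶ B i) (i : I) : cA.inj i ≫ mapC (cB := cB) hA f = f i ≫ cB.inj i :=
  Cofan.IsColimit.fac hA _ i

lemma mapC_e (f : ∀ i, A i ⟶ B i) (s : Finset I) :
    mapC (cB := cB) hA f ≫ e hB s = e hA s ≫ mapC (cB := cB) hA f := by
  apply Cofan.IsColimit.hom_ext hA
  intro i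
  rw [← Category.assoc, inj_mapC, Category.assoc, ← Category.assoc (cA.inj i)]
  by_cases hs : i ∈ s
  · rw [inj_e_of_mem hB s i hs, inj_e_of_mem hA s i hs, inj_mapC]
  · rw [inj_e_of_not_mem hB s i hs, inj_e_of_not_mem hA s i hs, comp_zero, zero_comp]

/-- finite support is invariant under isomorphisms of families -/
lemma FS_of_iso (u : ∀ i, A i ≅ B i) (Z : D) (h : FS hA Z) : FS hB Z := by
  intro φ
  have h1 : mapC (cB := cA) hB (fun i => (u i).inv) ≫ mapC (cB := cB) hA (fun i => (u i).hom) =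
      𝟙 _ := by
    apply Cofan.IsColimit.hom_ext hB
    intro i
    rw [← Category.assoc, inj_mapC, Category.assoc, inj_mapC, ← Category.assoc, Iso.inv_hom_id,
      Category.id_comp, Category.comp_id]
  obtain ⟨s, hs⟩ := h (φ ≫ mapC (cB := cA) hB (fun i => (u i).inv))
  refine ⟨s, ?_⟩
  have := congrArg (fun x => x ≫ mapC (cB := cB) hA (fun i => (u i).hom)) hs
  simp only [Category.assoc] at this
  rw [← mapC_e hA hB, h1, Category.comp_id, ← Category.assoc, ← Category.assoc, Category.assoc φ,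
    h1, Category.comp_id] at this
  exact this

end Map

section Ext

open Pretriangulated

variable {D : Type u} [Category.{v} D] [Preadditive D] [HasZeroObject D] [HasShift D ℤ]
  [∀ n : ℤ, (shiftFunctor D n).Additive] [Pretriangulated D]
  {I : Type w} {A B C : I → D}
  {cA : Cofan A} (hA : IsColimit cA) {cB : Cofan B} (hB : IsColimit cB)
  {cC : Cofan C} (hC : IsColimit cC)
  (f : ∀ i, A i ⟶ B i) (g : ∀ i, B i ⟶ C i) (h : ∀ i, C i ⟶ (A i)⟦(1 : ℤ)⟧)
  (hT : ∀ i, Triangle.mk (f i) (g i) (h i) ∈ distTriang D)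

include hC hT in
/-- exactness of the coproduct of distinguished triangles in the middle, tested on `Z` -/
lemma exists_lift_of_comp_mapC_eq_zero {Z : D} (φ : Z ⟶ cB.pt)
    (hφ : φ ≫ mapC (cB := cC) hB g = 0) : ∃ ψ : Z ⟶ cA.pt, φ = ψ ≫ mapC (cB := cB) hA f := by
  obtain ⟨X, f₂, f₃, hT'⟩ := distinguished_cocone_triangle (mapC (cB := cB) hA f)
  have hc : ∀ i, ∃ ci : C i ⟶ X, g i ≫ ci = cB.inj i ≫ f₂ := by
    intro i
    obtain ⟨ci, h1, _⟩ := complete_distinguished_triangle_morphism _ _ (hT i) hT'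
      (cA.inj i) (cB.inj i) (inj_mapC hA cB f i).symm
    exact ⟨ci, h1⟩
  choose ci hci using hc
  have h2 : mapC (cB := cC) hB g ≫ Cofan.IsColimit.desc hC ci = f₂ := by
    apply Cofan.IsColimit.hom_ext hB
    intro i
    rw [← Category.assoc, inj_mapC, Category.assoc, Cofan.IsColimit.fac, hci]
  have h3 : φ ≫ f₂ = 0 := by
    rw [← h2, ← Category.assoc, hφ, zero_comp]
  exact Triangle.coyoneda_exact₂ _ hT' φ h3

include hT in
/-- finite support passes to extensions -/
theorem FS_ext (Z : D) (FA : FS hA Z) (FC : FS hC Z) : FS hB Z := by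
  classical
  intro φ
  obtain ⟨s, hs⟩ := FC (φ ≫ mapC (cB := cC) hB g)
  have h1 : (φ - φ ≫ e hB s) ≫ mapC (cB := cC) hB g = 0 := by
    rw [Preadditive.sub_comp, Category.assoc, ← mapC_e hB hC, ← Category.assoc, hs, sub_self]
  obtain ⟨ψ, hψ⟩ := exists_lift_of_comp_mapC_eq_zero hA hB hC f g h hT _ h1
  obtain ⟨t, ht⟩ := FA ψ
  refine ⟨s ∪ t, ?_⟩
  have h2 : φ = ψ ≫ mapC (cB := cB) hA f + φ ≫ e hB s := by
    rw [← hψ, sub_add_cancel]
  have h3 : (φ ≫ e hB s) ≫ e hB (s ∪ t) = φ ≫ e hB s := by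
    rw [Category.assoc, e_e, Finset.inter_eq_left.2 Finset.subset_union_left]
  have h4 : (ψ ≫ mapC (cB := cB) hA f) ≫ e hB (s ∪ t) = ψ ≫ mapC (cB := cB) hA f := by
    rw [Category.assoc, mapC_e hA hB, ← Category.assoc,
      comp_e_mono hA ψ Finset.subset_union_right ht]
  conv_lhs => rw [h2]
  rw [Preadditive.add_comp, h3, h4, ← h2]

end Ext

section Range

variable {D : Type u} [Category.{v} D] [Preadditive D] {I : Type v} (M : I → D) [HasCoproduct M]

lemma e_eq_sum (s : Finset I) :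
    e (coproductIsCoproduct M) s = ∑ j ∈ s, Sigma.π M j ≫ Sigma.ι M j := by
  apply Cofan.IsColimit.hom_ext (coproductIsCoproduct M)
  intro i
  change Sigma.ι M i ≫ _ = Sigma.ι M i ≫ _
  have h0 : Sigma.ι M i ≫ e (coproductIsCoproduct M) s =
      (Cofan.mk (∐ M) (Sigma.ι M)).inj i ≫ e (coproductIsCoproduct M) s := rfl
  rw [Preadditive.comp_sum, h0]
  by_cases hs : i ∈ s
  · rw [inj_e_of_mem _ s i hs, Finset.sum_eq_single i]
    · rw [Sigma.ι_π_eq_id_assoc]
      rfl
    · intro b _ hb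
      rw [Sigma.ι_π_of_ne_assoc _ (Ne.symm hb), zero_comp]
    · intro h; exact absurd hs h
  · rw [inj_e_of_not_mem _ s i hs]
    symm
    apply Finset.sum_eq_zero
    intro b hb
    have : i ≠ b := fun h => hs (h ▸ hb)
    rw [Sigma.ι_π_of_ne_assoc _ this, zero_comp]

theorem bijective_of_FS (Z : D) (h : FS (coproductIsCoproduct M) Z) :
    Function.Bijective (CohDer.homSumToHomCoprod Z M) := by
  classical
  refine ⟨Groth.Agent.Lib.Helper6.homSumToHomCoprod_injective Z M, fun φ => ?_⟩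
  obtain ⟨s, hs⟩ := h φ
  change φ ∈ (CohDer.homSumToHomCoprod Z M).range
  have hs' : φ ≫ e (coproductIsCoproduct M) s = φ := hs
  rw [← hs', e_eq_sum, Preadditive.comp_sum]
  refine AddSubgroup.sum_mem _ fun j _ => ?_
  rw [← Category.assoc]
  exact Groth.Agent.Lib.Helper6.comp_ι_mem_range Z M j _

end Range

end Groth.Agent.Lib.Helper68.CompactFS
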