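import Groth.Agent.Lib.Helper68.CompactFS1
import Groth.Agent.Lib.Helper6.CountableCoprod

/-!
# Coproducts in the derived category and the t-structure (helper68)
-/

set_option autoImplicit false
universe w' w v u
open CategoryTheory Limits DerivedCategory

namespace Groth.Agent.Lib.Helper68.CompactFS

open Groth.Agent.Lib.Helper6.DerCoprodU

variable {𝒜 : Type u} [Category.{v} 𝒜] [Abelian 𝒜] [HasDerivedCategory.{w} 𝒜]
  {I : Type w'} [HasColimitsOfShape (Discrete I) 𝒜]

lemma isZero_sigmaC_X (K : I → CochainComplex 𝒜 ℤ) (n : ℤ) (h : ∀ i, IsZero ((K i).X n)) :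
    IsZero ((sigmaC K).X n) := by
  change IsZero (colimit ((fam K).X n))
  rw [IsZero.iff_id_eq_zero]
  apply colimit.hom_ext
  rintro ⟨i⟩
  exact (h i).eq_of_src _ _

instance isStrictlyGE_sigmaC (K : I → CochainComplex 𝒜 ℤ) (n : ℤ) [∀ i, (K i).IsStrictlyGE n] :
    CochainComplex.IsStrictlyGE (sigmaC K) n := by
  rw [CochainComplex.isStrictlyGE_iff]
  intro m hm
  exact isZero_sigmaC_X K m (fun i => (K i).isZero_of_isStrictlyGE n m hm)

instance isStrictlyLE_sigmaC (K : I → CochainComplex 𝒜 ℤ) (n : ℤ) [∀ i, (K i).IsStrictlyLE n] :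
    CochainComplex.IsStrictlyLE (sigmaC K) n := by
  rw [CochainComplex.isStrictlyLE_iff]
  intro m hm
  exact isZero_sigmaC_X K m (fun i => (K i).isZero_of_isStrictlyLE n m hm)

variable [HasExactColimitsOfShape (Discrete I) 𝒜]

/-- a colimit cofan of a family isomorphic to `Q.obj (K i)` has point `Q.obj (sigmaC K)` -/
lemma nonempty_pt_iso {M : I → DerivedCategory 𝒜} {c : Cofan M} (hc : IsColimit c)
    (K : I → CochainComplex 𝒜 ℤ) (e : ∀ i, M i ≅ Q.obj (K i)) :
    Nonempty (c.pt ≅ Q.obj (sigmaC K)) :=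
  ⟨IsColimit.coconePointsIsoOfNatIso hc (isColimitCofan K) (Discrete.natIso (fun ⟨i⟩ => e i))⟩

lemma isGE_pt {M : I → DerivedCategory 𝒜} {c : Cofan M} (hc : IsColimit c) (n : ℤ)
    (h : ∀ i, (M i).IsGE n) : c.pt.IsGE n := by
  have hK := fun i => exists_iso_Q_obj_of_isGE (M i) n
  choose K hK e using hK
  obtain ⟨u⟩ := nonempty_pt_iso hc K (fun i => (e i).some)
  have : (Q.obj (sigmaC K : CochainComplex 𝒜 ℤ)).IsGE n := by
    rw [isGE_Q_obj_iff]
    have := isStrictlyGE_sigmaC K n
    infer_instance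
  exact TStructure.t.isGE_of_iso u.symm n

lemma isLE_pt {M : I → DerivedCategory 𝒜} {c : Cofan M} (hc : IsColimit c) (n : ℤ)
    (h : ∀ i, (M i).IsLE n) : c.pt.IsLE n := by
  have hK := fun i => exists_iso_Q_obj_of_isLE (M i) n
  choose K hK e using hK
  obtain ⟨u⟩ := nonempty_pt_iso hc K (fun i => (e i).some)
  have : (Q.obj (sigmaC K : CochainComplex 𝒜 ℤ)).IsLE n := by
    rw [isLE_Q_obj_iff]
    have := isStrictlyLE_sigmaC K n
    infer_instance
  exact TStructure.t.isLE_of_iso u.symm n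

variable (𝒜 I) in
lemma hasCoproductsOfShape' : HasCoproductsOfShape I (DerivedCategory 𝒜) :=
  hasCoproductsOfShape 𝒜 I

/-- the single functors preserve coproducts -/
noncomputable def isColimitMapSingle (b : ℤ) {F : I → 𝒜} {c : Cofan F} (hc : IsColimit c) :
    IsColimit (Cofan.mk ((singleFunctor 𝒜 b).obj c.pt) (fun i => (singleFunctor 𝒜 b).map (c.inj i))) := by
  have h1 : PreservesColimitsOfShape (Discrete I) (CochainComplex.singleFunctor 𝒜 b) :=
    (inferInstance : PreservesColimitsOfShape (Discrete I)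
      (HomologicalComplex.single 𝒜 (ComplexShape.up ℤ) b))
  have h2 : PreservesColimitsOfShape (Discrete I)
      (Q : CochainComplex 𝒜 ℤ ⥤ DerivedCategory 𝒜) :=
    Groth.Agent.Lib.Helper6.CountableCoprod.preservesColimitsOfShape_Q
  have : PreservesColimitsOfShape (Discrete I) (singleFunctor 𝒜 b) :=
    preservesColimitsOfShape_of_natIso (singleFunctorIsoCompQ 𝒜 b).symm
  exact (isColimitMapCoconeCofanMkEquiv (singleFunctor 𝒜 b) F c.inj)
    (isColimitOfPreserves (singleFunctor 𝒜 b) ((IsColimit.ofIsoColimit hc (Cofan.ext (Iso.refl _) (by intro i; simp [Cofan.inj]))) : IsColimit (Cofan.mk c.pt c.inj)))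

end Groth.Agent.Lib.Helper68.CompactFS
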