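import Groth.Agent.Lib.Helper68.CompactFS2

/-!
# Compactness of a single object with respect to uniformly bounded below sums (helper68)

`ExtSumGen Zo I`: the functors `Ext^p(Zo, -)` send `I`-indexed coproducts to jointly generated
families.  Under this hypothesis every map `Zo[0] ⟶ ∐ M i` in the derived category with `M i`
uniformly bounded below has finite support.
-/

set_option autoImplicit false
universe w₂ w' w v u
open CategoryTheory Limits DerivedCategory Pretriangulated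

namespace Groth.Agent.Lib.Helper68.CompactFS

variable {𝒜 : Type u} [Category.{v} 𝒜] [Abelian 𝒜] [HasDerivedCategory.{w} 𝒜] [HasExt.{w₂} 𝒜]

/-- `Ext^p(Zo, -)` sends coproducts indexed by `I` to jointly generated families -/
def ExtSumGen (Zo : 𝒜) (I : Type w') : Prop :=
  ∀ (p : ℕ) (F : I → 𝒜) (c : Cofan F) (_ : IsColimit c) (S' : AddSubgroup (Abelian.Ext Zo c.pt p)),
    (∀ (i : I) (y : Abelian.Ext Zo (F i) p),
      y.comp (Abelian.Ext.mk₀ (c.inj i)) (add_zero p) ∈ S') → ∀ x, x ∈ S'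

variable {I : Type w'} [HasColimitsOfShape (Discrete I) 𝒜] [HasExactColimitsOfShape (Discrete I) 𝒜]


section Single

variable (Zo : 𝒜) (b : ℤ) (p : ℕ) (hpb : (p : ℤ) + b = 0)

/-- the comparison `Ext^p(Zo, X) → Hom(Zo[0], X[-b])` -/
noncomputable def Θ (X : 𝒜) : Abelian.Ext Zo X p →+ ((singleFunctor 𝒜 0).obj Zo ⟶ (singleFunctor 𝒜 b).obj X) :=
  (Preadditive.rightComp _ (((singleFunctors 𝒜).shiftIso (p : ℤ) b 0 hpb).hom.app X)).comp
    (Abelian.Ext.homAddEquiv (X := Zo) (Y := X) (n := p)).toAddMonoidHom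

lemma Θ_apply (X : 𝒜) (x : Abelian.Ext Zo X p) :
    Θ Zo b p hpb X x = x.hom ≫ ((singleFunctors 𝒜).shiftIso (p : ℤ) b 0 hpb).hom.app X := rfl

lemma Θ_surjective (X : 𝒜) : Function.Surjective (Θ Zo b p hpb X) := by
  intro φ
  obtain ⟨x, hx⟩ := (Abelian.Ext.homEquiv (X := Zo) (Y := X) (n := p)).surjective
    (φ ≫ ((singleFunctors 𝒜).shiftIso (p : ℤ) b 0 hpb).inv.app X)
  refine ⟨x, ?_⟩
  rw [Θ_apply]
  change Abelian.Ext.homEquiv x ≫ _ = _
  rw [hx, Category.assoc, Iso.inv_hom_id_app]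
  exact Category.comp_id _

lemma Θ_comp {X Y : 𝒜} (g : X ⟶ Y) (y : Abelian.Ext Zo X p) :
    Θ Zo b p hpb Y (y.comp (Abelian.Ext.mk₀ g) (add_zero p)) =
      Θ Zo b p hpb X y ≫ (singleFunctor 𝒜 b).map g := by
  rw [Θ_apply, Θ_apply, Abelian.Ext.comp_hom, Abelian.Ext.mk₀_hom, ShiftedHom.comp_mk₀,
    Category.assoc, Category.assoc]
  congr 1
  exact ((singleFunctors 𝒜).shiftIso (p : ℤ) b 0 hpb).hom.naturality g

end Single

variable (Zo : 𝒜) (hZ : ExtSumGen Zo I)

include hZ in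
/-- finite support for families concentrated in a single degree -/
lemma FS_single (b : ℤ) {F : I → 𝒜} {c : Cofan F} (hc : IsColimit c) :
    FS (isColimitMapSingle b hc) ((singleFunctor 𝒜 0).obj Zo) := by
  by_cases hb : 0 < b
  · intro φ
    have h0 : ∀ φ' : (singleFunctor 𝒜 0).obj Zo ⟶ (singleFunctor 𝒜 b).obj c.pt, φ' = 0 :=
      fun φ' => TStructure.t.zero φ' 0 b hb
    have : φ = 0 := h0 φ
    exact ⟨∅, by rw [this, zero_comp]⟩
  · obtain ⟨p, hp⟩ : ∃ p : ℕ, (p : ℤ) + b = 0 := ⟨(-b).toNat, by omega⟩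
    intro φ
    obtain ⟨x, rfl⟩ := Θ_surjective Zo b p hp c.pt φ
    have key := hZ p F c hc ((FSsub (isColimitMapSingle b hc) ((singleFunctor 𝒜 0).obj Zo)).comap (Θ Zo b p hp c.pt))
      (fun i y => by
        rw [AddSubgroup.mem_comap, Θ_comp]
        exact comp_inj_mem (isColimitMapSingle b hc) i _) x
    exact key

end Groth.Agent.Lib.Helper68.CompactFS
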