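import Groth.Agent.Lib.Helper68.CompactFS4
import Groth.Prelude.Def_CohSite
import Groth.Prelude.Def_CohCx

set_option autoImplicit false
universe u
open CategoryTheory Limits DerivedCategory Opposite

namespace Groth.Agent.Lib.Helper68.CompactFS

variable {C : Type u} [SmallCategory C] (J : GrothendieckTopology C) (U : C)
  [HasDerivedCategory.{u} (Sheaf J AddCommGrpCat.{u})]

lemma extSumGen_of_preserves
    (h : ∀ (p : ℕ) (ι : Type u), PreservesColimitsOfShape (Discrete ι)
      ((Sheaf.cohomologyPresheafFunctor J p).flip.obj (op U))) (I : Type u) :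
    ExtSumGen (CohCx.freeSheaf J U) I := by
  intro p F c hc S' hS' x
  have := h p I
  have hG := isColimitOfPreserves ((Sheaf.cohomologyPresheafFunctor J p).flip.obj (op U)) hc
  let Qt : AddCommGrpCat.{u} := AddCommGrpCat.of ((Abelian.Ext (CohCx.freeSheaf J U) c.pt p) ⧸ S')
  let q : ((Sheaf.cohomologyPresheafFunctor J p).flip.obj (op U)).obj c.pt ⟶ Qt :=
    AddCommGrpCat.ofHom (QuotientAddGroup.mk' S')
  have hq : q = 0 := hG.hom_ext (fun ⟨i⟩ => by
    ext y
    change QuotientAddGroup.mk' S' (y.comp (Abelian.Ext.mk₀ (c.inj i)) (add_zero p)) = 0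
    exact (QuotientAddGroup.eq_zero_iff _).2 (hS' i y))
  have h1 : QuotientAddGroup.mk' S' x = 0 := congrArg (fun f => f.hom x) hq
  exact (QuotientAddGroup.eq_zero_iff x).1 h1

end Groth.Agent.Lib.Helper68.CompactFS
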