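import Groth.Agent.Lib.Helper99.KInjRes
import Groth.Agent.Lib.Helper99.ProdCxU
import Mathlib

set_option autoImplicit false
universe w₂ w v u
open CategoryTheory Limits DerivedCategory

namespace Groth.Agent.Lib.Helper68.FinCdVanish

open CochainComplex HomComplex

variable {𝒜 : Type u} [Category.{v} 𝒜] [Abelian 𝒜]

section SES

variable (I : CochainComplex 𝒜 ℤ) (i j : ℤ) (hij : i + 1 = j)

/-- the short complex `Z^i → I^i → Z^{i+1}` -/
noncomputable def cyclesSC : ShortComplex 𝒜 :=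
  ShortComplex.mk (I.iCycles i) (I.toCycles i j) (by
    rw [← cancel_mono (I.iCycles j), Category.assoc, I.toCycles_i, I.iCycles_d, zero_comp])

include hij in
lemma cyclesSC_shortExact (h : I.ExactAt j) : (cyclesSC I i j).ShortExact := by
  have hrel : (ComplexShape.up ℤ).Rel i j := hij
  have hmono : Mono (cyclesSC I i j).f := by
    change Mono (I.iCycles i)
    infer_instance
  have hex : (cyclesSC I i j).Exact := by
    apply ShortComplex.exact_of_f_is_kernel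
    have key : ∀ {A : 𝒜} (k' : A ⟶ I.X i), k' ≫ I.toCycles i j = 0 → k' ≫ I.d i j = 0 := by
      intro A k' hk0
      rw [← I.toCycles_i i j, ← Category.assoc, hk0, zero_comp]
    exact KernelFork.IsLimit.ofι' _ _ (fun {A} k hk =>
      ⟨I.liftCycles (show A ⟶ I.X i from k) j ((ComplexShape.up ℤ).next_eq' hrel) (key _ hk),
        I.liftCycles_i _ _ _ _⟩)
  have hepi : Epi (cyclesSC I i j).g := by
    change Epi (I.toCycles i j)
    exact Preadditive.epi_of_isZero_cokernel' _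
      (I.homologyIsCokernel i j ((ComplexShape.up ℤ).prev_eq' hrel)) h.isZero_homology
  exact ShortComplex.ShortExact.mk' hex hmono hepi

end SES

section Shift

open Abelian

variable [HasExt.{w₂} 𝒜] (I : CochainComplex 𝒜 ℤ) [∀ n, Injective (I.X n)] (Zo : 𝒜) (d : ℕ)
  (hex : ∀ j : ℤ, -(d : ℤ) ≤ j → I.ExactAt j)
  (hZ : ∀ (F : 𝒜) (p : ℕ), d < p → ∀ x : Ext Zo F p, x = 0)

include hex hZ in
lemma ext_cycles_eq_zero (k : ℕ) : ∀ (m : ℕ), m + k = d →
    ∀ x : Ext Zo (I.cycles (-((m : ℤ) + 1))) (m + 1), x = 0 := by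
  induction k with
  | zero =>
    intro m hm x
    exact hZ _ _ (by omega) x
  | succ k ih =>
    intro m hm x
    have hS := cyclesSC_shortExact I (-((m : ℤ) + 2)) (-((m : ℤ) + 1)) (by ring)
      (hex _ (by omega))
    have h1 : x.comp hS.extClass (rfl : (m + 1) + 1 = m + 2) = 0 := by
      have := ih (m + 1) (by omega)
      push_cast at this
      exact this _
    obtain ⟨x₂, hx₂⟩ := Ext.covariant_sequence_exact₃ Zo hS x rfl h1
    have h2 : x₂ = 0 := Ext.eq_zero_of_injective (I := I.X (-((m : ℤ) + 2))) x₂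
    rw [← hx₂, h2, Ext.zero_comp]
    rfl

include hex hZ in
lemma exists_lift (u : Zo ⟶ I.X 0) (hu : u ≫ I.d 0 1 = 0) :
    ∃ v : Zo ⟶ I.X (-1), v ≫ I.d (-1) 0 = u := by
  have hS := cyclesSC_shortExact I (-1) 0 (by ring) (hex _ (by omega))
  let u' : Zo ⟶ I.cycles 0 := I.liftCycles u 1 (by simp) hu
  have h1 : (Ext.mk₀ u').comp hS.extClass (zero_add 1) = 0 := by
    have := ext_cycles_eq_zero I Zo d hex hZ d 0 (by omega)
    exact this _
  obtain ⟨x₂, hx₂⟩ := Ext.covariant_sequence_exact₃ Zo hS (Ext.mk₀ u') (zero_add 1) h1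
  obtain ⟨v, rfl⟩ := (Ext.mk₀_bijective _ _).2 x₂
  rw [Ext.mk₀_comp_mk₀] at hx₂
  have key : ∀ v' : Zo ⟶ I.X (-1), v' ≫ I.toCycles (-1) 0 = u' → v' ≫ I.d (-1) 0 = u := by
    intro v' h3
    rw [← I.toCycles_i (-1) 0, ← Category.assoc, h3]
    exact I.liftCycles_i _ _ _ _
  exact ⟨v, key v ((Ext.mk₀_bijective _ _).1 hx₂)⟩

end Shift

section ChainLevel

variable [HasDerivedCategory.{w} 𝒜]

lemma hom_single_Q_eq_zero_of_lift (I : CochainComplex 𝒜 ℤ) [I.IsKInjective] (Y : 𝒜)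
    (h : ∀ u : Y ⟶ I.X 0, u ≫ I.d 0 1 = 0 → ∃ v : Y ⟶ I.X (-1), v ≫ I.d (-1) 0 = u)
    (ψ : (DerivedCategory.singleFunctor 𝒜 0).obj Y ⟶ Q.obj I) : ψ = 0 := by
  obtain ⟨f, hf⟩ := Groth.Agent.Lib.Helper99.ProdCxU.exists_Q_map_eq
    ((CochainComplex.singleFunctor 𝒜 0).obj Y) I ((singleFunctorIsoCompQ 𝒜 0).inv.app Y ≫ ψ)
  have h00 : (0 : ℤ) + 0 = 0 := by simp
  have h01 : (0 : ℤ) + (-1) = -1 := by simp
  let u : Y ⟶ I.X 0 := Cochain.fromSingleEquiv h00 (Cochain.ofHom f)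
  have hu' : Cochain.fromSingleMk u h00 = Cochain.ofHom f :=
    (Cochain.fromSingleEquiv h00).symm_apply_apply _
  have hu : u ≫ I.d 0 1 = 0 := by
    have h1 : δ 0 1 (Cochain.ofHom f) = 0 := δ_ofHom f
    rw [← hu', Cochain.δ_fromSingleMk u h00 1 1 (by simp)] at h1
    have := congrArg (Cochain.fromSingleEquiv (X := Y) (K := I) (p := 0) (q := 1) (n := 1)
      (by simp)) h1
    rwa [Cochain.fromSingleEquiv_fromSingleMk, map_zero] at this
  obtain ⟨v, hv⟩ := h u hu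
  have H : Homotopy f 0 := (Cochain.equivHomotopy f 0).symm ⟨Cochain.fromSingleMk v h01, by
    rw [Cochain.δ_fromSingleMk v h01 0 0 h00, hv, Cochain.ofHom_zero, add_zero, hu']⟩
  have h2 : Q.map f = 0 := by rw [DerivedCategory.Q_map_eq_of_homotopy 𝒜 H, Functor.map_zero]
  rw [h2] at hf
  rw [← cancel_epi ((singleFunctorIsoCompQ 𝒜 0).inv.app Y), ← hf, comp_zero]

end ChainLevel

section Main

open Abelian

variable [IsGrothendieckAbelian.{v} 𝒜] [HasDerivedCategory.{w} 𝒜] [HasExt.{w₂} 𝒜]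

/-- if `Ext^p(Zo, -)` vanishes for `p > d`, then `Hom(Zo[0], X) = 0` for every object `X` of the
derived category with `X ≤ -d-1` -/
theorem hom_single_eq_zero_of_isLE (Zo : 𝒜) (d : ℕ)
    (hZ : ∀ (F : 𝒜) (p : ℕ), d < p → ∀ x : Ext Zo F p, x = 0)
    (X : DerivedCategory 𝒜) [X.IsLE (-(d : ℤ) - 1)]
    (φ : (DerivedCategory.singleFunctor 𝒜 0).obj Zo ⟶ X) : φ = 0 := by
  obtain ⟨I, f, hI, hf, -, hinj⟩ :=
    Groth.Agent.Lib.Helper99.KInj.exists_kInjective_resolution (Q.objPreimage X)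
  have : IsIso (Q.map f) := by
    rw [isIso_Q_map_iff_quasiIso]
    exact hf
  let e : X ≅ Q.obj I := (Q.objObjPreimageIso X).symm ≪≫ asIso (Q.map f)
  have hLE : (Q.obj I).IsLE (-(d : ℤ) - 1) := TStructure.t.isLE_of_iso e _
  rw [isLE_Q_obj_iff] at hLE
  have hex : ∀ j : ℤ, -(d : ℤ) ≤ j → I.ExactAt j := fun j hj =>
    I.exactAt_of_isLE (-(d : ℤ) - 1) j (by omega)
  have h0 := hom_single_Q_eq_zero_of_lift I Zo (exists_lift I Zo d hex hZ) (φ ≫ e.hom)
  rw [← cancel_mono e.hom, h0, zero_comp]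

end Main

end Groth.Agent.Lib.Helper68.FinCdVanish
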