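import Groth.Agent.Lib.Helper68.CompactFS4
import Groth.Agent.Lib.Helper68.FinCdVanish

/-!
# Compactness of an object of finite cohomological dimension (helper68)
-/

set_option autoImplicit false
universe w₂ w' w v u
open CategoryTheory Limits DerivedCategory Pretriangulated

namespace Groth.Agent.Lib.Helper68.CompactFS

variable {𝒜 : Type u} [Category.{v} 𝒜] [Abelian 𝒜] [IsGrothendieckAbelian.{v} 𝒜]
  [HasDerivedCategory.{w} 𝒜] [HasExt.{w₂} 𝒜]
  {I : Type w'} [HasColimitsOfShape (Discrete I) 𝒜] [HasExactColimitsOfShape (Discrete I) 𝒜]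
  (Zo : 𝒜) (hZ : ExtSumGen Zo I) (d : ℕ)
  (hd : ∀ (F : 𝒜) (p : ℕ), d < p → ∀ x : Abelian.Ext Zo F p, x = 0)

include hZ hd in
/-- every map from `Zo[0]` to any coproduct has finite support, when `Zo` has finite
cohomological dimension and `Ext^p(Zo, -)` commute with coproducts -/
theorem FS_of_finiteCd (M : I → DerivedCategory 𝒜) {c : Cofan M} (hc : IsColimit c) :
    FS hc ((singleFunctor 𝒜 0).obj Zo) := by
  have := hasCoproductsOfShape' 𝒜 I
  have FC : FS (coproductIsCoproduct (fun i => (TStructure.t.truncGE (-(d : ℤ))).obj (M i)))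
      ((singleFunctor 𝒜 0).obj Zo) :=
    FS_of_isGE Zo hZ (-(d : ℤ)) _ _ (fun i => inferInstance)
  have FA : FS (coproductIsCoproduct (fun i => (TStructure.t.truncLT (-(d : ℤ))).obj (M i)))
      ((singleFunctor 𝒜 0).obj Zo) := by
    intro φ
    have h1 := isLE_pt (coproductIsCoproduct (fun i => (TStructure.t.truncLT (-(d : ℤ))).obj (M i)))
      (-(d : ℤ) - 1) (fun i => inferInstance)
    have : φ = 0 := by
      have h0 : ∀ φ' : (singleFunctor 𝒜 0).obj Zo ⟶
          (Cofan.mk (∐ fun i => (TStructure.t.truncLT (-(d : ℤ))).obj (M i))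
            (Sigma.ι fun i => (TStructure.t.truncLT (-(d : ℤ))).obj (M i))).pt, φ' = 0 :=
        fun φ' => FinCdVanish.hom_single_eq_zero_of_isLE Zo d hd _ φ'
      exact h0 φ
    exact ⟨∅, by rw [this, zero_comp]⟩
  exact FS_ext _ hc _ (fun i => (TStructure.t.truncLTι (-(d : ℤ))).app (M i))
    (fun i => (TStructure.t.truncGEπ (-(d : ℤ))).app (M i))
    (fun i => (TStructure.t.truncGEδLT (-(d : ℤ))).app (M i))
    (fun i => TStructure.t.triangleLTGE_distinguished (-(d : ℤ)) (M i)) _ FA FC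

end Groth.Agent.Lib.Helper68.CompactFS
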