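import Groth.Agent.Lib.Helper68.DerCoprod

/-!
# Coproducts in the derived category, universe-generalised

Same as the `Derived` section of `DerCoprod`, but the universe of the index type is decoupled
from the universe of the derived category.
-/

open CategoryTheory Limits

namespace Groth.Agent.Lib.Helper68.DerCoprod2

open Groth.Agent.Lib.Helper68.DerCoprod hiding isIso_Q_map_mapC exists_desc exists_quasiIso_homotopy_zero hom_ext isColimitCofan hasCoproductsOfShape

universe w w' v u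

section Derived

open DerivedCategory

variable {C : Type u} [Category.{v} C] [Abelian C] [HasDerivedCategory.{w} C]
  {J : Type w'} [HasColimitsOfShape (Discrete J) C] [HasExactColimitsOfShape (Discrete J) C]

instance isIso_Q_map_mapC {K L : J → CochainComplex C ℤ} (t : ∀ j, K j ⟶ L j)
    [∀ j, QuasiIso (t j)] : IsIso (Q.map (mapC t)) := by
  have := quasiIso_mapC t
  rw [isIso_Q_map_iff_quasiIso]
  infer_instance

/-- Existence part of the universal property of `Q.obj (sigmaC K)`. -/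
lemma exists_desc (K : J → CochainComplex C ℤ) (T : DerivedCategory C)
    (f : ∀ j, Q.obj (K j) ⟶ T) :
    ∃ φ : Q.obj (sigmaC K) ⟶ T, ∀ j, Q.map (ιC K j) ≫ φ = f j := by
  obtain ⟨Y, ⟨e⟩⟩ : ∃ Y : CochainComplex C ℤ, Nonempty (Q.obj Y ≅ T) :=
    ⟨_, ⟨Q.objObjPreimageIso T⟩⟩
  have H : ∀ j, ∃ (X' : CochainComplex C ℤ) (s : X' ⟶ K j) (_ : IsIso (Q.map s)) (g : X' ⟶ Y),
      f j ≫ e.inv = inv (Q.map s) ≫ Q.map g := fun j => right_fac (f j ≫ e.inv)
  choose K' s hs g hg using H
  have : ∀ j, QuasiIso (s j) := fun j => (isIso_Q_map_iff_quasiIso _ (s j)).1 (hs j)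
  refine ⟨inv (Q.map (mapC s)) ≫ Q.map (descC g) ≫ e.hom, fun j => ?_⟩
  have h1 : Q.map (ιC K j) ≫ inv (Q.map (mapC s)) = inv (Q.map (s j)) ≫ Q.map (ιC K' j) := by
    rw [← cancel_epi (Q.map (s j)), ← cancel_mono (Q.map (mapC s))]
    simp only [Category.assoc, IsIso.inv_hom_id, Category.comp_id, IsIso.hom_inv_id_assoc]
    rw [← Q.map_comp, ← Q.map_comp, ιC_mapC]
  rw [reassoc_of% h1, ← Q.map_comp_assoc, ιC_descC, ← reassoc_of% (hg j)]
  simp

omit [HasColimitsOfShape (Discrete J) C] [HasExactColimitsOfShape (Discrete J) C] in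
/-- If `Q.map f = 0`, then `f` becomes null-homotopic after precomposition with a
quasi-isomorphism. -/
lemma exists_quasiIso_homotopy_zero {X Y : CochainComplex C ℤ} (f : X ⟶ Y) (hf : Q.map f = 0) :
    ∃ (X' : CochainComplex C ℤ) (t : X' ⟶ X) (_ : QuasiIso t), Nonempty (Homotopy (t ≫ f) 0) := by
  have h1 : Qh.map ((HomotopyCategory.quotient _ _).map f) =
      Qh.map (0 : (HomotopyCategory.quotient _ _).obj X ⟶ (HomotopyCategory.quotient _ _).obj Y) := by
    rw [← cancel_mono ((quotientCompQhIso C).hom.app Y), quotientCompQhIso_hom_naturality, hf]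
    simp
  obtain ⟨Z, s, hs, hsf⟩ := (MorphismProperty.map_eq_iff_precomp Qh
    (HomotopyCategory.quasiIso C (ComplexShape.up ℤ)) _ _).1 h1
  obtain ⟨X', rfl⟩ := HomotopyCategory.quotient_obj_surjective Z
  obtain ⟨t, rfl⟩ := (HomotopyCategory.quotient _ _).map_surjective s
  rw [HomotopyCategory.quotient_map_mem_quasiIso_iff] at hs
  refine ⟨X', t, hs, ?_⟩
  rw [← HomotopyCategory.quotient_map_eq_zero_iff, Functor.map_comp, hsf, Limits.comp_zero]

/-- Uniqueness part of the universal property of `Q.obj (sigmaC K)`. -/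
lemma hom_ext (K : J → CochainComplex C ℤ) (T : DerivedCategory C)
    (φ ψ : Q.obj (sigmaC K) ⟶ T) (h : ∀ j, Q.map (ιC K j) ≫ φ = Q.map (ιC K j) ≫ ψ) :
    φ = ψ := by
  suffices H : ∀ χ : Q.obj (sigmaC K) ⟶ T, (∀ j, Q.map (ιC K j) ≫ χ = 0) → χ = 0 by
    rw [← sub_eq_zero]
    apply H
    intro j
    rw [Preadditive.comp_sub, h j, sub_self]
  intro χ hχ
  obtain ⟨Y, ⟨e⟩⟩ : ∃ Y : CochainComplex C ℤ, Nonempty (Q.obj Y ≅ T) :=
    ⟨_, ⟨Q.objObjPreimageIso T⟩⟩
  obtain ⟨Y', g, s, hs, hg⟩ := left_fac (χ ≫ e.inv)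
  have h0 : ∀ j, Q.map (ιC K j ≫ g) = 0 := by
    intro j
    rw [Q.map_comp, ← cancel_mono (inv (Q.map s)), Category.assoc, ← hg, reassoc_of% (hχ j)]
    simp
  have H : ∀ j, ∃ (X' : CochainComplex C ℤ) (t : X' ⟶ K j) (_ : QuasiIso t),
      Nonempty (Homotopy (t ≫ ιC K j ≫ g) 0) := fun j => exists_quasiIso_homotopy_zero _ (h0 j)
  choose K' t ht hh using H
  have hG : Homotopy (mapC t ≫ g) 0 := homotopyC _ _ (fun j =>
    (Homotopy.ofEq (by simp)).trans ((hh j).some.trans (Homotopy.ofEq (by simp))))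
  have h2 : Q.map (mapC t) ≫ Q.map g = 0 := by
    rw [← Q.map_comp, Q_map_eq_of_homotopy _ hG, Q.map_zero]
  have h3 : Q.map g = 0 := by
    rw [← cancel_epi (Q.map (mapC t)), h2, Limits.comp_zero]
  rw [h3, Limits.zero_comp] at hg
  rw [← cancel_mono e.inv, hg, Limits.zero_comp]

/-- `Q.obj (sigmaC K)` is a coproduct of the `Q.obj (K j)` in the derived category. -/
noncomputable def isColimitCofan (K : J → CochainComplex C ℤ) :
    IsColimit (Cofan.mk (Q.obj (sigmaC K)) (fun j => Q.map (ιC K j))) :=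
  Cofan.IsColimit.mk _ (fun t => (exists_desc K t.pt t.inj).choose)
    (fun t j => (exists_desc K t.pt t.inj).choose_spec j)
    (fun t _ hm => hom_ext K _ _ _ (fun j =>
      (hm j).trans ((exists_desc K t.pt t.inj).choose_spec j).symm))

variable (C J) in
/-- The derived category has coproducts of shape `J` as soon as `C` has exact coproducts
of shape `J`. -/
lemma hasCoproductsOfShape : HasCoproductsOfShape J (DerivedCategory C) := by
  constructor
  intro F
  have hK : ∀ j, ∃ K : CochainComplex C ℤ, Nonempty (Q.obj K ≅ F.obj ⟨j⟩) :=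
    fun j => ⟨_, ⟨Q.objObjPreimageIso _⟩⟩
  choose K e using hK
  have : HasColimit (Discrete.functor (fun j => Q.obj (K j))) := ⟨⟨⟨_, isColimitCofan K⟩⟩⟩
  exact hasColimit_of_iso (F := Discrete.functor (fun j => Q.obj (K j)))
    (Discrete.natIso (fun ⟨j⟩ => (e j).some.symm))

end Derived

end Groth.Agent.Lib.Helper68.DerCoprod2
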