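import Groth.Agent.Lib.Helper68.RlimInj
import Groth.Prelude.Def_DCoh2

set_option autoImplicit false
open CategoryTheory Limits Pretriangulated

namespace Groth.Agent.Lib.Helper68.DerLimSh

open Groth.Agent.Lib.Helper68.RlimMilnor Groth.Agent.Lib.Helper68.RlimInj

variable {D : Type*} [Category D] [Preadditive D] [HasZeroObject D] [HasShift D ℤ]
  [∀ n : ℤ, (shiftFunctor D n).Additive] [Pretriangulated D]

variable (K : ℕ → D) (t : ∀ n, K (n + 1) ⟶ K n) [HasProduct K]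

lemma exists_rlim : ∃ (Z : D) (a : ∀ n, Z ⟶ K n), CohCx.IsRlimVia K t Z a := by
  obtain ⟨Z, f, h, hT⟩ := distinguished_cocone_triangle₁
    (Pi.lift fun n => Pi.π K n - Pi.π K (n + 1) ≫ t n)
  refine ⟨Z, fun n => f ≫ Pi.π K n, h, ?_⟩
  have h1 : Pi.lift (fun n => f ≫ Pi.π K n) = f := by
    apply Pi.hom_ext
    intro n
    rw [Pi.lift_π]
  rw [h1]
  exact hT

variable {K t}

lemma isRlim_of_iso {L Z : D} (a : ∀ n, Z ⟶ K n) (hZ : CohCx.IsRlimVia K t Z a) (e : L ≅ Z) :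
    DCoh.IsRlim K t L := by
  obtain ⟨c, hT⟩ := hZ
  refine ⟨e.hom ≫ Pi.lift a, c ≫ e.inv⟦(1 : ℤ)⟧', isomorphic_distinguished _ hT _ ?_⟩
  refine Triangle.isoMk _ _ e (Iso.refl _) (Iso.refl _) ?_ ?_ ?_
  · exact Category.comp_id _
  · exact (Category.comp_id _).trans (Category.id_comp _).symm
  · change (c ≫ (shiftFunctor D (1 : ℤ)).map e.inv) ≫ (shiftFunctor D (1 : ℤ)).map e.hom = 𝟙 _ ≫ c
    rw [Category.id_comp, Category.assoc, ← Functor.map_comp, e.inv_hom_id,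
      CategoryTheory.Functor.map_id, Category.comp_id]

variable {L : D} {a : ∀ n, L ⟶ K n} (hL : CohCx.IsRlimVia K t L a) (A : D)

include hL

lemma eq_zero_of_limOne_zero
    (h1 : CohCx.LimOneIsZero (fun n => (A ⟶ (K n)⟦(0 : ℤ) - 1⟧))
      (fun n => Preadditive.rightComp _ ((shiftFunctor _ ((0 : ℤ) - 1)).map (t n))))
    (y : A ⟶ L) (hy : ∀ n, y ≫ a n = 0) : y = 0 := by
  have h2 : y ≫ (shiftFunctorZero D ℤ).inv.app L = 0 := by
    apply eq_zero_of_limOne K t L a hL A 0 h1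
    intro n
    rw [Category.assoc]
    have := (shiftFunctorZero D ℤ).inv.naturality (a n)
    dsimp at this
    rw [← this, ← Category.assoc, hy, zero_comp]
  have h3 := congrArg (fun f => f ≫ (shiftFunctorZero D ℤ).hom.app L) h2
  simpa using h3

lemma exists_lift_zero (x : ∀ n, A ⟶ K n) (hx : ∀ n, x (n + 1) ≫ t n = x n) :
    ∃ y : A ⟶ L, ∀ n, y ≫ a n = x n := by
  obtain ⟨c, hT⟩ := hL
  have h0 : Pi.lift x ≫ (Pi.lift fun n => Pi.π K n - Pi.π K (n + 1) ≫ t n) = 0 := by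
    apply Pi.hom_ext
    intro n
    rw [Category.assoc, Pi.lift_π, Preadditive.comp_sub, Pi.lift_π, Pi.lift_π_assoc, hx, sub_self,
      zero_comp]
  obtain ⟨y, hy⟩ : ∃ y : A ⟶ L, Pi.lift x = y ≫ Pi.lift a :=
    Triangle.coyoneda_exact₂ _ hT (Pi.lift x) h0
  refine ⟨y, fun n => ?_⟩
  have h1 := congrArg (fun f => f ≫ Pi.π K n) hy
  simp only [Pi.lift_π, Category.assoc] at h1
  exact h1.symm

end Groth.Agent.Lib.Helper68.DerLimSh
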