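import Groth.Agent.Lib.Helper68.DerLimSh1
import Groth.Agent.Lib.Helper68.HZeroSheaf
import Groth.Prelude.Def_CohSite
import Mathlib.Algebra.Homology.DerivedCategory.TStructure
import Mathlib.Algebra.Homology.DerivedCategory.Ext.Basic

set_option autoImplicit false
universe u
open CategoryTheory Limits Opposite

namespace Groth.Agent.Lib.Helper68.DerLimSh

open Groth.Agent.Lib.Helper68.HZeroLocal Groth.Agent.Lib.Helper68.HZeroSheaf DerivedCategory

section General

lemma limOneIsZero_of_subsingleton (A : ℕ → Type u) [∀ n, AddCommGroup (A n)]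
    (t : ∀ n, A (n + 1) →+ A n) (h : ∀ n, Subsingleton (A n)) : CohCx.LimOneIsZero A t :=
  fun _ => ⟨fun _ => 0, funext fun _ => Subsingleton.elim _ _⟩

lemma limOneIsZero_of_equiv {A A' : ℕ → Type u} [∀ n, AddCommGroup (A n)]
    [∀ n, AddCommGroup (A' n)] (t : ∀ n, A (n + 1) →+ A n) (t' : ∀ n, A' (n + 1) →+ A' n)
    (e : ∀ n, A n ≃+ A' n) (he : ∀ n x, e n (t n x) = t' n (e (n + 1) x))
    (h : CohCx.LimOneIsZero A t) : CohCx.LimOneIsZero A' t' := by
  intro b'
  obtain ⟨c, hc⟩ := h (fun n => (e n).symm (b' n))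
  refine ⟨fun n => e n (c n), funext fun n => ?_⟩
  have h1 := congrFun hc n
  dsimp only at h1 ⊢
  rw [← he, ← map_sub, h1, AddEquiv.apply_symm_apply]

end General

variable {C : Type u} [SmallCategory C] {J : GrothendieckTopology C}
  [HasDerivedCategory.{u} (Sheaf J AddCommGrpCat.{u})]

lemma hom_single_shift_neg (A B : Sheaf J AddCommGrpCat.{u}) (q : ℤ) (hq : q < 0)
    (f : S.obj A ⟶ (S.obj B)⟦q⟧) : f = 0 := by
  have : TStructure.t.IsGE ((S.obj B)⟦q⟧) (-q) :=
    TStructure.t.isGE_shift (S.obj B) 0 q (-q) (by omega)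
  exact TStructure.t.zero f 0 (-q) (by omega)

lemma subsingleton_hom_of_HU (F : Sheaf J AddCommGrpCat.{u}) (U : C) (p : ℕ)
    (h : Subsingleton (CohSite.HU F (p + 1) U)) :
    Subsingleton (S.obj (CohCx.freeSheaf J U) ⟶ (S.obj F)⟦((p + 1 : ℕ) : ℤ)⟧) := by
  have e : CohSite.HU F (p + 1) U ≃
      (S.obj (CohCx.freeSheaf J U) ⟶ (S.obj F)⟦((p + 1 : ℕ) : ℤ)⟧) :=
    Abelian.Ext.homEquiv
  exact e.symm.subsingleton

section Main

variable (F : ℕ → Sheaf J AddCommGrpCat.{u}) (t : ∀ n, F (n + 1) ⟶ F n) (B : Set C)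
  (h1 : ∀ U ∈ B, ∀ (p n : ℕ), Subsingleton (CohSite.HU (F n) (p + 1) U))
  (h2 : ∀ U ∈ B, CohCx.LimOneIsZero (fun n => (F n).obj.obj (op U))
    (fun n => ((t n).hom.app (op U)).hom))

include h1 in
lemma subsingleton_hom (U : C) (hU : U ∈ B) (q : ℤ) (hq : q ≠ 0) (n : ℕ) :
    Subsingleton (S.obj (CohCx.freeSheaf J U) ⟶ (S.obj (F n))⟦q⟧) := by
  rcases lt_or_gt_of_ne hq with hq | hq
  · exact ⟨fun f g => (hom_single_shift_neg _ _ q hq f).trans
      (hom_single_shift_neg _ _ q hq g).symm⟩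
  · obtain ⟨p, rfl⟩ : ∃ p : ℕ, q = ((p + 1 : ℕ) : ℤ) := ⟨(q - 1).toNat, by omega⟩
    exact subsingleton_hom_of_HU (F n) U p (h1 U hU p n)

/-- sections as morphisms to a trivially shifted single object -/
noncomputable def sectEquiv (G : Sheaf J AddCommGrpCat.{u}) (U : C) (k : ℤ) (hk : k = 0) :
    G.obj.obj (op U) ≃+ (S.obj (CohCx.freeSheaf J U) ⟶ (S.obj G)⟦k⟧) where
  toFun x := S.map (CohFree.ofSect J U G x) ≫
    (shiftFunctorZero' (DerivedCategory (Sheaf J AddCommGrpCat.{u})) k hk).inv.app (S.obj G)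
  invFun f := CohFree.evalGen J U G (S.preimage (f ≫
    (shiftFunctorZero' (DerivedCategory (Sheaf J AddCommGrpCat.{u})) k hk).hom.app (S.obj G)))
  left_inv x := by
    simp only [Category.assoc, Iso.inv_hom_id_app, Functor.id_obj, Category.comp_id,
      Functor.preimage_map]
    exact CohFree.evalGen_ofSect J U G x
  right_inv f := by
    dsimp only
    rw [CohFree.ofSect_evalGen, Functor.map_preimage, Category.assoc, Iso.hom_inv_id_app]
    exact Category.comp_id _
  map_add' x y := by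
    have h : CohFree.ofSect J U G (x + y) = CohFree.ofSect J U G x + CohFree.ofSect J U G y :=
      (CohFree.homEquivSect J U G).symm.map_add x y
    rw [h, Functor.map_add, Preadditive.add_comp]

lemma ofSect_comp' (U : C) {G G' : Sheaf J AddCommGrpCat.{u}} (s : G.obj.obj (op U))
    (g : G ⟶ G') :
    CohFree.ofSect J U G s ≫ g = CohFree.ofSect J U G' ((g.hom.app (op U)).hom s) := by
  apply (CohFree.homEquivSect J U G').injective
  rw [CohFree.homEquivSect_apply, CohFree.homEquivSect_apply, CohFree.evalGen_ofSect]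
  change (g.hom.app (op U)).hom (CohFree.evalGen J U G (CohFree.ofSect J U G s)) = _
  rw [CohFree.evalGen_ofSect]

/-- the inverse system in the derived category -/
noncomputable abbrev KK : ℕ → DerivedCategory (Sheaf J AddCommGrpCat.{u}) := fun n => S.obj (F n)

/-- its transition maps -/
noncomputable abbrev tt : ∀ n, KK F (n + 1) ⟶ KK F n := fun n => S.map (t n)

include h1 in
lemma limOne (U : C) (hU : U ∈ B) (q : ℤ) (hq : q ≠ 1) :
    CohCx.LimOneIsZero (fun n => (S.obj (CohCx.freeSheaf J U) ⟶ (KK F n)⟦q - 1⟧))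
      (fun n => Preadditive.rightComp _ ((shiftFunctor _ (q - 1)).map (tt F t n))) := by
  exact limOneIsZero_of_subsingleton _ _
    (fun n => subsingleton_hom F B h1 U hU (q - 1) (by omega) n)

include h2 in
lemma limOne' (U : C) (hU : U ∈ B) (k : ℤ) (hk : k = 0) :
    CohCx.LimOneIsZero (fun n => (S.obj (CohCx.freeSheaf J U) ⟶ (KK F n)⟦k⟧))
      (fun n => Preadditive.rightComp _ ((shiftFunctor _ k).map (tt F t n))) := by
  refine limOneIsZero_of_equiv _ _ (fun n => sectEquiv (F n) U k hk) ?_ (h2 U hU)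
  intro n x
  change S.map (CohFree.ofSect J U (F n) (((t n).hom.app (op U)).hom x)) ≫ _ =
    (S.map (CohFree.ofSect J U (F (n + 1)) x) ≫ _) ≫ (shiftFunctor _ k).map (S.map (t n))
  have hnat := (shiftFunctorZero' (DerivedCategory (Sheaf J AddCommGrpCat.{u})) k hk).inv.naturality
    (S.map (t n))
  dsimp only [Functor.id_obj, Functor.id_map] at hnat
  rw [Category.assoc, ← hnat, ← Category.assoc, ← Functor.map_comp, ofSect_comp']

variable [HasProduct (KK F)] {Z : DerivedCategory (Sheaf J AddCommGrpCat.{u})}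
  {a : ∀ n, Z ⟶ KK F n} (hZ : CohCx.IsRlimVia (KK F) (tt F t) Z a)

include h1 h2 hZ in
lemma hom_Z_eq_zero (U : C) (hU : U ∈ B) (q : ℤ) (hq : q ≠ 0)
    (y : S.obj (CohCx.freeSheaf J U) ⟶ Z⟦q⟧) : y = 0 := by
  have hlim : CohCx.LimOneIsZero (fun n => (S.obj (CohCx.freeSheaf J U) ⟶ (KK F n)⟦q - 1⟧))
      (fun n => Preadditive.rightComp _ ((shiftFunctor _ (q - 1)).map (tt F t n))) := by
    by_cases hk : q - 1 = 0
    · exact limOne' F t B h2 U hU (q - 1) hk
    · exact limOne F t B h1 U hU q (by omega)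
  apply RlimMilnor.eq_zero_of_limOne (KK F) (tt F t) Z a hZ _ q hlim y
  intro n
  exact (subsingleton_hom F B h1 U hU q hq n).elim _ _

end Main

section Local

variable (B : Set C)
  (hB : ∀ U : C, ∃ (ι : Type u) (Y : ι → C) (f : ∀ i, Y i ⟶ U),
    Sieve.ofArrows Y f ∈ J U ∧ ∀ i, Y i ∈ B)

lemma eq_of_equalizerSieve_mem (G : Sheaf J AddCommGrpCat.{u}) {V : C} (s s' : G.obj.obj (op V))
    (h : Presheaf.equalizerSieve (F := G.obj) s s' ∈ J V) : s = s' := by
  have hsep : Presieve.IsSeparated J (G.obj ⋙ forget _) := by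
    apply Presieve.IsSheaf.isSeparated
    rw [← isSheaf_iff_isSheaf_of_type]
    exact ((sheafCompose J (forget AddCommGrpCat.{u})).obj G).2
  exact (hsep _ h).ext (fun W g hg => hg)

include hB in
/-- a sieve is covering as soon as it contains, for the arrows `j` of a covering sieve, all
composites `f ≫ j` with source in `B` -/
lemma covering_of_B {V : C} (T : Sieve V) (hT : T ∈ J V) (R : Sieve V)
    (h : ∀ ⦃W : C⦄ (j : W ⟶ V), T j → ∀ ⦃Y : C⦄ (f : Y ⟶ W), Y ∈ B → R (f ≫ j)) : R ∈ J V := by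
  refine J.transitive hT R (fun W j hj => ?_)
  obtain ⟨ι, Y, f, hcov, hY⟩ := hB W
  refine J.superset_covering ?_ hcov
  rw [Sieve.ofArrows, Sieve.generate_le_iff]
  rintro W' k ⟨i⟩
  exact h j hj (f i) (hY i)

end Local

end Groth.Agent.Lib.Helper68.DerLimSh
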