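import Groth.Agent.Lib.Helper68.DerLimSh2

set_option autoImplicit false
universe u
open CategoryTheory Limits Opposite

namespace Groth.Agent.Lib.Helper68.DerLimSh

open Groth.Agent.Lib.Helper68.HZeroLocal Groth.Agent.Lib.Helper68.HZeroSheaf DerivedCategory

section OpSeq

variable {𝒜 : Type*} [Category 𝒜] (X : ℕ → 𝒜) (f : ∀ n, X (n + 1) ⟶ X n)
  [HasLimit (CohCx.opSequence X f)]

/-- projections from the limit of an inverse sequence -/
noncomputable def proj (n : ℕ) : limit (CohCx.opSequence X f) ⟶ X n :=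
  limit.π (CohCx.opSequence X f) (op n)

lemma proj_succ (n : ℕ) : proj X f (n + 1) ≫ f n = proj X f n := by
  have h := limit.w (CohCx.opSequence X f) (homOfLE (Nat.le_add_right n 1)).op
  rw [Functor.ofOpSequence_map_homOfLE_succ] at h
  exact h

/-- lifting a compatible family to the limit -/
noncomputable def liftSeq {A : 𝒜} (g : ∀ n, A ⟶ X n) (hg : ∀ n, g (n + 1) ≫ f n = g n) :
    A ⟶ limit (CohCx.opSequence X f) :=
  limit.lift _ ⟨A, NatTrans.ofOpSequence (F := (Functor.const _).obj A)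
    (G := CohCx.opSequence X f) (fun n => g n) (fun n => by
      rw [Functor.ofOpSequence_map_homOfLE_succ]
      exact (Category.id_comp _).trans (hg n).symm)⟩

lemma liftSeq_proj {A : 𝒜} (g : ∀ n, A ⟶ X n) (hg : ∀ n, g (n + 1) ≫ f n = g n) (n : ℕ) :
    liftSeq X f g hg ≫ proj X f n = g n :=
  limit.lift_π _ _

lemma hom_ext_seq {A : 𝒜} {u v : A ⟶ limit (CohCx.opSequence X f)}
    (h : ∀ n, u ≫ proj X f n = v ≫ proj X f n) : u = v :=
  limit.hom_ext (fun ⟨n⟩ => h n)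

end OpSeq

variable {C : Type u} [SmallCategory C] {J : GrothendieckTopology C}
  [HasDerivedCategory.{u} (Sheaf J AddCommGrpCat.{u})]

lemma isZero_of_sections (G : Sheaf J AddCommGrpCat.{u})
    (h : ∀ (V : C) (s : G.obj.obj (op V)), s = 0) : IsZero G := by
  rw [IsZero.iff_id_eq_zero]
  ext V x
  induction V using Opposite.rec with | _ V => ?_
  exact (h V _).trans (h V _).symm

section Main

variable (F : ℕ → Sheaf J AddCommGrpCat.{u}) (t : ∀ n, F (n + 1) ⟶ F n) (B : Set C)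
  (hB : ∀ U : C, ∃ (ι : Type u) (Y : ι → C) (f : ∀ i, Y i ⟶ U),
    Sieve.ofArrows Y f ∈ J U ∧ ∀ i, Y i ∈ B)
  (h1 : ∀ U ∈ B, ∀ (p n : ℕ), Subsingleton (CohSite.HU (F n) (p + 1) U))
  (h2 : ∀ U ∈ B, CohCx.LimOneIsZero (fun n => (F n).obj.obj (op U))
    (fun n => ((t n).hom.app (op U)).hom))
  [HasProduct (KK F)] {Z : DerivedCategory (Sheaf J AddCommGrpCat.{u})}
  {a : ∀ n, Z ⟶ KK F n} (hZ : CohCx.IsRlimVia (KK F) (tt F t) Z a)

include hB h1 h2 hZ in
lemma sections_H_shift_eq_zero (q : ℤ) (hq : q ≠ 0) (V : C)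
    (s : (H.obj (Z⟦q⟧)).obj.obj (op V)) : s = 0 := by
  apply eq_of_equalizerSieve_mem
  refine covering_of_B B hB (Presheaf.imageSieve (η (Z⟦q⟧)) s) (Presheaf.imageSieve_mem J _ s) _ ?_
  intro W j hj Y f hY
  obtain ⟨ξ, hξ⟩ : ∃ ξ : S.obj (CohCx.freeSheaf J W) ⟶ Z⟦q⟧,
      ηU (Z⟦q⟧) W ξ = ((H.obj (Z⟦q⟧)).obj.map j.op).hom s := hj
  have h0 : S.map (CohCx.freeSheafMap J f) ≫ ξ = 0 := hom_Z_eq_zero F t B h1 h2 hZ Y hY q hq _
  change ((H.obj (Z⟦q⟧)).obj.map (f ≫ j).op).hom s = ((H.obj (Z⟦q⟧)).obj.map (f ≫ j).op).hom 0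
  rw [map_zero, op_comp, Functor.map_comp]
  change ((H.obj (Z⟦q⟧)).obj.map f.op).hom (((H.obj (Z⟦q⟧)).obj.map j.op).hom s) = 0
  rw [← hξ, ← ηU_res, h0, map_zero]

include hB h1 h2 hZ in
lemma isZero_homology (q : ℤ) (hq : q ≠ 0) :
    IsZero ((DerivedCategory.homologyFunctor (Sheaf J AddCommGrpCat.{u}) q).obj Z) := by
  have h0 : IsZero (H.obj (Z⟦q⟧)) :=
    isZero_of_sections _ (sections_H_shift_eq_zero F t B hB h1 h2 hZ q hq)
  exact h0.of_iso (((DerivedCategory.homologyFunctor (Sheaf J AddCommGrpCat.{u}) 0).shiftIso q 0 q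
    (add_zero q)).app Z).symm

/-- the limit sheaf -/
noncomputable abbrev Flim : Sheaf J AddCommGrpCat.{u} := limit (CohCx.opSequence F t)

include hZ in
lemma exists_theta : ∃ θ : S.obj (Flim F t) ⟶ Z, ∀ n, θ ≫ a n = S.map (proj F t n) :=
  exists_lift_zero hZ (S.obj (Flim F t)) (fun n => S.map (proj F t n))
    (fun n => by
      change S.map (proj F t (n + 1)) ≫ S.map (t n) = _
      rw [← Functor.map_comp, proj_succ])

variable (θ : S.obj (Flim F t) ⟶ Z) (hθ : ∀ n, θ ≫ a n = S.map (proj F t n))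

include h1 hZ hθ in
lemma theta_surj (U : C) (hU : U ∈ B) (y : S.obj (CohCx.freeSheaf J U) ⟶ Z) :
    ∃ g : CohCx.freeSheaf J U ⟶ Flim F t, S.map g ≫ θ = y := by
  let gn : ∀ n, CohCx.freeSheaf J U ⟶ F n := fun n => S.preimage (y ≫ a n)
  have hgn : ∀ n, gn (n + 1) ≫ t n = gn n := by
    intro n
    apply S.map_injective
    rw [Functor.map_comp, Functor.map_preimage, Functor.map_preimage, Category.assoc]
    congr 1
    exact RlimInj.a_succ (KK F) (tt F t) Z a hZ n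
  refine ⟨liftSeq F t gn hgn, ?_⟩
  rw [← sub_eq_zero]
  apply eq_zero_of_limOne_zero hZ _ (limOne F t B h1 U hU 0 (by norm_num))
  intro n
  rw [Preadditive.sub_comp, Category.assoc, hθ, ← Functor.map_comp, liftSeq_proj,
    Functor.map_preimage, sub_self]

include hθ in
lemma theta_inj (U : C) (g : CohCx.freeSheaf J U ⟶ Flim F t) (h : S.map g ≫ θ = 0) : g = 0 := by
  apply hom_ext_seq
  intro n
  rw [zero_comp]
  apply S.map_injective
  rw [Functor.map_comp, ← hθ, ← Category.assoc, h, zero_comp, Functor.map_zero]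

end Main

end Groth.Agent.Lib.Helper68.DerLimSh
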