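import Groth.Agent.Lib.Helper68.DetWA
import Groth.Agent.Lib.Helper12.DRingCone
import Groth.Prelude.Def_SGA4hB
import Mathlib.Order.Interval.Finset.Basic
import Mathlib.Data.Int.Interval

namespace Groth.Agent.Lib.Helper68.DetCone

open CategoryTheory CategoryTheory.Limits CochainComplex HomComplex Polynomial
open Groth.Agent.Lib.Helper68.DetWA

universe u

variable {A : Type u} [CommRing A]

section Cone

variable {K K' : CochainComplex (ModuleCat.{u} A) ℤ} (f : K ⟶ K') (u : K ⟶ K) (u' : K' ⟶ K')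
  (ho : Homotopy (f ≫ u') (u ≫ f))

/-- the endomorphism of the mapping cone of `f` induced by `u`, `u'` and a homotopy
`f ≫ u' ∼ u ≫ f`. -/
noncomputable def coneEndo : mappingCone f ⟶ mappingCone f :=
  mappingCone.desc f ((Cochain.ofHom u).comp (mappingCone.inl f) (zero_add (-1)) +
      (Cochain.ofHomotopy ho).comp (Cochain.ofHom (mappingCone.inr f)) (add_zero (-1)))
    (u' ≫ mappingCone.inr f) (by
      rw [δ_add, δ_ofHom_comp, δ_comp_ofHom, mappingCone.δ_inl, δ_ofHomotopy,
        Cochain.sub_comp, ← Cochain.ofHom_comp, ← Cochain.ofHom_comp, ← Cochain.ofHom_comp]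
      simp only [Category.assoc]
      abel)

lemma inr_f_coneEndo_f (i : ℤ) :
    (mappingCone.inr f).f i ≫ (coneEndo f u u' ho).f i = u'.f i ≫ (mappingCone.inr f).f i := by
  simp [coneEndo]

lemma coneEndo_f_fst_v (i j : ℤ) (hij : i + 1 = j) :
    (coneEndo f u u' ho).f i ≫ (mappingCone.fst f).1.v i j hij =
      (mappingCone.fst f).1.v i j hij ≫ u.f j := by
  rw [coneEndo, mappingCone.desc_f _ _ _ _ i j hij]
  simp [Cochain.comp_v _ _ (zero_add (-1)) j j i (by lia) (by lia)]

lemma detOneSub_eq_dos (M : ModuleCat.{u} A) (v : M ⟶ M) :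
    SGA4h.detOneSub M v = dos v.hom := rfl

open Groth.Agent.Lib.Helper12 in
lemma detOneSub_cone (hK : ∀ i : ℤ, Module.Finite A (K.X i) ∧ Module.Free A (K.X i))
    (hK' : ∀ i : ℤ, Module.Finite A (K'.X i) ∧ Module.Free A (K'.X i)) (i : ℤ) :
    SGA4h.detOneSub ((mappingCone f).X i) ((coneEndo f u u' ho).f i) =
      SGA4h.detOneSub (K.X (i + 1)) (u.f (i + 1)) * SGA4h.detOneSub (K'.X i) (u'.f i) := by
  have hC := termwise_cone (finiteFree A) f hK hK' i
  have : Module.Finite A ((mappingCone f).X i) := hC.1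
  have : Module.Free A ((mappingCone f).X i) := hC.2
  have : Module.Finite A (K.X (i + 1)) := (hK _).1
  have : Module.Free A (K.X (i + 1)) := (hK _).2
  have : Module.Finite A (K'.X i) := (hK' _).1
  have : Module.Free A (K'.X i) := (hK' _).2
  rw [detOneSub_eq_dos, detOneSub_eq_dos, detOneSub_eq_dos]
  refine dos_of_splitting (A := A) ((mappingCone.inl f).v (i + 1) i (by lia)).hom
    ((mappingCone.inr f).f i).hom ((mappingCone.fst f).1.v i (i + 1) rfl).hom
    ((mappingCone.snd f).v i i (add_zero i)).hom ?_ ?_ ?_ ?_ _ _ _ ?_ ?_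
  · rw [← ModuleCat.hom_comp, mappingCone.inl_v_fst_v]; rfl
  · rw [← ModuleCat.hom_comp, mappingCone.inr_f_snd_v]; rfl
  · rw [← ModuleCat.hom_comp, mappingCone.inr_f_fst_v]; rfl
  · rw [← ModuleCat.hom_comp, ← ModuleCat.hom_comp, ← ModuleCat.hom_add,
      mappingCone.id_X f i (i + 1) rfl]; rfl
  · rw [← ModuleCat.hom_comp, ← ModuleCat.hom_comp, inr_f_coneEndo_f]
  · rw [← ModuleCat.hom_comp, ← ModuleCat.hom_comp, Category.assoc, coneEndo_f_fst_v,
      mappingCone.inl_v_fst_v_assoc]

end Cone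

section Contractible

variable (C : CochainComplex (ModuleCat.{u} A) ℤ) (w : C ⟶ C) (h : Homotopy (𝟙 C) 0)

/-- the partial determinants `a_i = det(1 - t w | Z^i)` (defined without reference to `Z^i`). -/
noncomputable def aa (i : ℤ) : A[X] :=
  SGA4h.detOneSub (C.X i) (h.hom i (i - 1) ≫ C.d (i - 1) i ≫ w.f i)

lemma aa_eq (i j : ℤ) (hij : j + 1 = i) :
    aa C w h i = SGA4h.detOneSub (C.X i) (h.hom i j ≫ C.d j i ≫ w.f i) := by
  obtain rfl : j = i - 1 := by lia
  rfl

lemma detOneSub_eq_aa_mul_aa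
    (hC : ∀ i : ℤ, Module.Finite A (C.X i) ∧ Module.Free A (C.X i)) (i : ℤ) :
    SGA4h.detOneSub (C.X i) (w.f i) = aa C w h i * aa C w h (i + 1) := by
  have : Module.Finite A (C.X i) := (hC _).1
  have : Module.Free A (C.X i) := (hC _).2
  have : Module.Finite A (C.X (i + 1)) := (hC _).1
  have : Module.Free A (C.X (i + 1)) := (hC _).2
  rw [aa_eq C w h (i + 1) i rfl, aa, detOneSub_eq_dos, detOneSub_eq_dos, detOneSub_eq_dos]
  have hcomm := h.comm i
  rw [dNext_eq h.hom (show (ComplexShape.up ℤ).Rel i (i + 1) by simp),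
    prevD_eq h.hom (show (ComplexShape.up ℤ).Rel (i - 1) i by simp)] at hcomm
  simp only [HomologicalComplex.id_f, HomologicalComplex.zero_f, add_zero] at hcomm
  have key := dos_contractible_step (A := A) (C.d (i - 1) i).hom (C.d i (i + 1)).hom
    (h.hom i (i - 1)).hom (h.hom (i + 1) i).hom
    (by rw [← ModuleCat.hom_comp, HomologicalComplex.d_comp_d]; rfl)
    (by rw [← ModuleCat.hom_comp, ← ModuleCat.hom_comp, ← ModuleCat.hom_add, add_comm, ← hcomm]; rfl)
    (w.f i).hom (w.f (i + 1)).hom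
    (by rw [← ModuleCat.hom_comp, ← ModuleCat.hom_comp, w.comm])
  rw [key]
  rfl

end Contractible

section Support

lemma detOneSub_eq_one_of_isZero (M : ModuleCat.{u} A) (hM : IsZero M) (v : M ⟶ M) :
    SGA4h.detOneSub M v = 1 := by
  have : Subsingleton M := ModuleCat.subsingleton_of_isZero hM
  rw [detOneSub_eq_dos]
  exact dos_eq_one_of_subsingleton _

lemma finite_mulSupport_detOneSub (C : CochainComplex (ModuleCat.{u} A) ℤ)
    (F : ∀ i : ℤ, C.X i ⟶ C.X i) (lo hi : ℤ)
    (hz : ∀ i : ℤ, i < lo ∨ hi < i → IsZero (C.X i)) :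
    (Function.mulSupport fun i : ℤ => SGA4h.detOneSub (C.X i) (F i)).Finite := by
  refine (Set.finite_Icc lo hi).subset (fun i hi' => ?_)
  by_contra hcon
  rw [Set.mem_Icc, not_and_or, not_le, not_le] at hcon
  exact hi' (detOneSub_eq_one_of_isZero _ (hz i hcon) _)

end Support

section Finprod

variable {M : Type*} [CommMonoid M]

/-- `i ↦ i + 1` as an equivalence from even to odd integers -/
def evenOdd : {i : ℤ // Even i} ≃ {j : ℤ // Odd j} where
  toFun i := ⟨i.1 + 1, i.2.add_one⟩
  invFun j := ⟨j.1 - 1, j.2.sub_odd odd_one⟩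
  left_inv i := by ext; simp
  right_inv j := by ext; simp

/-- `i ↦ i + 1` as an equivalence from odd to even integers -/
def oddEven : {i : ℤ // Odd i} ≃ {j : ℤ // Even j} where
  toFun i := ⟨i.1 + 1, i.2.add_one⟩
  invFun j := ⟨j.1 - 1, j.2.sub_odd odd_one⟩
  left_inv i := by ext; simp
  right_inv j := by ext; simp

lemma finite_mulSupport_subtype (a : ℤ → M) (ha : (Function.mulSupport a).Finite) (p : ℤ → Prop) :
    (Function.mulSupport fun i : {i : ℤ // p i} => a i.1).Finite := by
  have : (Function.mulSupport fun i : {i : ℤ // p i} => a i.1) =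
      Subtype.val ⁻¹' Function.mulSupport a := rfl
  rw [this]
  exact ha.preimage Subtype.val_injective.injOn

lemma finite_mulSupport_subtype_succ (a : ℤ → M) (ha : (Function.mulSupport a).Finite)
    (p : ℤ → Prop) :
    (Function.mulSupport fun i : {i : ℤ // p i} => a (i.1 + 1)).Finite := by
  have : (Function.mulSupport fun i : {i : ℤ // p i} => a (i.1 + 1)) =
      (fun i : {i : ℤ // p i} => i.1 + 1) ⁻¹' Function.mulSupport a := rfl
  rw [this]
  refine ha.preimage (Function.Injective.injOn ?_)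
  intro i j hij
  ext
  simpa using hij

lemma finprod_even_succ (a : ℤ → M) :
    ∏ᶠ (i : {i : ℤ // Even i}), a (i.1 + 1) = ∏ᶠ (j : {j : ℤ // Odd j}), a j.1 :=
  finprod_comp_equiv evenOdd (f := fun j : {j : ℤ // Odd j} => a j.1)

lemma finprod_odd_succ (a : ℤ → M) :
    ∏ᶠ (i : {i : ℤ // Odd i}), a (i.1 + 1) = ∏ᶠ (j : {j : ℤ // Even j}), a j.1 :=
  finprod_comp_equiv oddEven (f := fun j : {j : ℤ // Even j} => a j.1)

lemma finprod_even_mul_succ_eq_odd (a : ℤ → M) (ha : (Function.mulSupport a).Finite) :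
    ∏ᶠ (i : {i : ℤ // Even i}), a i.1 * a (i.1 + 1) =
      ∏ᶠ (i : {i : ℤ // Odd i}), a i.1 * a (i.1 + 1) := by
  rw [finprod_mul_distrib (finite_mulSupport_subtype a ha _)
      (finite_mulSupport_subtype_succ a ha _),
    finprod_mul_distrib (finite_mulSupport_subtype a ha _)
      (finite_mulSupport_subtype_succ a ha _),
    finprod_even_succ, finprod_odd_succ, mul_comm]

end Finprod

end Groth.Agent.Lib.Helper68.DetCone
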