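import Mathlib.LinearAlgebra.Determinant
import Mathlib.LinearAlgebra.Matrix.SchurComplement
import Mathlib.RingTheory.TensorProduct.Basic
import Mathlib.RingTheory.TensorProduct.Free
import Mathlib.RingTheory.TensorProduct.Finite
import Mathlib.Algebra.Polynomial.Basic
import Mathlib.Tactic.NoncommRing
import Mathlib.LinearAlgebra.FreeModule.Finite.Basic

namespace Groth.Agent.Lib.Helper68.DetWA

variable {B : Type*} [CommRing B]

section
variable {M N : Type*} [AddCommGroup M] [Module B M] [Module.Free B M] [Module.Finite B M]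
  [AddCommGroup N] [Module B N] [Module.Free B N] [Module.Finite B N]

/-- Weinstein–Aronszajn identity for linear maps between finite free modules. -/
theorem det_one_add_comp_comm (f : N →ₗ[B] M) (g : M →ₗ[B] N) :
    LinearMap.det (LinearMap.id + f ∘ₗ g) = LinearMap.det (LinearMap.id + g ∘ₗ f) := by
  classical
  let bM := Module.Free.chooseBasis B M
  let bN := Module.Free.chooseBasis B N
  rw [← LinearMap.det_toMatrix bM, ← LinearMap.det_toMatrix bN]
  rw [map_add, map_add, LinearMap.toMatrix_id, LinearMap.toMatrix_id,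
    LinearMap.toMatrix_comp bM bN bM, LinearMap.toMatrix_comp bN bM bN]
  exact Matrix.det_one_add_mul_comm _ _

/-- noncommutative ring identity behind the block-triangular factorization -/
theorem ring_factor {R : Type*} [Ring R] (p η : R) (h : (1 - p) * η * p = 0) :
    1 + η = (1 + (1 - p) * η) * (1 + p * η * (1 - p)) * (1 + η * p) := by
  have key : (1 + (1 - p) * η) * (1 + p * η * (1 - p)) * (1 + η * p) - (1 + η) =
      (1 - p) * η * p + (1 - p) * η * p * η * (1 - p) + p * η * ((1 - p) * η * p)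
        + (1 - p) * η * p * η * p + (1 - p) * η * ((1 - p) * η * p)
        + (1 - p) * η * p * η * (1 - p) * η * p := by
    noncomm_ring
  rw [h] at key
  simp only [zero_mul, mul_zero, add_zero] at key
  exact (sub_eq_zero.1 key).symm

/-- determinant of a block triangular endomorphism `1 + η` (w.r.t. an idempotent `p`,
`(1-p) η p = 0`). -/
theorem det_one_add_of_blockTriangular (p η : Module.End B M) (hp : p * p = p)
    (h : (1 - p) * η * p = 0) :
    LinearMap.det (1 + η) = LinearMap.det (1 + (1 - p) * η) * LinearMap.det (1 + η * p) := by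
  have h1 : LinearMap.det (1 + p * η * (1 - p)) = 1 := by
    have := det_one_add_comp_comm (B := B) (f := p) (g := η * (1 - p))
    have e1 : (LinearMap.id + p ∘ₗ (η * (1 - p)) : Module.End B M) = 1 + p * η * (1 - p) := by
      rw [mul_assoc]; rfl
    have e2 : (LinearMap.id + (η * (1 - p)) ∘ₗ p : Module.End B M) = 1 := by
      have : (η * (1 - p)) ∘ₗ p = η * ((1 - p) * p) := by rw [← mul_assoc]; rfl
      rw [this, sub_mul, one_mul, hp, sub_self, mul_zero, add_zero]; rfl
    rw [e1, e2] at this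
    rw [this]; exact LinearMap.det_id
  conv_lhs => rw [ring_factor p η h]
  rw [map_mul, map_mul, h1, mul_one]

end

section Steps

variable {M0 M1 M2 : Type*} [AddCommGroup M0] [Module B M0]
  [AddCommGroup M1] [Module B M1] [Module.Free B M1] [Module.Finite B M1]
  [AddCommGroup M2] [Module B M2] [Module.Free B M2] [Module.Finite B M2]

/-- one step of the telescoping argument for a contractible complex -/
theorem det_contractible_step (d0 : M0 →ₗ[B] M1) (d1 : M1 →ₗ[B] M2) (s0 : M1 →ₗ[B] M0)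
    (s1 : M2 →ₗ[B] M1) (hdd : d1 ∘ₗ d0 = 0) (hs : d0 ∘ₗ s0 + s1 ∘ₗ d1 = LinearMap.id)
    (η1 : Module.End B M1) (η2 : Module.End B M2) (hη : d1 ∘ₗ η1 = η2 ∘ₗ d1) :
    LinearMap.det (1 + η1) =
      LinearMap.det (1 + η1 ∘ₗ d0 ∘ₗ s0) * LinearMap.det (1 + η2 ∘ₗ d1 ∘ₗ s1) := by
  have hη' : ∀ x, d1 (η1 x) = η2 (d1 x) := fun x => LinearMap.congr_fun hη x
  have hdd' : ∀ x, d1 (d0 x) = 0 := fun x => LinearMap.congr_fun hdd x
  have hs' : ∀ x, d0 (s0 x) + s1 (d1 x) = x := fun x => LinearMap.congr_fun hs x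
  set p : Module.End B M1 := d0 ∘ₗ s0 with hp_def
  have hq : (1 - p : Module.End B M1) = s1 ∘ₗ d1 := by
    rw [sub_eq_iff_eq_add, add_comm]; exact hs.symm
  have h3 : ∀ x, d1 (s1 (d1 x)) = d1 x := by
    intro x
    have := congrArg d1 (hs' x)
    rw [map_add, hdd', zero_add] at this
    exact this
  have hpp : p * p = p := by
    ext x
    change d0 (s0 (d0 (s0 x))) = d0 (s0 x)
    have h5 := hs' (d0 (s0 x))
    rw [hdd', map_zero, add_zero] at h5
    exact h5
  have h0 : (1 - p) * η1 * p = 0 := by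
    rw [hq]
    ext x
    change s1 (d1 (η1 (d0 (s0 x)))) = 0
    rw [hη', hdd', map_zero, map_zero]
  rw [det_one_add_of_blockTriangular p η1 hpp h0, mul_comm]
  congr 1
  rw [hq]
  have := det_one_add_comp_comm (B := B) (f := s1) (g := d1 ∘ₗ η1)
  have e1 : (1 + s1 ∘ₗ d1 * η1 : Module.End B M1) = LinearMap.id + s1 ∘ₗ (d1 ∘ₗ η1) := rfl
  rw [e1, this, hη]
  rfl

variable {N1 N2 : Type*} [AddCommGroup N1] [Module B N1] [Module.Free B N1] [Module.Finite B N1]
  [AddCommGroup N2] [Module B N2] [Module.Free B N2] [Module.Finite B N2]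

/-- determinant of an endomorphism preserving the second summand of a splitting -/
theorem det_of_splitting (inl : N1 →ₗ[B] M1) (inr : N2 →ₗ[B] M1) (fst : M1 →ₗ[B] N1)
    (snd : M1 →ₗ[B] N2) (h11 : fst ∘ₗ inl = LinearMap.id) (h22 : snd ∘ₗ inr = LinearMap.id)
    (h21 : fst ∘ₗ inr = 0) (hid : inl ∘ₗ fst + inr ∘ₗ snd = LinearMap.id)
    (θ : Module.End B M1) (θ1 : Module.End B N1) (θ2 : Module.End B N2)
    (hθ2 : θ ∘ₗ inr = inr ∘ₗ θ2) (hθ1 : fst ∘ₗ θ ∘ₗ inl = θ1) :
    LinearMap.det θ = LinearMap.det θ1 * LinearMap.det θ2 := by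
  have h11' : ∀ x, fst (inl x) = x := fun x => LinearMap.congr_fun h11 x
  have h22' : ∀ x, snd (inr x) = x := fun x => LinearMap.congr_fun h22 x
  have h21' : ∀ x, fst (inr x) = 0 := fun x => LinearMap.congr_fun h21 x
  have hθ2' : ∀ x, θ (inr x) = inr (θ2 x) := fun x => LinearMap.congr_fun hθ2 x
  have hθ1' : ∀ x, fst (θ (inl x)) = θ1 x := fun x => LinearMap.congr_fun hθ1 x
  set p : Module.End B M1 := inr ∘ₗ snd with hp_def
  set η : Module.End B M1 := θ - 1 with hη_def
  have hθ : θ = 1 + η := by rw [hη_def]; abel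
  have hq : (1 - p : Module.End B M1) = inl ∘ₗ fst := by
    rw [sub_eq_iff_eq_add]; exact hid.symm
  have hpp : p * p = p := by
    ext x
    change inr (snd (inr (snd x))) = inr (snd x)
    rw [h22']
  have h0 : (1 - p) * η * p = 0 := by
    rw [hq]
    ext x
    change inl (fst (θ (inr (snd x)) - inr (snd x))) = 0
    rw [hθ2', map_sub, h21', h21', sub_zero, map_zero]
  rw [hθ, det_one_add_of_blockTriangular p η hpp h0]
  congr 1
  · rw [hq]
    have := det_one_add_comp_comm (B := B) (f := inl) (g := fst ∘ₗ η)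
    have e1 : (1 + inl ∘ₗ fst * η : Module.End B M1) = LinearMap.id + inl ∘ₗ (fst ∘ₗ η) := rfl
    rw [e1, this]
    congr 1
    ext x
    change x + fst (θ (inl x) - inl x) = θ1 x
    rw [map_sub, hθ1', h11']; abel
  · have := det_one_add_comp_comm (B := B) (f := η ∘ₗ inr) (g := snd)
    have e1 : (1 + η * p : Module.End B M1) = LinearMap.id + (η ∘ₗ inr) ∘ₗ snd := rfl
    rw [e1, this]
    congr 1
    ext x
    change x + snd (θ (inr x) - inr x) = θ2 x
    rw [map_sub, hθ2', h22', h22']; abel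

end Steps

section BaseChange

open Polynomial TensorProduct

variable {A : Type*} [CommRing A]

/-- `det(1 - u t) ∈ A[t]` for an endomorphism of an `A`-module (same formula as the prelude's
`SGA4h.detOneSub`). -/
noncomputable def dos {M : Type*} [AddCommGroup M] [Module A M] (u : M →ₗ[A] M) : A[X] :=
  LinearMap.det (LinearMap.id - (X : A[X]) • u.baseChange A[X])

theorem dos_aux {M : Type*} [AddCommGroup M] [Module A M] (v : M →ₗ[A] M) :
    (LinearMap.id - (X : A[X]) • v.baseChange A[X] : Module.End A[X] (A[X] ⊗[A] M)) =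
      1 + -((X : A[X]) • v.baseChange A[X]) := LinearMap.ext fun x => by
  simp only [LinearMap.sub_apply, LinearMap.add_apply, LinearMap.neg_apply, LinearMap.id_coe,
    id_eq, Module.End.one_apply, sub_eq_add_neg]

variable {M0 M1 M2 : Type*} [AddCommGroup M0] [Module A M0]
  [AddCommGroup M1] [Module A M1] [Module.Free A M1] [Module.Finite A M1]
  [AddCommGroup M2] [Module A M2] [Module.Free A M2] [Module.Finite A M2]

theorem dos_contractible_step (d0 : M0 →ₗ[A] M1) (d1 : M1 →ₗ[A] M2) (s0 : M1 →ₗ[A] M0)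
    (s1 : M2 →ₗ[A] M1) (hdd : d1 ∘ₗ d0 = 0) (hs : d0 ∘ₗ s0 + s1 ∘ₗ d1 = LinearMap.id)
    (w1 : M1 →ₗ[A] M1) (w2 : M2 →ₗ[A] M2) (hw : d1 ∘ₗ w1 = w2 ∘ₗ d1) :
    dos w1 = dos (w1 ∘ₗ d0 ∘ₗ s0) * dos (w2 ∘ₗ d1 ∘ₗ s1) := by
  have key := det_contractible_step (B := A[X]) (d0.baseChange A[X]) (d1.baseChange A[X])
    (s0.baseChange A[X]) (s1.baseChange A[X])
    (by rw [← LinearMap.baseChange_comp, hdd, LinearMap.baseChange_zero])
    (by rw [← LinearMap.baseChange_comp, ← LinearMap.baseChange_comp, ← LinearMap.baseChange_add,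
      hs, LinearMap.baseChange_id])
    (-((X : A[X]) • w1.baseChange A[X])) (-((X : A[X]) • w2.baseChange A[X]))
    (by rw [LinearMap.comp_neg, LinearMap.neg_comp, LinearMap.comp_smul, LinearMap.smul_comp,
      ← LinearMap.baseChange_comp, ← LinearMap.baseChange_comp, hw])
  unfold dos
  rw [dos_aux, dos_aux, dos_aux, key]
  congr 3
  · rw [LinearMap.neg_comp, LinearMap.smul_comp, ← LinearMap.baseChange_comp,
      ← LinearMap.baseChange_comp]
  · rw [LinearMap.neg_comp, LinearMap.smul_comp, ← LinearMap.baseChange_comp,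
      ← LinearMap.baseChange_comp]

variable {N1 N2 : Type*} [AddCommGroup N1] [Module A N1] [Module.Free A N1] [Module.Finite A N1]
  [AddCommGroup N2] [Module A N2] [Module.Free A N2] [Module.Finite A N2]

theorem dos_of_splitting (inl : N1 →ₗ[A] M1) (inr : N2 →ₗ[A] M1) (fst : M1 →ₗ[A] N1)
    (snd : M1 →ₗ[A] N2) (h11 : fst ∘ₗ inl = LinearMap.id) (h22 : snd ∘ₗ inr = LinearMap.id)
    (h21 : fst ∘ₗ inr = 0) (hid : inl ∘ₗ fst + inr ∘ₗ snd = LinearMap.id)
    (w : M1 →ₗ[A] M1) (w1 : N1 →ₗ[A] N1) (w2 : N2 →ₗ[A] N2)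
    (hw2 : w ∘ₗ inr = inr ∘ₗ w2) (hw1 : fst ∘ₗ w ∘ₗ inl = w1) :
    dos w = dos w1 * dos w2 := by
  unfold dos
  refine det_of_splitting (B := A[X]) (inl.baseChange A[X]) (inr.baseChange A[X])
    (fst.baseChange A[X]) (snd.baseChange A[X]) ?_ ?_ ?_ ?_ _ _ _ ?_ ?_
  · rw [← LinearMap.baseChange_comp, h11, LinearMap.baseChange_id]
  · rw [← LinearMap.baseChange_comp, h22, LinearMap.baseChange_id]
  · rw [← LinearMap.baseChange_comp, h21, LinearMap.baseChange_zero]
  · rw [← LinearMap.baseChange_comp, ← LinearMap.baseChange_comp, ← LinearMap.baseChange_add,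
      hid, LinearMap.baseChange_id]
  · rw [LinearMap.sub_comp, LinearMap.comp_sub, LinearMap.smul_comp, LinearMap.comp_smul,
      ← LinearMap.baseChange_comp, ← LinearMap.baseChange_comp, hw2]
    rfl
  · rw [LinearMap.sub_comp, LinearMap.comp_sub, LinearMap.smul_comp, LinearMap.comp_smul,
      ← LinearMap.baseChange_comp, ← LinearMap.baseChange_comp, hw1, LinearMap.id_comp,
      ← LinearMap.baseChange_comp, h11, LinearMap.baseChange_id]

theorem dos_eq_one_of_subsingleton {M : Type*} [AddCommGroup M] [Module A M] [Subsingleton M]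
    (u : M →ₗ[A] M) : dos u = 1 := by
  unfold dos
  exact LinearMap.det_eq_one_of_subsingleton _

end BaseChange

end Groth.Agent.Lib.Helper68.DetWA
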