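import Groth.Prelude.Def_EtBase
import Mathlib.AlgebraicGeometry.Morphisms.UniversallyOpen
import Mathlib.AlgebraicGeometry.Morphisms.Flat
import Mathlib.AlgebraicGeometry.PullbackCarrier
import Mathlib.AlgebraicGeometry.Sites.Small

set_option autoImplicit false
open CategoryTheory CategoryTheory.Limits AlgebraicGeometry Opposite
universe u

namespace Groth.Agent.Lib.Helper68.EtSubTerminal

variable (S : Scheme.{u}) (F : Sheaf S.smallEtaleTopology (Type u))

set_option backward.isDefEq.respectTransparency.types false in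
/-- The open subset attached to a subsheaf of the final sheaf. -/
def supp : S.Opens :=
  ⟨⋃ (U : S.Etale) (_ : Nonempty (F.obj.obj (op U))), Set.range U.hom, by
    refine isOpen_iUnion fun U => isOpen_iUnion fun _ => ?_
    exact U.hom.isOpenMap.isOpen_range⟩

set_option backward.isDefEq.respectTransparency.types false in
lemma range_subset_supp (U : S.Etale) (h : Nonempty (F.obj.obj (op U))) :
    Set.range U.hom ⊆ (supp S F : Set S) := by
  intro x hx
  exact Set.mem_iUnion.2 ⟨U, Set.mem_iUnion.2 ⟨h, hx⟩⟩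

/-- The sieve of all arrows from objects on which `F` has a section. -/
def sectSieve (U : S.Etale) : Sieve U where
  arrows Y _ := Nonempty (F.obj.obj (op Y))
  downward_closed := fun ⟨s⟩ g => ⟨F.obj.map g.op s⟩

set_option backward.isDefEq.respectTransparency.types false in
lemma sectSieve_mem (U : S.Etale) (h : Set.range U.hom ⊆ (supp S F : Set S)) :
    sectSieve S F U ∈ S.smallEtaleTopology U := by
  have eS : S.smallEtaleTopology =
      (S.smallPretopology (P := EtCoh.etaleMP) (Q := EtCoh.etaleMP)).toGrothendieck :=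
    Scheme.smallGrothendieckTopology_eq_toGrothendieck_smallPretopology S le_rfl
  rw [eS]
  refine (Scheme.mem_toGrothendieck_smallPretopology U _).2 ?_
  intro x
  have hx : U.hom x ∈ (supp S F : Set S) := h ⟨x, rfl⟩
  obtain ⟨V, hV⟩ := Set.mem_iUnion.1 hx
  obtain ⟨hV, v, hv⟩ := Set.mem_iUnion.1 hV
  obtain ⟨z, hz1, hz2⟩ := Scheme.Pullback.exists_preimage_pullback (f := U.hom) (g := V.hom) x v hv.symm
  let Y : S.Etale := Scheme.Etale.mk (pullback.fst U.hom V.hom ≫ U.hom)
  let g : Y ⟶ U := MorphismProperty.Over.homMk (pullback.fst U.hom V.hom) rfl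
  let g' : Y ⟶ V := MorphismProperty.Over.homMk (pullback.snd U.hom V.hom) pullback.condition.symm
  refine ⟨Y, g, z, ?_, ?_, hz1⟩
  · obtain ⟨s⟩ := hV
    exact ⟨F.obj.map g'.op s⟩
  · change Etale (pullback.fst U.hom V.hom)
    infer_instance

set_option backward.isDefEq.respectTransparency.types false in
lemma nonempty_of_range_subset (hF : ∀ U : S.Etale, Subsingleton (F.obj.obj (op U)))
    (U : S.Etale) (h : Set.range U.hom ⊆ (supp S F : Set S)) :
    Nonempty (F.obj.obj (op U)) := by
  have hsh : Presieve.IsSheaf S.smallEtaleTopology F.obj :=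
    (isSheaf_iff_isSheaf_of_type _ _).1 F.property
  have h1 := hsh (sectSieve S F U) (sectSieve_mem S F U h)
  let x : Presieve.FamilyOfElements F.obj (sectSieve S F U).arrows := fun Y f hf => hf.some
  have hx : x.Compatible := by
    intro Y₁ Y₂ Z g₁ g₂ f₁ f₂ h₁ h₂ _
    exact (hF Z).elim _ _
  obtain ⟨t, -, -⟩ := h1 x hx
  exact ⟨t⟩

set_option backward.isDefEq.respectTransparency.types false in
lemma subsingleton_hom (W : S.Opens) (U : S.Etale) :
    Subsingleton (U ⟶ Scheme.Etale.mk W.ι) where
  allEq g g' := by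
    apply MorphismProperty.Over.Hom.ext
    have h : g.left ≫ W.ι = g'.left ≫ W.ι :=
      (MorphismProperty.Over.w g).trans (MorphismProperty.Over.w g').symm
    exact (cancel_mono W.ι).1 h

set_option backward.isDefEq.respectTransparency.types false in
lemma nonempty_hom_iff (W : S.Opens) (U : S.Etale) :
    Nonempty (U ⟶ Scheme.Etale.mk W.ι) ↔ Set.range U.hom ⊆ (W : Set S) := by
  constructor
  · rintro ⟨g⟩
    have h : g.left ≫ W.ι = U.hom := MorphismProperty.Over.w g
    rw [← h]
    rintro _ ⟨x, rfl⟩
    have : (g.left ≫ W.ι) x ∈ Set.range W.ι := ⟨g.left x, rfl⟩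
    rwa [Scheme.Opens.range_ι] at this
  · intro h
    let f : U.left ⟶ S := U.hom
    have h' : Set.range f ⊆ Set.range W.ι := by
      rw [Scheme.Opens.range_ι]
      exact h
    let l : U.left ⟶ (W : Scheme) := IsOpenImmersion.lift W.ι f h'
    have hl : l ≫ W.ι = f := IsOpenImmersion.lift_fac W.ι f h'
    exact ⟨MorphismProperty.Over.homMk l hl⟩

variable (hF : ∀ U : S.Etale, Subsingleton (F.obj.obj (op U)))

include hF in
lemma nonempty_iff (U : S.Etale) :
    Nonempty (F.obj.obj (op U)) ↔ Set.range U.hom ⊆ (supp S F : Set S) :=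
  ⟨range_subset_supp S F U, nonempty_of_range_subset S F hF U⟩

/-- The isomorphism with the representable presheaf. -/
noncomputable def isoYoneda : F.obj ≅ yoneda.obj (Scheme.Etale.mk (supp S F).ι) :=
  NatIso.ofComponents (fun U => Equiv.toIso
    (haveI := hF U.unop
     haveI := subsingleton_hom S (supp S F) U.unop
     equivOfSubsingletonOfSubsingleton
      (fun s => ((nonempty_hom_iff S (supp S F) U.unop).2
        ((nonempty_iff S F hF U.unop).1 ⟨s⟩)).some)
      (fun k => ((nonempty_iff S F hF U.unop).2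
        ((nonempty_hom_iff S (supp S F) U.unop).1 ⟨k⟩)).some)))
    (by
      intro U V f
      ext x
      exact (subsingleton_hom S (supp S F) V.unop).elim _ _)

set_option backward.isDefEq.respectTransparency.types false in
include hF in
theorem existsUnique :
    ∃! W : S.Opens, Nonempty (F.obj ≅ yoneda.obj (Scheme.Etale.mk W.ι)) := by
  refine ⟨supp S F, ⟨isoYoneda S F hF⟩, ?_⟩
  rintro W' ⟨e⟩
  have key : ∀ U : S.Etale, Set.range U.hom ⊆ (W' : Set S) ↔
      Set.range U.hom ⊆ (supp S F : Set S) := by
    intro U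
    rw [← nonempty_hom_iff, ← nonempty_iff S F hF]
    exact ⟨fun ⟨k⟩ => ⟨e.inv.app (op U) k⟩, fun ⟨s⟩ => ⟨e.hom.app (op U) s⟩⟩
  apply le_antisymm
  · have h := (key (Scheme.Etale.mk W'.ι)).1 (by
      change Set.range W'.ι ⊆ _
      rw [Scheme.Opens.range_ι])
    change Set.range W'.ι ⊆ _ at h
    rwa [Scheme.Opens.range_ι] at h
  · have h := (key (Scheme.Etale.mk (supp S F).ι)).2 (by
      change Set.range (supp S F).ι ⊆ _
      rw [Scheme.Opens.range_ι])
    change Set.range (supp S F).ι ⊆ _ at h
    rwa [Scheme.Opens.range_ι] at h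

end Groth.Agent.Lib.Helper68.EtSubTerminal
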