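import Mathlib.Algebra.Homology.DerivedCategory.Ext.ExactSequences
import Mathlib.Algebra.Homology.DerivedCategory.Ext.EnoughInjectives
import Mathlib.CategoryTheory.Abelian.Injective.Basic
import Mathlib.CategoryTheory.Preadditive.Injective.Basic

set_option autoImplicit false
universe w v u t
open CategoryTheory CategoryTheory.Limits Abelian

namespace Groth.Agent.Lib.Helper68.ExtPi

variable {𝒜 : Type u} [Category.{v} 𝒜] [Abelian 𝒜] [HasExt.{w} 𝒜] [EnoughInjectives 𝒜]
  {I : Type t} [HasProductsOfShape I 𝒜]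

variable (F : I → 𝒜)

/-- the chosen injective hulls -/
noncomputable abbrev inj (i : I) : 𝒜 := Injective.under (F i)
noncomputable abbrev emb (i : I) : F i ⟶ inj F i := Injective.ι (F i)
noncomputable abbrev quo (i : I) : 𝒜 := cokernel (emb F i)
noncomputable abbrev pr (i : I) : inj F i ⟶ quo F i := cokernel.π (emb F i)

noncomputable abbrev sc (i : I) : ShortComplex 𝒜 := ShortComplex.mk (emb F i) (pr F i) (by simp)

lemma sc_shortExact (i : I) : (sc F i).ShortExact where
  exact := ShortComplex.exact_cokernel _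
  mono_f := by dsimp [sc]; infer_instance
  epi_g := by dsimp [sc]; infer_instance

noncomputable abbrev m : ∏ᶜ F ⟶ ∏ᶜ (inj F) := Limits.Pi.map (emb F)

instance : Mono (m F) := by
  refine ⟨fun {Z} a b hab => ?_⟩
  apply Pi.hom_ext
  intro i
  have := congrArg (fun t => t ≫ Pi.π _ i) hab
  simp only [Category.assoc, Limits.Pi.map_π] at this
  rw [← cancel_mono (emb F i)]
  simpa using this

noncomputable abbrev scP : ShortComplex 𝒜 :=
  ShortComplex.mk (m F) (cokernel.π (m F)) (by simp)

lemma scP_shortExact : (scP F).ShortExact where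
  exact := ShortComplex.exact_cokernel _
  mono_f := by dsimp [scP]; infer_instance
  epi_g := by dsimp [scP]; infer_instance

/-- the comparison map to the `i`-th quotient -/
noncomputable def c (i : I) : cokernel (m F) ⟶ quo F i :=
  cokernel.desc (m F) (Pi.π _ i ≫ pr F i) (by
    rw [← Category.assoc, Limits.Pi.map_π, Category.assoc]
    simp)

@[reassoc (attr := simp)]
lemma π_c (i : I) : cokernel.π (m F) ≫ c F i = Pi.π _ i ≫ pr F i := by
  simp [c]

/-- the morphism of short complexes to the `i`-th one -/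
noncomputable def toSc (i : I) : scP F ⟶ sc F i where
  τ₁ := Pi.π _ i
  τ₂ := Pi.π _ i
  τ₃ := c F i
  comm₁₂ := by simp [scP, sc]
  comm₂₃ := by simp [scP, sc]

/-- the joint kernel of the `c F i` is zero -/
lemma c_jointly_mono {T : 𝒜} (a : T ⟶ cokernel (m F)) (h : ∀ i, a ≫ c F i = 0) : a = 0 := by
  -- `∏F → ∏I → ∏Q` is exact
  let f : ∏ᶜ (inj F) ⟶ ∏ᶜ (quo F) := Limits.Pi.map (pr F)
  have hmf : m F ≫ f = 0 := by
    apply Pi.hom_ext
    intro i
    simp [f]
  let S : ShortComplex 𝒜 := ShortComplex.mk (m F) f hmf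
  have hS : S.Exact := by
    have : Mono S.f := by dsimp [S]; infer_instance
    refine ((ShortComplex.exact_and_mono_f_iff_f_is_kernel S).2 ⟨?_⟩).1
    refine KernelFork.IsLimit.ofι _ _
      (fun {T} t ht => Pi.lift (fun i => (sc_shortExact F i).exact.lift (t ≫ Pi.π _ i) (by
        have := congrArg (fun s => s ≫ Pi.π _ i) ht
        simpa [S, f, sc] using this)))
      (fun {T} t ht => ?_) (fun {T} t ht l hl => ?_)
    · apply Pi.hom_ext
      intro i
      dsimp [S]
      rw [Category.assoc, Limits.Pi.map_π, Pi.lift_π_assoc]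
      exact (sc_shortExact F i).exact.lift_f _ _
    · apply Pi.hom_ext
      intro i
      rw [Pi.lift_π]
      have : Mono (sc F i).f := (sc_shortExact F i).mono_f
      rw [← cancel_mono (sc F i).f, (sc_shortExact F i).exact.lift_f]
      rw [← hl]
      simp [S, sc]
  have hmono : Mono (cokernel.desc S.f S.g S.zero) := (S.exact_iff_mono_cokernel_desc).1 hS
  have hfac : ∀ i, cokernel.desc S.f S.g S.zero ≫ Pi.π _ i = c F i := by
    intro i
    apply coequalizer.hom_ext
    simp [S, f]
  rw [← cancel_mono (cokernel.desc S.f S.g S.zero), zero_comp]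
  apply Pi.hom_ext
  intro i
  rw [Category.assoc, hfac, h, zero_comp]

instance : Injective (∏ᶜ (inj F)) := inferInstance

theorem ext_one_eq_zero (A : 𝒜) (x : Ext.{w} A (∏ᶜ F) 1)
    (hx : ∀ i, x.comp (Ext.mk₀ (Pi.π F i)) (add_zero 1) = 0) : x = 0 := by
  have h1 : x.comp (Ext.mk₀ (scP F).f) (add_zero 1) = 0 := by
    have : Injective (scP F).X₂ := by dsimp [scP]; infer_instance
    exact Ext.eq_zero_of_injective _
  obtain ⟨q, hq⟩ := Ext.covariant_sequence_exact₁ A (scP_shortExact F) x h1 (zero_add 1)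
  obtain ⟨q₀, rfl⟩ := (Ext.mk₀_bijective A (scP F).X₃).2 q
  -- componentwise lifts
  have h2 : ∀ i, ∃ s : A ⟶ inj F i, s ≫ pr F i = q₀ ≫ c F i := by
    intro i
    have hnat : (scP_shortExact F).extClass.comp (Ext.mk₀ (Pi.π F i)) (add_zero 1) =
        (Ext.mk₀ (c F i)).comp (sc_shortExact F i).extClass (zero_add 1) :=
      ShortComplex.ShortExact.extClass_naturality (scP_shortExact F)
        (sc_shortExact F i) (toSc F i)
    have h3 : (Ext.mk₀ (q₀ ≫ c F i)).comp (sc_shortExact F i).extClass (zero_add 1) = 0 := by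
      rw [← Ext.mk₀_comp_mk₀, Ext.comp_assoc_of_second_deg_zero, ← hnat]
      rw [← Ext.comp_assoc_of_third_deg_zero, hq]
      exact hx i
    obtain ⟨s, hs⟩ := Ext.covariant_sequence_exact₃ A (sc_shortExact F i) _ (zero_add 1) h3
    obtain ⟨s₀, rfl⟩ := (Ext.mk₀_bijective A (sc F i).X₂).2 s
    refine ⟨s₀, ?_⟩
    apply (Ext.mk₀_bijective A _).1
    rw [← hs, Ext.mk₀_comp_mk₀]
  choose s hs using h2
  have h4 : Pi.lift s ≫ (scP F).g = q₀ := by
    rw [← sub_eq_zero]
    apply c_jointly_mono
    intro i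
    rw [Preadditive.sub_comp, sub_eq_zero, Category.assoc]
    dsimp [scP]
    rw [π_c, Pi.lift_π_assoc, hs]
  rw [← hq, ← h4, ← Ext.mk₀_comp_mk₀, Ext.comp_assoc_of_second_deg_zero]
  rw [(scP_shortExact F).comp_extClass, Ext.comp_zero]

end Groth.Agent.Lib.Helper68.ExtPi
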