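import Groth.Agent.Lib.Helper68.ExtPi

set_option autoImplicit false
universe w v u t
open CategoryTheory CategoryTheory.Limits Abelian

namespace Groth.Agent.Lib.Helper68.ExtPi

variable {𝒜 : Type u} [Category.{v} 𝒜] [Abelian 𝒜] [HasExt.{w} 𝒜] [EnoughInjectives 𝒜]
  {I : Type t} [HasProductsOfShape I 𝒜]

theorem ext_one_ext (F : I → 𝒜) (A : 𝒜) (x y : Ext.{w} A (∏ᶜ F) 1)
    (h : ∀ i, x.comp (Ext.mk₀ (Pi.π F i)) (add_zero 1) =
      y.comp (Ext.mk₀ (Pi.π F i)) (add_zero 1)) : x = y := by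
  rw [← sub_eq_zero]
  apply ext_one_eq_zero F A
  intro i
  rw [sub_eq_add_neg, Ext.add_comp, Ext.neg_comp, ← sub_eq_add_neg, sub_eq_zero]
  exact h i

end Groth.Agent.Lib.Helper68.ExtPi
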