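import Mathlib.CategoryTheory.Extensive
import Mathlib.CategoryTheory.Limits.Preserves.Shapes.BinaryProducts
import Mathlib.CategoryTheory.Limits.Shapes.Pullback.IsPullback.Basic

/-! Lemmas on extensive categories: summands of coproducts and functors preserving pullbacks
along summand inclusions (helper68). -/

set_option autoImplicit false
universe w v₁ u₁ v₂ u₂ v₃ u₃ v₄ u₄

open CategoryTheory CategoryTheory.Limits

namespace Groth.Agent.Lib.Helper68

section Split

variable {𝓐 : Type u₁} [Category.{v₁} 𝓐] {I : Type w} (i₀ : I) {A : I → 𝓐}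

/-- The map from the coproduct of the other summands. -/
noncomputable def restDesc (c : Cofan A) [HasCoproduct (fun j : {j // j ≠ i₀} => A j.1)] :
    (∐ fun j : {j // j ≠ i₀} => A j.1) ⟶ c.pt :=
  Sigma.desc (fun j => c.inj j.1)

theorem ι_restDesc (c : Cofan A) [HasCoproduct (fun j : {j // j ≠ i₀} => A j.1)]
    (j : {j // j ≠ i₀}) :
    Sigma.ι (fun j : {j // j ≠ i₀} => A j.1) j ≫ restDesc i₀ c = c.inj j.1 := by
  simp [restDesc]

/-- Splitting off one summand of a coproduct. -/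
noncomputable def splitIsColimit (c : Cofan A) (hc : IsColimit c)
    [HasCoproduct (fun j : {j // j ≠ i₀} => A j.1)] :
    IsColimit (BinaryCofan.mk (c.inj i₀) (restDesc i₀ c)) := by
  classical
  refine BinaryCofan.IsColimit.mk _
    (fun {T} f g => Cofan.IsColimit.desc hc
      (fun i => (Equiv.piSplitAt i₀ (fun i => A i ⟶ T)).symm
        (f, fun j => Sigma.ι (fun j : {j // j ≠ i₀} => A j.1) j ≫ g) i)) ?_ ?_ ?_
  · intro T f g
    change c.inj i₀ ≫ _ = f
    rw [Cofan.IsColimit.fac]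
    simp [Equiv.piSplitAt_symm_apply]
  · intro T f g
    change restDesc i₀ c ≫ _ = g
    apply Sigma.hom_ext
    intro j
    rw [← Category.assoc, ι_restDesc, Cofan.IsColimit.fac]
    simp [Equiv.piSplitAt_symm_apply, j.2]
  · intro T f g m h1 h2
    change c.pt ⟶ T at m
    change c.inj i₀ ≫ m = f at h1
    change restDesc i₀ c ≫ m = g at h2
    apply Cofan.IsColimit.hom_ext hc
    intro i
    rw [Cofan.IsColimit.fac]
    by_cases hi : i = i₀
    · subst hi
      simp [Equiv.piSplitAt_symm_apply, h1]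
    · simp only [Equiv.piSplitAt_symm_apply, hi, dite_false]
      rw [← h2, ← Category.assoc, ι_restDesc i₀ c ⟨i, hi⟩]

end Split

section Cartesian

variable {𝓐 : Type u₁} [Category.{v₁} 𝓐] [FinitaryExtensive 𝓐] {I : Type w} (i₀ : I)
  {A A' : I → 𝓐}

/-- In an extensive category with the relevant coproducts, a morphism of coproducts induced by
morphisms of the summands is cartesian over each summand. -/
theorem isPullback_inj_of_cofan_map (c : Cofan A) (hc : IsColimit c) (c' : Cofan A')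
    (hc' : IsColimit c') (g : ∀ i, A i ⟶ A' i) (gpt : c.pt ⟶ c'.pt)
    (hg : ∀ i, c.inj i ≫ gpt = g i ≫ c'.inj i)
    [HasCoproduct (fun j : {j // j ≠ i₀} => A j.1)]
    [HasCoproduct (fun j : {j // j ≠ i₀} => A' j.1)] :
    IsPullback (c.inj i₀) (g i₀) gpt (c'.inj i₀) := by
  have hb := splitIsColimit i₀ c hc
  have hb' := splitIsColimit i₀ c' hc'
  have hvk := (BinaryCofan.isVanKampen_iff _).mp (FinitaryExtensive.vanKampen _ hb')
    (BinaryCofan.mk (c.inj i₀) (restDesc i₀ c)) (g i₀)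
    (Limits.Sigma.map (fun j : {j // j ≠ i₀} => g j.1)) gpt (hg i₀).symm (by
      change Limits.Sigma.map (fun j : {j // j ≠ i₀} => g j.1) ≫ restDesc i₀ c' =
        restDesc i₀ c ≫ gpt
      apply Sigma.hom_ext
      intro j
      rw [← Category.assoc, ← Category.assoc, ι_restDesc, Sigma.ι_map, Category.assoc,
        ι_restDesc, hg])
  exact (hvk.mp ⟨hb⟩).1

end Cartesian

section Summand

variable {𝓐 : Type u₁} [Category.{v₁} 𝓐] [FinitaryExtensive 𝓐] [HasPullbacks 𝓐]
  {𝓑 : Type u₂} [Category.{v₂} 𝓑] [FinitaryExtensive 𝓑]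
  (H : 𝓐 ⥤ 𝓑) [PreservesColimitsOfShape (Discrete WalkingPair) H]

/-- A functor between extensive categories which preserves binary coproducts preserves pullbacks
along summand inclusions. -/
theorem isPullback_map_of_summand {Z₁ Z₂ Z E E₁ : 𝓐} {i₁ : Z₁ ⟶ Z} {i₂ : Z₂ ⟶ Z}
    (hZ : IsColimit (BinaryCofan.mk i₁ i₂)) {e₁ : E₁ ⟶ E} {p₁ : E₁ ⟶ Z₁} {p : E ⟶ Z}
    (h : IsPullback e₁ p₁ p i₁) : IsPullback (H.map e₁) (H.map p₁) (H.map p) (H.map i₁) := by
  have h2 : IsPullback (pullback.fst p i₂) (pullback.snd p i₂) p i₂ :=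
    IsPullback.of_hasPullback p i₂
  have hE : Nonempty (IsColimit (BinaryCofan.mk e₁ (pullback.fst p i₂))) :=
    ((BinaryCofan.isVanKampen_iff _).mp (FinitaryExtensive.vanKampen _ hZ)
      (BinaryCofan.mk e₁ (pullback.fst p i₂)) p₁ (pullback.snd p i₂) p h.w.symm h2.w.symm).mpr
      ⟨h, h2⟩
  obtain ⟨hE⟩ := hE
  have hHE := mapIsColimitOfPreservesOfIsColimit H _ _ hE
  have hHZ := mapIsColimitOfPreservesOfIsColimit H _ _ hZ
  have := ((BinaryCofan.isVanKampen_iff _).mp (FinitaryExtensive.vanKampen _ hHZ)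
      (BinaryCofan.mk (H.map e₁) (H.map (pullback.fst p i₂))) (H.map p₁)
      (H.map (pullback.snd p i₂)) (H.map p)
      (by change H.map p₁ ≫ H.map i₁ = H.map e₁ ≫ H.map p
          rw [← H.map_comp, ← H.map_comp, h.w])
      (by change H.map (pullback.snd p i₂) ≫ H.map i₂ = H.map (pullback.fst p i₂) ≫ H.map p
          rw [← H.map_comp, ← H.map_comp, h2.w])).mp ⟨hHE⟩
  exact this.1

end Summand

section Abstract

variable {𝓐 : Type u₁} [Category.{v₁} 𝓐] {𝓐' : Type u₂} [Category.{v₂} 𝓐']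
  {𝓑 : Type u₃} [Category.{v₃} 𝓑]
  (Ψ : 𝓐 ⥤ 𝓐) (e : 𝓐 ⥤ 𝓐') (r : 𝓐' ⥤ 𝓐) (H : 𝓐 ⥤ 𝓑) (φ : Ψ ⟶ e ⋙ r)
  [HasPullbacks 𝓐']
  [PreservesLimitsOfShape WalkingCospan r] [PreservesLimitsOfShape WalkingCospan (r ⋙ H)]
  [PreservesLimitsOfShape WalkingCospan Ψ]

/-- If `φ : Ψ ⟶ e ⋙ r` is a cartesian natural transformation, `H` preserves pullbacks along
the components of `φ`, and `r` and `r ⋙ H` preserve pullbacks, then `Ψ ⋙ H` preserves
pullbacks. -/
theorem preservesPullbacks_comp_of_cartesian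
    (hcart : ∀ {a a' : 𝓐} (g : a ⟶ a'),
      IsPullback (φ.app a) (Ψ.map g) ((e ⋙ r).map g) (φ.app a'))
    (hsum : ∀ (Z : 𝓐) {E E₁ : 𝓐} {e₁ : E₁ ⟶ E} {p₁ : E₁ ⟶ Ψ.obj Z} {p : E ⟶ (e ⋙ r).obj Z},
      IsPullback e₁ p₁ p (φ.app Z) →
        IsPullback (H.map e₁) (H.map p₁) (H.map p) (H.map (φ.app Z))) :
    PreservesLimitsOfShape WalkingCospan (Ψ ⋙ H) := by
  refine preservesLimitsOfShape_walkingCospan_of_forall_isPullback fun X Y Z f g _ => ?_
  refine ⟨pullback f g, pullback.fst f g, pullback.snd f g, IsPullback.of_hasPullback f g, ?_⟩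
  have sq := IsPullback.of_hasPullback f g
  have Ψsq : IsPullback (Ψ.map (pullback.fst f g)) (Ψ.map (pullback.snd f g)) (Ψ.map f)
      (Ψ.map g) := sq.map Ψ
  have Psq := IsPullback.of_hasPullback (e.map f) (e.map g)
  have rP : IsPullback (r.map (pullback.fst (e.map f) (e.map g)))
      (r.map (pullback.snd (e.map f) (e.map g))) ((e ⋙ r).map f) ((e ⋙ r).map g) := Psq.map r
  have HrP : IsPullback (H.map (r.map (pullback.fst (e.map f) (e.map g))))
      (H.map (r.map (pullback.snd (e.map f) (e.map g)))) (H.map ((e ⋙ r).map f))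
      (H.map ((e ⋙ r).map g)) := Psq.map (r ⋙ H)
  -- the comparison map
  have hk : (Ψ.map (pullback.fst f g) ≫ φ.app X) ≫ (e ⋙ r).map f =
      (Ψ.map (pullback.snd f g) ≫ φ.app Y) ≫ (e ⋙ r).map g := by
    rw [Category.assoc, Category.assoc, ← φ.naturality, ← φ.naturality, ← Category.assoc,
      ← Category.assoc, ← Ψ.map_comp, ← Ψ.map_comp, sq.w]
  let k := rP.lift (Ψ.map (pullback.fst f g) ≫ φ.app X) (Ψ.map (pullback.snd f g) ≫ φ.app Y) hk
  have hk1 : k ≫ r.map (pullback.fst (e.map f) (e.map g)) =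
      Ψ.map (pullback.fst f g) ≫ φ.app X := rP.lift_fst _ _ _
  have hk2 : k ≫ r.map (pullback.snd (e.map f) (e.map g)) =
      Ψ.map (pullback.snd f g) ≫ φ.app Y := rP.lift_snd _ _ _
  -- step 1
  have big : IsPullback (k ≫ r.map (pullback.fst (e.map f) (e.map g)))
      (Ψ.map (pullback.snd f g)) ((e ⋙ r).map f) (φ.app Y ≫ (e ⋙ r).map g) := by
    rw [hk1, ← φ.naturality]
    exact Ψsq.paste_horiz (hcart f)
  have s1 : IsPullback k (Ψ.map (pullback.snd f g))
      (r.map (pullback.snd (e.map f) (e.map g))) (φ.app Y) :=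
    big.of_right hk2 rP
  -- step 2
  have D1 : IsPullback k (Ψ.map (pullback.snd f g) ≫ Ψ.map g)
      (r.map (pullback.snd (e.map f) (e.map g)) ≫ (e ⋙ r).map g) (φ.app Z) :=
    s1.paste_vert (hcart g)
  -- step 3
  have HD1 := hsum Z D1
  rw [H.map_comp, H.map_comp] at HD1
  have HcX := hsum Z (hcart f)
  have HcY := hsum Z (hcart g)
  have s6a : IsPullback (H.map k) (H.map (Ψ.map (pullback.snd f g)))
      (H.map (r.map (pullback.snd (e.map f) (e.map g)))) (H.map (φ.app Y)) :=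
    HD1.of_bot (by rw [← H.map_comp, ← H.map_comp, hk2]) HcY
  have big2 := s6a.paste_horiz HrP
  have e1 : H.map k ≫ H.map (r.map (pullback.fst (e.map f) (e.map g))) =
      H.map (Ψ.map (pullback.fst f g)) ≫ H.map (φ.app X) := by
    rw [← H.map_comp, ← H.map_comp, hk1]
  have e2 : H.map (φ.app Y) ≫ H.map ((e ⋙ r).map g) =
      H.map (Ψ.map g) ≫ H.map (φ.app Z) := by
    rw [← H.map_comp, ← H.map_comp, φ.naturality]
  rw [e1, e2] at big2
  exact big2.of_right (by
    change H.map (Ψ.map (pullback.fst f g)) ≫ H.map (Ψ.map f) =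
      H.map (Ψ.map (pullback.snd f g)) ≫ H.map (Ψ.map g)
    rw [← H.map_comp, ← H.map_comp, ← Ψ.map_comp, ← Ψ.map_comp, sq.w]) HcX

end Abstract

end Groth.Agent.Lib.Helper68
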