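import Groth.Agent.Lib.Helper68.FibSiteCont
import Mathlib.CategoryTheory.Adjunction.Triple
import Mathlib.CategoryTheory.Functor.KanExtension.Adjunction

/-! Adjoints of the restriction to a fibre of a fibred site (helper68). -/

set_option autoImplicit false
universe v₃ u₃ v₂ u₂ v₁ u₁ v u w

open CategoryTheory CategoryTheory.Limits Opposite Pseudofunctor Pseudofunctor.CoGrothendieck Bicategory

namespace Groth.Agent.Lib.Helper68

section General

variable {𝒮 : Type u₁} [Category.{v₁} 𝒮]
variable (F : Pseudofunctor (LocallyDiscrete 𝒮ᵒᵖ) Cat.{v₂, u₂}) (J : FibSite.Topologies F)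

/-- Cocontinuity of the fibre inclusions. -/
theorem isCocontinuous_ι (hF : FibSite.IsPreFibSite F J) (S : 𝒮) :
    (ι F S).IsCocontinuous (J S) (FibSite.totalTopology F J) where
  cover_lift {U} T hT := by
    obtain ⟨R, hR, hle⟩ := (mem_totalTopology_iff F J hF _ T).mp hT
    refine (J S).superset_covering ?_ hR
    intro V r hr
    exact hle _ (Sieve.image_mem_functorPushforward (ι F S) R hr)

set_option backward.isDefEq.respectTransparency false in
instance ι_faithful (S : 𝒮) : (ι F S).Faithful where
  map_injective {a b} φ ψ h := by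
    have hf := Hom.congr h
    simp only [eqToHom_refl, Category.comp_id] at hf
    have h2 : ∀ χ : a ⟶ b, χ = (χ ≫ (F.mapId ⟨op S⟩).inv.toNatTrans.app b) ≫
        (F.mapId ⟨op S⟩).hom.toNatTrans.app b := by
      intro χ
      simp [← Cat.Hom₂.comp_app]
    rw [h2 φ, h2 ψ]
    exact congrArg (· ≫ (F.mapId ⟨op S⟩).hom.toNatTrans.app b) hf

set_option backward.isDefEq.respectTransparency false in
theorem ι_full_of_isTerminal (i : 𝒮) (hi : IsTerminal i) : (ι F i).Full where
  map_surjective {a b} f := by
    obtain ⟨g, α⟩ := f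
    change i ⟶ i at g
    have hg : g = 𝟙 i := hi.hom_ext _ _
    subst hg
    change a ⟶ (FibSite.invImage F (𝟙 i)).obj b at α
    refine ⟨α ≫ (F.mapId ⟨op i⟩).hom.toNatTrans.app b, ?_⟩
    refine Hom.ext _ _ rfl ?_
    simp [← Cat.Hom₂.comp_app]
    exact Category.comp_id _

end General

section FF

variable {C : Type u₁} [Category.{v₁} C] {D : Type u₂} [Category.{v₂} D] (G : C ⥤ D)
  (A : Type u₃) [Category.{v₃} A] (J : GrothendieckTopology C) (K : GrothendieckTopology D)

/-- For a fully faithful, continuous and cocontinuous functor, the left adjoint of the restriction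
of sheaves is fully faithful (because the right adjoint is). -/
theorem sheafPullback_fullyFaithful_of_fullyFaithful [G.Full] [G.Faithful]
    [G.IsContinuous J K] [G.IsCocontinuous J K]
    [∀ P : Cᵒᵖ ⥤ A, G.op.HasPointwiseRightKanExtension P]
    [(G.sheafPushforwardContinuous A J K).IsRightAdjoint] :
    Nonempty (G.sheafPullback A J K).FullyFaithful := by
  let t : Adjunction.Triple (G.sheafPullback A J K) (G.sheafPushforwardContinuous A J K)
      (G.sheafPushforwardCocontinuous A J K) :=
    ⟨G.sheafAdjunctionContinuous A J K, G.sheafAdjunctionCocontinuous A J K⟩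
  have h1 : ∀ Q : Sheaf J A, IsIso (t.adj₂.counit.app Q) := by
    intro Q
    have h2 : IsIso ((sheafToPresheaf J A).map (t.adj₂.counit.app Q)) := by
      change IsIso (t.adj₂.counit.app Q).hom
      rw [G.sheafAdjunctionCocontinuous_counit_app_hom A J K Q]
      have i1 : G.op.Full := inferInstance
      have i2 : G.op.Faithful := inferInstance
      rw [Functor.ranAdjunction_counit]
      have i4 : IsIso (G.op.ranCounit (H := A)) := Functor.reflective (L := G.op) (H := A)
      exact NatIso.isIso_app_of_isIso _ _
    exact isIso_of_reflects_iso _ (sheafToPresheaf J A)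
  have : IsIso t.adj₂.counit := NatIso.isIso_of_isIso_app _
  exact ⟨t.fullyFaithfulEquiv.symm t.adj₂.fullyFaithfulROfIsIsoCounit⟩

end FF

end Groth.Agent.Lib.Helper68
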