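import Groth.Agent.Lib.Helper68.LanSlice
import Mathlib.CategoryTheory.Sites.LocallyBijective
import Mathlib.CategoryTheory.Sites.CoverLifting

/-! Bicovering morphisms and left Kan extension along a faithful, slice-full, cocontinuous
functor (helper68). -/

set_option autoImplicit false
universe u

open CategoryTheory CategoryTheory.Limits Opposite

namespace Groth.Agent.Lib.Helper68

variable {C : Type u} [SmallCategory C] {D : Type u} [SmallCategory D]
variable (G : C ⥤ D) (J : GrothendieckTopology C) (K : GrothendieckTopology D)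

theorem lanUnit_naturality_apply (P : Cᵒᵖ ⥤ Type u) {V V' : C} (r : V' ⟶ V) (x : P.obj (op V)) :
    (lanObj G P).map (G.map r).op ((lanUnit G P).app (op V) x) =
      (lanUnit G P).app (op V') (P.map r.op x) :=
  (NatTrans.naturality_apply (lanUnit G P) r.op x).symm

theorem lanMap_unit_apply {P P' : Cᵒᵖ ⥤ Type u} (α : P ⟶ P') (V : C) (x : P.obj (op V)) :
    (lanMap G α).app (op (G.obj V)) ((lanUnit G P).app (op V) x) =
      (lanUnit G P').app (op V) (α.app (op V) x) :=
  lanMap_app_mk G α _

theorem isLocallyInjective_of_lanMap [G.Faithful] (hG : SliceFull G)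
    [G.IsCocontinuous J K] {P P' : Cᵒᵖ ⥤ Type u} (α : P ⟶ P')
    (h : Presheaf.IsLocallyInjective K (lanMap G α)) : Presheaf.IsLocallyInjective J α where
  equalizerSieve_mem {X} x y hxy := by
    have h1 : (lanMap G α).app (op (G.obj X.unop)) ((lanUnit G P).app X x) =
        (lanMap G α).app (op (G.obj X.unop)) ((lanUnit G P).app X y) := by
      have e1 := lanMap_unit_apply G α X.unop x
      have e2 := lanMap_unit_apply G α X.unop y
      exact e1.trans ((congrArg ((lanUnit G P').app X) hxy).trans e2.symm)
    have h2 := Presheaf.equalizerSieve_mem K (lanMap G α) _ _ h1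
    have h3 := G.cover_lift J K h2
    refine J.superset_covering ?_ h3
    intro V' r hr
    change (lanObj G P).map (G.map r).op ((lanUnit G P).app X x) =
      (lanObj G P).map (G.map r).op ((lanUnit G P).app X y) at hr
    change P.map r.op x = P.map r.op y
    have e1 := lanUnit_naturality_apply G P r x
    have e2 := lanUnit_naturality_apply G P r y
    exact lanUnit_injective P hG V' (e1.symm.trans (hr.trans e2))

theorem isLocallySurjective_of_lanMap [G.Faithful] (hG : SliceFull G)
    [G.IsCocontinuous J K] {P P' : Cᵒᵖ ⥤ Type u} (α : P ⟶ P')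
    (h : Presheaf.IsLocallySurjective K (lanMap G α)) : Presheaf.IsLocallySurjective J α where
  imageSieve_mem {V} s := by
    have h2 := Presheaf.imageSieve_mem K (lanMap G α) (U := op (G.obj V))
      ((lanUnit G P').app (op V) s)
    have h3 := G.cover_lift J K h2
    refine J.superset_covering ?_ h3
    intro V' r hr
    obtain ⟨ξ, hξ⟩ := hr
    change (lanMap G α).app (op (G.obj V')) ξ =
      (lanObj G P').map (G.map r).op ((lanUnit G P').app (op V) s) at hξ
    rw [lanUnit_naturality_apply] at hξ
    induction ξ using Quot.inductionOn with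
    | h a =>
      rw [lanMap_app_mk] at hξ
      have hy : P'.map r.op s ∈ lanFibreQuot P' hG V'
          ((lanUnit G P').app (op V') (P'.map r.op s)) := by
        rw [lanFibreQuot_unit P' hG V' _]
        rfl
      rw [← hξ] at hy
      obtain ⟨t, ht, hyt⟩ := hy
      refine ⟨P.map t.op a.x, ?_⟩
      refine Eq.trans ?_ hyt.symm
      exact NatTrans.naturality_apply α t.op a.x

theorem W_of_W_lanMap [G.Faithful] (hG : SliceFull G)
    [G.IsCocontinuous J K] {P P' : Cᵒᵖ ⥤ Type u} (α : P ⟶ P')
    (h : K.W (lanMap G α)) : J.W α := by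
  rw [GrothendieckTopology.W_iff_isLocallyBijective] at h ⊢
  exact ⟨isLocallyInjective_of_lanMap G J K hG α h.1, isLocallySurjective_of_lanMap G J K hG α h.2⟩

theorem W_lanMap_iff_W_lan_map {P P' : Cᵒᵖ ⥤ Type u} (α : P ⟶ P') :
    K.W (lanMap G α) ↔ K.W ((G.op.lan (H := Type u)).map α) := by
  have e : Arrow.mk ((G.op.lan (H := Type u)).map α) ≅ Arrow.mk (lanMap G α) :=
    Arrow.isoMk (lanIso G P) (lanIso G P') (lanIso_naturality G α).symm
  exact (K.W.arrow_mk_iso_iff e).symm

end Groth.Agent.Lib.Helper68
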