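import Groth.Agent.Lib.Helper68.FibSiteAdj
import Groth.Agent.Lib.Helper68.LanBicov

/-! Bicovering morphisms on a fibre and on the total site (helper68). -/

set_option autoImplicit false
universe v₃ u₃ v₂ u₂ v₁ u₁ v u w

open CategoryTheory CategoryTheory.Limits Opposite Pseudofunctor Pseudofunctor.CoGrothendieck Bicategory

namespace Groth.Agent.Lib.Helper68

section General

variable {𝒮 : Type u₁} [Category.{v₁} 𝒮]
variable (F : Pseudofunctor (LocallyDiscrete 𝒮ᵒᵖ) Cat.{v₂, u₂})

set_option backward.isDefEq.respectTransparency false in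
/-- A morphism of the total category between objects of one fibre whose base is the identity
comes from the fibre. -/
theorem exists_ι_map_eq_of_base_eq (i : 𝒮) {a b : F.obj ⟨op i⟩}
    (f : (ι F i).obj a ⟶ (ι F i).obj b) (hf : f.base = 𝟙 i) : ∃ s : a ⟶ b, (ι F i).map s = f := by
  obtain ⟨g, α⟩ := f
  change i ⟶ i at g
  change g = 𝟙 i at hf
  subst hf
  change a ⟶ (FibSite.invImage F (𝟙 i)).obj b at α
  refine ⟨α ≫ (F.mapId ⟨op i⟩).hom.toNatTrans.app b, ?_⟩
  refine Hom.ext _ _ rfl ?_
  simp [← Cat.Hom₂.comp_app]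
  exact Category.comp_id _

end General

section Small

variable {𝒮 : Type u} [SmallCategory 𝒮]
variable (F : Pseudofunctor (LocallyDiscrete 𝒮ᵒᵖ) Cat.{u, u})

theorem sliceFull_ι (i : 𝒮) : SliceFull (ι F i) := by
  intro A B X a b g hg
  have hb : g.base = 𝟙 i := by
    have h1 := congrArg Hom.base hg
    exact (Category.comp_id g.base).symm.trans h1
  obtain ⟨s, hs⟩ := exists_ι_map_eq_of_base_eq F i g hb
  refine ⟨s, hs, ?_⟩
  apply (ι F i).map_injective
  rw [Functor.map_comp, hs, hg]

end Small

end Groth.Agent.Lib.Helper68
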