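import Groth.Agent.Lib.Helper68.FibSiteLemmas
import Mathlib.CategoryTheory.Sites.LocallyInjective
import Mathlib.CategoryTheory.Sites.ConcreteSheafification

/-! Continuity of the fibre inclusions for the total topology (helper68). -/

set_option autoImplicit false
universe v₃ u₃ v₂ u₂ v₁ u₁ v u w

open CategoryTheory CategoryTheory.Limits Opposite Pseudofunctor Pseudofunctor.CoGrothendieck Bicategory

namespace Groth.Agent.Lib.Helper68

section LocInj

variable {C : Type u} [Category.{v} C] {D : Type u} [Category.{v} D]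
variable (G : C ⥤ D) {U : C} (R : Sieve U)

/-- Triples `(V, p : W ⟶ G V, r : V ⟶ U)` with `r ∈ R`: the elements of the left Kan extension
of the sieve `R` along `G`, before taking connected components. -/
structure PTriple (W : D) where
  V : C
  p : W ⟶ G.obj V
  r : V ⟶ U
  hr : R r

variable {G R} in
/-- The generating relation. -/
def PTriple.Rel {W : D} (a b : PTriple G R W) : Prop :=
  ∃ s : a.V ⟶ b.V, a.p ≫ G.map s = b.p ∧ s ≫ b.r = a.r

variable {G R} in
/-- Precomposition. -/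
def PTriple.precomp {W W' : D} (w : W' ⟶ W) (a : PTriple G R W) : PTriple G R W' :=
  ⟨a.V, w ≫ a.p, a.r, a.hr⟩

variable {G R} in
theorem PTriple.Rel.precomp {W W' : D} (w : W' ⟶ W) {a b : PTriple G R W} (h : a.Rel b) :
    (a.precomp w).Rel (b.precomp w) := by
  obtain ⟨s, h1, h2⟩ := h
  exact ⟨s, by simp [PTriple.precomp, h1], h2⟩

/-- The left Kan extension of the sieve `R` along `G`, as an explicit presheaf. -/
def pushPresheaf : Dᵒᵖ ⥤ Type (max u v) where
  obj W := Quot (PTriple.Rel (G := G) (R := R) (W := W.unop))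
  map w := ↾(Quot.map (PTriple.precomp w.unop) (fun _ _ h => h.precomp w.unop))
  map_id W := by
    ext x
    induction x using Quot.inductionOn with
    | h a => simp [Quot.map, PTriple.precomp]
  map_comp w w' := by
    ext x
    induction x using Quot.inductionOn with
    | h a => simp [Quot.map, PTriple.precomp]

theorem pushPresheaf_map_mk {W W' : D} (w : W' ⟶ W) (a : PTriple G R W) :
    (pushPresheaf G R).map w.op (Quot.mk _ a) = Quot.mk _ (a.precomp w) := rfl

/-- Local injectivity for continuous functors: two triples with the same composite to `G U` are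
locally connected. -/
theorem exists_covering_quot_eq (J : GrothendieckTopology C) (K : GrothendieckTopology D)
    [G.IsContinuous J K] (hR : R ∈ J U) {W : D} (a b : PTriple G R W)
    (h : a.p ≫ G.map a.r = b.p ≫ G.map b.r) :
    ∃ T ∈ K W, ∀ ⦃W' : D⦄ (w : W' ⟶ W), T w →
      (Quot.mk _ (a.precomp w) : Quot (PTriple.Rel (G := G) (R := R) (W := W'))) =
        Quot.mk _ (b.precomp w) := by
  let L := pushPresheaf G R
  let η := K.toSheafify L
  let Ls : Sheaf K (Type (max u v)) := ⟨K.sheafify L, K.sheafify_isSheaf L⟩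
  have hsh : Presieve.IsSheaf J (G.op ⋙ Ls.obj) := G.op_comp_isSheaf_of_types J K Ls
  -- the canonical family
  let ξ : Presieve.FamilyOfElements (G.op ⋙ Ls.obj) R.arrows :=
    fun V r hr => η.app (op (G.obj V)) (Quot.mk _ ⟨V, 𝟙 _, r, hr⟩)
  have hξ : ξ.Compatible := by
    rw [Presieve.compatible_iff_sieveCompatible]
    intro V V' r s hr
    change η.app (op (G.obj V')) (Quot.mk _ ⟨V', 𝟙 _, s ≫ r, _⟩) =
      (K.sheafify L).map (G.map s).op (η.app (op (G.obj V)) (Quot.mk _ ⟨V, 𝟙 _, r, hr⟩))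
    have hnat := NatTrans.naturality_apply η (G.map s).op
      (Quot.mk _ (⟨V, 𝟙 _, r, hr⟩ : PTriple G R (G.obj V)))
    rw [← hnat]
    congr 1
    apply Quot.sound
    exact ⟨s, by simp [PTriple.precomp], rfl⟩
  obtain ⟨t, ht, -⟩ := hsh R hR ξ hξ
  -- key: η of a triple is the restriction of t
  have key : ∀ (c : PTriple G R W), η.app (op W) (Quot.mk _ c) =
      (K.sheafify L).map (c.p ≫ G.map c.r).op t := by
    intro c
    have h1 : (K.sheafify L).map (G.map c.r).op t = ξ c.r c.hr := ht c.r c.hr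
    rw [op_comp, Functor.map_comp, types_comp_apply, h1]
    have hnat := NatTrans.naturality_apply η c.p.op
      (Quot.mk _ (⟨c.V, 𝟙 _, c.r, c.hr⟩ : PTriple G R (G.obj c.V)))
    change _ = (K.sheafify L).map c.p.op (η.app (op (G.obj c.V)) (Quot.mk _ ⟨c.V, 𝟙 _, c.r, c.hr⟩))
    rw [← hnat]
    congr 1
    change Quot.mk _ c = Quot.mk _ _
    congr 1
    cases c
    simp [PTriple.precomp]
  have heq : η.app (op W) (Quot.mk _ a) = η.app (op W) (Quot.mk _ b) := by
    rw [key a, key b, h]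
  have hT := Presheaf.equalizerSieve_mem K η (X := op W) (Quot.mk _ a) (Quot.mk _ b) heq
  exact ⟨_, hT, fun W' w hw => hw⟩

end LocInj

theorem presheaf_map_comp_apply {C : Type*} [Category C] (P : Cᵒᵖ ⥤ Type w) {X Y Z : C}
    (f : X ⟶ Y) (g : Y ⟶ Z) (e : P.obj (op Z)) :
    P.map (f ≫ g).op e = P.map f.op (P.map g.op e) := by
  rw [op_comp, Functor.map_comp]; rfl

section Total

variable {𝒮 : Type u₁} [Category.{v₁} 𝒮]
variable (F : Pseudofunctor (LocallyDiscrete 𝒮ᵒᵖ) Cat.{v₂, u₂}) (J : FibSite.Topologies F)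

/-- The morphism of the total category with given base and fibre components. -/
abbrev mkHom {T S : 𝒮} (g : T ⟶ S) {W : F.obj ⟨op T⟩} {V : F.obj ⟨op S⟩}
    (φ : W ⟶ (FibSite.invImage F g).obj V) : (⟨T, W⟩ : ∫ᶜ F) ⟶ ⟨S, V⟩ := ⟨g, φ⟩

/-- Well-definedness of the extension of a compatible family along the fibre inclusion. -/
theorem map_eq_of_comp_ι_eq (hF : FibSite.IsPreFibSite F J) {P : (∫ᶜ F)ᵒᵖ ⥤ Type w}
    (hP : Presieve.IsSheaf (FibSite.totalTopology F J) P) {S : 𝒮} {U : F.obj ⟨op S⟩}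
    {R : Sieve U} (hR : R ∈ J S U)
    (x : Presieve.FamilyOfElements ((ι F S).op ⋙ P) R.arrows) (hx : x.Compatible)
    {Z : ∫ᶜ F} {V₁ V₂ : F.obj ⟨op S⟩} (r₁ : V₁ ⟶ U) (r₂ : V₂ ⟶ U) (h₁ : R r₁) (h₂ : R r₂)
    (a₁ : Z ⟶ (ι F S).obj V₁) (a₂ : Z ⟶ (ι F S).obj V₂)
    (h : a₁ ≫ (ι F S).map r₁ = a₂ ≫ (ι F S).map r₂) :
    P.map a₁.op (x r₁ h₁) = P.map a₂.op (x r₂ h₂) := by
  obtain ⟨T, W⟩ := Z
  obtain ⟨g₁, α₁⟩ := a₁
  obtain ⟨g₂, α₂⟩ := a₂
  change T ⟶ S at g₁ g₂
  change W ⟶ (FibSite.invImage F g₁).obj V₁ at α₁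
  change W ⟶ (FibSite.invImage F g₂).obj V₂ at α₂
  have e1 := comp_ι_map F g₁ α₁ r₁
  have e2 := comp_ι_map F g₂ α₂ r₂
  have h' : (⟨g₁, α₁ ≫ (F.map g₁.op.toLoc).toFunctor.map r₁⟩ : (⟨T, W⟩ : ∫ᶜ F) ⟶ ⟨S, U⟩) =
      ⟨g₂, α₂ ≫ (F.map g₂.op.toLoc).toFunctor.map r₂⟩ := by
    rw [← e1, ← e2]; exact h
  have hb : g₁ = g₂ := congrArg Hom.base h'
  subst hb
  have hf : α₁ ≫ (FibSite.invImage F g₁).map r₁ = α₂ ≫ (FibSite.invImage F g₁).map r₂ := by
    have := Hom.congr h'
    simpa using this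
  have := hF g₁
  obtain ⟨T', hT', hq⟩ := exists_covering_quot_eq (FibSite.invImage F g₁) R (J S) (J T) hR
    (⟨V₁, α₁, r₁, h₁⟩ : PTriple (FibSite.invImage F g₁) R W) ⟨V₂, α₂, r₂, h₂⟩ hf
  -- the evaluation map on connected components
  have hΦ : ∀ (W' : F.obj ⟨op T⟩) (c c' : PTriple (FibSite.invImage F g₁) R W'), c.Rel c' →
      P.map (mkHom F g₁ c.p).op (x c.r c.hr) =
        P.map (mkHom F g₁ c'.p).op (x c'.r c'.hr) := by
    rintro W' c c' ⟨s, hs1, hs2⟩
    have hc := hx (𝟙 c.V) s c.hr c'.hr (by rw [Category.id_comp, hs2])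
    have hc' : x c.r c.hr = P.map ((ι F S).map s).op (x c'.r c'.hr) := by
      simpa using hc
    have e : mkHom F g₁ c.p ≫ (ι F S).map s = mkHom F g₁ c'.p := by
      rw [← hs1]; exact comp_ι_map F g₁ c.p s
    calc P.map (mkHom F g₁ c.p).op (x c.r c.hr)
        = P.map (mkHom F g₁ c.p).op (P.map ((ι F S).map s).op (x c'.r c'.hr)) :=
          congrArg (P.map (mkHom F g₁ c.p).op) hc'
      _ = P.map (mkHom F g₁ c.p ≫ (ι F S).map s).op (x c'.r c'.hr) :=
          (presheaf_map_comp_apply P _ _ _).symm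
      _ = P.map (mkHom F g₁ c'.p).op (x c'.r c'.hr) :=
          congrArg (fun m => P.map (Quiver.Hom.op m) (x c'.r c'.hr)) e
  let Φ : ∀ W' : F.obj ⟨op T⟩,
      Quot (PTriple.Rel (G := FibSite.invImage F g₁) (R := R) (W := W')) → P.obj (op ⟨T, W'⟩) :=
    fun W' => Quot.lift (fun c => P.map (mkHom F g₁ c.p).op (x c.r c.hr)) (hΦ W')
  refine (hP _ (FibSite.functorPushforward_mem_totalTopology (F := F) (J := J)
    hT')).isSeparatedFor.ext ?_
  rintro Y f ⟨W', w, b, hw, rfl⟩
  have h3 := congrArg (Φ W') (hq w hw)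
  change P.map (mkHom F g₁ (w ≫ α₁)).op (x r₁ h₁) =
    P.map (mkHom F g₁ (w ≫ α₂)).op (x r₂ h₂) at h3
  have i1 : (ι F T).map w ≫ mkHom F g₁ α₁ = mkHom F g₁ (w ≫ α₁) :=
    ι_map_comp F (X := ⟨S, V₁⟩) (Y := ⟨T, W⟩) (mkHom F g₁ α₁) w
  have i2 : (ι F T).map w ≫ mkHom F g₁ α₂ = mkHom F g₁ (w ≫ α₂) :=
    ι_map_comp F (X := ⟨S, V₂⟩) (Y := ⟨T, W⟩) (mkHom F g₁ α₂) w
  rw [← i1, ← i2] at h3
  have j1 : ∀ (V : F.obj ⟨op S⟩) (α : W ⟶ (FibSite.invImage F g₁).obj V) (e : P.obj (op ⟨S, V⟩)),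
      P.map (b ≫ (ι F T).map w).op (P.map (mkHom F g₁ α).op e) =
        P.map b.op (P.map ((ι F T).map w ≫ mkHom F g₁ α).op e) := by
    intro V α e
    exact (presheaf_map_comp_apply P b ((ι F T).map w) _).trans
      (congrArg (P.map b.op) (presheaf_map_comp_apply P ((ι F T).map w) (mkHom F g₁ α) e).symm)
  exact (j1 V₁ α₁ _).trans ((congrArg (P.map b.op) h3).trans (j1 V₂ α₂ _).symm)

/-- Sheaves for the total topology restrict to sheaves on the fibres. -/
theorem isSheaf_ι_comp (hF : FibSite.IsPreFibSite F J) {P : (∫ᶜ F)ᵒᵖ ⥤ Type w}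
    (hP : Presieve.IsSheaf (FibSite.totalTopology F J) P) (S : 𝒮) :
    Presieve.IsSheaf (J S) ((ι F S).op ⋙ P) := by
  intro U R hR x hx
  have hfac : ∀ ⦃Z : ∫ᶜ F⦄ (h : Z ⟶ (ι F S).obj U), (R.functorPushforward (ι F S)) h →
      ∃ (V : F.obj ⟨op S⟩) (r : V ⟶ U) (a : Z ⟶ (ι F S).obj V), R r ∧ h = a ≫ (ι F S).map r :=
    fun Z h hh => hh
  choose V r a hr hfac' using hfac
  let y : Presieve.FamilyOfElements P (R.functorPushforward (ι F S)).arrows :=
    fun Z h hh => P.map (a h hh).op (x (r h hh) (hr h hh))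
  have hy : y.Compatible := by
    rw [Presieve.compatible_iff_sieveCompatible]
    intro Z Z' h b hh
    change P.map (a (b ≫ h) _).op (x (r (b ≫ h) _) _) =
      P.map b.op (P.map (a h hh).op (x (r h hh) (hr h hh)))
    refine Eq.trans ?_ (presheaf_map_comp_apply P b (a h hh) _)
    apply map_eq_of_comp_ι_eq F J hF hP hR x hx
    rw [← hfac', Category.assoc, ← hfac']
  obtain ⟨t, ht, huniq⟩ := hP _ (FibSite.functorPushforward_mem_totalTopology (F := F) (J := J) hR)
    y hy
  refine ⟨t, ?_, ?_⟩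
  · intro V' r' hr'
    have hmem : (R.functorPushforward (ι F S)) ((ι F S).map r') :=
      Sieve.image_mem_functorPushforward _ _ hr'
    have h1 : P.map ((ι F S).map r').op t = y _ hmem := ht _ hmem
    have h2 : P.map (a _ hmem).op (x (r _ hmem) (hr _ hmem)) = P.map (𝟙 _).op (x r' hr') :=
      map_eq_of_comp_ι_eq F J hF hP hR x hx (r _ hmem) r' (hr _ hmem) hr' (a _ hmem) (𝟙 _)
        (by rw [← hfac', Category.id_comp])
    change P.map ((ι F S).map r').op t = x r' hr'
    rw [h1]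
    refine h2.trans ?_
    simp
  · intro t' ht'
    apply huniq
    intro Z h hh
    change P.map h.op t' = P.map (a h hh).op (x (r h hh) (hr h hh))
    have h1 : P.map ((ι F S).map (r h hh)).op t' = x (r h hh) (hr h hh) := ht' (r h hh) (hr h hh)
    rw [← h1]
    refine Eq.trans ?_ (presheaf_map_comp_apply P (a h hh) ((ι F S).map (r h hh)) t')
    exact congrArg (fun m => P.map (Quiver.Hom.op m) t') (hfac' h hh)

/-- The fibre inclusions are continuous for the total topology of a pre-fibred site. -/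
theorem isContinuous_ι (hF : FibSite.IsPreFibSite F J) (S : 𝒮) :
    (ι F S).IsContinuous (J S) (FibSite.totalTopology F J) where
  op_comp_isSheaf_of_types G :=
    isSheaf_ι_comp F J hF ((isSheaf_iff_isSheaf_of_type _ _).mp G.property) S

set_option backward.isDefEq.respectTransparency false in
/-- A morphism of a fibre whose image factors through the image of a member of a sieve belongs
to that sieve. -/
theorem mem_of_ι_map_eq {S : 𝒮} {U V V' : F.obj ⟨op S⟩} (R : Sieve U) (r : V ⟶ U) (hr : R r)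
    (r' : V' ⟶ U) (a : (ι F S).obj V' ⟶ (ι F S).obj V)
    (h : (ι F S).map r' = a ≫ (ι F S).map r) : R r' := by
  obtain ⟨g, α⟩ := a
  change S ⟶ S at g
  change V' ⟶ (FibSite.invImage F g).obj V at α
  have e := comp_ι_map F g α r
  have h' : (ι F S).map r' =
      (⟨g, α ≫ (F.map g.op.toLoc).toFunctor.map r⟩ : (⟨S, V'⟩ : ∫ᶜ F) ⟶ ⟨S, U⟩) := h.trans e
  have hb : 𝟙 S = g := congrArg Hom.base h'
  subst hb
  have hf := Hom.congr h'
  simp only [eqToHom_refl, Category.comp_id] at hf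
  have hnat := (F.mapId ⟨op S⟩).hom.toNatTrans.naturality r
  have key : r' = (α ≫ (F.mapId ⟨op S⟩).hom.toNatTrans.app V) ≫ r := by
    have h2 : r' = (r' ≫ (F.mapId ⟨op S⟩).inv.toNatTrans.app U) ≫
        (F.mapId ⟨op S⟩).hom.toNatTrans.app U := by
      simp [← Cat.Hom₂.comp_app]
    rw [h2]
    change ((ι F S).map r').fiber ≫ _ = _
    rw [hf, Category.assoc, Category.assoc]
    congr 1
  rw [key]
  exact R.downward_closed hr _

/-- A presheaf whose restrictions to the fibres are separated is separated for the total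
topology. -/
theorem isSeparatedFor_of_forall_ι_comp (hF : FibSite.IsPreFibSite F J) {P : (∫ᶜ F)ᵒᵖ ⥤ Type w}
    (hP : ∀ S : 𝒮, Presieve.IsSheaf (J S) ((ι F S).op ⋙ P)) {X : ∫ᶜ F} (T : Sieve X)
    (hT : T ∈ FibSite.totalTopology F J X) : Presieve.IsSeparatedFor P T.arrows := by
  obtain ⟨R, hR, hle⟩ := (mem_totalTopology_iff F J hF X T).mp hT
  intro y t₁ t₂ h₁ h₂
  refine ((hP X.base) R hR).isSeparatedFor.ext ?_
  intro V r hr
  have hmem : T ((ι F X.base).map r) := hle _ (Sieve.image_mem_functorPushforward _ _ hr)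
  exact (h₁ _ hmem).trans (h₂ _ hmem).symm

/-- A presheaf whose restrictions to the fibres are sheaves is a sheaf for the image of a
covering sieve of a fibre. -/
theorem isSheafFor_functorPushforward_of_forall_ι_comp {P : (∫ᶜ F)ᵒᵖ ⥤ Type w}
    (hP : ∀ S : 𝒮, Presieve.IsSheaf (J S) ((ι F S).op ⋙ P)) {S : 𝒮} {U : F.obj ⟨op S⟩}
    (R : Sieve U) (hR : R ∈ J S U) :
    Presieve.IsSheafFor P (R.functorPushforward (ι F S)).arrows := by
  intro y hy
  have hy' := (Presieve.compatible_iff_sieveCompatible _).mp hy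
  let x : Presieve.FamilyOfElements ((ι F S).op ⋙ P) R.arrows :=
    fun V r hr => y ((ι F S).map r) (Sieve.image_mem_functorPushforward _ _ hr)
  have hx : x.Compatible := by
    rw [Presieve.compatible_iff_sieveCompatible]
    intro V V' r s hr
    change y ((ι F S).map (s ≫ r)) _ = P.map ((ι F S).map s).op (y ((ι F S).map r) _)
    rw [← hy' ((ι F S).map r) ((ι F S).map s) (Sieve.image_mem_functorPushforward _ _ hr)]
    congr 1
    exact (ι F S).map_comp s r
  obtain ⟨t, ht, huniq⟩ := hP S R hR x hx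
  refine ⟨t, ?_, ?_⟩
  · rintro Z h ⟨V, r, a, hr, rfl⟩
    have h1 : P.map ((ι F S).map r).op t = y ((ι F S).map r) _ := ht r hr
    rw [presheaf_map_comp_apply, h1]
    exact (hy' ((ι F S).map r) a (Sieve.image_mem_functorPushforward _ _ hr)).symm
  · intro t' ht'
    apply huniq
    intro V r hr
    exact ht' _ (Sieve.image_mem_functorPushforward _ _ hr)

/-- A presheaf whose restrictions to the fibres are sheaves is a sheaf for the total topology. -/
theorem isSheaf_of_forall_ι_comp (hF : FibSite.IsPreFibSite F J) {P : (∫ᶜ F)ᵒᵖ ⥤ Type w}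
    (hP : ∀ S : 𝒮, Presieve.IsSheaf (J S) ((ι F S).op ⋙ P)) :
    Presieve.IsSheaf (FibSite.totalTopology F J) P := by
  intro X T hT
  obtain ⟨R, hR, hle⟩ := (mem_totalTopology_iff F J hF X T).mp hT
  refine Presieve.isSheafFor_subsieve_aux P (S := R.functorPushforward (ι F X.base)) hle
    (isSheafFor_functorPushforward_of_forall_ι_comp F J hP R hR) ?_
  intro Y f _
  exact isSeparatedFor_of_forall_ι_comp F J hF hP _
    ((FibSite.totalTopology F J).pullback_stable f
      (FibSite.functorPushforward_mem_totalTopology (F := F) (J := J) hR))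

end Total

end Groth.Agent.Lib.Helper68
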