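import Groth.Agent.Lib.Helper68.FibSiteMap
import Groth.Agent.Lib.Helper68.FibSiteBicov

/-! Continuity of the fibre components of a continuous cartesian functor between total sites
(helper68). -/

set_option autoImplicit false
set_option linter.unusedSectionVars false
universe u

open CategoryTheory CategoryTheory.Limits Opposite Pseudofunctor Pseudofunctor.CoGrothendieck Bicategory
open scoped CategoryTheory.Pseudofunctor.StrongTrans

namespace Groth.Agent.Lib.Helper68

section Criterion

variable {C : Type u} [SmallCategory C] {D : Type u} [SmallCategory D]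
variable (G : C ⥤ D) (J : GrothendieckTopology C) (K : GrothendieckTopology D)

/-- The inclusion of a covering sieve is bicovering. -/
theorem W_functorInclusion {U : C} (R : Sieve U) (hR : R ∈ J U) : J.W R.functorInclusion := by
  intro Z hZ
  rw [Function.bijective_iff_existsUnique]
  exact Presieve.isSheafFor_iff_yonedaSheafCondition.mp
    ((isSheaf_iff_isSheaf_of_type J Z).mp hZ R hR)

/-- A functor whose left Kan extension sends the inclusions of covering sieves to bicovering
morphisms is continuous. -/
theorem isContinuous_of_W_map_functorInclusion {L : (Cᵒᵖ ⥤ Type u) ⥤ (Dᵒᵖ ⥤ Type u)}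
    (adj : L ⊣ (Functor.whiskeringLeft _ _ _).obj G.op)
    (h : ∀ (U : C) (R : Sieve U), R ∈ J U → K.W (L.map R.functorInclusion)) :
    G.IsContinuous J K where
  op_comp_isSheaf_of_types P := by
    intro U R hR
    rw [Presieve.isSheafFor_iff_yonedaSheafCondition]
    have hb := (adj.map_comp_bijective_iff R.functorInclusion P.obj).mp (h U R hR P.obj P.property)
    exact (Function.bijective_iff_existsUnique _).mp hb

end Criterion

section Fibre

variable {𝒮 : Type u} [SmallCategory 𝒮]
variable {F G : Pseudofunctor (LocallyDiscrete 𝒮ᵒᵖ) Cat.{u, u}} (α : G ⟶ F)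
variable (J : FibSite.Topologies F) (K : FibSite.Topologies G)

/-- If the functor induced on the total sites by a cartesian functor is continuous, then so are
its fibre components. -/
theorem isContinuous_fibre_of_isContinuous_map (hF : FibSite.IsPreFibSite F J)
    (hG : FibSite.IsPreFibSite G K)
    [(Pseudofunctor.CoGrothendieck.map α).IsContinuous (FibSite.totalTopology G K)
      (FibSite.totalTopology F J)] (S : 𝒮) :
    (α.app ⟨op S⟩).toFunctor.IsContinuous (K S) (J S) := by
  have hιG := isContinuous_ι G K hG S
  have hιF := isContinuous_ι F J hF S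
  have hcoF := isCocontinuous_ι F J hF S
  have h1 : (ι G S ⋙ Pseudofunctor.CoGrothendieck.map α).IsContinuous (K S)
      (FibSite.totalTopology F J) :=
    Functor.isContinuous_comp _ _ (K S) (FibSite.totalTopology G K) _
  have h2 : ((α.app ⟨op S⟩).toFunctor ⋙ ι F S).IsContinuous (K S)
      (FibSite.totalTopology F J) :=
    Functor.isContinuous_of_iso (ιCompMapIso α S) _ _
  let adj₁ := (α.app ⟨op S⟩).toFunctor.op.lanAdjunction (Type u)
  let adj₂ := (ι F S).op.lanAdjunction (Type u)
  let adj : (α.app ⟨op S⟩).toFunctor.op.lan ⋙ (ι F S).op.lan ⊣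
      (Functor.whiskeringLeft _ _ (Type u)).obj ((α.app ⟨op S⟩).toFunctor ⋙ ι F S).op :=
    adj₁.comp adj₂
  refine isContinuous_of_W_map_functorInclusion _ (K S) (J S) adj₁ (fun U R hR => ?_)
  have hW := W_functorInclusion (K S) R hR
  have hW2 := Functor.W_map_of_adjunction_of_isContinuous (J := K S)
    (K := FibSite.totalTopology F J) ((α.app ⟨op S⟩).toFunctor ⋙ ι F S) _ adj
    R.functorInclusion hW
  change (FibSite.totalTopology F J).W ((ι F S).op.lan.map
    ((α.app ⟨op S⟩).toFunctor.op.lan.map R.functorInclusion)) at hW2
  rw [← W_lanMap_iff_W_lan_map] at hW2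
  exact W_of_W_lanMap (ι F S) (J S) (FibSite.totalTopology F J) (sliceFull_ι F S) _ hW2

end Fibre

end Groth.Agent.Lib.Helper68
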