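import Groth.Agent.Lib.Helper68.FibSiteMap
import Groth.Agent.Lib.Helper68.ExtensiveLemmas
import Mathlib.CategoryTheory.Sites.LeftExact

/-! Exactness of the fibre components of a morphism of total sites (helper68). -/

set_option autoImplicit false
set_option linter.unusedSectionVars false
set_option linter.unusedVariables false
universe v₃ u₃ v₂ u₂ v₁ u₁ v u w

open CategoryTheory CategoryTheory.Limits Opposite Pseudofunctor Pseudofunctor.CoGrothendieck Bicategory
open scoped CategoryTheory.Pseudofunctor.StrongTrans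

namespace Groth.Agent.Lib.Helper68

section IdIso

variable {𝒮 : Type u₁} [Category.{v₁} 𝒮]
variable (G : Pseudofunctor (LocallyDiscrete 𝒮ᵒᵖ) Cat.{v₂, u₂}) (K : FibSite.Topologies G)
variable (S : 𝒮) [(FibSite.invImage G (𝟙 S)).IsContinuous (K S) (K S)]

/-- The inverse image along the identity is isomorphic to the identity functor. -/
def invImageIdIso : FibSite.invImage G (𝟙 S) ≅ 𝟭 (G.obj ⟨op S⟩) :=
  Cat.Hom.toNatIso (G.mapId ⟨op S⟩)

/-- Restriction of sheaves along the inverse image of the identity is the identity. -/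
noncomputable def pushforwardIdIso :
    𝟭 (Sheaf (K S) (Type w)) ≅
      (FibSite.invImage G (𝟙 S)).sheafPushforwardContinuous (Type w) (K S) (K S) :=
  Functor.fullyFaithfulCancelRight (sheafToPresheaf (K S) (Type w))
    (Functor.leftUnitor _ ≪≫ (Functor.rightUnitor _).symm ≪≫
      Functor.isoWhiskerLeft (sheafToPresheaf (K S) (Type w))
        (Functor.whiskeringLeftObjIdIso.symm ≪≫
          (Functor.whiskeringLeft _ _ (Type w)).mapIso (NatIso.op (invImageIdIso G S))))

variable [((FibSite.invImage G (𝟙 S)).sheafPushforwardContinuous (Type w) (K S)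
  (K S)).IsRightAdjoint]

/-- The inverse image of sheaves along the inverse image of the identity is the identity. -/
noncomputable def sheafPullbackIdIso :
    (FibSite.invImage G (𝟙 S)).sheafPullback (Type w) (K S) (K S) ≅ 𝟭 (Sheaf (K S) (Type w)) :=
  Adjunction.leftAdjointUniq
    ((FibSite.invImage G (𝟙 S)).sheafAdjunctionContinuous (Type w) (K S) (K S))
    ((Adjunction.id (C := Sheaf (K S) (Type w))).ofNatIsoRight (pushforwardIdIso G K S))

end IdIso

section Exact

variable {𝒮 : Type u₁} [Category.{v₁} 𝒮]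
variable (G : Pseudofunctor (LocallyDiscrete 𝒮ᵒᵖ) Cat.{v₂, u₂}) (K : FibSite.Topologies G)
variable (S : 𝒮) [(ι G S).IsContinuous (K S) (FibSite.totalTopology G K)]
  [(ι G S).IsCocontinuous (K S) (FibSite.totalTopology G K)]
  [∀ P : (G.obj ⟨op S⟩)ᵒᵖ ⥤ Type w, (ι G S).op.HasPointwiseRightKanExtension P]
  [∀ f : S ⟶ S, (FibSite.invImage G f).IsContinuous (K S) (K S)]
  [((ι G S).sheafPushforwardContinuous (Type w) (K S)
    (FibSite.totalTopology G K)).IsRightAdjoint]
  [∀ f : S ⟶ S, ((FibSite.invImage G f).sheafPushforwardContinuous (Type w) (K S)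
    (K S)).IsRightAdjoint]

/-- The inclusion of the summand indexed by the identity into the restriction of the extension. -/
noncomputable def idInj :
    (FibSite.invImage G (𝟙 S)).sheafPullback (Type w) (K S) (K S) ⟶
      FibSite.extend G K (Type w) S ⋙ FibSite.restr G K (Type w) S where
  app a := extendInj G K S S a (𝟙 S)
  naturality a a' h := extendInj_naturality G K S S h (𝟙 S)

variable [FinitaryExtensive (Sheaf (K S) (Type w))]
  [HasCoproducts.{v₁} (Sheaf (K S) (Type w))]

theorem idInj_cartesian {a a' : Sheaf (K S) (Type w)} (g : a ⟶ a') :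
    IsPullback ((idInj G K S).app a)
      (((FibSite.invImage G (𝟙 S)).sheafPullback (Type w) (K S) (K S)).map g)
      ((FibSite.extend G K (Type w) S ⋙ FibSite.restr G K (Type w) S).map g)
      ((idInj G K S).app a') := by
  obtain ⟨hc⟩ := extendCofan_isColimit G K S S a
  obtain ⟨hc'⟩ := extendCofan_isColimit G K S S a'
  exact isPullback_inj_of_cofan_map (𝟙 S) (extendCofan G K S S a) hc (extendCofan G K S S a') hc'
    (fun f => ((FibSite.invImage G f).sheafPullback (Type w) (K S) (K S)).map g)
    ((FibSite.extend G K (Type w) S ⋙ FibSite.restr G K (Type w) S).map g)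
    (fun f => (extendInj_naturality G K S S g f).symm)

theorem idInj_summand {𝓑 : Type u₃} [Category.{v₃} 𝓑] [FinitaryExtensive 𝓑]
    [HasPullbacks (Sheaf (K S) (Type w))]
    (H : Sheaf (K S) (Type w) ⥤ 𝓑) [PreservesColimitsOfShape (Discrete WalkingPair) H]
    (Z : Sheaf (K S) (Type w)) {E E₁ : Sheaf (K S) (Type w)} {e₁ : E₁ ⟶ E}
    {p₁ : E₁ ⟶ ((FibSite.invImage G (𝟙 S)).sheafPullback (Type w) (K S) (K S)).obj Z}
    {p : E ⟶ (FibSite.extend G K (Type w) S ⋙ FibSite.restr G K (Type w) S).obj Z}
    (h : IsPullback e₁ p₁ p ((idInj G K S).app Z)) :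
    IsPullback (H.map e₁) (H.map p₁) (H.map p) (H.map ((idInj G K S).app Z)) := by
  obtain ⟨hc⟩ := extendCofan_isColimit G K S S Z
  exact isPullback_map_of_summand H (splitIsColimit (𝟙 S) (extendCofan G K S S Z) hc) h

end Exact

section Main

variable {𝒮 : Type u₁} [Category.{v₁} 𝒮]
variable {F G : Pseudofunctor (LocallyDiscrete 𝒮ᵒᵖ) Cat.{v₂, u₂}} (α : G ⟶ F)
variable (J : FibSite.Topologies F) (K : FibSite.Topologies G)
variable [∀ S : 𝒮, (ι F S).IsContinuous (J S) (FibSite.totalTopology F J)]
  [∀ S : 𝒮, (ι G S).IsContinuous (K S) (FibSite.totalTopology G K)]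
  [∀ S : 𝒮, (ι F S).IsCocontinuous (J S) (FibSite.totalTopology F J)]
  [∀ S : 𝒮, (ι G S).IsCocontinuous (K S) (FibSite.totalTopology G K)]
  [∀ (S : 𝒮) (P : (F.obj ⟨op S⟩)ᵒᵖ ⥤ Type w), (ι F S).op.HasPointwiseRightKanExtension P]
  [∀ (S : 𝒮) (P : (G.obj ⟨op S⟩)ᵒᵖ ⥤ Type w), (ι G S).op.HasPointwiseRightKanExtension P]
  [(Pseudofunctor.CoGrothendieck.map α).IsContinuous (FibSite.totalTopology G K)
    (FibSite.totalTopology F J)]
  [((Pseudofunctor.CoGrothendieck.map α).sheafPushforwardContinuous (Type w)
    (FibSite.totalTopology G K) (FibSite.totalTopology F J)).IsRightAdjoint]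
  [∀ S : 𝒮, (α.app ⟨op S⟩).toFunctor.IsContinuous (K S) (J S)]
  [∀ S : 𝒮, ((α.app ⟨op S⟩).toFunctor.sheafPushforwardContinuous (Type w) (K S)
    (J S)).IsRightAdjoint]

/-- If the inverse image along the functor between the total sites preserves pullbacks, so do
the inverse images along the fibre functors. -/
theorem preservesPullbacks_sheafPullback_fibre (S : 𝒮)
    [∀ f : S ⟶ S, (FibSite.invImage G f).IsContinuous (K S) (K S)]
    [((ι G S).sheafPushforwardContinuous (Type w) (K S)
      (FibSite.totalTopology G K)).IsRightAdjoint]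
    [∀ f : S ⟶ S, ((FibSite.invImage G f).sheafPushforwardContinuous (Type w) (K S)
      (K S)).IsRightAdjoint]
    [FinitaryExtensive (Sheaf (K S) (Type w))] [FinitaryExtensive (Sheaf (J S) (Type w))]
    [HasCoproducts.{v₁} (Sheaf (K S) (Type w))] [HasPullbacks (Sheaf (K S) (Type w))]
    [HasPullbacks (FibSite.TotSh G K (Type w))]
    [PreservesLimitsOfShape WalkingCospan
      ((FibSite.invImage G (𝟙 S)).sheafPullback (Type w) (K S) (K S))]
    [PreservesLimitsOfShape WalkingCospan (FibSite.restr G K (Type w) S)]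
    [PreservesLimitsOfShape WalkingCospan (FibSite.restr F J (Type w) S)]
    [PreservesLimitsOfShape WalkingCospan
      ((Pseudofunctor.CoGrothendieck.map α).sheafPullback (Type w)
        (FibSite.totalTopology G K) (FibSite.totalTopology F J))] :
    PreservesLimitsOfShape WalkingCospan
      ((α.app ⟨op S⟩).toFunctor.sheafPullback (Type w) (K S) (J S)) := by
  have : PreservesLimitsOfShape WalkingCospan (FibSite.restr G K (Type w) S ⋙
      (α.app ⟨op S⟩).toFunctor.sheafPullback (Type w) (K S) (J S)) :=
    preservesLimitsOfShape_of_natIso (sheafPullbackCompRestrIso α J K S)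
  have : PreservesColimitsOfSize.{0, 0}
      ((α.app ⟨op S⟩).toFunctor.sheafPullback (Type w) (K S) (J S)) :=
    ((α.app ⟨op S⟩).toFunctor.sheafAdjunctionContinuous (Type w) (K S)
      (J S)).leftAdjoint_preservesColimits
  have : PreservesColimitsOfShape (Discrete WalkingPair)
      ((α.app ⟨op S⟩).toFunctor.sheafPullback (Type w) (K S) (J S)) := inferInstance
  have h := preservesPullbacks_comp_of_cartesian
    ((FibSite.invImage G (𝟙 S)).sheafPullback (Type w) (K S) (K S))
    (FibSite.extend G K (Type w) S) (FibSite.restr G K (Type w) S)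
    ((α.app ⟨op S⟩).toFunctor.sheafPullback (Type w) (K S) (J S)) (idInj G K S)
    (fun g => idInj_cartesian G K S g)
    (fun Z _ _ _ _ _ hh => idInj_summand G K S
      ((α.app ⟨op S⟩).toFunctor.sheafPullback (Type w) (K S) (J S)) Z hh)
  exact preservesLimitsOfShape_of_natIso
    (Functor.isoWhiskerRight (sheafPullbackIdIso G K S)
      ((α.app ⟨op S⟩).toFunctor.sheafPullback (Type w) (K S) (J S)) ≪≫ Functor.leftUnitor _)

/-- If the inverse image along the functor between the total sites preserves the terminal object,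
so do the inverse images along the fibre functors. -/
theorem preservesTerminal_sheafPullback_fibre (S : 𝒮)
    [HasTerminal (FibSite.TotSh G K (Type w))]
    [PreservesLimitsOfShape (Discrete.{0} PEmpty) (FibSite.restr G K (Type w) S)]
    [PreservesLimitsOfShape (Discrete.{0} PEmpty) (FibSite.restr F J (Type w) S)]
    [PreservesLimitsOfShape (Discrete.{0} PEmpty)
      ((Pseudofunctor.CoGrothendieck.map α).sheafPullback (Type w)
        (FibSite.totalTopology G K) (FibSite.totalTopology F J))] :
    PreservesLimitsOfShape (Discrete.{0} PEmpty)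
      ((α.app ⟨op S⟩).toFunctor.sheafPullback (Type w) (K S) (J S)) := by
  have : PreservesLimitsOfShape (Discrete.{0} PEmpty) (FibSite.restr G K (Type w) S ⋙
      (α.app ⟨op S⟩).toFunctor.sheafPullback (Type w) (K S) (J S)) :=
    preservesLimitsOfShape_of_natIso (sheafPullbackCompRestrIso α J K S)
  have hT : IsTerminal ((FibSite.restr G K (Type w) S).obj (⊤_ _)) :=
    IsTerminal.isTerminalObj _ _ terminalIsTerminal
  have hHT : IsTerminal (((α.app ⟨op S⟩).toFunctor.sheafPullback (Type w) (K S) (J S)).obj
      ((FibSite.restr G K (Type w) S).obj (⊤_ _))) :=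
    IsTerminal.isTerminalObj (FibSite.restr G K (Type w) S ⋙
      (α.app ⟨op S⟩).toFunctor.sheafPullback (Type w) (K S) (J S)) _ terminalIsTerminal
  have : PreservesLimit (Functor.empty.{0} _)
      ((α.app ⟨op S⟩).toFunctor.sheafPullback (Type w) (K S) (J S)) :=
    preservesLimit_of_preserves_limit_cone hT ((isLimitMapConeEmptyConeEquiv _ _).symm hHT)
  exact preservesLimitsOfShape_pempty_of_preservesTerminal _

end Main

end Groth.Agent.Lib.Helper68
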