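import Groth.Agent.Lib.Helper68.FibSiteRan
import Groth.Agent.Lib.Helper68.SheafCofan

/-! The left adjoint of the restriction to a fibre, computed on the fibres (helper68). -/

set_option autoImplicit false
set_option linter.unusedSectionVars false
universe v₃ u₃ v₂ u₂ v₁ u₁ v u w

open CategoryTheory CategoryTheory.Limits Opposite Pseudofunctor Pseudofunctor.CoGrothendieck Bicategory

namespace Groth.Agent.Lib.Helper68

/-- A fan is a limit iff maps into its point correspond bijectively to families of maps. -/
theorem fan_isLimit_iff {D : Type u₁} [Category.{v₁} D] {ι : Type*} {f : ι → D}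
    (c : Fan f) :
    Nonempty (IsLimit c) ↔
      ∀ T : D, Function.Bijective (fun (g : T ⟶ c.pt) (i : ι) => g ≫ c.proj i) := by
  constructor
  · rintro ⟨hc⟩ T
    constructor
    · intro g g' h
      exact Fan.IsLimit.hom_ext hc _ _ fun i => congrFun h i
    · intro t
      exact ⟨Fan.IsLimit.lift hc t, funext fun i => Fan.IsLimit.fac hc t i⟩
  · intro h
    refine ⟨Fan.IsLimit.mk c (fun t => ((h t.pt).2 t.proj).choose) ?_ ?_⟩
    · intro t i
      exact congrFun ((h t.pt).2 t.proj).choose_spec i
    · intro t m hm
      apply (h t.pt).1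
      funext i
      dsimp only
      rw [hm i]
      exact (congrFun ((h t.pt).2 t.proj).choose_spec i).symm

section Lan

variable {𝒮 : Type u₁} [Category.{v₁} 𝒮]
variable (F : Pseudofunctor (LocallyDiscrete 𝒮ᵒᵖ) Cat.{v₂, u₂}) (J : FibSite.Topologies F)
variable (i j : 𝒮) [(ι F i).IsContinuous (J i) (FibSite.totalTopology F J)]
  [(ι F j).IsContinuous (J j) (FibSite.totalTopology F J)]
  [(ι F j).IsCocontinuous (J j) (FibSite.totalTopology F J)]
  [∀ P : (F.obj ⟨op j⟩)ᵒᵖ ⥤ Type w, (ι F j).op.HasPointwiseRightKanExtension P]
  [∀ f : j ⟶ i, (FibSite.invImage F f).IsContinuous (J i) (J j)]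

/-- Restriction of a sheaf on the total site along the cartesian lifts of `f : j ⟶ i`. -/
noncomputable def cartRestrSheaf (f : j ⟶ i) (P : FibSite.TotSh F J (Type w)) :
    (FibSite.restr F J (Type w) i).obj P ⟶
      ((FibSite.invImage F f).sheafPushforwardContinuous (Type w) (J i) (J j)).obj
        ((FibSite.restr F J (Type w) j).obj P) :=
  ObjectProperty.homMk (cartRestr F f P.obj)

/-- Compatibility of the restriction along cartesian lifts with the adjunction between restriction
to the fibre over `j` and right Kan extension. -/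
theorem cartRestrSheaf_comp_map (f : j ⟶ i) (P : FibSite.TotSh F J (Type w))
    (b : Sheaf (J j) (Type w)) (g : (FibSite.restr F J (Type w) j).obj P ⟶ b) :
    cartRestrSheaf F J i j f P ≫
      ((FibSite.invImage F f).sheafPushforwardContinuous (Type w) (J i) (J j)).map g =
    (FibSite.restr F J (Type w) i).map
      (((ι F j).sheafAdjunctionCocontinuous (Type w) (J j) (FibSite.totalTopology F J)).homEquiv P b g) ≫
        (coextendFan F J j i b).proj f := by
  let adjR := (ι F j).sheafAdjunctionCocontinuous (Type w) (J j) (FibSite.totalTopology F J)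
  let g' := adjR.homEquiv P b g
  have hA : (FibSite.restr F J (Type w) j).map g' ≫ adjR.counit.app b = g :=
    (adjR.homEquiv_counit (X := P) (Y := b) (g := g')).symm.trans
      ((adjR.homEquiv P b).symm_apply_apply g)
  have hB : (adjR.counit.app b).hom = (ι F j).op.ranCounit.app b.obj := by
    rw [Functor.sheafAdjunctionCocontinuous_counit_app_hom, Functor.ranAdjunction_counit]
  apply Sheaf.hom_ext
  ext U x
  have hnat := NatTrans.naturality_apply g'.hom (cartesianLift U.unop f : _ ⟶ ⟨i, U.unop⟩).op x
  have hA' := congrArg (fun m => m.hom.app (op ((FibSite.invImage F f).obj U.unop))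
    (P.obj.map (cartesianLift U.unop f : _ ⟶ ⟨i, U.unop⟩).op x)) hA
  change g.hom.app (op ((FibSite.invImage F f).obj U.unop))
      (P.obj.map (cartesianLift U.unop f : _ ⟶ ⟨i, U.unop⟩).op x) =
    ((ι F j).op.ranCounit.app b.obj).app (op ((FibSite.invImage F f).obj U.unop))
      (((ι F j).op.ran.obj b.obj).map (cartesianLift U.unop f : _ ⟶ ⟨i, U.unop⟩).op
        (g'.hom.app (op ⟨i, U.unop⟩) x))
  refine hA'.symm.trans ?_
  refine Eq.trans ?_ (congrArg (((ι F j).op.ranCounit.app b.obj).app
    (op ((FibSite.invImage F f).obj U.unop))) hnat)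
  exact congrArg (fun m => m.app (op ((FibSite.invImage F f).obj U.unop))
    (g'.hom.app (op (domainCartesianLift U.unop f))
      (P.obj.map (cartesianLift U.unop f : _ ⟶ ⟨i, U.unop⟩).op x))) hB

variable [((ι F i).sheafPushforwardContinuous (Type w) (J i)
    (FibSite.totalTopology F J)).IsRightAdjoint]
  [∀ f : j ⟶ i, ((FibSite.invImage F f).sheafPushforwardContinuous (Type w) (J i)
    (J j)).IsRightAdjoint]

/-- The canonical map from the inverse image of `a` along `f^*` to the restriction to the fibre
over `j` of the extension of `a` from the fibre over `i`. -/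
noncomputable def extendInj (a : Sheaf (J i) (Type w)) (f : j ⟶ i) :
    ((FibSite.invImage F f).sheafPullback (Type w) (J i) (J j)).obj a ⟶
      (FibSite.restr F J (Type w) j).obj ((FibSite.extend F J (Type w) i).obj a) :=
  (((FibSite.invImage F f).sheafAdjunctionContinuous (Type w) (J i) (J j)).homEquiv a _).symm
    (((ι F i).sheafAdjunctionContinuous (Type w) (J i) (FibSite.totalTopology F J)).unit.app a ≫
      cartRestrSheaf F J i j f ((FibSite.extend F J (Type w) i).obj a))

/-- The cofan exhibiting the value over `j` of the left adjoint of evaluation at `i` as a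
coproduct of inverse images. -/
noncomputable def extendCofan (a : Sheaf (J i) (Type w)) :
    Cofan (fun f : j ⟶ i => ((FibSite.invImage F f).sheafPullback (Type w) (J i) (J j)).obj a) :=
  Cofan.mk ((FibSite.restr F J (Type w) j).obj ((FibSite.extend F J (Type w) i).obj a))
    (extendInj F J i j a)

theorem extendInj_comp (a : Sheaf (J i) (Type w)) (b : Sheaf (J j) (Type w))
    (g : (FibSite.restr F J (Type w) j).obj ((FibSite.extend F J (Type w) i).obj a) ⟶ b)
    (f : j ⟶ i) :
    extendInj F J i j a f ≫ g =
      (((FibSite.invImage F f).sheafAdjunctionContinuous (Type w) (J i) (J j)).homEquiv a b).symm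
        (((ι F i).sheafAdjunctionContinuous (Type w) (J i) (FibSite.totalTopology F J)).homEquiv a _
          (((ι F j).sheafAdjunctionCocontinuous (Type w) (J j)
            (FibSite.totalTopology F J)).homEquiv _ b g) ≫ (coextendFan F J j i b).proj f) := by
  apply (((FibSite.invImage F f).sheafAdjunctionContinuous (Type w) (J i) (J j)).homEquiv a
    b).injective
  rw [Equiv.apply_symm_apply, Adjunction.homEquiv_naturality_right, extendInj,
    Equiv.apply_symm_apply, Adjunction.homEquiv_unit, Category.assoc]
  exact (congrArg (((ι F i).sheafAdjunctionContinuous (Type w) (J i)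
    (FibSite.totalTopology F J)).unit.app a ≫ ·)
      (cartRestrSheaf_comp_map F J i j f _ b g)).trans (Category.assoc _ _ _).symm

theorem extendCofan_isColimit (a : Sheaf (J i) (Type w)) :
    Nonempty (IsColimit (extendCofan F J i j a)) := by
  rw [cofan_isColimit_iff]
  intro b
  have hfan := (fan_isLimit_iff (coextendFan F J j i b)).mp ⟨coextendFanIsLimit F J j i b⟩ a
  let e1 := ((ι F j).sheafAdjunctionCocontinuous (Type w) (J j)
    (FibSite.totalTopology F J)).homEquiv ((FibSite.extend F J (Type w) i).obj a) b
  let e2 := ((ι F i).sheafAdjunctionContinuous (Type w) (J i)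
    (FibSite.totalTopology F J)).homEquiv a
      (((ι F j).sheafPushforwardCocontinuous (Type w) (J j) (FibSite.totalTopology F J)).obj b)
  let e3 : (∀ f : j ⟶ i, a ⟶
      ((FibSite.invImage F f).sheafPushforwardContinuous (Type w) (J i) (J j)).obj b) ≃
      (∀ f : j ⟶ i, ((FibSite.invImage F f).sheafPullback (Type w) (J i) (J j)).obj a ⟶ b) :=
    Equiv.piCongrRight fun f =>
      (((FibSite.invImage F f).sheafAdjunctionContinuous (Type w) (J i) (J j)).homEquiv a b).symm
  have hcomp : (fun (g : (extendCofan F J i j a).pt ⟶ b) (f : j ⟶ i) =>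
      (extendCofan F J i j a).inj f ≫ g) =
      e3 ∘ (fun (k : a ⟶ (coextendFan F J j i b).pt) (f : j ⟶ i) =>
        k ≫ (coextendFan F J j i b).proj f) ∘ e2 ∘ e1 := by
    funext g f
    exact extendInj_comp F J i j a b g f
  rw [hcomp]
  exact e3.bijective.comp (hfan.comp (e2.bijective.comp e1.bijective))

theorem cartRestrSheaf_naturality (f : j ⟶ i) {P P' : FibSite.TotSh F J (Type w)} (τ : P ⟶ P') :
    (FibSite.restr F J (Type w) i).map τ ≫ cartRestrSheaf F J i j f P' =
      cartRestrSheaf F J i j f P ≫
        ((FibSite.invImage F f).sheafPushforwardContinuous (Type w) (J i) (J j)).map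
          ((FibSite.restr F J (Type w) j).map τ) := by
  apply Sheaf.hom_ext
  ext U x
  exact (NatTrans.naturality_apply τ.hom (cartesianLift U.unop f : _ ⟶ ⟨i, U.unop⟩).op x).symm

theorem extendInj_naturality {a a' : Sheaf (J i) (Type w)} (h : a ⟶ a') (f : j ⟶ i) :
    ((FibSite.invImage F f).sheafPullback (Type w) (J i) (J j)).map h ≫ extendInj F J i j a' f =
      extendInj F J i j a f ≫
        (FibSite.restr F J (Type w) j).map ((FibSite.extend F J (Type w) i).map h) := by
  apply (((FibSite.invImage F f).sheafAdjunctionContinuous (Type w) (J i) (J j)).homEquiv a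
    _).injective
  rw [Adjunction.homEquiv_naturality_left, Adjunction.homEquiv_naturality_right, extendInj,
    extendInj, Equiv.apply_symm_apply, Equiv.apply_symm_apply, Category.assoc]
  have h1 := ((ι F i).sheafAdjunctionContinuous (Type w) (J i)
    (FibSite.totalTopology F J)).unit.naturality h
  have h2 := cartRestrSheaf_naturality F J i j f ((FibSite.extend F J (Type w) i).map h)
  exact ((Category.assoc _ _ _).symm.trans (congrArg (· ≫ cartRestrSheaf F J i j f _) h1)).trans
    ((Category.assoc _ _ _).trans (congrArg (((ι F i).sheafAdjunctionContinuous (Type w) (J i)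
      (FibSite.totalTopology F J)).unit.app a ≫ ·) h2))

/-- When there is exactly one morphism `j ⟶ i`, the canonical map from the inverse image along
it to the restriction of the extension is an isomorphism. -/
theorem isIso_extendInj_of_unique [Unique (j ⟶ i)] (a : Sheaf (J i) (Type w)) :
    IsIso (extendInj F J i j a default) := by
  rw [isIso_iff_coyoneda_map_bijective]
  intro b
  have h := (cofan_isColimit_iff (extendCofan F J i j a)).mp (extendCofan_isColimit F J i j a) b
  have h2 : (fun (g : (FibSite.restr F J (Type w) j).obj ((FibSite.extend F J (Type w) i).obj a) ⟶ b) =>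
      extendInj F J i j a default ≫ g) =
      (fun (φ : ∀ f : j ⟶ i, ((FibSite.invImage F f).sheafPullback (Type w) (J i) (J j)).obj a ⟶ b) =>
        φ default) ∘ (fun (g : (extendCofan F J i j a).pt ⟶ b) (f : j ⟶ i) =>
          (extendCofan F J i j a).inj f ≫ g) := rfl
  rw [h2]
  exact (Equiv.piUnique _).bijective.comp h

end Lan

section Reflect

variable {𝒮 : Type u₁} [Category.{v₁} 𝒮]
variable (F : Pseudofunctor (LocallyDiscrete 𝒮ᵒᵖ) Cat.{v₂, u₂}) (J : FibSite.Topologies F)
variable [∀ S : 𝒮, (ι F S).IsContinuous (J S) (FibSite.totalTopology F J)]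

/-- The restrictions to the fibres jointly detect left exactness of a functor into sheaves on the
total site. -/
theorem preservesFiniteLimits_of_restr {B : Type u₃} [Category.{v₃} B]
    (E : B ⥤ FibSite.TotSh F J (Type w))
    (h : ∀ T : 𝒮, PreservesFiniteLimits (E ⋙ FibSite.restr F J (Type w) T)) :
    PreservesFiniteLimits E := by
  constructor
  intro D _ _
  constructor
  intro K
  have h0 : PreservesLimit K (E ⋙ sheafToPresheaf (FibSite.totalTopology F J) (Type w)) := by
    apply preservesLimit_of_evaluation
    intro X
    have := h X.unop.base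
    have h1 : PreservesLimit K ((E ⋙ FibSite.restr F J (Type w) X.unop.base) ⋙
        sheafToPresheaf (J X.unop.base) (Type w) ⋙
          (evaluation _ _).obj (op X.unop.fiber)) := inferInstance
    exact h1
  exact preservesLimit_of_reflects_of_preserves E
    (sheafToPresheaf (FibSite.totalTopology F J) (Type w))

end Reflect

end Groth.Agent.Lib.Helper68
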