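import Groth.Prelude.Def_FibSite
import Mathlib.CategoryTheory.Sites.Closed

/-! Lemmas on fibred sites and the total topology (helper68). -/

set_option autoImplicit false
universe v₃ u₃ v₂ u₂ v₁ u₁ v u w

open CategoryTheory CategoryTheory.Limits Opposite Pseudofunctor Pseudofunctor.CoGrothendieck Bicategory

namespace Groth.Agent.Lib.Helper68

section Continuous

variable {C : Type u₁} [Category.{v₁} C] {D : Type u₂} [Category.{v₂} D]

/-- A continuous functor sends covering sieves to sieves generating covering sieves. -/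
theorem functorPushforward_mem_of_isContinuous (G : C ⥤ D) (J : GrothendieckTopology C)
    (K : GrothendieckTopology D) [G.IsContinuous J K] {U : C} (R : Sieve U) (hR : R ∈ J U) :
    R.functorPushforward G ∈ K (G.obj U) := by
  let Ω : Sheaf K (Type (max v₂ u₂)) := ⟨(Functor.closedSieves K).toFunctor,
    (isSheaf_iff_isSheaf_of_type K _).mpr (classifier_isSheaf K)⟩
  have hsh : Presieve.IsSheaf J (G.op ⋙ Ω.obj) := G.op_comp_isSheaf_of_types J K Ω
  have hsep := (hsh R hR).isSeparatedFor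
  have htop : K.IsClosed (⊤ : Sieve (G.obj U)) := fun _ _ _ => trivial
  let a : (G.op ⋙ Ω.obj).obj (op U) := ⟨(⊤ : Sieve (G.obj U)), htop⟩
  let b : (G.op ⋙ Ω.obj).obj (op U) := ⟨K.close (R.functorPushforward G), K.close_isClosed _⟩
  have hab : a = b := by
    refine hsep.ext fun V r hr => ?_
    apply Subtype.ext
    change (⊤ : Sieve (G.obj U)).pullback (G.map r) =
      (K.close (R.functorPushforward G)).pullback (G.map r)
    rw [Sieve.pullback_top, ← K.pullback_close,
      Sieve.pullback_eq_top_of_mem _ (Sieve.image_mem_functorPushforward G R hr)]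
    exact ((K.close_eq_top_iff_mem _).mpr (K.top_mem _)).symm
  have h1 : (⊤ : Sieve (G.obj U)) = K.close (R.functorPushforward G) := congrArg Subtype.val hab
  exact (K.close_eq_top_iff_mem _).mp h1.symm

end Continuous

variable {𝒮 : Type u₁} [Category.{v₁} 𝒮]
variable (F : Pseudofunctor (LocallyDiscrete 𝒮ᵒᵖ) Cat.{v₂, u₂})

set_option backward.isDefEq.respectTransparency false in
attribute [local simp] PrelaxFunctor.map₂_eqToHom in
theorem ι_map_comp {X Y : ∫ᶜ F} (g : Y ⟶ X) {V : F.obj ⟨op Y.base⟩} (φ : V ⟶ Y.fiber) :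
    (ι F Y.base).map φ ≫ g = (⟨g.base, φ ≫ g.fiber⟩ : (⟨Y.base, V⟩ : ∫ᶜ F) ⟶ X) := by
  refine Hom.ext _ _ ?_ ?_
  · exact Category.id_comp _
  · change (φ ≫ (F.mapId ⟨op Y.base⟩).inv.toNatTrans.app Y.fiber) ≫
      (F.map (𝟙 Y.base).op.toLoc).toFunctor.map g.fiber ≫
        (F.mapComp g.base.op.toLoc (𝟙 Y.base).op.toLoc).inv.toNatTrans.app X.fiber = (φ ≫ g.fiber) ≫ _
    simp [F.mapComp_id_right_inv_app, Strict.rightUnitor_eqToIso, ← NatTrans.naturality_assoc,
        ← Cat.Hom₂.comp_app]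

set_option backward.isDefEq.respectTransparency false in
attribute [local simp] PrelaxFunctor.map₂_eqToHom in
theorem comp_ι_map {R S : 𝒮} (f : R ⟶ S) {V : F.obj ⟨op R⟩} {W W' : F.obj ⟨op S⟩}
    (b : V ⟶ (F.map f.op.toLoc).toFunctor.obj W) (r : W ⟶ W') :
    (⟨f, b⟩ : (⟨R, V⟩ : ∫ᶜ F) ⟶ ⟨S, W⟩) ≫ (ι F S).map r =
      (⟨f, b ≫ (F.map f.op.toLoc).toFunctor.map r⟩ : (⟨R, V⟩ : ∫ᶜ F) ⟶ ⟨S, W'⟩) := by
  refine Hom.ext _ _ ?_ ?_
  · exact Category.comp_id _
  · change b ≫ (F.map f.op.toLoc).toFunctor.map (r ≫ (F.mapId ⟨op S⟩).inv.toNatTrans.app W') ≫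
        (F.mapComp (𝟙 S).op.toLoc f.op.toLoc).inv.toNatTrans.app W' =
      (b ≫ (F.map f.op.toLoc).toFunctor.map r) ≫ _
    simp [F.mapComp_id_left_inv_app, Strict.leftUnitor_eqToIso, ← Functor.map_comp_assoc,
        ← Cat.Hom₂.comp_app]

variable (J : FibSite.Topologies F)

/-- The candidate description of the covering sieves of the total topology. -/
def totalSieves (X : ∫ᶜ F) : Set (Sieve X) :=
  {S | ∃ R ∈ J X.base X.fiber, Sieve.functorPushforward (ι F X.base) R ≤ S}

/-- The sieves containing the image of a covering sieve of the fibre form a topology. -/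
def totalTop (hF : FibSite.IsPreFibSite F J) : GrothendieckTopology (∫ᶜ F) where
  sieves X := totalSieves F J X
  top_mem' X := ⟨⊤, (J X.base).top_mem _, le_top⟩
  pullback_stable' X Y S g := by
    rintro ⟨R, hR, hRS⟩
    have := hF g.base
    have hT : R.functorPushforward (FibSite.invImage F g.base) ∈ J Y.base _ :=
      functorPushforward_mem_of_isContinuous _ (J X.base) (J Y.base) R hR
    refine ⟨(R.functorPushforward (FibSite.invImage F g.base)).pullback g.fiber,
      (J Y.base).pullback_stable g.fiber hT, ?_⟩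
    rintro Z h ⟨V, r', a, hr', rfl⟩
    obtain ⟨W, r, b, hr, hb⟩ := hr'
    let g' : (ι F Y.base).obj Y.fiber ⟶ X := g
    have e1 : (a ≫ (ι F Y.base).map r') ≫ g' = a ≫ ((ι F Y.base).map r' ≫ g') :=
      Category.assoc _ _ _
    have e2 : (ι F Y.base).map r' ≫ g' =
        (⟨g.base, b ≫ (FibSite.invImage F g.base).map r⟩ : (⟨Y.base, V⟩ : ∫ᶜ F) ⟶ X) := by
      rw [← hb]
      exact ι_map_comp F g r'
    have h2 : (⟨g.base, b⟩ : (⟨Y.base, V⟩ : ∫ᶜ F) ⟶ ⟨X.base, W⟩) ≫ (ι F X.base).map r =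
        (⟨g.base, b ≫ (FibSite.invImage F g.base).map r⟩ : (⟨Y.base, V⟩ : ∫ᶜ F) ⟶ X) :=
      comp_ι_map F g.base b r
    have h3 : S.arrows ((ι F X.base).map r) :=
      hRS _ (Sieve.image_mem_functorPushforward (ι F X.base) R hr)
    have h4 : S.arrows ((ι F Y.base).map r' ≫ g') := by
      rw [e2, ← h2]
      exact S.downward_closed h3 _
    change S.arrows ((a ≫ (ι F Y.base).map r') ≫ g')
    rw [e1]
    exact S.downward_closed h4 a
  transitive' X S := by
    rintro ⟨R, hR, hRS⟩ S' hS'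
    have h1 : ∀ ⦃V : F.obj ⟨op X.base⟩⦄ (r : V ⟶ X.fiber), R r →
        ∃ R' ∈ J X.base V, R'.functorPushforward (ι F X.base) ≤ S'.pullback ((ι F X.base).map r) :=
      fun V r hr => hS' (hRS _ (Sieve.image_mem_functorPushforward _ _ hr))
    choose R' hR' hR'S using h1
    refine ⟨Sieve.bind R R', (J X.base).bind_covering hR hR', ?_⟩
    rintro Z h ⟨V, q, a, ⟨V', q', r, hr, hq', rfl⟩, rfl⟩
    rw [Functor.map_comp, ← Category.assoc]
    exact hR'S r hr _ ⟨_, q', a, hq', rfl⟩

theorem mem_totalTopology_iff (hF : FibSite.IsPreFibSite F J) (X : ∫ᶜ F) (S : Sieve X) :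
    S ∈ FibSite.totalTopology F J X ↔
      ∃ R ∈ J X.base X.fiber, Sieve.functorPushforward (ι F X.base) R ≤ S := by
  constructor
  · intro h
    have hle : FibSite.totalTopology F J ≤ totalTop F J hF :=
      FibSite.totalTopology_le (fun S' U R hR => ⟨R, hR, le_rfl⟩)
    exact hle X h
  · rintro ⟨R, hR, hRS⟩
    exact (FibSite.totalTopology F J).superset_covering hRS
      (FibSite.functorPushforward_mem_totalTopology hR)

end Groth.Agent.Lib.Helper68
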