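import Groth.Agent.Lib.Helper68.FibSiteLan

/-! Morphisms of fibred sites and the induced functor on total sites (helper68). -/

set_option autoImplicit false
set_option linter.unusedSectionVars false
universe v₃ u₃ v₂ u₂ v₁ u₁ v u w

open CategoryTheory CategoryTheory.Limits Opposite Pseudofunctor Pseudofunctor.CoGrothendieck Bicategory
open scoped CategoryTheory.Pseudofunctor.StrongTrans

namespace Groth.Agent.Lib.Helper68

section MapIso

variable {𝒮 : Type u₁} [Category.{v₁} 𝒮]
variable {F G : Pseudofunctor (LocallyDiscrete 𝒮ᵒᵖ) Cat.{v₂, u₂}} (α : G ⟶ F)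

set_option backward.isDefEq.respectTransparency false in
/-- The functor induced on total categories commutes with the fibre inclusions. -/
def ιCompMapIso (S : 𝒮) :
    ι G S ⋙ Pseudofunctor.CoGrothendieck.map α ≅ (α.app ⟨op S⟩).toFunctor ⋙ ι F S :=
  NatIso.ofComponents (fun V => Iso.refl _) (fun {V V'} φ => by
    rw [Iso.refl_hom, Iso.refl_hom]
    refine (Category.comp_id _).trans (Eq.trans ?_ (Category.id_comp _).symm)
    refine Hom.ext _ _ rfl ?_
    simp only [eqToHom_refl, Category.comp_id]
    change (α.app ⟨op S⟩).toFunctor.map (φ ≫ (G.mapId ⟨op S⟩).inv.toNatTrans.app V') ≫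
      (α.naturality (𝟙 (⟨op S⟩ : LocallyDiscrete 𝒮ᵒᵖ))).hom.toNatTrans.app V' =
        (α.app ⟨op S⟩).toFunctor.map φ ≫
          (F.mapId ⟨op S⟩).inv.toNatTrans.app ((α.app ⟨op S⟩).toFunctor.obj V')
    simp [Cat.Hom.comp_toFunctor, StrongTrans.naturality_id_hom_app, Cat.Hom.id_toFunctor,
      ← Functor.map_comp_assoc, ← Cat.Hom₂.comp_app])

variable (J : FibSite.Topologies F) (K : FibSite.Topologies G)

/-- The functor between total categories induced by a morphism of pre-fibred sites whose fibre
functors are continuous is continuous. -/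
theorem isContinuous_map (hF : FibSite.IsPreFibSite F J) (hG : FibSite.IsPreFibSite G K)
    (hα : ∀ S : 𝒮, (α.app ⟨op S⟩).toFunctor.IsContinuous (K S) (J S)) :
    (Pseudofunctor.CoGrothendieck.map α).IsContinuous (FibSite.totalTopology G K)
      (FibSite.totalTopology F J) := by
  refine ⟨fun P => isSheaf_of_forall_ι_comp G K hG (fun S => ?_)⟩
  have := hα S
  have := isContinuous_ι F J hF S
  have h1 : ((α.app ⟨op S⟩).toFunctor ⋙ ι F S).IsContinuous (K S) (FibSite.totalTopology F J) :=
    Functor.isContinuous_comp _ _ (K S) (J S) _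
  have h2 : (ι G S ⋙ Pseudofunctor.CoGrothendieck.map α).IsContinuous (K S)
      (FibSite.totalTopology F J) :=
    Functor.isContinuous_of_iso (ιCompMapIso α S).symm _ _
  exact Functor.op_comp_isSheaf_of_types (ι G S ⋙ Pseudofunctor.CoGrothendieck.map α) (K S)
    (FibSite.totalTopology F J) P

end MapIso

section RanCompare

variable {𝒮 : Type u₁} [Category.{v₁} 𝒮]
variable {F G : Pseudofunctor (LocallyDiscrete 𝒮ᵒᵖ) Cat.{v₂, u₂}} (α : G ⟶ F) (T : 𝒮)
variable [∀ P : (F.obj ⟨op T⟩)ᵒᵖ ⥤ Type w, (ι F T).op.HasPointwiseRightKanExtension P]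
  [∀ P : (G.obj ⟨op T⟩)ᵒᵖ ⥤ Type w, (ι G T).op.HasPointwiseRightKanExtension P]

/-- The square relating restriction to the fibres over `T` with precomposition by the induced
functor on total categories. -/
def ranSquare :
    TwoSquare ((Functor.whiskeringLeft _ _ (Type w)).obj (Pseudofunctor.CoGrothendieck.map α).op)
      ((Functor.whiskeringLeft _ _ (Type w)).obj (ι F T).op)
      ((Functor.whiskeringLeft _ _ (Type w)).obj (ι G T).op)
      ((Functor.whiskeringLeft _ _ (Type w)).obj (α.app ⟨op T⟩).toFunctor.op) :=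
  TwoSquare.mk _ _ _ _
    { app := fun P => Functor.whiskerRight (NatTrans.op (ιCompMapIso α T).inv) P
      naturality := fun P P' τ => by
        ext W x
        exact (NatTrans.naturality_apply τ _ x).symm }

/-- The comparison between the right Kan extensions along the fibre inclusions of `F` and `G`. -/
noncomputable def ranCompare :
    (ι F T).op.ran ⋙ (Functor.whiskeringLeft _ _ (Type w)).obj
        (Pseudofunctor.CoGrothendieck.map α).op ⟶
      (Functor.whiskeringLeft _ _ (Type w)).obj (α.app ⟨op T⟩).toFunctor.op ⋙ (ι G T).op.ran :=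
  (mateEquiv ((ι F T).op.ranAdjunction (Type w)) ((ι G T).op.ranAdjunction (Type w))
    (ranSquare α T)).natTrans

/-- The component of the naturality constraint of `α` along `f`. -/
abbrev natApp {S : 𝒮} (f : T ⟶ S) (V : G.obj ⟨op S⟩) :
    (α.app ⟨op T⟩).toFunctor.obj ((FibSite.invImage G f).obj V) ⟶
      (FibSite.invImage F f).obj ((α.app ⟨op S⟩).toFunctor.obj V) :=
  (α.naturality f.op.toLoc).hom.toNatTrans.app V

theorem map_cartesianLift {S : 𝒮} (f : T ⟶ S) (V : G.obj ⟨op S⟩) :
    (Pseudofunctor.CoGrothendieck.map α).map (cartesianLift V f) =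
      (ι F T).map (natApp α T f V) ≫
        (cartesianLift ((α.app ⟨op S⟩).toFunctor.obj V) f : _ ⟶ ⟨S, _⟩) := by
  have e := ι_map_comp F (X := ⟨S, (α.app ⟨op S⟩).toFunctor.obj V⟩)
    (Y := ⟨T, (FibSite.invImage F f).obj ((α.app ⟨op S⟩).toFunctor.obj V)⟩)
    (cartesianLift ((α.app ⟨op S⟩).toFunctor.obj V) f) (natApp α T f V)
  refine Eq.trans ?_ e.symm
  refine Hom.ext _ _ rfl ?_
  simp only [map_map_fiber, Category.comp_id]
  change (α.app ⟨op T⟩).toFunctor.map (𝟙 _) ≫ natApp α T f V = natApp α T f V ≫ 𝟙 _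
  rw [CategoryTheory.Functor.map_id, Category.id_comp, Category.comp_id]

theorem ranCompare_counit (Q : (F.obj ⟨op T⟩)ᵒᵖ ⥤ Type w) (W : G.obj ⟨op T⟩)
    (y : ((ι F T).op.ran.obj Q).obj (op ((Pseudofunctor.CoGrothendieck.map α).obj ⟨T, W⟩))) :
    ((ι G T).op.ranCounit.app ((α.app ⟨op T⟩).toFunctor.op ⋙ Q)).app (op W)
        (((ranCompare α T).app Q).app (op ⟨T, W⟩) y) =
      ((ι F T).op.ranCounit.app Q).app (op ((α.app ⟨op T⟩).toFunctor.obj W)) y := by
  have h := mateEquiv_counit ((ι F T).op.ranAdjunction (Type w))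
    ((ι G T).op.ranAdjunction (Type w)) (ranSquare α T) Q
  rw [Functor.ranAdjunction_counit, Functor.ranAdjunction_counit] at h
  have h' := congrArg (fun t => t.app (op W) y) h
  refine h'.trans ?_
  change ((ι F T).op.ranCounit.app Q).app (op ((α.app ⟨op T⟩).toFunctor.obj W))
    (((ι F T).op.ran.obj Q).map (𝟙 _) y) = _
  rw [CategoryTheory.Functor.map_id]
  rfl

theorem ranCompare_fan (Q : (F.obj ⟨op T⟩)ᵒᵖ ⥤ Type w) (X : ∫ᶜ G)
    (x : ((ι F T).op.ran.obj Q).obj (op ((Pseudofunctor.CoGrothendieck.map α).obj X)))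
    (f : T ⟶ X.base) :
    ranFanMap G T (Functor.RightExtension.mk _
        ((ι G T).op.ranCounit.app ((α.app ⟨op T⟩).toFunctor.op ⋙ Q))) X
        (((ranCompare α T).app Q).app (op X) x) f =
      Q.map (natApp α T f X.fiber).op
        (ranFanMap F T (Functor.RightExtension.mk _ ((ι F T).op.ranCounit.app Q))
          ((Pseudofunctor.CoGrothendieck.map α).obj X) x f) := by
  have h1 := NatTrans.naturality_apply ((ranCompare α T).app Q)
    (cartesianLift X.fiber f : _ ⟶ X).op x
  have h2 := ranCompare_counit α T Q ((FibSite.invImage G f).obj X.fiber)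
    (((ι F T).op.ran.obj Q).map
      ((Pseudofunctor.CoGrothendieck.map α).map (cartesianLift X.fiber f : _ ⟶ X)).op x)
  have h3 : ((ι F T).op.ran.obj Q).map
      ((Pseudofunctor.CoGrothendieck.map α).map (cartesianLift X.fiber f : _ ⟶ X)).op x =
      ((ι F T).op.ran.obj Q).map ((ι F T).map (natApp α T f X.fiber)).op
        (((ι F T).op.ran.obj Q).map (cartesianLift ((α.app ⟨op X.base⟩).toFunctor.obj X.fiber) f :
          _ ⟶ (Pseudofunctor.CoGrothendieck.map α).obj X).op x) :=
    (congrArg (fun m => ((ι F T).op.ran.obj Q).map (Quiver.Hom.op m) x)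
      (map_cartesianLift α T f X.fiber)).trans (presheaf_map_comp_apply _ _ _ x)
  have h4 := NatTrans.naturality_apply ((ι F T).op.ranCounit.app Q) (natApp α T f X.fiber).op
    (((ι F T).op.ran.obj Q).map (cartesianLift ((α.app ⟨op X.base⟩).toFunctor.obj X.fiber) f :
      _ ⟶ (Pseudofunctor.CoGrothendieck.map α).obj X).op x)
  unfold ranFanMap
  refine (congrArg (((ι G T).op.ranCounit.app ((α.app ⟨op T⟩).toFunctor.op ⋙ Q)).app
    (op ((FibSite.invImage G f).obj X.fiber))) h1.symm).trans ?_
  refine h2.trans ?_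
  refine (congrArg (((ι F T).op.ranCounit.app Q).app _) h3).trans ?_
  exact h4

theorem ranCompare_app_app_bijective (Q : (F.obj ⟨op T⟩)ᵒᵖ ⥤ Type w) (X : ∫ᶜ G) :
    Function.Bijective (((ranCompare α T).app Q).app (op X)) := by
  have hG := ranFanMap_bijective G T (Functor.RightExtension.mk _
    ((ι G T).op.ranCounit.app ((α.app ⟨op T⟩).toFunctor.op ⋙ Q))) X
    ((ι G T).op.isPointwiseRightKanExtensionRanCounit _ _)
  have hF := ranFanMap_bijective F T (Functor.RightExtension.mk _ ((ι F T).op.ranCounit.app Q))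
    ((Pseudofunctor.CoGrothendieck.map α).obj X)
    ((ι F T).op.isPointwiseRightKanExtensionRanCounit _ _)
  have hiso : ∀ f : T ⟶ X.base, Function.Bijective (Q.map (natApp α T f X.fiber).op) := by
    intro f
    have : IsIso (natApp α T f X.fiber) := by unfold natApp; infer_instance
    exact (isIso_iff_bijective _).mp inferInstance
  have hpi : Function.Bijective
      (fun (σ : ∀ f : T ⟶ X.base, Q.obj (op ((FibSite.invImage F f).obj
        ((α.app ⟨op X.base⟩).toFunctor.obj X.fiber)))) (f : T ⟶ X.base) =>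
          Q.map (natApp α T f X.fiber).op (σ f)) :=
    (Equiv.piCongrRight fun f => Equiv.ofBijective _ (hiso f)).bijective
  have hcomp : (ranFanMap G T (Functor.RightExtension.mk _
      ((ι G T).op.ranCounit.app ((α.app ⟨op T⟩).toFunctor.op ⋙ Q))) X) ∘
        (((ranCompare α T).app Q).app (op X)) =
      (fun (σ : ∀ f : T ⟶ X.base, Q.obj (op ((FibSite.invImage F f).obj
        ((α.app ⟨op X.base⟩).toFunctor.obj X.fiber)))) (f : T ⟶ X.base) =>
          Q.map (natApp α T f X.fiber).op (σ f)) ∘
        (ranFanMap F T (Functor.RightExtension.mk _ ((ι F T).op.ranCounit.app Q))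
          ((Pseudofunctor.CoGrothendieck.map α).obj X)) := by
    funext x f
    exact ranCompare_fan α T Q X x f
  have h1 : Function.Bijective ((ranFanMap G T (Functor.RightExtension.mk _
      ((ι G T).op.ranCounit.app ((α.app ⟨op T⟩).toFunctor.op ⋙ Q))) X) ∘
        (((ranCompare α T).app Q).app (op X))) := by
    rw [hcomp]
    exact hpi.comp hF
  exact (Function.Bijective.of_comp_iff' hG _).mp h1

instance isIso_ranCompare : IsIso (ranCompare α T) := by
  have : ∀ Q, IsIso ((ranCompare α T).app Q) := by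
    intro Q
    have : ∀ X, IsIso (((ranCompare α T).app Q).app X) := by
      intro X
      rw [isIso_iff_bijective]
      exact ranCompare_app_app_bijective α T Q X.unop
    exact NatIso.isIso_of_isIso_app _
  exact NatIso.isIso_of_isIso_app _

end RanCompare

section SheafCompare

variable {𝒮 : Type u₁} [Category.{v₁} 𝒮]
variable {F G : Pseudofunctor (LocallyDiscrete 𝒮ᵒᵖ) Cat.{v₂, u₂}} (α : G ⟶ F)
variable (J : FibSite.Topologies F) (K : FibSite.Topologies G)
variable [∀ S : 𝒮, (ι F S).IsContinuous (J S) (FibSite.totalTopology F J)]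
  [∀ S : 𝒮, (ι G S).IsContinuous (K S) (FibSite.totalTopology G K)]
  [∀ S : 𝒮, (ι F S).IsCocontinuous (J S) (FibSite.totalTopology F J)]
  [∀ S : 𝒮, (ι G S).IsCocontinuous (K S) (FibSite.totalTopology G K)]
  [∀ (S : 𝒮) (P : (F.obj ⟨op S⟩)ᵒᵖ ⥤ Type w), (ι F S).op.HasPointwiseRightKanExtension P]
  [∀ (S : 𝒮) (P : (G.obj ⟨op S⟩)ᵒᵖ ⥤ Type w), (ι G S).op.HasPointwiseRightKanExtension P]
  [(Pseudofunctor.CoGrothendieck.map α).IsContinuous (FibSite.totalTopology G K)
    (FibSite.totalTopology F J)]
  [((Pseudofunctor.CoGrothendieck.map α).sheafPushforwardContinuous (Type w)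
    (FibSite.totalTopology G K) (FibSite.totalTopology F J)).IsRightAdjoint]
  [∀ S : 𝒮, (α.app ⟨op S⟩).toFunctor.IsContinuous (K S) (J S)]
  [∀ S : 𝒮, ((α.app ⟨op S⟩).toFunctor.sheafPushforwardContinuous (Type w) (K S)
    (J S)).IsRightAdjoint]

/-- Base change for the right adjoints: right Kan extension along the inclusion of the fibre of
`F` followed by restriction along the induced functor is restriction along `α_T` followed by right
Kan extension along the inclusion of the fibre of `G`. -/
noncomputable def coextendCompPushforwardIso (T : 𝒮) :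
    FibSite.coextend F J (Type w) T ⋙
        (Pseudofunctor.CoGrothendieck.map α).sheafPushforwardContinuous (Type w)
          (FibSite.totalTopology G K) (FibSite.totalTopology F J) ≅
      (α.app ⟨op T⟩).toFunctor.sheafPushforwardContinuous (Type w) (K T) (J T) ⋙
        FibSite.coextend G K (Type w) T :=
  Functor.fullyFaithfulCancelRight (sheafToPresheaf (FibSite.totalTopology G K) (Type w))
    (Functor.isoWhiskerLeft (sheafToPresheaf (J T) (Type w)) (asIso (ranCompare α T)))

/-- Base change for the left adjoints. -/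
noncomputable def sheafPullbackCompRestrIso (T : 𝒮) :
    (Pseudofunctor.CoGrothendieck.map α).sheafPullback (Type w)
        (FibSite.totalTopology G K) (FibSite.totalTopology F J) ⋙ FibSite.restr F J (Type w) T ≅
      FibSite.restr G K (Type w) T ⋙
        (α.app ⟨op T⟩).toFunctor.sheafPullback (Type w) (K T) (J T) :=
  Adjunction.leftAdjointUniq
    ((((Pseudofunctor.CoGrothendieck.map α).sheafAdjunctionContinuous (Type w)
      (FibSite.totalTopology G K) (FibSite.totalTopology F J)).comp
        ((ι F T).sheafAdjunctionCocontinuous (Type w) (J T)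
          (FibSite.totalTopology F J))).ofNatIsoRight (coextendCompPushforwardIso α J K T))
    (((ι G T).sheafAdjunctionCocontinuous (Type w) (K T) (FibSite.totalTopology G K)).comp
      ((α.app ⟨op T⟩).toFunctor.sheafAdjunctionContinuous (Type w) (K T) (J T)))

theorem preservesFiniteLimits_sheafPullback_map
    [∀ S : 𝒮, PreservesFiniteLimits (FibSite.restr G K (Type w) S)]
    (h : ∀ S : 𝒮, PreservesFiniteLimits
      ((α.app ⟨op S⟩).toFunctor.sheafPullback (Type w) (K S) (J S))) :
    PreservesFiniteLimits ((Pseudofunctor.CoGrothendieck.map α).sheafPullback (Type w)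
      (FibSite.totalTopology G K) (FibSite.totalTopology F J)) := by
  apply preservesFiniteLimits_of_restr F J
  intro T
  have := h T
  have : PreservesFiniteLimits (FibSite.restr G K (Type w) T ⋙
      (α.app ⟨op T⟩).toFunctor.sheafPullback (Type w) (K T) (J T)) :=
    comp_preservesFiniteLimits _ _
  exact preservesFiniteLimits_of_natIso (sheafPullbackCompRestrIso α J K T).symm

end SheafCompare

end Groth.Agent.Lib.Helper68
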