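import Groth.Agent.Lib.Helper68.FibSiteAdj
import Mathlib.CategoryTheory.Functor.KanExtension.Pointwise
import Mathlib.CategoryTheory.Limits.Types.Limits

/-! The right Kan extension along a fibre inclusion, computed on the fibres (helper68). -/

set_option autoImplicit false
universe v₃ u₃ v₂ u₂ v₁ u₁ v u w

open CategoryTheory CategoryTheory.Limits Opposite Pseudofunctor Pseudofunctor.CoGrothendieck Bicategory

namespace Groth.Agent.Lib.Helper68

section Ran

variable {𝒮 : Type u₁} [Category.{v₁} 𝒮]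
variable (F : Pseudofunctor (LocallyDiscrete 𝒮ᵒᵖ) Cat.{v₂, u₂}) (i : 𝒮)

/-- Every morphism from an object of the fibre over `i` factors through a cartesian lift. -/
theorem eq_ι_map_comp_cartesianLift {W : F.obj ⟨op i⟩} {X : ∫ᶜ F} (h : (ι F i).obj W ⟶ X) :
    h = (ι F i).map h.fiber ≫ (cartesianLift X.fiber h.base : _ ⟶ X) := by
  have := ι_map_comp F (X := X) (Y := ⟨i, (FibSite.invImage F h.base).obj X.fiber⟩)
    (cartesianLift X.fiber h.base) h.fiber
  rw [this]
  refine Hom.ext _ _ rfl ?_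
  simp only [eqToHom_refl]
  exact ((Category.comp_id (h.fiber ≫ 𝟙 _)).trans (Category.comp_id h.fiber)).symm

variable {Q : (F.obj ⟨op i⟩)ᵒᵖ ⥤ Type w} (E : Functor.RightExtension (ι F i).op Q)

/-- The comparison map from the value of a right extension at `X` to the product over the
morphisms `i ⟶ X.base` of the values at the inverse images of `X.fiber`. -/
def ranFanMap (X : ∫ᶜ F) (x : E.left.obj (op X)) (f : i ⟶ X.base) :
    Q.obj (op ((FibSite.invImage F f).obj X.fiber)) :=
  E.hom.app (op ((FibSite.invImage F f).obj X.fiber))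
    (E.left.map (cartesianLift X.fiber f : _ ⟶ X).op x)

theorem coneAt_π_app_eq (X : ∫ᶜ F) (g : StructuredArrow (op X) (ι F i).op)
    (x : E.left.obj (op X)) :
    (E.coneAt (op X)).π.app g x =
      Q.map (g.hom.unop.fiber).op (ranFanMap F i E X x g.hom.unop.base) := by
  change E.hom.app g.right (E.left.map g.hom x) = _
  have h1 : g.hom = ((ι F i).map g.hom.unop.fiber ≫
      (cartesianLift X.fiber g.hom.unop.base : _ ⟶ X)).op := by
    rw [← eq_ι_map_comp_cartesianLift]; rfl
  have h2 := NatTrans.naturality_apply E.hom (g.hom.unop.fiber).op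
    (E.left.map (cartesianLift X.fiber g.hom.unop.base : _ ⟶ X).op x)
  have h3 : E.left.map g.hom x = E.left.map ((ι F i).map g.hom.unop.fiber).op
      (E.left.map (cartesianLift X.fiber g.hom.unop.base : _ ⟶ X).op x) :=
    (congrArg (fun m => E.left.map m x) h1).trans (presheaf_map_comp_apply E.left _ _ x)
  exact (congrArg (E.hom.app g.right) h3).trans h2

variable (Q) in
/-- The value at `h : ι W ⟶ X` of the section attached to a family `σ`. -/
def secAt {X : ∫ᶜ F} (σ : ∀ f : i ⟶ X.base, Q.obj (op ((FibSite.invImage F f).obj X.fiber)))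
    {W : F.obj ⟨op i⟩} (h : (ι F i).obj W ⟶ X) : Q.obj (op W) :=
  Q.map h.fiber.op (σ h.base)

theorem secAt_ι_map_comp {X : ∫ᶜ F}
    (σ : ∀ f : i ⟶ X.base, Q.obj (op ((FibSite.invImage F f).obj X.fiber)))
    {W W' : F.obj ⟨op i⟩} (μ : W' ⟶ W) (h : (ι F i).obj W ⟶ X) :
    secAt F i Q σ ((ι F i).map μ ≫ h) = Q.map μ.op (secAt F i Q σ h) := by
  have e : (ι F i).map μ ≫ h = (⟨h.base, μ ≫ h.fiber⟩ : (ι F i).obj W' ⟶ X) :=
    ι_map_comp F (X := X) (Y := (ι F i).obj W) h μ
  rw [e]
  exact presheaf_map_comp_apply Q μ h.fiber (σ h.base)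

theorem secAt_cartesianLift {X : ∫ᶜ F}
    (σ : ∀ f : i ⟶ X.base, Q.obj (op ((FibSite.invImage F f).obj X.fiber))) (f : i ⟶ X.base) :
    secAt F i Q σ (cartesianLift X.fiber f : _ ⟶ X) = σ f := by
  change Q.map (𝟙 _) (σ f) = σ f
  simp

theorem ranFanMap_bijective (X : ∫ᶜ F) (hE : E.IsPointwiseRightKanExtensionAt (op X)) :
    Function.Bijective (ranFanMap F i E X) := by
  have hlim := (Types.isLimit_iff (E.coneAt (op X))).mp ⟨hE⟩
  constructor
  · intro x x' hxx'
    refine Concrete.isLimit_ext _ hE x x' fun g => ?_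
    rw [coneAt_π_app_eq, coneAt_π_app_eq, hxx']
  · intro σ
    have hs : (fun g : StructuredArrow (op X) (ι F i).op => secAt F i Q σ g.hom.unop) ∈
        (StructuredArrow.proj (op X) (ι F i).op ⋙ Q).sections := by
      intro g₁ g₂ m
      have hw : (ι F i).map m.right.unop ≫ g₁.hom.unop = g₂.hom.unop :=
        congrArg Quiver.Hom.unop (StructuredArrow.w m)
      change Q.map m.right (secAt F i Q σ g₁.hom.unop) = secAt F i Q σ g₂.hom.unop
      rw [← hw, secAt_ι_map_comp]
      rfl
    obtain ⟨x, hx, -⟩ := hlim _ hs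
    refine ⟨x, funext fun f => ?_⟩
    have h1 := hx (StructuredArrow.mk (Y := op ((FibSite.invImage F f).obj X.fiber))
      (cartesianLift X.fiber f : _ ⟶ X).op)
    have h1' := (coneAt_π_app_eq F i E X _ x).symm.trans h1
    have h2 : Q.map (𝟙 _) (ranFanMap F i E X x f) = σ f :=
      h1'.trans (secAt_cartesianLift F i σ f)
    simpa using h2

end Ran

section CartTrans

variable {𝒮 : Type u₁} [Category.{v₁} 𝒮]
variable (F : Pseudofunctor (LocallyDiscrete 𝒮ᵒᵖ) Cat.{v₂, u₂})

/-- The cartesian lifts form a natural transformation from `f^*` followed by the inclusion of the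
fibre over `i` to the inclusion of the fibre over `j`. -/
def cartTrans {i j : 𝒮} (f : i ⟶ j) : FibSite.invImage F f ⋙ ι F i ⟶ ι F j where
  app U := cartesianLift U f
  naturality U U' r := by
    have e1 := ι_map_comp F (X := ⟨j, U'⟩) (Y := ⟨i, (FibSite.invImage F f).obj U'⟩)
      (cartesianLift U' f) ((FibSite.invImage F f).map r)
    have e2 := comp_ι_map F f (𝟙 ((FibSite.invImage F f).obj U)) r
    change (ι F i).map ((FibSite.invImage F f).map r) ≫ cartesianLift U' f =
      cartesianLift U f ≫ (ι F j).map r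
    rw [e1]
    refine Eq.trans ?_ e2.symm
    refine Hom.ext _ _ rfl ?_
    simp only [eqToHom_refl]
    exact congrArg (· ≫ 𝟙 ((F.map f.op.toLoc).toFunctor.obj U'))
      (Category.id_comp ((F.map f.op.toLoc).toFunctor.map r)).symm

/-- Restriction of a presheaf on the total category along the cartesian lifts of `f`. -/
def cartRestr {i j : 𝒮} (f : i ⟶ j) (P : (∫ᶜ F)ᵒᵖ ⥤ Type w) :
    (ι F j).op ⋙ P ⟶ (FibSite.invImage F f).op ⋙ (ι F i).op ⋙ P :=
  Functor.whiskerRight (NatTrans.op (cartTrans F f)) P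

/-- The projection from the restriction to the fibre over `j` of the right Kan extension of `Q`
along the inclusion of the fibre over `i`, to the direct image of `Q` along `f^*`. -/
noncomputable def ranProj {i j : 𝒮} (f : i ⟶ j) (Q : (F.obj ⟨op i⟩)ᵒᵖ ⥤ Type w)
    [∀ P : (F.obj ⟨op i⟩)ᵒᵖ ⥤ Type w, (ι F i).op.HasPointwiseRightKanExtension P] :
    (ι F j).op ⋙ (ι F i).op.ran.obj Q ⟶ (FibSite.invImage F f).op ⋙ Q :=
  cartRestr F f _ ≫ Functor.whiskerLeft (FibSite.invImage F f).op ((ι F i).op.ranCounit.app Q)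

theorem ranProj_app_apply {i j : 𝒮} (f : i ⟶ j) (Q : (F.obj ⟨op i⟩)ᵒᵖ ⥤ Type w)
    [∀ P : (F.obj ⟨op i⟩)ᵒᵖ ⥤ Type w, (ι F i).op.HasPointwiseRightKanExtension P]
    (U : F.obj ⟨op j⟩) (x : ((ι F i).op.ran.obj Q).obj (op ⟨j, U⟩)) :
    (ranProj F f Q).app (op U) x =
      ranFanMap F i (Functor.RightExtension.mk _ ((ι F i).op.ranCounit.app Q)) ⟨j, U⟩ x f := rfl

end CartTrans

section SheafLevel

variable {𝒮 : Type u₁} [Category.{v₁} 𝒮]
variable (F : Pseudofunctor (LocallyDiscrete 𝒮ᵒᵖ) Cat.{v₂, u₂}) (J : FibSite.Topologies F)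
variable (i j : 𝒮) [(ι F j).IsContinuous (J j) (FibSite.totalTopology F J)]
  [(ι F i).IsCocontinuous (J i) (FibSite.totalTopology F J)]
  [∀ P : (F.obj ⟨op i⟩)ᵒᵖ ⥤ Type w, (ι F i).op.HasPointwiseRightKanExtension P]
  [∀ f : i ⟶ j, (FibSite.invImage F f).IsContinuous (J j) (J i)]

/-- The fan exhibiting the value over `j` of the right adjoint of evaluation at `i` as a
product of direct images. -/
noncomputable def coextendFan (a : Sheaf (J i) (Type w)) :
    Fan (fun f : i ⟶ j =>
      ((FibSite.invImage F f).sheafPushforwardContinuous (Type w) (J j) (J i)).obj a) :=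
  Fan.mk ((FibSite.restr F J (Type w) j).obj ((FibSite.coextend F J (Type w) i).obj a))
    (fun f => ObjectProperty.homMk (ranProj F f a.obj))

/-- The fan `coextendFan` is a product. -/
noncomputable def coextendFanIsLimit (a : Sheaf (J i) (Type w)) :
    IsLimit (coextendFan F J i j a) := by
  apply isLimitOfReflects (sheafToPresheaf (J j) (Type w))
  apply evaluationJointlyReflectsLimits
  intro U
  apply Nonempty.some
  rw [Types.isLimit_iff]
  intro s hs
  have hbij := ranFanMap_bijective F i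
    (Functor.RightExtension.mk _ ((ι F i).op.ranCounit.app a.obj)) ⟨j, U.unop⟩
    ((ι F i).op.isPointwiseRightKanExtensionRanCounit a.obj _)
  obtain ⟨x, hx, hux⟩ := hbij.existsUnique (fun f => s ⟨f⟩)
  refine ⟨x, ?_, ?_⟩
  · rintro ⟨f⟩
    exact congrFun hx f
  · intro y hy
    apply hux
    funext f
    exact hy ⟨f⟩

end SheafLevel

end Groth.Agent.Lib.Helper68
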