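import Mathlib.Algebra.Category.Ring.FilteredColimits
import Mathlib.CategoryTheory.Limits.ConcreteCategory.Basic
import Mathlib.CategoryTheory.Filtered.Basic
import Mathlib.Data.Fintype.Option

namespace Groth.Agent.Lib.Helper68.FiltRing

open CategoryTheory CategoryTheory.Limits

universe u

variable {J : Type u} [SmallCategory J] [IsFiltered J] {F : J ⥤ CommRingCat.{u}} {c : Cocone F}
  (hc : IsColimit c)

include hc

lemma exists_rep (x : c.pt) : ∃ (j : J) (y : F.obj j), (c.ι.app j).hom y = x :=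
  Concrete.isColimit_exists_rep F hc x

lemma exists_eq {j : J} (y z : F.obj j) (h : (c.ι.app j).hom y = (c.ι.app j).hom z) :
    ∃ (k : J) (f : j ⟶ k), (F.map f).hom y = (F.map f).hom z := by
  obtain ⟨k, f, g, hfg⟩ := Concrete.isColimit_exists_of_rep_eq F hc y z h
  refine ⟨IsFiltered.coeq f g, f ≫ IsFiltered.coeqHom f g, ?_⟩
  have h1 : (F.map (f ≫ IsFiltered.coeqHom f g)).hom y =
      (F.map (IsFiltered.coeqHom f g)).hom ((F.map f).hom y) := by
    rw [F.map_comp]; rfl
  have h2 : (F.map (f ≫ IsFiltered.coeqHom f g)).hom z =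
      (F.map (IsFiltered.coeqHom f g)).hom ((F.map g).hom z) := by
    rw [IsFiltered.coeq_condition f g, F.map_comp]; rfl
  rw [h1, h2]
  exact congrArg _ hfg

omit [IsFiltered J] hc in
lemma ι_map {j k : J} (f : j ⟶ k) (y : F.obj j) :
    (c.ι.app k).hom ((F.map f).hom y) = (c.ι.app j).hom y := by
  have := c.w f
  rw [← this]; rfl

lemma exists_rep_finite (T : Type) [Finite T] :
    ∀ (x : T → c.pt), ∃ (j : J) (y : T → F.obj j), ∀ t, (c.ι.app j).hom (y t) = x t := by
  refine Finite.induction_empty_option (P := fun T => ∀ (x : T → c.pt),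
    ∃ (j : J) (y : T → F.obj j), ∀ t, (c.ι.app j).hom (y t) = x t) ?_ ?_ ?_ T
  · intro α β e h x
    obtain ⟨j, y, hy⟩ := h (x ∘ e)
    exact ⟨j, y ∘ e.symm, fun t => by simpa using hy (e.symm t)⟩
  · intro x
    exact ⟨IsFiltered.nonempty.some, fun t => t.elim, fun t => t.elim⟩
  · intro α _ h x
    obtain ⟨j, y, hy⟩ := h (fun t => x (some t))
    obtain ⟨j0, y0, hy0⟩ := exists_rep hc (x none)
    refine ⟨IsFiltered.max j j0, fun t => Option.rec ((F.map (IsFiltered.rightToMax j j0)).hom y0)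
      (fun t => (F.map (IsFiltered.leftToMax j j0)).hom (y t)) t, ?_⟩
    rintro (_ | t)
    · exact (ι_map (IsFiltered.rightToMax j j0) y0).trans hy0
    · exact (ι_map (IsFiltered.leftToMax j j0) (y t)).trans (hy t)

lemma exists_eq_finite (T : Type) [Finite T] {j : J} :
    ∀ (y z : T → F.obj j), (∀ t, (c.ι.app j).hom (y t) = (c.ι.app j).hom (z t)) →
      ∃ (k : J) (f : j ⟶ k), ∀ t, (F.map f).hom (y t) = (F.map f).hom (z t) := by
  refine Finite.induction_empty_option (P := fun T => ∀ (y z : T → F.obj j),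
    (∀ t, (c.ι.app j).hom (y t) = (c.ι.app j).hom (z t)) →
      ∃ (k : J) (f : j ⟶ k), ∀ t, (F.map f).hom (y t) = (F.map f).hom (z t)) ?_ ?_ ?_ T
  · intro α β e h y z hyz
    obtain ⟨k, f, hf⟩ := h (y ∘ e) (z ∘ e) (fun t => hyz (e t))
    exact ⟨k, f, fun t => by simpa using hf (e.symm t)⟩
  · intro y z _
    exact ⟨j, 𝟙 j, fun t => t.elim⟩
  · intro α _ h y z hyz
    obtain ⟨k, f, hf⟩ := h (fun t => y (some t)) (fun t => z (some t)) (fun t => hyz (some t))
    obtain ⟨k0, f0, hf0⟩ := exists_eq hc (y none) (z none) (hyz none)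
    obtain ⟨k', a, b, hab⟩ := IsFiltered.span f f0
    refine ⟨k', f ≫ a, ?_⟩
    rintro (_ | t)
    · rw [hab, F.map_comp]
      exact congrArg (F.map b).hom hf0
    · rw [F.map_comp]
      exact congrArg (F.map a).hom (hf t)

end Groth.Agent.Lib.Helper68.FiltRing
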