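import Mathlib
import Groth.Agent.Lib.Helper36.GM.Duality
import Groth.Agent.Lib.Helper12.DerivedAdjunction

/-!
# Frobenius base change and `RΓ_I`, part 1: formal tools (helper68)

* `nonempty_iso_of_terminal`: uniqueness of a terminal map from a torsion object;
* `exists_counit_terminal`: `RΓ_I K ⟶ K` is terminal among maps from torsion objects;
* `LBaseChange φ` is triangulated (left adjoint of the triangulated `restrictD φ`) and
  `φ`-semilinear: `(LBaseChange φ).map (a • 𝟙 X) = φ a • 𝟙 _`.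
-/

set_option autoImplicit false
universe u
open CategoryTheory CategoryTheory.Limits CategoryTheory.Pretriangulated DerivedCategory
attribute [local instance] HasDerivedCategory.standard

namespace Groth.Agent.Lib.Helper68.FrobRG

open Groth.Agent.Lib.Helper36.GM Groth.Agent.Lib.Helper6.RGammaAdj Groth.Agent.Lib.Helper12

variable {A : Type u} [CommRing A]

/-- uniqueness of a terminal map from a torsion object -/
lemma exists_iso_of_terminal (I : Ideal A) {T₁ T₂ K : Dual.D A} (h₁ : Tors I T₁) (h₂ : Tors I T₂)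
    (π₁ : T₁ ⟶ K) (π₂ : T₂ ⟶ K)
    (u₁ : ∀ S : Dual.D A, Tors I S → Function.Bijective (fun a : S ⟶ T₁ => a ≫ π₁))
    (u₂ : ∀ S : Dual.D A, Tors I S → Function.Bijective (fun a : S ⟶ T₂ => a ≫ π₂)) :
    ∃ e : T₁ ≅ T₂, e.hom ≫ π₂ = π₁ := by
  obtain ⟨f, hf⟩ := (u₂ T₁ h₁).2 π₁
  obtain ⟨g, hg⟩ := (u₁ T₂ h₂).2 π₂
  have hf' : f ≫ π₂ = π₁ := hf
  have hg' : g ≫ π₁ = π₂ := hg
  refine ⟨⟨f, g, ?_, ?_⟩, hf'⟩
  · apply (u₁ T₁ h₁).1
    show (f ≫ g) ≫ π₁ = 𝟙 _ ≫ π₁
    rw [Category.assoc, hg', hf', Category.id_comp]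
  · apply (u₂ T₂ h₂).1
    show (g ≫ f) ≫ π₂ = 𝟙 _ ≫ π₂
    rw [Category.assoc, hf', hg', Category.id_comp]

/-- the counit `RΓ_I K ⟶ K` is terminal among maps from torsion objects -/
theorem exists_counit_terminal [IsNoetherianRing A] (I : Ideal A) [DRing.HasRgammaI I]
    (K : Dual.D A) : ∃ ε : (DRing.RgammaI I).obj K ⟶ K, Tors I ((DRing.RgammaI I).obj K) ∧
      ∀ T : Dual.D A, Tors I T →
        Function.Bijective (fun b : T ⟶ (DRing.RgammaI I).obj K => b ≫ ε) := by
  obtain ⟨h, ⟨adj⟩⟩ : ∃ h : ∀ K : Dual.D A, Tors I ((DRing.RgammaI I).obj K),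
      Nonempty ((Tors I).ι ⊣ (Tors I).lift (DRing.RgammaI I) h) := exists_adj I
  let ε : (DRing.RgammaI I).obj K ⟶ K := adj.counit.app K
  refine ⟨ε, h K, ?_⟩
  intro T hT
  let X : (Tors I).FullSubcategory := ⟨T, hT⟩
  have : (fun b : T ⟶ (DRing.RgammaI I).obj K => b ≫ ε) =
      (adj.homEquiv X K).symm ∘
        (fun b : T ⟶ (DRing.RgammaI I).obj K =>
          (ObjectProperty.homMk b : X ⟶ (ObjectProperty.lift (Tors I) (DRing.RgammaI I) h).obj K)) := by
    funext b
    show _ = (adj.homEquiv X K).symm _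
    rw [Adjunction.homEquiv_symm_apply]
    rfl
  rw [this]
  refine (adj.homEquiv X K).symm.bijective.comp ⟨?_, ?_⟩
  · intro b b' hbb
    exact congrArg (fun φ => φ.hom) hbb
  · intro φ
    exact ⟨φ.hom, rfl⟩

section BaseChange

variable {B : Type u} [CommRing B] (φ : A →+* B)

lemma resSc_map_smul_id (a : A) (M : ModuleCat.{u} B) :
    (ModuleCat.restrictScalars.{u} φ).map (φ a • 𝟙 M) = a • 𝟙 _ := by
  refine ModuleCat.hom_ext (LinearMap.ext fun x => ?_)
  rfl

lemma restrictCx_map_smul_id (a : A) (P : DRing.Cx B) :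
    ((ModuleCat.restrictScalars.{u} φ).mapHomologicalComplex (ComplexShape.up ℤ)).map
      (φ a • 𝟙 P) = a • 𝟙 _ := by
  ext i : 1
  exact resSc_map_smul_id φ a (P.X i)

lemma restrictD_map_smul_id (a : A) (K : Dual.D B) :
    (DRing.restrictD φ).map (φ a • 𝟙 K) = a • 𝟙 ((DRing.restrictD φ).obj K) := by
  obtain ⟨P, ⟨e⟩⟩ : ∃ P : DRing.Cx B, Nonempty (DerivedCategory.Q.obj P ≅ K) :=
    ⟨_, ⟨DerivedCategory.Q.objObjPreimageIso K⟩⟩
  have h1 : φ a • 𝟙 K = e.inv ≫ DerivedCategory.Q.map (φ a • 𝟙 P) ≫ e.hom := by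
    rw [Functor.map_smul, CategoryTheory.Functor.map_id, Linear.smul_comp, Linear.comp_smul,
      Category.id_comp, Iso.inv_hom_id]
  have h2 : (DRing.restrictD φ).map (DerivedCategory.Q.map (φ a • 𝟙 P)) = a • 𝟙 _ := by
    have h := (ModuleCat.restrictScalars.{u} φ).mapDerivedCategoryFactors_hom_naturality
      (φ a • 𝟙 P)
    have hQ : DerivedCategory.Q.map (a •
        𝟙 (((ModuleCat.restrictScalars.{u} φ).mapHomologicalComplex (ComplexShape.up ℤ)).obj P)) =
        a • 𝟙 _ := by
      rw [Functor.map_smul, CategoryTheory.Functor.map_id]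
    rw [restrictCx_map_smul_id, hQ, Linear.comp_smul] at h
    erw [Category.comp_id] at h
    rw [← cancel_mono ((ModuleCat.restrictScalars.{u} φ).mapDerivedCategoryFactors.hom.app P), h,
      Linear.smul_comp, Category.id_comp]
  rw [h1, Functor.map_comp, Functor.map_comp, h2, Linear.smul_comp, Linear.comp_smul,
    Category.id_comp, ← Functor.map_comp, Iso.inv_hom_id, CategoryTheory.Functor.map_id]

variable [DRing.HasLBaseChange φ]

/-- the shift-commutation of derived base change induced by the adjunction -/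
@[instance_reducible]
noncomputable def lBaseChangeCommShift : (DRing.LBaseChange φ).CommShift ℤ :=
  (lBaseChangeAdj φ).leftAdjointCommShift ℤ

attribute [local instance] lBaseChangeCommShift

instance lBaseChangeAdj_commShift : (lBaseChangeAdj φ).CommShift ℤ :=
  Adjunction.commShift_of_rightAdjoint (lBaseChangeAdj φ) ℤ

/-- derived base change is a triangulated functor -/
theorem lBaseChange_isTriangulated : (DRing.LBaseChange φ).IsTriangulated :=
  (lBaseChangeAdj φ).isTriangulated_leftAdjoint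

/-- derived base change is `φ`-semilinear on scalar endomorphisms -/
theorem lBaseChange_map_smul_id (a : A) (X : Dual.D A) :
    (DRing.LBaseChange φ).map (a • 𝟙 X) = φ a • 𝟙 ((DRing.LBaseChange φ).obj X) := by
  apply ((lBaseChangeAdj φ).homEquiv X _).injective
  rw [Adjunction.homEquiv_unit, Adjunction.homEquiv_unit, restrictD_map_smul_id,
    Linear.comp_smul]
  erw [Category.comp_id]
  have := (lBaseChangeAdj φ).unit.naturality (a • 𝟙 X)
  simp only [Functor.id_obj, Functor.id_map, Functor.comp_obj, Functor.comp_map] at this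
  rw [← this, Linear.smul_comp, Category.id_comp]

end BaseChange

end Groth.Agent.Lib.Helper68.FrobRG
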