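import Mathlib
import Groth.Agent.Lib.Helper68.FrobRG1
import Groth.Agent.Lib.Helper36.CechCompletion
import Groth.Agent.S9265

/-!
# Frobenius base change and `RΓ_I`, part 2: the extended Čech tower (helper68)

For a list `gs` of elements of `I`, the projection `Č(gs; M) ⟶ M[0]` from the extended alternating
Čech complex is a tower of maps whose cones are localisations `(-)_g`, `g ∈ I`.  Hence, after any
triangulated functor `Ψ` sending objects on which some `g ∈ I` acts invertibly to objects right
orthogonal to `I`-torsion objects, the map `Ψ Č(gs; M) ⟶ Ψ M[0]` induces bijections on maps from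
`I`-torsion objects.  If `I = (gs)`, `Č(gs; M)` is itself `I`-torsion.
-/

set_option autoImplicit false
universe u
open CategoryTheory CategoryTheory.Limits CategoryTheory.Pretriangulated DerivedCategory
attribute [local instance] HasDerivedCategory.standard

namespace Groth.Agent.Lib.Helper68.FrobRG

open Groth.Agent.Lib.Helper36.GM Groth.Agent.Lib.Helper6.RGammaAdj Groth.Agent.Lib.Helper12
  Groth.Agent.Lib.Helper6.PowTorsHB

variable {A : Type u} [CommRing A]

/-- the projection `Č(gs; M) ⟶ M[0]` -/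
noncomputable def cechπ (M : ModuleCat.{u} A) : (gs : List A) →
    (DerCA.extCech M gs ⟶ (HomologicalComplex.single (ModuleCat.{u} A) (ComplexShape.up ℤ) 0).obj M)
  | [] => 𝟙 _
  | g :: gs => CochainComplex.mappingCocone.fst
      (DerCA.locCxUnit (Submonoid.powers g) (DerCA.extCech M gs)) ≫ cechπ M gs

lemma isIso_smul_Q_locCx (g : A) (X : DRing.Cx A) :
    IsIso (g • 𝟙 (Q.obj ((DerCA.locCx (Submonoid.powers g)).obj X) : Dual.D A)) := by
  have h1 := Groth.Agent.Lib.Helper36.CeC.isIso_smul_locCx g X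
  have h3 : g • 𝟙 (Q.obj ((DerCA.locCx (Submonoid.powers g)).obj X) : Dual.D A) =
      Q.map (g • 𝟙 ((DerCA.locCx (Submonoid.powers g)).obj X)) := by
    rw [Functor.map_smul, CategoryTheory.Functor.map_id]
  rw [h3]
  infer_instance

theorem bijective_postcomp_cechπ (I : Ideal A)
    (Ψ : Dual.D A ⥤ Dual.D A) [Ψ.CommShift ℤ] [Ψ.IsTriangulated]
    (hΨ : ∀ (Y : Dual.D A) (g : A), g ∈ I → IsIso (g • 𝟙 Y) → RightOrth (Tors I) (Ψ.obj Y))
    (M : ModuleCat.{u} A) : ∀ (gs : List A), (∀ g ∈ gs, g ∈ I) →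
    ∀ S : Dual.D A, Tors I S → Function.Bijective
      (fun a : S ⟶ Ψ.obj (Q.obj (DerCA.extCech M gs)) => a ≫ Ψ.map (Q.map (cechπ M gs)))
  | [], _, S, _ => by
    have : (fun a : S ⟶ Ψ.obj (Q.obj (DerCA.extCech M [])) =>
        a ≫ Ψ.map (Q.map (cechπ M []))) = id := by
      funext a
      show a ≫ Ψ.map (Q.map (𝟙 _)) = a
      rw [CategoryTheory.Functor.map_id, CategoryTheory.Functor.map_id, Category.comp_id]
    rw [this]
    exact Function.bijective_id
  | g :: gs, hgs, S, hS => by
    have ih := bijective_postcomp_cechπ I Ψ hΨ M gs (fun x hx => hgs x (List.mem_cons_of_mem g hx)) S hS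
    let u := DerCA.locCxUnit (Submonoid.powers g) (DerCA.extCech M gs)
    have hT0 := DerivedCategory.mappingCocone_triangle_distinguished u
    have hT1 := Ψ.map_distinguished _ hT0
    have hZ : RightOrth (Tors I)
        (Ψ.obj (Q.obj ((DerCA.locCx (Submonoid.powers g)).obj (DerCA.extCech M gs)))) :=
      hΨ _ g (hgs g List.mem_cons_self) (isIso_smul_Q_locCx g _)
    have hb := bijective_postcomp_of_rightOrth (shiftStable_tors I)
      (Ψ.map (Q.map (CochainComplex.mappingCocone.fst u))) (Ψ.map (Q.map u))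
      (Ψ.mapTriangle.obj (Q.mapTriangle.obj (CochainComplex.mappingCocone.triangle u))).mor₃
      hT1 hZ S hS
    have : (fun a : S ⟶ Ψ.obj (Q.obj (DerCA.extCech M (g :: gs))) =>
        a ≫ Ψ.map (Q.map (cechπ M (g :: gs)))) =
        (fun b : S ⟶ Ψ.obj (Q.obj (DerCA.extCech M gs)) => b ≫ Ψ.map (Q.map (cechπ M gs))) ∘
          (fun a : S ⟶ Ψ.obj (Q.obj (CochainComplex.mappingCocone u)) =>
            a ≫ Ψ.map (Q.map (CochainComplex.mappingCocone.fst u))) := by
      funext a
      have h1 : Ψ.map (Q.map (CochainComplex.mappingCocone.fst u ≫ cechπ M gs)) =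
          Ψ.map (Q.map (CochainComplex.mappingCocone.fst u)) ≫ Ψ.map (Q.map (cechπ M gs)) :=
        (congrArg Ψ.map (Q.map_comp _ _)).trans (Ψ.map_comp _ _)
      exact (congrArg (fun z => a ≫ z) h1).trans (Category.assoc _ _ _).symm
    rw [this]
    exact ih.comp hb

end Groth.Agent.Lib.Helper68.FrobRG
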