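import Mathlib
import Groth.Agent.Lib.Helper68.FrobRG2
import Groth.Agent.Lib.Helper58.Cech3
import Groth.Agent.Lib.Helper36.LeftDerivedFlat
import Groth.Agent.Lib.Helper8.FlatCx5

/-!
# Frobenius base change and `RΓ_I`, part 3 (helper68)

* `tors_extCech`: `Č(gs; M)` has `(gs)`-power torsion cohomology;
* `tors_of_leftOrth_local`: an object with no nonzero maps to objects on which some `g ∈ gs` acts
  invertibly has `(gs)`-power torsion cohomology;
* `tors_lBaseChange`: derived base change along an endomorphism `φ` with `φ g = g ^ n` on `I`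
  preserves `I`-torsion objects;
* `nonempty_lBaseChange_RgammaI_iso`: `LBaseChange φ (RΓ_I A) ≅ RΓ_I A` for such `φ`.
-/

set_option autoImplicit false
universe u
open CategoryTheory CategoryTheory.Limits CategoryTheory.Pretriangulated DerivedCategory
attribute [local instance] HasDerivedCategory.standard

namespace Groth.Agent.Lib.Helper68.FrobRG

open Groth.Agent.Lib.Helper36.GM Groth.Agent.Lib.Helper6.RGammaAdj Groth.Agent.Lib.Helper12
  Groth.Agent.Lib.Helper6.PowTorsHB

variable {A : Type u} [CommRing A]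

lemma isPowerTorsion_of_forall_mem (gs : List A) (N : Type u) [AddCommGroup N] [Module A N]
    (h : ∀ x : N, ∀ f ∈ gs, ∃ n : ℕ, f ^ n • x = 0) :
    LocCoh.IsPowerTorsion (Ideal.span {x | x ∈ gs}) N := by
  intro x
  have hle : Ideal.span {a : A | a ∈ gs} ≤ (Ideal.torsionOf A N x).radical := by
    rw [Ideal.span_le]
    intro f hf
    obtain ⟨n, hn⟩ := h x f hf
    exact ⟨n, (Ideal.mem_torsionOf_iff _ _).2 hn⟩
  have hfg : (Ideal.span {a : A | a ∈ gs}).FG := by
    classical
    exact ⟨gs.toFinset, by congr 1; ext a; simp⟩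
  obtain ⟨k, hk⟩ := Ideal.exists_pow_le_of_le_radical_of_fg hle hfg
  exact ⟨k, fun a ha => (Ideal.mem_torsionOf_iff _ _).1 (hk ha)⟩

/-- the cohomology of `Q.obj X` is the homology of `X` -/
noncomputable def HDQIso (X : DRing.Cx A) (i : ℤ) :
    (DerivedCategory.homologyFunctor (ModuleCat.{u} A) i).obj (Q.obj X) ≅ X.homology i :=
  (DerivedCategory.homologyFunctorFactors (ModuleCat.{u} A) i).app X

lemma tors_Q_of_homology (I : Ideal A) (X : DRing.Cx A)
    (h : ∀ i : ℤ, LocCoh.IsPowerTorsion I (X.homology i)) : Tors I (Q.obj X : Dual.D A) :=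
  fun i => isPowerTorsion_of_iso I (HDQIso X i).symm (h i)

lemma tors_of_iso (I : Ideal A) {Z Z' : Dual.D A} (e : Z ≅ Z') (h : Tors I Z) : Tors I Z' :=
  fun i => isPowerTorsion_of_iso I
    ((DerivedCategory.homologyFunctor (ModuleCat.{u} A) i).mapIso e) (h i)

/-- `Č(gs; M)` has `(gs)`-power torsion cohomology -/
theorem tors_extCech (M : ModuleCat.{u} A) (gs : List A) :
    Tors (Ideal.span {x | x ∈ gs}) (Q.obj (DerCA.extCech M gs) : Dual.D A) := by
  apply tors_Q_of_homology
  intro i
  apply isPowerTorsion_of_forall_mem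
  intro x f hf
  obtain ⟨n, -, hn⟩ := Groth.Agent.S9265.result A gs M i x
  exact ⟨n, hn f hf⟩

/-- an object with no nonzero maps to objects on which some `g ∈ gs` acts invertibly has
`(gs)`-power torsion cohomology -/
theorem tors_of_leftOrth_local (gs : List A) (Z : Dual.D A)
    (h : ∀ (W : Dual.D A) (g : A), g ∈ gs → IsIso (g • 𝟙 W) → ∀ c : Z ⟶ W, c = 0) :
    Tors (Ideal.span {x | x ∈ gs}) Z := by
  let X := Q.objPreimage Z
  let e : Q.obj X ≅ Z := Q.objObjPreimageIso Z
  refine tors_of_iso _ e (tors_Q_of_homology _ X fun i => ?_)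
  apply isPowerTorsion_of_forall_mem
  intro x g hg
  have h0 : Q.map (DerCA.locCxUnit (Submonoid.powers g) X) = 0 := by
    have := h _ g hg (isIso_smul_Q_locCx g X) (e.inv ≫ Q.map (DerCA.locCxUnit (Submonoid.powers g) X))
    rw [← cancel_epi e.inv, this, comp_zero]
  have h1 : HomologicalComplex.homologyMap (DerCA.locCxUnit (Submonoid.powers g) X) i = 0 := by
    have hn := (DerivedCategory.homologyFunctorFactors (ModuleCat.{u} A) i).hom.naturality
      (DerCA.locCxUnit (Submonoid.powers g) X)
    simp only [Functor.comp_map, h0, Functor.map_zero, zero_comp] at hn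
    have hn' : (HDQIso X i).hom ≫
        HomologicalComplex.homologyMap (DerCA.locCxUnit (Submonoid.powers g) X) i = 0 := hn.symm
    rw [← cancel_epi (HDQIso X i).hom, hn', comp_zero]
  have h2 : (HomologicalComplex.homologyMap (DerCA.locCxUnit (Submonoid.powers g) X) i).hom x = 0 := by
    rw [h1]
    rfl
  exact (Groth.Agent.Lib.Helper58.Cech.loc_eq_zero_iff g X i x).1 h2

end Groth.Agent.Lib.Helper68.FrobRG
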