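import Mathlib
import Groth.Agent.Lib.Helper68.FrobRG3

/-!
# Frobenius base change and `RΓ_I`, part 4: the main theorem (helper68)
-/

set_option autoImplicit false
universe u
open CategoryTheory CategoryTheory.Limits CategoryTheory.Pretriangulated DerivedCategory
attribute [local instance] HasDerivedCategory.standard

namespace Groth.Agent.Lib.Helper68.FrobRG

open Groth.Agent.Lib.Helper36.GM Groth.Agent.Lib.Helper6.RGammaAdj Groth.Agent.Lib.Helper12
  Groth.Agent.Lib.Helper6.PowTorsHB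

variable {A : Type u} [CommRing A]

lemma isIso_pow_smul {W : Dual.D A} (g : A) (h : IsIso (g • 𝟙 W)) (n : ℕ) :
    IsIso (g ^ n • 𝟙 W) := by
  induction n with
  | zero =>
    rw [pow_zero, one_smul]
    infer_instance
  | succ n ih =>
    have : g ^ (n + 1) • 𝟙 W = (g ^ n • 𝟙 W) ≫ (g • 𝟙 W) := by
      rw [Linear.smul_comp, Linear.comp_smul, Category.id_comp, smul_smul, pow_succ]
    rw [this]
    infer_instance

/-- `LBaseChange φ (A[0]) ≅ B[0]` -/
theorem nonempty_lBaseChange_single_iso {B : Type u} [CommRing B] (φ : A →+* B)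
    [DRing.HasLBaseChange φ] :
    Nonempty ((DRing.LBaseChange φ).obj (Q.obj ((HomologicalComplex.single (ModuleCat.{u} A)
        (ComplexShape.up ℤ) 0).obj (ModuleCat.of A A))) ≅
      (Q.obj ((HomologicalComplex.single (ModuleCat.{u} B) (ComplexShape.up ℤ) 0).obj
        (ModuleCat.of B B)) : Dual.D B)) := by
  let E : DRing.Cx A := (HomologicalComplex.single (ModuleCat.{u} A) (ComplexShape.up ℤ) 0).obj
    (ModuleCat.of A A)
  have hb : DRing.VanishesAbove E 0 := fun i hi =>
    HomologicalComplex.isZero_single_obj_X (ComplexShape.up ℤ) 0 (ModuleCat.of A A) i (by omega)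
  have hfl : ∀ i, Module.Flat A (E.X i) := by
    intro i
    by_cases hi : i = 0
    · subst hi
      exact Module.Flat.of_linearEquiv
        (HomologicalComplex.singleObjXSelf (ComplexShape.up ℤ) (0 : ℤ) (ModuleCat.of A A)).toLinearEquiv
    · have hz : IsZero (E.X i) :=
        HomologicalComplex.isZero_single_obj_X (ComplexShape.up ℤ) 0 (ModuleCat.of A A) i hi
      haveI : Subsingleton (E.X i) := ModuleCat.subsingleton_of_isZero hz
      infer_instance
  obtain ⟨e1⟩ := Groth.Agent.Lib.Helper36.LT.nonempty_lBaseChangeObjIso_of_flat φ E 0 hb hfl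
  let e2 := (HomologicalComplex.singleMapHomologicalComplex (ModuleCat.extendScalars.{u, u, u} φ)
    (ComplexShape.up ℤ) 0).app (ModuleCat.of A A)
  let e3 : (ModuleCat.extendScalars.{u, u, u} φ).obj (ModuleCat.of A A) ≅ ModuleCat.of B B :=
    letI := φ.toAlgebra
    ((Groth.Agent.Lib.Helper8.FlatCx.extendScalarsEquivAux φ (ModuleCat.of A A)).trans
      (TensorProduct.AlgebraTensorModule.rid A B B)).toModuleIso
  exact ⟨e1 ≪≫ Q.mapIso (e2 ≪≫
    (HomologicalComplex.single (ModuleCat.{u} B) (ComplexShape.up ℤ) 0).mapIso e3)⟩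

section Endo

variable [IsNoetherianRing A] (I : Ideal A) [DRing.HasRgammaI I]
  (φ : A →+* A) [DRing.HasLBaseChange φ]

omit [DRing.HasLBaseChange φ] in
theorem rightOrth_restrictD (hφ : ∀ g ∈ I, ∃ n : ℕ, φ g = g ^ n) (W : Dual.D A) (g : A)
    (hg : g ∈ I) (hW : IsIso (g • 𝟙 W)) : RightOrth (Tors I) ((DRing.restrictD φ).obj W) := by
  obtain ⟨n, hn⟩ := hφ g hg
  apply rightOrth_of_isIso_smul I g hg
  rw [← restrictD_map_smul_id φ g W, hn]
  haveI := isIso_pow_smul g hW n
  infer_instance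

theorem rightOrth_lBaseChange (hφ : ∀ g ∈ I, ∃ n : ℕ, 1 ≤ n ∧ φ g = g ^ n) (Y : Dual.D A) (g : A)
    (hg : g ∈ I) (hY : IsIso (g • 𝟙 Y)) : RightOrth (Tors I) ((DRing.LBaseChange φ).obj Y) := by
  obtain ⟨n, hn1, hn⟩ := hφ g hg
  apply rightOrth_of_isIso_smul I (g ^ n) (Ideal.pow_mem_of_mem I hg n (by omega))
  rw [← hn, ← lBaseChange_map_smul_id φ g Y]
  infer_instance


/-- derived base change along `φ` (with `φ g = g ^ n` on `I = (gs)`) preserves torsion objects -/
theorem tors_lBaseChange (gs : List A) (hI : Ideal.span {x | x ∈ gs} = I)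
    (hφ : ∀ g ∈ I, ∃ n : ℕ, φ g = g ^ n) (T : Dual.D A) (hT : Tors I T) :
    Tors I ((DRing.LBaseChange φ).obj T) := by
  rw [← hI]
  apply tors_of_leftOrth_local
  intro W g hg hW c
  have hgI : g ∈ I := by
    rw [← hI]
    exact Ideal.subset_span hg
  have hr := rightOrth_restrictD I φ hφ W g hgI hW
  have h0 : (lBaseChangeAdj φ).homEquiv T W c = 0 := hr T hT _
  apply ((lBaseChangeAdj φ).homEquiv T W).injective
  rw [h0, Adjunction.homEquiv_unit, Functor.map_zero, comp_zero]

attribute [local instance] lBaseChangeCommShift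

/-- **Main theorem**: `LBaseChange φ (RΓ_I A) ≅ RΓ_I A` when `φ g` is a positive power of `g` for
every `g ∈ I` (e.g. `φ` the Frobenius). -/
theorem nonempty_lBaseChange_RgammaI_iso (hφ : ∀ g ∈ I, ∃ n : ℕ, 1 ≤ n ∧ φ g = g ^ n) :
    Nonempty ((DRing.LBaseChange φ).obj ((DRing.RgammaI I).obj (Dual.inD A A)) ≅
      (DRing.RgammaI I).obj (Dual.inD A A)) := by
  classical
  obtain ⟨s, hs⟩ : I.FG := IsNoetherian.noetherian I
  let gs := s.toList
  have hI : Ideal.span {x | x ∈ gs} = I := by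
    rw [← hs]
    congr 1
    ext x
    simp [gs]
  have hgs : ∀ g ∈ gs, g ∈ I := fun g hg => by
    rw [← hI]
    exact Ideal.subset_span hg
  let M : ModuleCat.{u} A := ModuleCat.of A A
  let K0 : Dual.D A := Q.obj ((HomologicalComplex.single (ModuleCat.{u} A) (ComplexShape.up ℤ) 0).obj M)
  let k : Dual.inD A A ≅ K0 := (DerivedCategory.singleFunctorIsoCompQ (ModuleCat.{u} A) 0).app M
  let T : Dual.D A := Q.obj (DerCA.extCech M gs)
  let π : T ⟶ K0 := Q.map (cechπ M gs)
  have hT : Tors I T := by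
    rw [← hI]
    exact tors_extCech M gs
  have uT : ∀ S : Dual.D A, Tors I S → Function.Bijective (fun a : S ⟶ T => a ≫ π) := by
    intro S hS
    exact bijective_postcomp_cechπ I (𝟭 (Dual.D A))
      (fun Y g hg hY => rightOrth_of_isIso_smul I g hg Y hY) M gs hgs S hS
  obtain ⟨ε, hR, uR⟩ := exists_counit_terminal I K0
  obtain ⟨e1, -⟩ := exists_iso_of_terminal I hT hR π ε uT uR
  have hφ' : ∀ g ∈ I, ∃ n : ℕ, φ g = g ^ n := fun g hg => by
    obtain ⟨n, -, hn⟩ := hφ g hg
    exact ⟨n, hn⟩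
  have hΦT : Tors I ((DRing.LBaseChange φ).obj T) := tors_lBaseChange I φ gs hI hφ' T hT
  haveI := lBaseChange_isTriangulated φ
  have uΦ : ∀ S : Dual.D A, Tors I S → Function.Bijective
      (fun a : S ⟶ (DRing.LBaseChange φ).obj T => a ≫ (DRing.LBaseChange φ).map π) := by
    intro S hS
    exact bijective_postcomp_cechπ I (DRing.LBaseChange φ)
      (fun Y g hg hY => rightOrth_lBaseChange I φ hφ Y g hg hY) M gs hgs S hS
  obtain ⟨h⟩ := nonempty_lBaseChange_single_iso φ
  have uΦ' : ∀ S : Dual.D A, Tors I S → Function.Bijective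
      (fun a : S ⟶ (DRing.LBaseChange φ).obj T => a ≫ ((DRing.LBaseChange φ).map π ≫ h.hom)) := by
    intro S hS
    have : (fun a : S ⟶ (DRing.LBaseChange φ).obj T => a ≫ ((DRing.LBaseChange φ).map π ≫ h.hom)) =
        (fun b : S ⟶ (DRing.LBaseChange φ).obj K0 => b ≫ h.hom) ∘
          (fun a : S ⟶ (DRing.LBaseChange φ).obj T => a ≫ (DRing.LBaseChange φ).map π) := by
      funext a
      exact (Category.assoc _ _ _).symm
    rw [this]
    refine Function.Bijective.comp ⟨?_, ?_⟩ (uΦ S hS)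
    · intro a b hab
      exact (cancel_mono h.hom).1 hab
    · intro c
      exact ⟨c ≫ h.inv, by
        show (c ≫ h.inv) ≫ h.hom = c
        rw [Category.assoc, Iso.inv_hom_id, Category.comp_id]⟩
  obtain ⟨e2, -⟩ := exists_iso_of_terminal I hΦT hT ((DRing.LBaseChange φ).map π ≫ h.hom) π uΦ' uT
  exact ⟨(DRing.LBaseChange φ).mapIso ((DRing.RgammaI I).mapIso k) ≪≫
    (DRing.LBaseChange φ).mapIso e1.symm ≪≫ e2 ≪≫ e1 ≪≫ (DRing.RgammaI I).mapIso k.symm⟩

end Endo

end Groth.Agent.Lib.Helper68.FrobRG
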