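import Mathlib.CategoryTheory.Sites.PrecoverageToGrothendieck
import Mathlib.CategoryTheory.Sites.Coverage
import Mathlib.CategoryTheory.Sites.SheafOfTypes

/-!
# The topology generated by two precoverages `P ⊔ P'` (SGA3 IV 6.2.1)

`P` is stable under base change and composition, `P'` lives on a class `C'` of objects and is
stable under base change along morphisms of `C'`; every object has a `P`-cover by objects of `C'`,
and `P' ∘ P ∘ P'` families over objects of `C'` are refined by `P'`-families.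
Then covering sieves of the generated topology are those containing a composite `P ∘ P'` family
(`Good`), and sheaves are the presheaves which are sheaves for `P`- and `P'`-families.
-/

open CategoryTheory Limits Opposite

namespace Groth.Agent.Lib.Helper68.GenTop

universe w v₁ u₁

variable {C : Type u₁} [Category.{v₁} C]

/-- `P`-composition in presieve form. -/
lemma bind_mem (P : Precoverage C) [P.IsStableUnderComposition] {X : C} {R : Presieve X}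
    (hR : R ∈ P X) (Q : ∀ ⦃Y : C⦄ ⦃f : Y ⟶ X⦄, R f → Presieve Y)
    (hQ : ∀ ⦃Y : C⦄ ⦃f : Y ⟶ X⦄ (hf : R f), Q hf ∈ P Y) : R.bind Q ∈ P X := by
  let ι := { x : Σ Z, (Z ⟶ X) // R x.2 }
  let σ (i : ι) := { y : Σ W, (W ⟶ i.1.1) // Q i.2 y.2 }
  have h1 : R = Presieve.ofArrows (fun i : ι => i.1.1) (fun i => i.1.2) :=
    le_antisymm (fun Z g hg ↦ .mk (⟨⟨_, _⟩, hg⟩ : ι)) fun Z g ⟨x⟩ ↦ x.2
  have h2 : ∀ i : ι, Q i.2 = Presieve.ofArrows (fun j : σ i => j.1.1) (fun j => j.1.2) := fun i =>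
    le_antisymm (fun Z g hg ↦ .mk (⟨⟨_, _⟩, hg⟩ : σ i)) fun Z g ⟨x⟩ ↦ x.2
  have h3 := P.comp_mem_coverings (fun i : ι => i.1.2) (h1 ▸ hR) (fun i (j : σ i) => j.1.2)
    (fun i => h2 i ▸ hQ i.2)
  convert h3 using 1
  refine le_antisymm ?_ ?_
  · rintro Z h ⟨Y, g, f, hf, hg, rfl⟩
    exact .mk (⟨⟨⟨_, f⟩, hf⟩, ⟨⟨_, g⟩, hg⟩⟩ : Σ i : ι, σ i)
  · rintro Z h ⟨p⟩
    exact ⟨_, _, _, p.1.2, p.2.2, rfl⟩

/-- The hypotheses of SGA3 IV 6.2.1. -/
structure Hyp (C' : C → Prop) (P P' : Precoverage C) : Prop where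
  hP'C : ∀ ⦃X : C⦄ ⦃R : Presieve X⦄, R ∈ P' X → C' X ∧ ∀ ⦃Y : C⦄ ⦃f : Y ⟶ X⦄, R f → C' Y
  hP'id : ∀ ⦃X : C⦄, C' X → Presieve.singleton (𝟙 X) ∈ P' X
  ha : ∀ ⦃X : C⦄ ⦃R : Presieve X⦄, R ∈ P' X → ∀ ⦃T : C⦄ (g : T ⟶ X), C' T →
      ∃ _ : R.HasPullbacks g, Presieve.pullbackArrows g R ∈ P' T
  hb : ∀ X : C, ∃ R ∈ P X, ∀ ⦃Y : C⦄ ⦃f : Y ⟶ X⦄, R f → C' Y
  hc : ∀ ⦃S : C⦄ ⦃R₁ : Presieve S⦄, R₁ ∈ P' S →
      ∀ (R₂ : ∀ ⦃Y : C⦄ ⦃f : Y ⟶ S⦄, R₁ f → Presieve Y),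
        (∀ ⦃Y : C⦄ ⦃f : Y ⟶ S⦄ (hf : R₁ f), R₂ hf ∈ P Y ∧ ∀ ⦃Z : C⦄ ⦃g : Z ⟶ Y⦄, R₂ hf g → C' Z) →
      ∀ (R₃ : ∀ ⦃Y : C⦄ ⦃f : Y ⟶ S⦄ (hf : R₁ f) ⦃Z : C⦄ ⦃g : Z ⟶ Y⦄, R₂ hf g → Presieve Z),
        (∀ ⦃Y : C⦄ ⦃f : Y ⟶ S⦄ (hf : R₁ f) ⦃Z : C⦄ ⦃g : Z ⟶ Y⦄ (hg : R₂ hf g), R₃ hf hg ∈ P' Z) →
      ∃ T ∈ P' S, ∀ ⦃W : C⦄ ⦃q : W ⟶ S⦄, T q →
        ∃ (Y Z V : C) (f : Y ⟶ S) (hf : R₁ f) (g : Z ⟶ Y) (hg : R₂ hf g) (h : V ⟶ Z) (_ : R₃ hf hg h)
          (r : W ⟶ V), r ≫ h ≫ g ≫ f = q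

/-- A sieve is good when it contains a composite `P ∘ P'` family with middle objects in `C'`. -/
def Good (C' : C → Prop) (P P' : Precoverage C) (X : C) (S : Sieve X) : Prop :=
  ∃ R ∈ P X, ∀ ⦃Y : C⦄ ⦃f : Y ⟶ X⦄, R f →
    C' Y ∧ ∃ R' ∈ P' Y, ∀ ⦃Z : C⦄ ⦃g : Z ⟶ Y⦄, R' g → S (g ≫ f)

variable {C' : C → Prop} {P P' : Precoverage C}

lemma Good.mono {X : C} {S T : Sieve X} (h : Good C' P P' X S) (hST : S ≤ T) :
    Good C' P P' X T := by
  obtain ⟨R, hR, hh⟩ := h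
  refine ⟨R, hR, fun Y f hf => ⟨(hh hf).1, ?_⟩⟩
  obtain ⟨R', hR', h'⟩ := (hh hf).2
  exact ⟨R', hR', fun Z g hg => hST _ (h' hg)⟩

variable [P.IsStableUnderComposition]

/-- Refine a `P`-cover by one with sources in `C'`. -/
lemma exists_refine (H : Hyp C' P P') {X : C} {R : Presieve X} (hR : R ∈ P X) :
    ∃ R₂ ∈ P X, ∀ ⦃Z : C⦄ ⦃q : Z ⟶ X⦄, R₂ q →
      C' Z ∧ ∃ (Y : C) (f : Y ⟶ X) (g : Z ⟶ Y), R f ∧ g ≫ f = q := by
  choose Q hQ hQC using H.hb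
  refine ⟨R.bind (fun Y _ _ => Q Y), bind_mem P hR _ (fun Y _ _ => hQ Y), ?_⟩
  rintro Z q ⟨Y, g, f, hf, hg, rfl⟩
  exact ⟨hQC Y hg, Y, f, g, hf, rfl⟩

omit [P.IsStableUnderComposition] in
lemma good_top (H : Hyp C' P P') (X : C) : Good C' P P' X ⊤ := by
  obtain ⟨R, hR, hC⟩ := H.hb X
  exact ⟨R, hR, fun Y f hf => ⟨hC hf, _, H.hP'id (hC hf), fun _ _ _ => trivial⟩⟩

lemma good_of_P (H : Hyp C' P P') {X : C} {R : Presieve X} (hR : R ∈ P X) :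
    Good C' P P' X (Sieve.generate R) := by
  obtain ⟨R₂, hR₂, h⟩ := exists_refine H hR
  refine ⟨R₂, hR₂, fun Z q hq => ⟨(h hq).1, _, H.hP'id (h hq).1, ?_⟩⟩
  rintro W g ⟨⟩
  obtain ⟨Y, f, g', hf, rfl⟩ := (h hq).2
  exact ⟨_, 𝟙 _ ≫ g', f, hf, by simp⟩

omit [P.IsStableUnderComposition] in
lemma good_of_P' (H : Hyp C' P P') {X : C} {R : Presieve X} (hR : R ∈ P' X) :
    Good C' P P' X (Sieve.generate R) := by
  obtain ⟨R₁, hR₁, hC⟩ := H.hb X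
  refine ⟨R₁, hR₁, fun Y f hf => ⟨hC hf, ?_⟩⟩
  obtain ⟨hpb, hmem⟩ := H.ha hR f (hC hf)
  refine ⟨_, hmem, ?_⟩
  rintro Z g ⟨W, h, hh⟩
  have := R.hasPullback f hh
  exact ⟨_, pullback.fst h f, h, hh, pullback.condition⟩

variable [P.HasPullbacks] [P.IsStableUnderBaseChange]

lemma Good.pullback (H : Hyp C' P P') {X : C} {S : Sieve X} (hS : Good C' P P' X S)
    {Y : C} (f : Y ⟶ X) : Good C' P P' Y (S.pullback f) := by
  obtain ⟨R, hR, h⟩ := hS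
  have := P.hasPullbacks_of_mem f hR
  obtain ⟨R₂, hR₂, h₂⟩ := exists_refine H (P.pullbackArrows_mem f hR)
  refine ⟨R₂, hR₂, fun Z q hq => ⟨(h₂ hq).1, ?_⟩⟩
  obtain ⟨Y', a, t, ha, rfl⟩ := (h₂ hq).2
  obtain ⟨W, h', hh'⟩ := ha
  have := R.hasPullback f hh'
  obtain ⟨hCW, R', hR', hR'S⟩ := h hh'
  obtain ⟨hpb, hmem⟩ := H.ha hR' (t ≫ pullback.fst h' f) (h₂ hq).1
  refine ⟨_, hmem, ?_⟩
  rintro V g ⟨U, k, hk⟩
  have := R'.hasPullback (t ≫ pullback.fst h' f) hk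
  change S ((pullback.snd k (t ≫ pullback.fst h' f) ≫ t ≫ pullback.snd h' f) ≫ f)
  have e : (pullback.snd k (t ≫ pullback.fst h' f) ≫ t ≫ pullback.snd h' f) ≫ f =
      pullback.fst k (t ≫ pullback.fst h' f) ≫ k ≫ h' := by
    simp only [Category.assoc, ← pullback.condition]
    rw [← Category.assoc t, ← pullback.condition_assoc]
  rw [e]
  exact S.downward_closed (hR'S hk) _

omit [P.IsStableUnderComposition] [P.HasPullbacks] [P.IsStableUnderBaseChange] in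
lemma Good.transitive (H : Hyp C' P P') {X : C} {S T : Sieve X} (hS : Good C' P P' X S)
    (hT : ∀ ⦃Y : C⦄ ⦃f : Y ⟶ X⦄, S f → Good C' P P' Y (T.pullback f)) :
    Good C' P P' X T := by
  obtain ⟨R, hR, h⟩ := hS
  refine ⟨R, hR, fun Y f hf => ⟨(h hf).1, ?_⟩⟩
  obtain ⟨R', hR', hR'S⟩ := (h hf).2
  choose R₂ hR₂ h₂ using fun ⦃Z : C⦄ ⦃g : Z ⟶ Y⦄ (hg : R' g) => hT (hR'S hg)
  choose hC R₃ hR₃ h₃ using h₂
  obtain ⟨T', hT', hfac⟩ := H.hc hR' (fun _ _ hg => R₂ hg)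
    (fun Z g hg => ⟨hR₂ hg, fun W k hk => hC hg hk⟩)
    (fun _ _ hg _ _ hk => R₃ hg hk) (fun Z g hg W k hk => hR₃ hg hk)
  refine ⟨T', hT', fun W q hq => ?_⟩
  obtain ⟨Y₁, Z₁, V, g, hg, k, hk, l, hl, r, rfl⟩ := hfac hq
  have := T.downward_closed (h₃ hg hk hl) r
  simpa using this

theorem good_of_mem (H : Hyp C' P P') {X : C} {S : Sieve X}
    (hS : S ∈ (P ⊔ P').toGrothendieck X) : Good C' P P' X S := by
  induction hS with
  | of X R hR =>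
    rcases hR with hR | hR
    · exact good_of_P H hR
    · exact good_of_P' H hR
  | top X => exact good_top H X
  | pullback X S _ Y f ih => exact ih.pullback H f
  | transitive X S R _ _ ih1 ih2 => exact ih1.transitive H ih2

omit [P.IsStableUnderComposition] [P.HasPullbacks] [P.IsStableUnderBaseChange] in
theorem mem_of_good {X : C} {S : Sieve X} (hS : Good C' P P' X S) :
    S ∈ (P ⊔ P').toGrothendieck X := by
  obtain ⟨R, hR, h⟩ := hS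
  refine (P ⊔ P').toGrothendieck.transitive
    (Precoverage.generate_mem_toGrothendieck (Or.inl hR)) S ?_
  rintro Y f ⟨Z, a, b, hb, rfl⟩
  rw [Sieve.pullback_comp]
  apply GrothendieckTopology.pullback_stable
  obtain ⟨_, R', hR', hR'S⟩ := h hb
  refine GrothendieckTopology.superset_covering _ ?_
    (Precoverage.generate_mem_toGrothendieck (Or.inr hR'))
  rw [Sieve.generate_le_iff]
  intro W g hg
  exact hR'S hg

theorem mem_iff_good (H : Hyp C' P P') {X : C} {S : Sieve X} :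
    S ∈ (P ⊔ P').toGrothendieck X ↔ Good C' P P' X S :=
  ⟨good_of_mem H, mem_of_good⟩

/-! ### Sheaves -/

section Sheaf

variable (F : Cᵒᵖ ⥤ Type w)

omit [P.IsStableUnderComposition] [P.HasPullbacks] [P.IsStableUnderBaseChange] in
lemma map_comp_op {X Y Z : C} (g : Z ⟶ Y) (f : Y ⟶ X) (t : F.obj (op X)) :
    F.map g.op (F.map f.op t) = F.map (g ≫ f).op t := by simp

omit [P.IsStableUnderComposition] [P.HasPullbacks] [P.IsStableUnderBaseChange] in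
lemma isSeparatedFor_of_good
    (hP : ∀ ⦃X : C⦄ ⦃R : Presieve X⦄, R ∈ P X → Presieve.IsSeparatedFor F R)
    (hP' : ∀ ⦃X : C⦄ ⦃R : Presieve X⦄, R ∈ P' X → Presieve.IsSeparatedFor F R)
    {X : C} {S : Sieve X} (hS : Good C' P P' X S) : Presieve.IsSeparatedFor F S.arrows := by
  intro x t₁ t₂ h₁ h₂
  obtain ⟨R, hR, h⟩ := hS
  refine (hP hR).ext (fun Y f hf => ?_)
  obtain ⟨_, R', hR', hR'S⟩ := h hf
  refine (hP' hR').ext (fun Z g hg => ?_)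
  rw [map_comp_op F g f t₁, map_comp_op F g f t₂, h₁ _ (hR'S hg), h₂ _ (hR'S hg)]

omit [P.IsStableUnderComposition] [P.HasPullbacks] [P.IsStableUnderBaseChange] in
lemma family_congr {X : C} {S : Sieve X} (x : Presieve.FamilyOfElements F S.arrows)
    {Y : C} {f f' : Y ⟶ X} (e : f = f') (h : S f) (h' : S f') : x f h = x f' h' := by
  subst e; rfl

theorem isSheaf (H : Hyp C' P P')
    (hP : ∀ ⦃X : C⦄ ⦃R : Presieve X⦄, R ∈ P X → Presieve.IsSheafFor F R)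
    (hP' : ∀ ⦃X : C⦄ ⦃R : Presieve X⦄, R ∈ P' X → Presieve.IsSheafFor F R) :
    Presieve.IsSheaf (P ⊔ P').toGrothendieck F := by
  have hsep : ∀ ⦃X : C⦄ ⦃S : Sieve X⦄, S ∈ (P ⊔ P').toGrothendieck X →
      Presieve.IsSeparatedFor F S.arrows := fun X S hS =>
    isSeparatedFor_of_good F (fun _ _ h => (hP h).isSeparatedFor)
      (fun _ _ h => (hP' h).isSeparatedFor) (good_of_mem H hS)
  intro X S hS
  rw [← Presieve.isSeparatedFor_and_exists_isAmalgamation_iff_isSheafFor]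
  refine ⟨hsep hS, fun x hx => ?_⟩
  have hxs := hx.to_sieveCompatible
  obtain ⟨R, hR, h⟩ := good_of_mem H hS
  choose hC R' hR' hR'S using h
  have key : ∀ ⦃Y : C⦄ ⦃f : Y ⟶ X⦄ (hf : R f), ∃ y : F.obj (op Y),
      ∀ ⦃Z : C⦄ ⦃g : Z ⟶ Y⦄ (hg : R' hf g), F.map g.op y = x (g ≫ f) (hR'S hf hg) := by
    intro Y f hf
    have hc : Presieve.FamilyOfElements.Compatible
        (fun Z g hg => x (g ≫ f) (hR'S hf hg) : Presieve.FamilyOfElements F (R' hf)) := by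
      intro Y₁ Y₂ Z a₁ a₂ g₁ g₂ h₁ h₂ e
      exact hx a₁ a₂ _ _ (by rw [reassoc_of% e])
    obtain ⟨y, hy, -⟩ := hP' (hR' hf) _ hc
    exact ⟨y, fun Z g hg => hy g hg⟩
  choose y hy using key
  have hy2 : ∀ ⦃Y : C⦄ ⦃f : Y ⟶ X⦄ (hf : R f) ⦃W : C⦄ (a : W ⟶ Y)
      (_ : (Sieve.generate (R' hf)) a) (hS' : S (a ≫ f)),
      F.map a.op (y hf) = x (a ≫ f) hS' := by
    rintro Y f hf W a ⟨Z, b, g, hg, rfl⟩ hS'
    rw [← map_comp_op F b g (y hf), hy hf hg, ← hxs]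
    exact family_congr F x (by simp) _ _
  have hyc : Presieve.FamilyOfElements.Compatible
      (fun Y f hf => y hf : Presieve.FamilyOfElements F R) := by
    intro Y₁ Y₂ W a₁ a₂ f₁ f₂ h₁ h₂ e
    have hT : (Sieve.generate (R' h₁)).pullback a₁ ⊓ (Sieve.generate (R' h₂)).pullback a₂ ∈
        (P ⊔ P').toGrothendieck W :=
      GrothendieckTopology.intersection_covering _
        (GrothendieckTopology.pullback_stable _ _
          (Precoverage.generate_mem_toGrothendieck (Or.inr (hR' h₁))))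
        (GrothendieckTopology.pullback_stable _ _
          (Precoverage.generate_mem_toGrothendieck (Or.inr (hR' h₂))))
    refine (hsep hT).ext ?_
    rintro V w ⟨hw₁, hw₂⟩
    have hS₁ : S ((w ≫ a₁) ≫ f₁) := by
      obtain ⟨Z, b, g, hg, e'⟩ := hw₁
      rw [← e', Category.assoc]
      exact S.downward_closed (hR'S h₁ hg) b
    have hS₂ : S ((w ≫ a₂) ≫ f₂) := by
      obtain ⟨Z, b, g, hg, e'⟩ := hw₂
      rw [← e', Category.assoc]
      exact S.downward_closed (hR'S h₂ hg) b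
    rw [map_comp_op F w a₁ (y h₁), map_comp_op F w a₂ (y h₂),
      hy2 h₁ (w ≫ a₁) hw₁ hS₁, hy2 h₂ (w ≫ a₂) hw₂ hS₂]
    exact family_congr F x (by simp [e]) _ _
  obtain ⟨t, ht, -⟩ := hP hR _ hyc
  refine ⟨t, fun W s hs => ?_⟩
  -- the composite sieve
  let Comp : Sieve X := Sieve.bind R (fun Y f hf => Sieve.generate (R' hf))
  have hComp : Comp ∈ (P ⊔ P').toGrothendieck X := by
    refine mem_of_good ⟨R, hR, fun Y f hf => ⟨hC hf, R' hf, hR' hf, fun Z g hg => ?_⟩⟩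
    exact ⟨_, g, f, hf, Sieve.le_generate (R' hf) _ _ hg, rfl⟩
  refine (hsep (GrothendieckTopology.pullback_stable _ s hComp)).ext ?_
  rintro V w ⟨Y, b, f, hf, hb, e⟩
  have hS' : S (b ≫ f) := by rw [e]; exact S.downward_closed hs w
  have e2 : F.map w.op (F.map s.op t) = F.map b.op (F.map f.op t) := by
    rw [map_comp_op F w s t, map_comp_op F b f t, e]
  rw [e2, ht f hf, hy2 hf b hb hS', ← hxs s w hs]
  exact family_congr F x e _ _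

end Sheaf

end Groth.Agent.Lib.Helper68.GenTop
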