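import Mathlib.CategoryTheory.Sites.Canonical
import Mathlib.CategoryTheory.Sites.EffectiveEpimorphic
import Mathlib.CategoryTheory.Limits.VanKampen
import Mathlib.CategoryTheory.Limits.Shapes.DisjointCoproduct
import Mathlib.CategoryTheory.Limits.Shapes.KernelPair
import Mathlib.CategoryTheory.Limits.Shapes.StrictInitial
import Groth.Prelude.Def_SGA4a

/-!
# Giraud's theorem, part 1: covers for the canonical topology in a category satisfying
Giraud's exactness axioms
-/

set_option autoImplicit false
universe v u
open CategoryTheory Limits Opposite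

namespace Groth.Agent.Lib.Helper68.Giraud

variable {E : Type v} [Category.{u} E]

/-- Notation: the canonical topology. -/
abbrev Jc (E : Type v) [Category.{u} E] : GrothendieckTopology E := Sheaf.canonicalTopology E

section Pullbacks

variable [HasPullbacks E]

/-- The base change of the sieve generated by a family is generated by the base-changed family. -/
theorem pullback_ofArrows_eq {X : E} {ι : Type*} (Y : ι → E) (s : ∀ i, Y i ⟶ X) {Z : E}
    (g : Z ⟶ X) :
    (Sieve.ofArrows Y s).pullback g =
      Sieve.ofArrows (fun i => pullback (s i) g) (fun i => pullback.snd (s i) g) := by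
  ext W h
  rw [Sieve.pullback_apply, Sieve.mem_ofArrows_iff, Sieve.mem_ofArrows_iff]
  constructor
  · rintro ⟨i, a, ha⟩
    exact ⟨i, pullback.lift a h ha.symm, (pullback.lift_snd _ _ _).symm⟩
  · rintro ⟨i, a, rfl⟩
    exact ⟨i, a ≫ pullback.fst (s i) g, by rw [Category.assoc, Category.assoc, pullback.condition]⟩

/-- A universally effective epimorphism generates a covering sieve of the canonical topology. -/
theorem generate_singleton_mem {X B : E} (π : X ⟶ B)
    (h : ∀ (B' : E) (g : B' ⟶ B), EffectiveEpi (pullback.snd π g)) :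
    Sieve.generate (Presieve.singleton π) ∈ Jc E B := by
  refine Sheaf.mem_finestTopology_of_forall_isSheafFor ?_
  rintro P ⟨T, rfl⟩ Z g
  have e : (Sieve.generate (Presieve.singleton π)).pullback g =
      Sieve.generate (Presieve.singleton (pullback.snd π g)) := by
    rw [Sieve.generateSingleton_eq, Sieve.generateSingleton_eq]
    ext W h'
    constructor
    · rintro ⟨a, ha⟩
      exact ⟨pullback.lift a h' ha, pullback.lift_snd _ _ _⟩
    · rintro ⟨a, rfl⟩
      exact ⟨a ≫ pullback.fst π g, by rw [Category.assoc, Category.assoc, pullback.condition]⟩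
  rw [e]
  have := h Z g
  exact (Presieve.isSheafFor_iff_generate _).mp
    (Presieve.IsSheafFor.singleton_of_isRepresentable_of_effectiveEpi _ _)

/-- The base change of a universal coproduct is a coproduct. -/
theorem pullback_cofan_isColimit {ι : Type*} {X : ι → E} {c : Cofan X}
    (hu : IsUniversalColimit c) {Z : E} (g : Z ⟶ c.pt) :
    Nonempty (IsColimit (Cofan.mk Z (fun i => pullback.snd (c.inj i) g))) := by
  refine hu (Cofan.mk Z (fun i => pullback.snd (c.inj i) g))
    (Discrete.natTrans (fun i => pullback.fst (c.inj i.as) g)) g ?_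
    (NatTrans.Equifibered.of_discrete _) ?_
  · ext ⟨i⟩
    exact pullback.condition
  · rintro ⟨i⟩
    exact (IsPullback.of_hasPullback (c.inj i) g).flip

/-- The injections of a universal coproduct generate a covering sieve of the canonical
topology. -/
theorem ofArrows_inj_mem {ι : Type*} {X : ι → E} {c : Cofan X} (hu : IsUniversalColimit c) :
    Sieve.ofArrows X c.inj ∈ Jc E c.pt := by
  refine Sheaf.mem_finestTopology_of_forall_isSheafFor ?_
  rintro P ⟨T, rfl⟩ Z g
  rw [pullback_ofArrows_eq X c.inj g]
  obtain ⟨hc⟩ := pullback_cofan_isColimit hu g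
  have h2 : Presieve.IsSheafFor (yoneda.obj T)
      (Presieve.ofArrows (fun i => pullback (c.inj i) g) (fun i => pullback.snd (c.inj i) g)) := by
    rw [Presieve.isSheafFor_arrows_iff]
    intro x _
    refine ⟨Cofan.IsColimit.desc hc x, fun i => Cofan.IsColimit.fac hc x i, ?_⟩
    intro t ht
    exact Cofan.IsColimit.hom_ext hc _ _ (fun i => (ht i).trans (Cofan.IsColimit.fac hc x i).symm)
  exact (Presieve.isSheafFor_iff_generate _).mp h2

end Pullbacks

section Coproducts

variable [HasFiniteLimits E] (hb : SGA4.HasDisjointUniversalCoproducts.{v, u} E)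

include hb

/-- A category with universal small coproducts has a strict initial object. -/
theorem exists_strict_initial :
    ∃ O : E, Nonempty (IsInitial O) ∧ ∀ (W : E) (_ : W ⟶ O), Nonempty (IsInitial W) := by
  obtain ⟨c, hc, -, hu⟩ := hb PEmpty (fun i => i.elim)
  refine ⟨c.pt, ⟨IsInitial.ofUniqueHom (fun T => Cofan.IsColimit.desc hc (fun i => i.elim))
    (fun T m => Cofan.IsColimit.hom_ext hc _ _ (fun i => i.elim))⟩, fun W g => ?_⟩
  obtain ⟨hc'⟩ := pullback_cofan_isColimit hu g
  exact ⟨IsInitial.ofUniqueHom (fun T => Cofan.IsColimit.desc hc' (fun i => i.elim))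
    (fun T m => Cofan.IsColimit.hom_ext hc' _ _ (fun i => i.elim))⟩

/-- Initial objects are strict. -/
theorem isInitial_of_hom {V W : E} (hV : IsInitial V) (g : W ⟶ V) : Nonempty (IsInitial W) := by
  obtain ⟨O, ⟨hO⟩, hstrict⟩ := exists_strict_initial hb
  exact hstrict W (g ≫ hV.to O)

/-- The empty sieve covers an initial object for the canonical topology. -/
theorem bot_mem_of_isInitial {V : E} (hV : IsInitial V) : (⊥ : Sieve V) ∈ Jc E V := by
  refine Sheaf.mem_finestTopology_of_forall_isSheafFor ?_
  rintro P ⟨T, rfl⟩ Z g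
  obtain ⟨hZ⟩ := isInitial_of_hom hb hV g
  intro x _
  refine ⟨hZ.to T, fun W f hf => ?_, fun t _ => hZ.hom_ext _ _⟩
  exact hf.elim

/-- A sheaf for the canonical topology has at most one section over an initial object. -/
theorem sheaf_subsingleton_of_isInitial {F : Eᵒᵖ ⥤ Type u} (hF : Presieve.IsSheaf (Jc E) F)
    {V : E} (hV : IsInitial V) (x y : F.obj (op V)) : x = y :=
  (hF ⊥ (bot_mem_of_isInitial hb hV)).isSeparatedFor.ext (fun _ _ h => h.elim)

/-- Two different summands of a disjoint universal coproduct only meet in an initial object. -/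
theorem isInitial_of_ne {ι : Type u} {X : ι → E} {c : Cofan X} (hc : IsColimit c)
    (hd : CoproductDisjoint X) {i j : ι} (hij : i ≠ j) {V : E} (a : V ⟶ X i) (b : V ⟶ X j)
    (hab : a ≫ c.inj i = b ≫ c.inj j) : Nonempty (IsInitial V) := by
  obtain ⟨hP⟩ := hd.nonempty_isInitial_of_ne hc hij _
    (IsPullback.of_hasPullback (c.inj i) (c.inj j)).isLimit
  exact isInitial_of_hom hb hP (pullback.lift a b hab)

/-- A sheaf for the canonical topology turns disjoint universal coproducts into products. -/
theorem sheaf_existsUnique_of_cofan {F : Eᵒᵖ ⥤ Type u} (hF : Presieve.IsSheaf (Jc E) F)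
    {ι : Type u} {X : ι → E} {c : Cofan X} (hc : IsColimit c) (hd : CoproductDisjoint X)
    (hu : IsUniversalColimit c) (s : ∀ i, F.obj (op (X i))) :
    ∃! t : F.obj (op c.pt), ∀ i, F.map (c.inj i).op t = s i := by
  have hsh := (Presieve.isSheafFor_iff_generate _).mpr (hF _ (ofArrows_inj_mem hu))
  rw [Presieve.isSheafFor_arrows_iff] at hsh
  refine hsh s ?_
  intro i j Z gi gj hg
  classical
  by_cases hij : i = j
  · subst hij
    have := hd.mono_inj hc i
    rw [(cancel_mono (c.inj i)).1 hg]
  · obtain ⟨hZ⟩ := isInitial_of_ne hb hc hd hij gi gj hg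
    exact sheaf_subsingleton_of_isInitial hb hF hZ _ _

end Coproducts

end Groth.Agent.Lib.Helper68.Giraud
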