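import Groth.Agent.Lib.Helper68.GiraudRep
import Mathlib.CategoryTheory.Sites.DenseSubsite.SheafEquiv
import Mathlib.CategoryTheory.Sites.DenseSubsite.InducedTopology
import Mathlib.CategoryTheory.Sites.Subcanonical
import Mathlib.CategoryTheory.InducedCategory
import Mathlib.CategoryTheory.ObjectProperty.Small

/-!
# Giraud's theorem, part 3: a category satisfying Giraud's axioms is a topos
-/

set_option autoImplicit false
universe v u
open CategoryTheory Limits Opposite

namespace Groth.Agent.Lib.Helper68.Giraud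

variable {E : Type v} [Category.{u} E]

/-- A small detecting family gives a family of generators indexed by a small type. -/
theorem exists_generators
    (hd : ∃ P : ObjectProperty E, ObjectProperty.Small.{u} P ∧ P.IsDetecting) :
    ∃ (𝒢 : Type u) (G : 𝒢 → E), ∀ ⦃X Y : E⦄ (f : X ⟶ Y),
      (∀ (i : 𝒢) (h : G i ⟶ Y), ∃! h', h' ≫ f = h) → IsIso f := by
  obtain ⟨P, hP, hdet⟩ := hd
  refine ⟨Shrink.{u} (Subtype P), fun i => ((equivShrink (Subtype P)).symm i).1,
    fun X Y f h => hdet f (fun G' hG' k => ?_)⟩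
  have key : ∀ (x : Subtype P) (k : x.1 ⟶ Y), ∃! h', h' ≫ f = k := by
    intro x
    obtain ⟨i, rfl⟩ := (equivShrink (Subtype P)).symm.surjective x
    exact h i
  exact key ⟨G', hG'⟩ k

variable [HasFiniteLimits E]

section Main

variable (hb : SGA4.HasDisjointUniversalCoproducts.{v, u} E)
  (hc : ∀ (R A : E) (p₁ p₂ : R ⟶ A), SGA4.IsEquivRel p₁ p₂ →
    SGA4.IsEffectiveUniversalEquivRel p₁ p₂)
  {𝒢 : Type u} (G : 𝒢 → E)
  (hG : ∀ ⦃X Y : E⦄ (f : X ⟶ Y), (∀ (i : 𝒢) (h : G i ⟶ Y), ∃! h', h' ≫ f = h) → IsIso f)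

include hb hc hG

/-- The full subcategory of generators is cover-dense for the canonical topology. -/
theorem isCoverDense_generators : (inducedFunctor G).IsCoverDense (Jc E) where
  is_cover Z := by
    refine (Jc E).superset_covering ?_ (ofArrows_generators_mem hb hc G hG Z)
    rw [Sieve.ofArrows, Sieve.generate_le_iff]
    rintro Y g ⟨p⟩
    exact ⟨⟨(p.1 : InducedCategory E G), 𝟙 _, p.2, Category.id_comp _⟩⟩

/-- The Yoneda embedding into sheaves for the canonical topology is essentially surjective. -/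
theorem essSurj_yoneda : ((Jc E).yoneda : E ⥤ Sheaf (Jc E) (Type u)).EssSurj where
  mem_essImage F := by
    obtain ⟨X, η, hbij⟩ := exists_representation hb hc G hG F.obj
      ((isSheaf_iff_isSheaf_of_type _ _).1 F.property)
    have hiso : IsIso ((Jc E).yonedaEquiv.symm η : (Jc E).yoneda.obj X ⟶ F) := by
      have h1 : IsIso ((sheafToPresheaf (Jc E) (Type u)).map ((Jc E).yonedaEquiv.symm η)) := by
        rw [NatTrans.isIso_iff_isIso_app]
        intro Z
        rw [isIso_iff_bijective]
        exact hbij Z.unop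
      exact isIso_of_reflects_iso _ (sheafToPresheaf (Jc E) (Type u))
    exact ⟨X, ⟨asIso ((Jc E).yonedaEquiv.symm η)⟩⟩

/-- Giraud's theorem. -/
theorem isTopos_of_giraud : SGA4.IsTopos.{v, u} E := by
  have h1 := isCoverDense_generators hb hc G hG
  have h2 := essSurj_yoneda hb hc G hG
  have h3 : ((Jc E).yoneda : E ⥤ Sheaf (Jc E) (Type u)).IsEquivalence :=
    { faithful := (Jc E).yonedaFullyFaithful.faithful
      full := (Jc E).yonedaFullyFaithful.full
      essSurj := h2 }
  let e1 : E ≌ Sheaf (Jc E) (Type u) := (Jc E).yoneda.asEquivalence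
  let e2 : Sheaf (Jc E) (Type u) ≌ Sheaf ((inducedFunctor G).inducedTopology (Jc E)) (Type u) :=
    ((inducedFunctor G).sheafPushforwardContinuous (Type u)
      ((inducedFunctor G).inducedTopology (Jc E)) (Jc E)).asEquivalence
  exact ⟨InducedCategory E G, inferInstance, (inducedFunctor G).inducedTopology (Jc E),
    ⟨e1.trans e2⟩⟩

end Main

end Groth.Agent.Lib.Helper68.Giraud
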