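import Groth.Agent.Lib.Helper68.GiraudBasic
import Mathlib.CategoryTheory.Sites.Closed

/-!
# Giraud's theorem, part 2: images, generators, representability of canonical sheaves
-/

set_option autoImplicit false
universe v u
open CategoryTheory Limits Opposite

namespace Groth.Agent.Lib.Helper68.Giraud

variable {E : Type v} [Category.{u} E] [HasFiniteLimits E]

/-- Kernel pairs are equivalence relations. -/
theorem isEquivRel_kernelPair {A B : E} (f : A ⟶ B) :
    SGA4.IsEquivRel (pullback.fst f f) (pullback.snd f f) := by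
  intro T
  constructor
  · intro a b hab
    simp only [Prod.mk.injEq] at hab
    exact pullback.hom_ext hab.1 hab.2
  · refine ⟨fun a => ⟨pullback.lift a a rfl, pullback.lift_fst _ _ _, pullback.lift_snd _ _ _⟩,
      ?_, ?_⟩
    · rintro a b ⟨k, rfl, rfl⟩
      exact ⟨pullback.lift (k ≫ pullback.snd f f) (k ≫ pullback.fst f f)
        (by rw [Category.assoc, Category.assoc, pullback.condition]),
        pullback.lift_fst _ _ _, pullback.lift_snd _ _ _⟩
    · rintro a b c ⟨k, rfl, hk⟩ ⟨l, hl, rfl⟩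
      refine ⟨pullback.lift (k ≫ pullback.fst f f) (l ≫ pullback.snd f f) ?_,
        pullback.lift_fst _ _ _, pullback.lift_snd _ _ _⟩
      rw [Category.assoc, pullback.condition, ← Category.assoc, hk, ← hl, Category.assoc,
        pullback.condition, Category.assoc]

section Images

variable (hc : ∀ (R A : E) (p₁ p₂ : R ⟶ A), SGA4.IsEquivRel p₁ p₂ →
  SGA4.IsEffectiveUniversalEquivRel p₁ p₂)

include hc

/-- Image factorisation: every morphism factors as a universally effective epimorphism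
followed by a monomorphism. -/
theorem exists_image {A B : E} (f : A ⟶ B) :
    ∃ (I : E) (q : A ⟶ I) (m : I ⟶ B), q ≫ m = f ∧ Mono m ∧
      (∀ (B' : E) (g : B' ⟶ I), EffectiveEpi (pullback.snd q g)) := by
  obtain ⟨I, q, hpb, hpo, heff⟩ := hc _ _ _ _ (isEquivRel_kernelPair f)
  have hm : q ≫ hpo.desc f f pullback.condition = f := hpo.inl_desc _ _ _
  refine ⟨I, q, hpo.desc f f pullback.condition, hm, ⟨fun {T} u v huv => ?_⟩, heff⟩
  have e1 : EffectiveEpi (pullback.snd q u) := heff _ u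
  have e2 : EffectiveEpi (pullback.snd q (pullback.snd q u ≫ v)) := heff _ _
  have ha : (pullback.snd q (pullback.snd q u ≫ v) ≫ pullback.fst q u) ≫ q =
      pullback.snd q (pullback.snd q u ≫ v) ≫ pullback.snd q u ≫ u := by
    rw [Category.assoc, pullback.condition]
  have hb' : pullback.fst q (pullback.snd q u ≫ v) ≫ q =
      pullback.snd q (pullback.snd q u ≫ v) ≫ pullback.snd q u ≫ v := pullback.condition
  have hab : (pullback.snd q (pullback.snd q u ≫ v) ≫ pullback.fst q u) ≫ f =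
      pullback.fst q (pullback.snd q u ≫ v) ≫ f := by
    rw [← hm, ← Category.assoc, ← Category.assoc, ha, hb']
    simp only [Category.assoc, huv]
  have h1 : (pullback.snd q (pullback.snd q u ≫ v) ≫ pullback.fst q u) ≫ q =
      pullback.fst q (pullback.snd q u ≫ v) ≫ q := by
    calc (pullback.snd q (pullback.snd q u ≫ v) ≫ pullback.fst q u) ≫ q
        = (pullback.lift _ _ hab ≫ pullback.fst f f) ≫ q := by rw [pullback.lift_fst]
      _ = (pullback.lift _ _ hab ≫ pullback.snd f f) ≫ q := by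
          rw [Category.assoc, hpb.w, ← Category.assoc]
      _ = pullback.fst q (pullback.snd q u ≫ v) ≫ q := by rw [pullback.lift_snd]
  rw [ha, hb'] at h1
  exact (cancel_epi _).1 ((cancel_epi _).1 h1)

end Images

section Generators

variable (hb : SGA4.HasDisjointUniversalCoproducts.{v, u} E)
  (hc : ∀ (R A : E) (p₁ p₂ : R ⟶ A), SGA4.IsEquivRel p₁ p₂ →
    SGA4.IsEffectiveUniversalEquivRel p₁ p₂)
  {𝒢 : Type u} (G : 𝒢 → E)
  (hG : ∀ ⦃X Y : E⦄ (f : X ⟶ Y), (∀ (i : 𝒢) (h : G i ⟶ Y), ∃! h', h' ≫ f = h) → IsIso f)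

omit [HasFiniteLimits E] in
include hG in
/-- A monomorphism through which all morphisms from the generators factor is an isomorphism. -/
theorem isIso_of_mono_of_factor {I Z : E} (m : I ⟶ Z) [Mono m]
    (h : ∀ (i : 𝒢) (k : G i ⟶ Z), ∃ k', k' ≫ m = k) : IsIso m :=
  hG m (fun i k => by
    obtain ⟨k', hk'⟩ := h i k
    exact ⟨k', hk', fun k'' hk'' => (cancel_mono m).1 (hk''.trans hk'.symm)⟩)

include hc hG

/-- If `f : A ⟶ Z` is a morphism from a universal coproduct through which all morphisms from the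
generators factor, then a sieve on `Z` whose base change to `A` contains the coproduct injections
is covering for the canonical topology. -/
theorem mem_of_factor_cofan {ι : Type u} {X : ι → E} {c : Cofan X} (hu : IsUniversalColimit c)
    {Z : E} (f : c.pt ⟶ Z) (hf : ∀ (i : 𝒢) (k : G i ⟶ Z), ∃ k', k' ≫ f = k) (S : Sieve Z)
    (hS : ∀ i, S (c.inj i ≫ f)) : S ∈ Jc E Z := by
  obtain ⟨I, q, m, hm, hmono, heff⟩ := exists_image hc f
  have hiso : IsIso m := isIso_of_mono_of_factor G hG m (fun i k => by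
    obtain ⟨k', hk'⟩ := hf i k
    exact ⟨k' ≫ q, by rw [Category.assoc, hm, hk']⟩)
  have hT := generate_singleton_mem q heff
  have h1 : S.pullback f ∈ Jc E c.pt := by
    refine (Jc E).superset_covering ?_ (ofArrows_inj_mem hu)
    rw [Sieve.ofArrows, Sieve.generate_le_iff]
    rintro Y g ⟨i⟩
    exact hS i
  have h2 : S.pullback m ∈ Jc E I := by
    refine (Jc E).transitive hT (S.pullback m) ?_
    rintro Y g ⟨W, k, q', ⟨⟩, rfl⟩
    rw [← Sieve.pullback_comp, Category.assoc, hm, Sieve.pullback_comp]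
    exact (Jc E).pullback_stable k h1
  have h3 := (Jc E).pullback_stable (inv m) h2
  rwa [← Sieve.pullback_comp, IsIso.inv_hom_id, Sieve.pullback_id] at h3

include hb

/-- The morphisms from the generators cover every object for the canonical topology. -/
theorem ofArrows_generators_mem (Z : E) :
    Sieve.ofArrows (fun p : Σ i : 𝒢, (G i ⟶ Z) => G p.1) (fun p => p.2) ∈ Jc E Z := by
  obtain ⟨c, hcol, -, hu⟩ := hb (Σ i : 𝒢, (G i ⟶ Z)) (fun p => G p.1)
  refine mem_of_factor_cofan hc G hG hu (Cofan.IsColimit.desc hcol (fun p => p.2))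
    (fun i k => ⟨c.inj ⟨i, k⟩, Cofan.IsColimit.fac hcol _ _⟩) _ (fun p => ?_)
  rw [Cofan.IsColimit.fac hcol]
  exact Sieve.ofArrows_mk _ _ p

/-- A closed sieve for the canonical topology is represented by a subobject. -/
theorem exists_mono_of_isClosed {Y : E} (Q : Sieve Y) (hQ : (Jc E).IsClosed Q) :
    ∃ (I : E) (m : I ⟶ Y), Mono m ∧ ∀ ⦃Z : E⦄ (g : Z ⟶ Y), Q g ↔ ∃ g' : Z ⟶ I, g' ≫ m = g := by
  obtain ⟨c, hcol, -, hu⟩ := hb (Σ i : 𝒢, {h : G i ⟶ Y // Q h}) (fun p => G p.1)
  obtain ⟨I, q, m, hm, hmono, heff⟩ := exists_image hc (Cofan.IsColimit.desc hcol (fun p => p.2.1))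
  refine ⟨I, m, hmono, fun Z g => ⟨fun hg => ?_, ?_⟩⟩
  · -- the pullback of `m` along `g` is an isomorphism
    have hiso : IsIso (pullback.snd m g) := isIso_of_mono_of_factor G hG _ (fun i k => by
      have hk : Q (k ≫ g) := Q.downward_closed hg k
      refine ⟨pullback.lift (c.inj ⟨i, ⟨k ≫ g, hk⟩⟩ ≫ q) k ?_, pullback.lift_snd _ _ _⟩
      rw [Category.assoc, hm, Cofan.IsColimit.fac hcol])
    refine ⟨inv (pullback.snd m g) ≫ pullback.fst m g, ?_⟩
    rw [Category.assoc, pullback.condition, IsIso.inv_hom_id_assoc]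
  · rintro ⟨g', rfl⟩
    apply hQ
    rw [GrothendieckTopology.covers_iff]
    have hT : (Sieve.generate (Presieve.singleton q)).pullback g' ∈ Jc E Z :=
      (Jc E).pullback_stable g' (generate_singleton_mem q heff)
    have h1 : Q.pullback (Cofan.IsColimit.desc hcol (fun p => p.2.1)) ∈ Jc E c.pt := by
      refine (Jc E).superset_covering ?_ (ofArrows_inj_mem hu)
      rw [Sieve.ofArrows, Sieve.generate_le_iff]
      rintro Y g ⟨p⟩
      change Q (c.inj p ≫ Cofan.IsColimit.desc hcol (fun p => p.2.1))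
      rw [Cofan.IsColimit.fac hcol]
      exact p.2.2
    refine (Jc E).transitive hT _ ?_
    rintro W k' ⟨W', a, q', ⟨⟩, ha⟩
    rw [← Sieve.pullback_comp, ← Category.assoc, ← ha, Category.assoc, hm, Sieve.pullback_comp]
    exact (Jc E).pullback_stable a h1

end Generators

omit [HasFiniteLimits E] in
lemma map_comp_op (F : Eᵒᵖ ⥤ Type u) {A B C : E} (k : A ⟶ B) (x : B ⟶ C) (ξ : F.obj (op C)) :
    F.map (k ≫ x).op ξ = F.map k.op (F.map x.op ξ) := by
  rw [op_comp, F.map_comp]
  rfl

section Representability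

variable (hb : SGA4.HasDisjointUniversalCoproducts.{v, u} E)
  (hc : ∀ (R A : E) (p₁ p₂ : R ⟶ A), SGA4.IsEquivRel p₁ p₂ →
    SGA4.IsEffectiveUniversalEquivRel p₁ p₂)
  {𝒢 : Type u} (G : 𝒢 → E)
  (hG : ∀ ⦃X Y : E⦄ (f : X ⟶ Y), (∀ (i : 𝒢) (h : G i ⟶ Y), ∃! h', h' ≫ f = h) → IsIso f)

include hb hc hG

/-- In a category satisfying Giraud's axioms, every sheaf of (small) sets for the canonical
topology is representable. -/
theorem exists_representation (F : Eᵒᵖ ⥤ Type u) (hF : Presieve.IsSheaf (Jc E) F) :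
    ∃ (X : E) (η : F.obj (op X)),
      ∀ Z : E, Function.Bijective (fun g : Z ⟶ X => F.map g.op η) := by
  obtain ⟨c, hcol, hd, hu⟩ := hb (Σ i : 𝒢, F.obj (op (G i))) (fun p => G p.1)
  obtain ⟨ξ, hξ, -⟩ := sheaf_existsUnique_of_cofan hb hF hcol hd hu (fun p => p.2)
  let Q : Sieve (c.pt ⨯ c.pt) :=
    { arrows := fun Z g => F.map (g ≫ prod.fst).op ξ = F.map (g ≫ prod.snd).op ξ
      downward_closed := by
        intro Z W g hg k
        change F.map ((k ≫ g) ≫ prod.fst).op ξ = F.map ((k ≫ g) ≫ prod.snd).op ξ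
        rw [Category.assoc, Category.assoc, map_comp_op F k (g ≫ prod.fst),
          map_comp_op F k (g ≫ prod.snd), hg] }
  have hQ : (Jc E).IsClosed Q := by
    intro Z g hcov
    rw [GrothendieckTopology.covers_iff] at hcov
    refine (hF _ hcov).isSeparatedFor.ext (fun W k hk => ?_)
    have hk' : F.map ((k ≫ g) ≫ prod.fst).op ξ = F.map ((k ≫ g) ≫ prod.snd).op ξ := hk
    rw [Category.assoc, Category.assoc, map_comp_op F k (g ≫ prod.fst),
      map_comp_op F k (g ≫ prod.snd)] at hk'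
    exact hk'
  obtain ⟨R₀, m, hmono, hQm⟩ := exists_mono_of_isClosed hb hc G hG Q hQ
  have key : ∀ {T : E} (a b : T ⟶ c.pt),
      (∃ f : T ⟶ R₀, f ≫ (m ≫ prod.fst) = a ∧ f ≫ (m ≫ prod.snd) = b) ↔
        F.map a.op ξ = F.map b.op ξ := by
    intro T a b
    constructor
    · rintro ⟨f, rfl, rfl⟩
      have h1 : Q (f ≫ m) := (hQm (f ≫ m)).2 ⟨f, rfl⟩
      have h2 : F.map ((f ≫ m) ≫ prod.fst).op ξ = F.map ((f ≫ m) ≫ prod.snd).op ξ := h1
      rwa [Category.assoc, Category.assoc] at h2
    · intro hab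
      have h1 : Q (prod.lift a b) := by
        change F.map (prod.lift a b ≫ prod.fst).op ξ = F.map (prod.lift a b ≫ prod.snd).op ξ
        rw [prod.lift_fst, prod.lift_snd]
        exact hab
      obtain ⟨f, hf⟩ := (hQm _).1 h1
      exact ⟨f, by rw [← Category.assoc, hf, prod.lift_fst],
        by rw [← Category.assoc, hf, prod.lift_snd]⟩
  have hER : SGA4.IsEquivRel (m ≫ prod.fst) (m ≫ prod.snd) := by
    intro T
    constructor
    · intro a b hab
      simp only [Prod.mk.injEq] at hab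
      rw [← cancel_mono m]
      apply Limits.prod.hom_ext
      · simpa only [Category.assoc] using hab.1
      · simpa only [Category.assoc] using hab.2
    · exact ⟨fun a => (key a a).2 rfl, fun h => (key _ _).2 ((key _ _).1 h).symm,
        fun h h' => (key _ _).2 (((key _ _).1 h).trans ((key _ _).1 h'))⟩
  obtain ⟨X, q, hpb, hpo, heff⟩ := hc _ _ _ _ hER
  have hq := generate_singleton_mem q heff
  have hsq := (Presieve.isSheafFor_iff_generate _).mpr (hF _ hq)
  rw [Presieve.isSheafFor_singleton] at hsq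
  obtain ⟨η, hη, -⟩ := hsq ξ (fun {T} a b hab =>
    (key a b).1 ⟨hpb.lift a b hab, hpb.lift_fst _ _ _, hpb.lift_snd _ _ _⟩)
  have hinj : ∀ (Z : E) (g g' : Z ⟶ X), F.map g.op η = F.map g'.op η → g = g' := by
    intro Z g g' hgg'
    have e1 : EffectiveEpi (pullback.snd q g) := heff _ g
    have e2 : EffectiveEpi (pullback.snd q (pullback.snd q g ≫ g')) := heff _ _
    have ha : (pullback.snd q (pullback.snd q g ≫ g') ≫ pullback.fst q g) ≫ q =
        pullback.snd q (pullback.snd q g ≫ g') ≫ pullback.snd q g ≫ g := by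
      rw [Category.assoc, pullback.condition]
    have hb' : pullback.fst q (pullback.snd q g ≫ g') ≫ q =
        pullback.snd q (pullback.snd q g ≫ g') ≫ pullback.snd q g ≫ g' := pullback.condition
    have h1 : F.map (pullback.snd q (pullback.snd q g ≫ g') ≫ pullback.fst q g).op ξ =
        F.map (pullback.fst q (pullback.snd q g ≫ g')).op ξ := by
      rw [← hη, ← map_comp_op, ← map_comp_op, ha, hb', ← Category.assoc, ← Category.assoc,
        map_comp_op, map_comp_op _ _ g', hgg']
    obtain ⟨r, hr1, hr2⟩ := (key _ _).2 h1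
    have h2 : (pullback.snd q (pullback.snd q g ≫ g') ≫ pullback.fst q g) ≫ q =
        pullback.fst q (pullback.snd q g ≫ g') ≫ q := by
      rw [← hr1, ← hr2, Category.assoc r (m ≫ prod.fst) q, Category.assoc r (m ≫ prod.snd) q,
        hpb.w]
    rw [ha, hb'] at h2
    exact (cancel_epi _).1 ((cancel_epi _).1 h2)
  refine ⟨X, η, fun Z => ⟨fun g g' h => hinj Z g g' h, fun t => ?_⟩⟩
  have hcov := ofArrows_generators_mem hb hc G hG Z
  have hval : ∀ p : Σ i : 𝒢, (G i ⟶ Z),
      F.map (c.inj ⟨p.1, F.map p.2.op t⟩ ≫ q).op η = F.map p.2.op t := by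
    intro p
    rw [map_comp_op, hη, hξ]
  have hy := (Presieve.isSheafFor_iff_generate _).mpr (Sheaf.isSheaf_yoneda_obj X _ hcov)
  rw [Presieve.isSheafFor_arrows_iff] at hy
  obtain ⟨g, hg, -⟩ := hy (fun p => c.inj ⟨p.1, F.map p.2.op t⟩ ≫ q) (by
    intro p p' W k k' hkk'
    apply hinj
    have e1 : F.map (k ≫ (c.inj ⟨p.1, F.map p.2.op t⟩ ≫ q)).op η = F.map (k ≫ p.2).op t := by
      rw [map_comp_op F k (c.inj ⟨p.1, F.map p.2.op t⟩ ≫ q), hval p, ← map_comp_op]
    have e2 : F.map (k' ≫ (c.inj ⟨p'.1, F.map p'.2.op t⟩ ≫ q)).op η =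
        F.map (k' ≫ p'.2).op t := by
      rw [map_comp_op F k' (c.inj ⟨p'.1, F.map p'.2.op t⟩ ≫ q), hval p', ← map_comp_op]
    exact e1.trans ((congrArg (fun z => F.map z.op t) hkk').trans e2.symm))
  refine ⟨g, ?_⟩
  refine ((Presieve.isSheafFor_iff_generate _).mpr (hF _ hcov)).isSeparatedFor.ext ?_
  rintro W k ⟨p⟩
  change F.map p.2.op (F.map g.op η) = F.map p.2.op t
  have hgp : p.2 ≫ g = c.inj ⟨p.1, F.map p.2.op t⟩ ≫ q := hg p
  rw [← map_comp_op, hgp, hval p]

end Representability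

end Groth.Agent.Lib.Helper68.Giraud
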