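import Groth.Agent.Lib.Helper68.TruncRlim3
import Groth.Agent.Lib.Helper68.DerProdGroth

set_option autoImplicit false
universe u
open CategoryTheory Limits Pretriangulated DerivedCategory Opposite

namespace Groth.Agent.Lib.Helper68.HDUBasis

open Groth.Agent.Lib.Helper68.HZeroLocal Groth.Agent.Lib.Helper68.HZeroSheaf
open Groth.Agent.Lib.Helper68.RlimMilnor Groth.Agent.Lib.Helper68.DerLimSh
open Groth.Agent.Lib.Helper68.TruncRlim

section General

lemma exists_compatible_of_surjective (N : ℕ) :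
    ∀ (X : ℕ → Type u) (t : ∀ k, X (k + 1) → X k) (x₀ : X N)
      (_ : ∀ k, N ≤ k → Function.Surjective (t k)),
      ∃ x : ∀ k, X k, (∀ k, t k (x (k + 1)) = x k) ∧ x N = x₀ := by
  induction N with
  | zero =>
    intro X t x₀ h
    let x : ∀ k, X k := fun k => Nat.rec (motive := fun k => X k) x₀
      (fun k xk => Classical.choose (h k (Nat.zero_le k) xk)) k
    exact ⟨x, fun k => Classical.choose_spec (h k (Nat.zero_le k) (x k)), rfl⟩
  | succ N ih =>
    intro X t x₀ h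
    obtain ⟨x', hx', hx'0⟩ := ih (fun k => X (k + 1)) (fun k => t (k + 1)) x₀
      (fun k hk => h (k + 1) (by omega))
    let x : ∀ k, X k := fun k => match k with
      | 0 => t 0 (x' 0)
      | k + 1 => x' k
    refine ⟨x, fun k => ?_, hx'0⟩
    cases k with
    | zero => rfl
    | succ k => exact hx' k

end General

section Abstract

variable {𝒜 : Type (u + 1)} [Category.{u} 𝒜] [Abelian 𝒜] [HasDerivedCategory.{u} 𝒜]

/-- `Φ` is bijective for single objects -/
lemma bijective_Φ_single (A A' : 𝒜) :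
    Function.Bijective (Φ : (S.obj A ⟶ S.obj A') → (A ⟶ H.obj (S.obj A'))) := by
  have key : ∀ g : A ⟶ A', Φ (S.map g) = g ≫ (singleFunctorCompHomologyFunctorIso 𝒜 0).inv.app A' := by
    intro g
    have := (singleFunctorCompHomologyFunctorIso 𝒜 0).inv.naturality g
    dsimp at this
    dsimp only [Φ]
    exact this.symm
  constructor
  · intro ξ ξ' h
    obtain ⟨g, rfl⟩ := S.map_surjective ξ
    obtain ⟨g', rfl⟩ := S.map_surjective ξ'
    rw [key, key, cancel_mono] at h
    rw [h]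
  · intro φ
    refine ⟨S.map (φ ≫ (singleFunctorCompHomologyFunctorIso 𝒜 0).hom.app A'), ?_⟩
    rw [key, Category.assoc, Iso.hom_inv_id_app]
    exact Category.comp_id _

/-- transfer of bijectivity of `Φ` along a morphism inducing bijections on both sides -/
lemma bijective_Φ_transfer (A : 𝒜) {L L' : DerivedCategory 𝒜} (α : L ⟶ L')
    (h1 : Function.Bijective (fun ξ : S.obj A ⟶ L => ξ ≫ α)) (h2 : IsIso (H.map α)) :
    Function.Bijective (Φ : (S.obj A ⟶ L) → (A ⟶ H.obj L)) ↔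
      Function.Bijective (Φ : (S.obj A ⟶ L') → (A ⟶ H.obj L')) := by
  have h3 : Function.Bijective (fun φ : A ⟶ H.obj L => φ ≫ H.map α) := by
    constructor
    · intro φ φ' h
      exact (cancel_mono _).1 h
    · intro ψ
      exact ⟨ψ ≫ inv (H.map α), by simp⟩
  have hcomm : (Φ : (S.obj A ⟶ L') → (A ⟶ H.obj L')) ∘ (fun ξ : S.obj A ⟶ L => ξ ≫ α) =
      (fun φ : A ⟶ H.obj L => φ ≫ H.map α) ∘ (Φ : (S.obj A ⟶ L) → (A ⟶ H.obj L)) := by
    funext ξ
    exact Φ_comp ξ α
  constructor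
  · intro h
    have h4 : Function.Bijective ((Φ : (S.obj A ⟶ L') → (A ⟶ H.obj L')) ∘
        (fun ξ : S.obj A ⟶ L => ξ ≫ α)) := by
      rw [hcomm]
      exact h3.comp h
    exact (Function.Bijective.of_comp_iff _ h1).1 h4
  · intro h
    have h4 : Function.Bijective ((fun φ : A ⟶ H.obj L => φ ≫ H.map α) ∘
        (Φ : (S.obj A ⟶ L) → (A ⟶ H.obj L))) := by
      rw [← hcomm]
      exact h.comp h1
    exact (Function.Bijective.of_comp_iff' h3 _).1 h4

lemma bijective_Φ_of_iso (A : 𝒜) {L L' : DerivedCategory 𝒜} (e : L ≅ L')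
    (h : Function.Bijective (Φ : (S.obj A ⟶ L) → (A ⟶ H.obj L))) :
    Function.Bijective (Φ : (S.obj A ⟶ L') → (A ⟶ H.obj L')) := by
  refine (bijective_Φ_transfer A e.hom ?_ inferInstance).1 h
  constructor
  · intro ξ ξ' h
    exact (cancel_mono _).1 h
  · intro ψ
    exact ⟨ψ ≫ e.inv, by simp⟩

lemma isIso_homology_truncLTι (G : DerivedCategory 𝒜) (b i : ℤ) (hi : i < b) :
    IsIso ((homologyFunctor 𝒜 i).map ((TStructure.t.truncLTι b).app G)) := by
  have hT := TStructure.t.triangleLTGE_distinguished b G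
  have hm : Mono ((homologyFunctor 𝒜 i).map ((TStructure.t.truncLTι b).app G)) := by
    refine (HomologySequence.mono_homologyMap_mor₁_iff _ hT (i - 1) i (by omega)).2 ?_
    exact (isZero_of_isGE ((TStructure.t.truncGE b).obj G) b (i - 1) (by omega)).eq_of_src _ _
  have he : Epi ((homologyFunctor 𝒜 i).map ((TStructure.t.truncLTι b).app G)) := by
    refine (HomologySequence.epi_homologyMap_mor₁_iff _ hT i).2 ?_
    exact (isZero_of_isGE ((TStructure.t.truncGE b).obj G) b i hi).eq_of_tgt _ _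
  exact isIso_of_mono_of_epi _

/-- composition with `τ_{<1} G ⟶ G` is bijective on maps from a single object in degree 0 -/
lemma bijective_comp_truncLTι (A : 𝒜) (G : DerivedCategory 𝒜) :
    Function.Bijective (fun ξ : S.obj A ⟶ (TStructure.t.truncLT 1).obj G =>
      ξ ≫ (TStructure.t.truncLTι 1).app G) := by
  have hT := TStructure.t.triangleLTGE_distinguished 1 G
  constructor
  · intro ξ ξ' h
    rw [← sub_eq_zero]
    have h0 : (ξ - ξ') ≫ (TStructure.t.truncLTι 1).app G = 0 := by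
      rw [Preadditive.sub_comp]
      exact sub_eq_zero.2 h
    obtain ⟨g, hg⟩ : ∃ g : S.obj A ⟶ ((TStructure.t.truncGE 1).obj G)⟦(-1 : ℤ)⟧,
        ξ - ξ' = g ≫ ((TStructure.t.triangleLTGE 1).obj G).invRotate.mor₁ :=
      Triangle.coyoneda_exact₂ _ (inv_rot_of_distTriang _ hT) (ξ - ξ') h0
    have : TStructure.t.IsGE (((TStructure.t.truncGE 1).obj G)⟦(-1 : ℤ)⟧) 2 :=
      TStructure.t.isGE_shift _ 1 (-1) 2 (by omega)
    have hg0 : g = 0 := TStructure.t.zero g 0 2 (by omega)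
    rw [hg, hg0]
    exact zero_comp
  · intro χ
    have h0 : χ ≫ (TStructure.t.truncGEπ 1).app G = 0 := TStructure.t.zero _ 0 1 (by omega)
    obtain ⟨ψ, hψ⟩ := Triangle.coyoneda_exact₂ _ hT χ h0
    exact ⟨ψ, hψ.symm⟩

/-- `Φ` is bijective for objects which are `≥ 0` -/
lemma bijective_Φ_of_isGE (A : 𝒜) (G : DerivedCategory 𝒜) [G.IsGE 0] :
    Function.Bijective (Φ : (S.obj A ⟶ G) → (A ⟶ H.obj G)) := by
  have : TStructure.t.IsLE ((TStructure.t.truncLT 1).obj G) 0 :=
    TStructure.t.isLE_truncLT_obj G 1 0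
  obtain ⟨A', ⟨e⟩⟩ := exists_iso_singleFunctor_obj_of_isGE_of_isLE
    ((TStructure.t.truncLT 1).obj G) 0
  have h1 := bijective_Φ_of_iso A e.symm (bijective_Φ_single A A')
  exact (bijective_Φ_transfer A ((TStructure.t.truncLTι 1).app G) (bijective_comp_truncLTι A G)
    (isIso_homology_truncLTι G 1 0 (by omega))).1 h1

end Abstract

section Shift

variable {D : Type*} [Category D] [Preadditive D] [HasShift D ℤ]

lemma bijective_comp_of_shift_zero (A : D) {L L' : D} (α : L ⟶ L')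
    (h : Function.Bijective (fun ξ : A ⟶ L⟦(0 : ℤ)⟧ => ξ ≫ α⟦(0 : ℤ)⟧')) :
    Function.Bijective (fun ξ : A ⟶ L => ξ ≫ α) := by
  have hnat : ∀ ξ : A ⟶ L, ξ ≫ α =
      ((ξ ≫ (shiftFunctorZero D ℤ).inv.app L) ≫ α⟦(0 : ℤ)⟧') ≫ (shiftFunctorZero D ℤ).hom.app L' := by
    intro ξ
    have := (shiftFunctorZero D ℤ).hom.naturality α
    dsimp at this
    rw [Category.assoc, Category.assoc, this, Iso.inv_hom_id_app_assoc]
  constructor
  · intro ξ ξ' hξ
    dsimp only at hξ
    rw [hnat ξ, hnat ξ', cancel_mono] at hξ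
    have := h.1 hξ
    exact (cancel_mono _).1 this
  · intro χ
    obtain ⟨ψ, hψ⟩ := h.2 (χ ≫ (shiftFunctorZero D ℤ).inv.app L')
    refine ⟨ψ ≫ (shiftFunctorZero D ℤ).hom.app L, ?_⟩
    dsimp only at hψ ⊢
    rw [hnat]
    simp only [Category.assoc, Iso.hom_inv_id_app_assoc]
    rw [← Category.assoc, hψ, Category.assoc, Iso.inv_hom_id_app]
    exact Category.comp_id _

end Shift

variable {C : Type u} [SmallCategory C] {J : GrothendieckTopology C}
  [HasDerivedCategory.{u} (Sheaf J AddCommGrpCat.{u})]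

section Family

variable (B : Set C)
  (hB : ∀ U : C, ∃ (ι : Type u) (Y : ι → C) (f : ∀ i, Y i ⟶ U),
    Sieve.ofArrows Y f ∈ J U ∧ ∀ i, Y i ∈ B)

include hB in
lemma exists_B_family (V : C) (T : Sieve V) (hT : T ∈ J V) :
    ∃ (ι : Type u) (Yc : ι → C) (f : ∀ i, Yc i ⟶ V), (∀ i, T.arrows (f i)) ∧
      Sieve.ofArrows Yc f ∈ J V ∧ ∀ i, Yc i ∈ B := by
  choose ιW YW fW hcov hY using hB
  refine ⟨Σ (W : C) (_ : {g : W ⟶ V // T g}), ιW W, fun i => YW i.1 i.2.2,
    fun i => fW i.1 i.2.2 ≫ i.2.1.1, fun i => T.downward_closed i.2.1.2 _, ?_, fun i => hY _ _⟩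
  refine J.transitive hT _ (fun W g hg => ?_)
  refine J.superset_covering ?_ (hcov W)
  rw [Sieve.ofArrows, Sieve.generate_le_iff]
  rintro W' k ⟨i⟩
  exact Sieve.ofArrows_mk (fun i : Σ (W : C) (_ : {g : W ⟶ V // T g}), ιW W => YW i.1 i.2.2)
    (fun i => fW i.1 i.2.2 ≫ i.2.1.1) ⟨W, ⟨g, hg⟩, i⟩

end Family

section Tower

variable (E : DerivedCategory (Sheaf J AddCommGrpCat.{u})) [HasProduct (CohCx.truncTower E)]
  (hE : CohCx.IsRlimVia (CohCx.truncTower E) (CohCx.truncTowerMap E) E (CohCx.toTruncTower E))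

include hE in
lemma bijective_toTruncTower {p : ℤ → ℤ} {V : C} (hV : Van E p V) (m : ℤ) (N : ℕ)
    (hN : Nj p m ≤ N) :
    Function.Bijective (fun ξ : S.obj (CohCx.freeSheaf J V) ⟶ E⟦m⟧ =>
      ξ ≫ (CohCx.toTruncTower E N)⟦m⟧') := by
  constructor
  · intro ξ ξ' h
    rw [← sub_eq_zero]
    apply RlimInj.eq_zero_of_good _ _ E _ hE m N V (good_of_van hV m N hN)
    rw [Preadditive.sub_comp]
    exact sub_eq_zero.2 h
  · intro x₀
    obtain ⟨x, hx, hx0⟩ := exists_compatible_of_surjective N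
      (fun k => S.obj (CohCx.freeSheaf J V) ⟶ (CohCx.truncTower E k)⟦m⟧)
      (fun k ξ => ξ ≫ (CohCx.truncTowerMap E k)⟦m⟧') x₀
      (fun k hk => (bijective_transition_of_van hV m k (by omega)).2)
    obtain ⟨y, hy⟩ := exists_of_compatible _ _ E _ hE _ m x hx
    exact ⟨y, (hy N).trans hx0⟩

end Tower

end Groth.Agent.Lib.Helper68.HDUBasis
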