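import Groth.Agent.Lib.Helper68.HDUBasis1

set_option autoImplicit false
universe u
open CategoryTheory Limits Pretriangulated DerivedCategory Opposite

namespace Groth.Agent.Lib.Helper68.HDUBasis

open Groth.Agent.Lib.Helper68.HZeroLocal Groth.Agent.Lib.Helper68.HZeroSheaf
open Groth.Agent.Lib.Helper68.RlimMilnor Groth.Agent.Lib.Helper68.DerLimSh
open Groth.Agent.Lib.Helper68.TruncRlim

variable {C : Type u} [SmallCategory C] {J : GrothendieckTopology C}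
  [HasDerivedCategory.{u} (Sheaf J AddCommGrpCat.{u})]

lemma Nj_zero : Nj (fun _ => 0) 0 = 0 := by
  unfold Nj
  simp

section Acyclic

variable (B : Set C)
  (hB : ∀ U : C, ∃ (ι : Type u) (Y : ι → C) (f : ∀ i, Y i ⟶ U),
    Sieve.ofArrows Y f ∈ J U ∧ ∀ i, Y i ∈ B)
  (M : DerivedCategory (Sheaf J AddCommGrpCat.{u}))
  (h : ∀ V ∈ B, Van M (fun _ => 0) V)

include hB h in
theorem bijective_Φ_of_acyclic (U : C) (hU : U ∈ B) :
    Function.Bijective (Φ : (S.obj (CohCx.freeSheaf J U) ⟶ M) → (CohCx.freeSheaf J U ⟶ H.obj M)) := by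
  have : HasProduct (CohCx.truncTower M) := DerProd.hasProduct _
  have hM : CohCx.IsRlimVia (CohCx.truncTower M) (CohCx.truncTowerMap M) M (CohCx.toTruncTower M) := by
    apply main_site M B hB
    intro V hV
    refine ⟨fun _ => 0, fun T hT => ?_⟩
    obtain ⟨ι, Yc, f, hf, hcov, hY⟩ := exists_B_family B hB V T hT
    exact ⟨ι, Yc, f, hf, hcov, fun i m k hk => h (Yc i) (hY i) m k hk⟩
  have h1 := bijective_toTruncTower M hM (h U hU) 0 0 (by rw [Nj_zero])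
  have h2 := bijective_comp_of_shift_zero _ _ h1
  have : (CohCx.truncTower M 0).IsGE 0 := by
    have : (CohCx.truncTower M 0).IsGE (-((0 : ℕ) : ℤ)) := inferInstance
    simpa using this
  have h3 := bijective_Φ_of_isGE (CohCx.freeSheaf J U) (CohCx.truncTower M 0)
  exact (bijective_Φ_transfer _ (CohCx.toTruncTower M 0) h2
    (isIso_homology_toTruncTower M 0 0 (by simp))).2 h3

include hB h in
theorem bijective_ηU_of_acyclic (U : C) (hU : U ∈ B) : Function.Bijective (ηU M U) := by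
  have h1 := bijective_Φ_of_acyclic B hB M h U hU
  have h2 : Function.Bijective (CohFree.homEquivSect J U (H.obj M)) :=
    (CohFree.homEquivSect J U (H.obj M)).bijective
  exact h2.comp h1

end Acyclic

lemma subsingleton_HU_of_iso {A A' : Sheaf J AddCommGrpCat.{u}} (e : A ≅ A') (k : ℕ) (V : C)
    (h : Subsingleton (CohSite.HU A k V)) : Subsingleton (CohSite.HU A' k V) := by
  have e1 : CohSite.HU A k V ≃ (S.obj (CohCx.freeSheaf J V) ⟶ (S.obj A)⟦(k : ℤ)⟧) :=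
    Abelian.Ext.homEquiv
  have e2 : CohSite.HU A' k V ≃ (S.obj (CohCx.freeSheaf J V) ⟶ (S.obj A')⟦(k : ℤ)⟧) :=
    Abelian.Ext.homEquiv
  have h1 : Subsingleton (S.obj (CohCx.freeSheaf J V) ⟶ (S.obj A)⟦(k : ℤ)⟧) := e1.symm.subsingleton
  have h2 := subsingleton_hom_of_iso (A := S.obj (CohCx.freeSheaf J V))
    ((shiftFunctor _ (k : ℤ)).mapIso (S.mapIso e)) h1
  exact e2.subsingleton

lemma van_shift (K : DerivedCategory (Sheaf J AddCommGrpCat.{u})) (q : ℤ) (V : C)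
    (h : ∀ (p : ℕ) (i : ℤ), Subsingleton (CohSite.HU (CohCx.HD K i) (p + 1) V)) :
    Van (K⟦q⟧) (fun _ => 0) V := by
  intro m k hk
  have hk' : (0 : ℤ) < k := hk
  obtain ⟨p, rfl⟩ : ∃ p : ℕ, k = p + 1 := ⟨k - 1, by omega⟩
  let e : CohCx.HD (K⟦q⟧) (m - ((p + 1 : ℕ) : ℤ)) ≅ CohCx.HD K (q + (m - ((p + 1 : ℕ) : ℤ))) :=
    ((DerivedCategory.homologyFunctor (Sheaf J AddCommGrpCat.{u}) 0).shiftIso q
      (m - ((p + 1 : ℕ) : ℤ)) (q + (m - ((p + 1 : ℕ) : ℤ))) rfl).app K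
  exact subsingleton_HU_of_iso e.symm (p + 1) V (h p _)

theorem main (K : DerivedCategory (Sheaf J AddCommGrpCat.{u})) (B : Set C)
    (hB : ∀ U : C, ∃ (ι : Type u) (Y : ι → C) (f : ∀ i, Y i ⟶ U),
      Sieve.ofArrows Y f ∈ J U ∧ ∀ i, Y i ∈ B)
    (h : ∀ U ∈ B, ∀ (p : ℕ) (q : ℤ), Subsingleton (CohSite.HU (CohCx.HD K q) (p + 1) U))
    (U : C) (hU : U ∈ B) (q : ℤ) :
    Nonempty (CohCx.HDU K q U ≃+ (CohCx.HD K q).obj.obj (op U)) := by
  have hbij := bijective_ηU_of_acyclic B hB (K⟦q⟧) (fun V hV => van_shift K q V (h V hV)) U hU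
  let e1 : CohCx.HDU K q U ≃+ (H.obj (K⟦q⟧)).obj.obj (op U) :=
    AddEquiv.ofBijective (ηU (K⟦q⟧) U) hbij
  let eI : H.obj (K⟦q⟧) ≅ CohCx.HD K q :=
    ((DerivedCategory.homologyFunctor (Sheaf J AddCommGrpCat.{u}) 0).shiftIso q 0 q
      (add_zero q)).app K
  let e2 : (H.obj (K⟦q⟧)).obj.obj (op U) ≃+ (CohCx.HD K q).obj.obj (op U) :=
    ((sheafToPresheaf J AddCommGrpCat.{u} ⋙ (evaluation _ _).obj (op U)).mapIso
      eI).addCommGroupIsoToAddEquiv
  exact ⟨e1.trans e2⟩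

end Groth.Agent.Lib.Helper68.HDUBasis
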