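import Groth.Agent.Lib.Helper68.HDUBasis2
import Groth.Agent.Lib.Helper68.DerLimSh4

set_option autoImplicit false
universe u
open CategoryTheory Limits Pretriangulated DerivedCategory Opposite

namespace Groth.Agent.Lib.Helper68.HLim

open Groth.Agent.Lib.Helper68.HZeroLocal Groth.Agent.Lib.Helper68.HZeroSheaf
open Groth.Agent.Lib.Helper68.RlimMilnor Groth.Agent.Lib.Helper68.DerLimSh
open Groth.Agent.Lib.Helper68.TruncRlim Groth.Agent.Lib.Helper68.HDUBasis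

variable {C : Type u} [SmallCategory C] {J : GrothendieckTopology C}
  [HasDerivedCategory.{u} (Sheaf J AddCommGrpCat.{u})]

/-- the natural isomorphism `H⁰(K[q]) ≅ H^q(K)` -/
noncomputable abbrev eQ (q : ℤ) :
    shiftFunctor (DerivedCategory (Sheaf J AddCommGrpCat.{u})) q ⋙ H ≅
      DerivedCategory.homologyFunctor (Sheaf J AddCommGrpCat.{u}) q :=
  (DerivedCategory.homologyFunctor (Sheaf J AddCommGrpCat.{u}) 0).shiftIso q 0 q (add_zero q)

/-- the map `Hom_D(A[0], K[q]) → Hom(A, H^q K)` -/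
noncomputable def Φq (q : ℤ) {A : Sheaf J AddCommGrpCat.{u}}
    {K : DerivedCategory (Sheaf J AddCommGrpCat.{u})} (ξ : S.obj A ⟶ K⟦q⟧) :
    A ⟶ CohCx.HD K q :=
  Φ ξ ≫ (eQ q).hom.app K

lemma Φq_comp (q : ℤ) {A : Sheaf J AddCommGrpCat.{u}}
    {K K' : DerivedCategory (Sheaf J AddCommGrpCat.{u})} (ξ : S.obj A ⟶ K⟦q⟧) (α : K ⟶ K') :
    Φq q (ξ ≫ α⟦q⟧') = Φq q ξ ≫ (DerivedCategory.homologyFunctor _ q).map α := by
  have hnat := (eQ (J := J) q).hom.naturality α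
  dsimp only [Functor.comp_map] at hnat
  dsimp only [Φq]
  rw [Φ_comp, Category.assoc, Category.assoc]
  exact congrArg (fun k => Φ ξ ≫ k) hnat

lemma Φq_precomp (q : ℤ) {A A' : Sheaf J AddCommGrpCat.{u}}
    {K : DerivedCategory (Sheaf J AddCommGrpCat.{u})} (π : A' ⟶ A) (ξ : S.obj A ⟶ K⟦q⟧) :
    Φq q (S.map π ≫ ξ) = π ≫ Φq q ξ := by
  dsimp only [Φq]
  rw [Φ_precomp, Category.assoc]

lemma Φq_add (q : ℤ) {A : Sheaf J AddCommGrpCat.{u}}
    {K : DerivedCategory (Sheaf J AddCommGrpCat.{u})} (ξ ξ' : S.obj A ⟶ K⟦q⟧) :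
    Φq q (ξ + ξ') = Φq q ξ + Φq q ξ' := by
  dsimp only [Φq]
  rw [Φ_add, Preadditive.add_comp]

lemma bijective_Φq_iff (q : ℤ) (A : Sheaf J AddCommGrpCat.{u})
    (K : DerivedCategory (Sheaf J AddCommGrpCat.{u})) :
    Function.Bijective (Φq q : (S.obj A ⟶ K⟦q⟧) → (A ⟶ CohCx.HD K q)) ↔
      Function.Bijective (Φ : (S.obj A ⟶ K⟦q⟧) → (A ⟶ H.obj (K⟦q⟧))) := by
  have h3 : Function.Bijective (fun φ : A ⟶ H.obj (K⟦q⟧) => φ ≫ (eQ q).hom.app K) := by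
    constructor
    · intro φ φ' h
      exact (cancel_mono _).1 h
    · intro ψ
      refine ⟨ψ ≫ (eQ q).inv.app K, ?_⟩
      dsimp only
      rw [Category.assoc, Iso.inv_hom_id_app]
      exact Category.comp_id _
  exact Function.Bijective.of_comp_iff' h3 _

/-- the additive map `H^q(U, K) → H^q(K)(U)` -/
noncomputable def ηq (K : DerivedCategory (Sheaf J AddCommGrpCat.{u})) (q : ℤ) (U : C) :
    (S.obj (CohCx.freeSheaf J U) ⟶ K⟦q⟧) →+ (CohCx.HD K q).obj.obj (op U) :=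
  (CohFree.evalGen J U (CohCx.HD K q)).comp (AddMonoidHom.mk' (Φq q) (Φq_add q))

lemma ηq_apply (K : DerivedCategory (Sheaf J AddCommGrpCat.{u})) (q : ℤ) (U : C)
    (ξ : S.obj (CohCx.freeSheaf J U) ⟶ K⟦q⟧) :
    ηq K q U ξ = CohFree.evalGen J U (CohCx.HD K q) (Φq q ξ) := rfl

lemma ηq_comp {K K' : DerivedCategory (Sheaf J AddCommGrpCat.{u})} (α : K ⟶ K') (q : ℤ) (U : C)
    (ξ : S.obj (CohCx.freeSheaf J U) ⟶ K⟦q⟧) :
    ηq K' q U (ξ ≫ α⟦q⟧') =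
      (((DerivedCategory.homologyFunctor _ q).map α).hom.app (op U)).hom (ηq K q U ξ) := by
  rw [ηq_apply, ηq_apply, Φq_comp]
  rfl

section Acyclic

variable (B : Set C)
  (hB : ∀ U : C, ∃ (ι : Type u) (Y : ι → C) (f : ∀ i, Y i ⟶ U),
    Sieve.ofArrows Y f ∈ J U ∧ ∀ i, Y i ∈ B)
  (K : DerivedCategory (Sheaf J AddCommGrpCat.{u}))
  (h : ∀ U ∈ B, ∀ (p : ℕ) (q : ℤ), Subsingleton (CohSite.HU (CohCx.HD K q) (p + 1) U))

include hB h in
lemma bijective_Φq_of_acyclic (q : ℤ) (U : C) (hU : U ∈ B) :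
    Function.Bijective (Φq q : (S.obj (CohCx.freeSheaf J U) ⟶ K⟦q⟧) →
      (CohCx.freeSheaf J U ⟶ CohCx.HD K q)) :=
  (bijective_Φq_iff q _ K).2
    (bijective_Φ_of_acyclic B hB (K⟦q⟧) (fun V hV => van_shift K q V (h V hV)) U hU)

include hB h in
lemma bijective_ηq_of_acyclic (q : ℤ) (U : C) (hU : U ∈ B) : Function.Bijective (ηq K q U) :=
  (CohFree.homEquivSect J U (CohCx.HD K q)).bijective.comp
    (bijective_Φq_of_acyclic B hB K h q U hU)

end Acyclic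

section Main

variable (K : ℕ → DerivedCategory (Sheaf J AddCommGrpCat.{u})) (t : ∀ n, K (n + 1) ⟶ K n)
  [HasProduct K] (L : DerivedCategory (Sheaf J AddCommGrpCat.{u})) (a : ∀ n, L ⟶ K n)
  (hL : CohCx.IsRlimVia K t L a) (B : Set C)
  (hB : ∀ U : C, ∃ (ι : Type u) (Y : ι → C) (f : ∀ i, Y i ⟶ U),
    Sieve.ofArrows Y f ∈ J U ∧ ∀ i, Y i ∈ B)
  (h1 : ∀ U ∈ B, ∀ (p : ℕ) (q : ℤ) (n : ℕ),
    Subsingleton (CohSite.HU (CohCx.HD (K n) q) (p + 1) U))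
  (h2 : ∀ U ∈ B, ∀ (q : ℤ), CohCx.LimOneIsZero (fun n => (CohCx.HD (K n) q).obj.obj (op U))
    (fun n => (((DerivedCategory.homologyFunctor _ q).map (t n)).hom.app (op U)).hom))

include hB h1 h2 in
lemma limOne_hom (U : C) (hU : U ∈ B) (j : ℤ) :
    CohCx.LimOneIsZero (fun n => (S.obj (CohCx.freeSheaf J U) ⟶ (K n)⟦j⟧))
      (fun n => Preadditive.rightComp _ ((shiftFunctor _ j).map (t n))) := by
  have hbij : ∀ n, Function.Bijective (ηq (K n) j U) := fun n =>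
    bijective_ηq_of_acyclic B hB (K n) (fun V hV p q => h1 V hV p q n) j U hU
  refine limOneIsZero_of_equiv _ _ (fun n => (AddEquiv.ofBijective (ηq (K n) j U) (hbij n)).symm)
    ?_ (h2 U hU j)
  intro n x
  apply (AddEquiv.ofBijective (ηq (K n) j U) (hbij n)).injective
  rw [AddEquiv.apply_symm_apply]
  change _ = ηq (K n) j U (((AddEquiv.ofBijective (ηq (K (n + 1)) j U) (hbij (n + 1))).symm x) ≫
    (t n)⟦j⟧')
  rw [ηq_comp]
  congr 1
  exact ((AddEquiv.ofBijective (ηq (K (n + 1)) j U) (hbij (n + 1))).apply_symm_apply x).symm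

/-- the sheaves `H^q(K_n)` -/
noncomputable abbrev Fq (q : ℤ) : ℕ → Sheaf J AddCommGrpCat.{u} := fun n => CohCx.HD (K n) q

/-- their transition maps -/
noncomputable abbrev τq (q : ℤ) : ∀ n, Fq K q (n + 1) ⟶ Fq K q n :=
  fun n => (DerivedCategory.homologyFunctor _ q).map (t n)

include hL in
/-- the comparison map `H^q(L) ⟶ lim H^q(K_n)` -/
noncomputable def ψ (q : ℤ) : CohCx.HD L q ⟶ limit (CohCx.opSequence (Fq K q) (τq K t q)) :=
  liftSeq (Fq K q) (τq K t q) (fun n => (DerivedCategory.homologyFunctor _ q).map (a n))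
    (fun n => by
      dsimp only [τq]
      rw [← Functor.map_comp, RlimInj.a_succ K t L a hL])

lemma ψ_proj (q : ℤ) (n : ℕ) :
    ψ K t L a hL q ≫ proj (Fq K q) (τq K t q) n = (DerivedCategory.homologyFunctor _ q).map (a n) :=
  liftSeq_proj _ _ _ _ n

/-- the composite `H^q(U, L) → Hom(ℤ_U, lim H^q(K_n))` -/
noncomputable def Θ (q : ℤ) (U : C) (ξ : S.obj (CohCx.freeSheaf J U) ⟶ L⟦q⟧) :
    CohCx.freeSheaf J U ⟶ limit (CohCx.opSequence (Fq K q) (τq K t q)) :=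
  Φq q ξ ≫ ψ K t L a hL q

lemma Θ_proj (q : ℤ) (U : C) (ξ : S.obj (CohCx.freeSheaf J U) ⟶ L⟦q⟧) (n : ℕ) :
    Θ K t L a hL q U ξ ≫ proj (Fq K q) (τq K t q) n = Φq q (ξ ≫ (a n)⟦q⟧') := by
  dsimp only [Θ]
  rw [Category.assoc, ψ_proj, Φq_comp]

include hB h1 h2 in
lemma Θ_injective (q : ℤ) (U : C) (hU : U ∈ B) (ξ : S.obj (CohCx.freeSheaf J U) ⟶ L⟦q⟧)
    (hξ : Θ K t L a hL q U ξ = 0) : ξ = 0 := by
  apply eq_zero_of_limOne K t L a hL _ q (limOne_hom K t B hB h1 h2 U hU (q - 1)) ξ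
  intro n
  apply (bijective_Φq_of_acyclic B hB (K n) (fun V hV p q => h1 V hV p q n) q U hU).1
  rw [← Θ_proj K t L a hL, hξ, zero_comp]
  have : Φq q (0 : S.obj (CohCx.freeSheaf J U) ⟶ (K n)⟦q⟧) = 0 := by
    dsimp only [Φq, Φ]
    simp
  exact this.symm

include hB h1 in
lemma Θ_surjective (q : ℤ) (U : C) (hU : U ∈ B)
    (g : CohCx.freeSheaf J U ⟶ limit (CohCx.opSequence (Fq K q) (τq K t q))) :
    ∃ ξ : S.obj (CohCx.freeSheaf J U) ⟶ L⟦q⟧, Θ K t L a hL q U ξ = g := by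
  have hbij : ∀ n, Function.Bijective (Φq q : (S.obj (CohCx.freeSheaf J U) ⟶ (K n)⟦q⟧) →
      (CohCx.freeSheaf J U ⟶ CohCx.HD (K n) q)) := fun n =>
    bijective_Φq_of_acyclic B hB (K n) (fun V hV p q => h1 V hV p q n) q U hU
  choose x hx using fun n => (hbij n).2 (g ≫ proj (Fq K q) (τq K t q) n)
  have hcompat : ∀ n, x (n + 1) ≫ (t n)⟦q⟧' = x n := by
    intro n
    apply (hbij n).1
    rw [Φq_comp, hx, hx, Category.assoc]
    congr 1
    exact proj_succ (Fq K q) (τq K t q) n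
  obtain ⟨y, hy⟩ := exists_of_compatible K t L a hL _ q x hcompat
  refine ⟨y, ?_⟩
  apply hom_ext_seq
  intro n
  rw [Θ_proj, hy, hx]

end Main

end Groth.Agent.Lib.Helper68.HLim
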