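import Groth.Agent.Lib.Helper68.HLim1

set_option autoImplicit false
universe u
open CategoryTheory Limits Pretriangulated DerivedCategory Opposite

namespace Groth.Agent.Lib.Helper68.HLim

open Groth.Agent.Lib.Helper68.HZeroLocal Groth.Agent.Lib.Helper68.HZeroSheaf
open Groth.Agent.Lib.Helper68.RlimMilnor Groth.Agent.Lib.Helper68.DerLimSh
open Groth.Agent.Lib.Helper68.TruncRlim Groth.Agent.Lib.Helper68.HDUBasis

variable {C : Type u} [SmallCategory C] {J : GrothendieckTopology C}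
  [HasDerivedCategory.{u} (Sheaf J AddCommGrpCat.{u})]

lemma ηq_res (K : DerivedCategory (Sheaf J AddCommGrpCat.{u})) (q : ℤ) {U V : C} (f : V ⟶ U)
    (ξ : S.obj (CohCx.freeSheaf J U) ⟶ K⟦q⟧) :
    ηq K q V (S.map (CohCx.freeSheafMap J f) ≫ ξ) =
      ((CohCx.HD K q).obj.map f.op).hom (ηq K q U ξ) := by
  rw [ηq_apply, ηq_apply, Φq_precomp, CohFree.evalGen_freeSheafMap_comp]

lemma ηq_eq (K : DerivedCategory (Sheaf J AddCommGrpCat.{u})) (q : ℤ) (U : C)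
    (ξ : S.obj (CohCx.freeSheaf J U) ⟶ K⟦q⟧) :
    ηq K q U ξ = (((eQ q).hom.app K).hom.app (op U)).hom (ηU (K⟦q⟧) U ξ) := rfl

lemma exists_local_ηq (K : DerivedCategory (Sheaf J AddCommGrpCat.{u})) (q : ℤ) (V : C)
    (r : (CohCx.HD K q).obj.obj (op V)) :
    ∃ T ∈ J V, ∀ ⦃W : C⦄ (j : W ⟶ V), T j →
      ∃ ξ : S.obj (CohCx.freeSheaf J W) ⟶ K⟦q⟧,
        ηq K q W ξ = ((CohCx.HD K q).obj.map j.op).hom r := by
  let s : (H.obj (K⟦q⟧)).obj.obj (op V) := (((eQ q).inv.app K).hom.app (op V)).hom r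
  have hs : (((eQ q).hom.app K).hom.app (op V)).hom s = r := by
    have h := congrArg (fun φ : CohCx.HD K q ⟶ CohCx.HD K q => (φ.hom.app (op V)).hom r)
      ((eQ (J := J) q).inv_hom_id_app K)
    exact h
  refine ⟨Presheaf.imageSieve (η (K⟦q⟧)) s, Presheaf.imageSieve_mem J _ s, ?_⟩
  intro W j hj
  obtain ⟨ξ, hξ⟩ : ∃ ξ : S.obj (CohCx.freeSheaf J W) ⟶ K⟦q⟧,
      ηU (K⟦q⟧) W ξ = ((H.obj (K⟦q⟧)).obj.map j.op).hom s := hj
  refine ⟨ξ, ?_⟩
  rw [ηq_eq, hξ, ← hs]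
  exact ConcreteCategory.congr_hom (((eQ q).hom.app K).hom.naturality j.op) s

section Main

variable (K : ℕ → DerivedCategory (Sheaf J AddCommGrpCat.{u})) (t : ∀ n, K (n + 1) ⟶ K n)
  [HasProduct K] (L : DerivedCategory (Sheaf J AddCommGrpCat.{u})) (a : ∀ n, L ⟶ K n)
  (hL : CohCx.IsRlimVia K t L a) (B : Set C)
  (hB : ∀ U : C, ∃ (ι : Type u) (Y : ι → C) (f : ∀ i, Y i ⟶ U),
    Sieve.ofArrows Y f ∈ J U ∧ ∀ i, Y i ∈ B)
  (h1 : ∀ U ∈ B, ∀ (p : ℕ) (q : ℤ) (n : ℕ),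
    Subsingleton (CohSite.HU (CohCx.HD (K n) q) (p + 1) U))
  (h2 : ∀ U ∈ B, ∀ (q : ℤ), CohCx.LimOneIsZero (fun n => (CohCx.HD (K n) q).obj.obj (op U))
    (fun n => (((DerivedCategory.homologyFunctor _ q).map (t n)).hom.app (op U)).hom))

lemma evalGen_Θ (q : ℤ) (U : C) (ξ : S.obj (CohCx.freeSheaf J U) ⟶ L⟦q⟧) :
    CohFree.evalGen J U _ (Θ K t L a hL q U ξ) =
      ((ψ K t L a hL q).hom.app (op U)).hom (ηq L q U ξ) := rfl

include hB h1 h2 in
lemma psi_injective (q : ℤ) (V : C) :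
    Function.Injective ((ψ K t L a hL q).hom.app (op V)) := by
  rw [injective_iff_map_eq_zero]
  intro r hr
  obtain ⟨T, hT, hT'⟩ := exists_local_ηq L q V r
  apply eq_of_equalizerSieve_mem
  refine covering_of_B B hB T hT _ ?_
  intro W j hj Y f hY
  obtain ⟨ξ, hξ⟩ := hT' j hj
  have hξ' : ηq L q Y (S.map (CohCx.freeSheafMap J f) ≫ ξ) =
      ((CohCx.HD L q).obj.map (f ≫ j).op).hom r := by
    rw [ηq_res, hξ, op_comp, Functor.map_comp]
    rfl
  have h0 : Θ K t L a hL q Y (S.map (CohCx.freeSheafMap J f) ≫ ξ) = 0 := by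
    apply (CohFree.homEquivSect J Y _).injective
    rw [CohFree.homEquivSect_apply, CohFree.homEquivSect_apply, evalGen_Θ, hξ', map_zero]
    have h3 := ConcreteCategory.congr_hom ((ψ K t L a hL q).hom.naturality (f ≫ j).op) r
    rw [ConcreteCategory.comp_apply, ConcreteCategory.comp_apply] at h3
    refine h3.trans ?_
    erw [hr]
    exact map_zero _
  have h4 := Θ_injective K t L a hL B hB h1 h2 q Y hY _ h0
  change ((CohCx.HD L q).obj.map (f ≫ j).op).hom r = ((CohCx.HD L q).obj.map (f ≫ j).op).hom 0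
  rw [← hξ', h4, map_zero, map_zero]

include hB h1 in
lemma psi_locallySurjective (q : ℤ) : Sheaf.IsLocallySurjective (ψ K t L a hL q) where
  imageSieve_mem {V} s := by
    refine covering_of_B B hB ⊤ (J.top_mem V) _ ?_
    intro W j _ Y f hY
    obtain ⟨ξ, hξ⟩ := Θ_surjective K t L a hL B hB h1 q Y hY
      (CohFree.ofSect J Y _ (((limit (CohCx.opSequence (Fq K q) (τq K t q))).obj.map
        (f ≫ j).op).hom s))
    refine ⟨ηq L q Y ξ, ?_⟩
    change ((ψ K t L a hL q).hom.app (op Y)).hom (ηq L q Y ξ) = _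
    rw [← evalGen_Θ, hξ, CohFree.evalGen_ofSect]

include hB h1 h2 in
lemma isIso_psi (q : ℤ) : IsIso (ψ K t L a hL q) := by
  refine (Sheaf.isLocallyBijective_iff_isIso (ψ K t L a hL q)).1
    ⟨?_, psi_locallySurjective K t L a hL B hB h1 q⟩
  apply Presheaf.isLocallyInjective_of_injective
  intro V
  induction V using Opposite.rec with | _ V => ?_
  exact psi_injective K t L a hL B hB h1 h2 q V

end Main

theorem main (K : ℕ → DerivedCategory (Sheaf J AddCommGrpCat.{u})) (t : ∀ n, K (n + 1) ⟶ K n)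
    [HasProduct K] (L : DerivedCategory (Sheaf J AddCommGrpCat.{u})) (hL : DCoh.IsRlim K t L)
    (B : Set C)
    (hB : ∀ U : C, ∃ (ι : Type u) (Y : ι → C) (f : ∀ i, Y i ⟶ U),
      Sieve.ofArrows Y f ∈ J U ∧ ∀ i, Y i ∈ B)
    (h1 : ∀ U ∈ B, ∀ (p : ℕ) (q : ℤ) (n : ℕ),
      Subsingleton (CohSite.HU (CohCx.HD (K n) q) (p + 1) U))
    (h2 : ∀ U ∈ B, ∀ (q : ℤ), CohCx.LimOneIsZero (fun n => (CohCx.HD (K n) q).obj.obj (op U))
      (fun n => (((DerivedCategory.homologyFunctor _ q).map (t n)).hom.app (op U)).hom))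
    (q : ℤ) :
    Nonempty (CohCx.HD L q ≅ limit (CohCx.opSequence (fun n => CohCx.HD (K n) q)
      (fun n => (DerivedCategory.homologyFunctor _ q).map (t n)))) := by
  obtain ⟨a0, c, hT⟩ := hL
  have hL' : CohCx.IsRlimVia K t L (fun n => a0 ≫ Pi.π K n) := by
    refine ⟨c, ?_⟩
    have h : Pi.lift (fun n => a0 ≫ Pi.π K n) = a0 := by
      apply Pi.hom_ext
      intro n
      rw [Pi.lift_π]
    rw [h]
    exact hT
  have := isIso_psi K t L _ hL' B hB h1 h2 q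
  exact ⟨asIso (ψ K t L _ hL' q)⟩

end Groth.Agent.Lib.Helper68.HLim
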