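import Groth.Agent.Lib.Helper68.RlimMilnor
import Groth.Prelude.Def_CohCx

set_option autoImplicit false

namespace Groth.Agent.Lib.Helper68.RlimMilnor

open CategoryTheory Limits Pretriangulated

variable {D : Type*} [Category D] [Preadditive D] [HasZeroObject D] [HasShift D ℤ]
  [∀ n : ℤ, (shiftFunctor D n).Additive] [Pretriangulated D]

section Prod

variable (K : ℕ → D) [HasProduct K] (A : D) (k : ℤ)

/-- the shifted product is a product of the shifts -/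
noncomputable def isLimitShift :
    IsLimit ((shiftFunctor D k).mapCone (Fan.mk (∏ᶜ K) (Pi.π K))) :=
  isLimitOfPreserves (shiftFunctor D k) (productIsProduct K)

lemma exists_lift (b : ∀ n, A ⟶ (K n)⟦k⟧) :
    ∃ β : A ⟶ (∏ᶜ K)⟦k⟧, ∀ n, β ≫ (Pi.π K n)⟦k⟧' = b n := by
  let c : Cone (Discrete.functor K ⋙ shiftFunctor D k) :=
    { pt := A
      π := Discrete.natTrans (fun j => b j.as) }
  refine ⟨(isLimitShift K k).lift c, fun n => ?_⟩
  exact (isLimitShift K k).fac c ⟨n⟩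

lemma hom_ext_shift {β β' : A ⟶ (∏ᶜ K)⟦k⟧}
    (h : ∀ n, β ≫ (Pi.π K n)⟦k⟧' = β' ≫ (Pi.π K n)⟦k⟧') : β = β' := by
  apply (isLimitShift K k).hom_ext
  rintro ⟨n⟩
  exact h n

end Prod


section Main

variable (K : ℕ → D) (t : ∀ n, K (n + 1) ⟶ K n) [HasProduct K] (L : D) (a : ∀ n, L ⟶ K n)
  (hL : CohCx.IsRlimVia K t L a) (A : D) (m : ℤ)

include hL

theorem exists_of_compatible (x : ∀ n, A ⟶ (K n)⟦m⟧)
    (hx : ∀ n, x (n + 1) ≫ (t n)⟦m⟧' = x n) :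
    ∃ y : A ⟶ L⟦m⟧, ∀ n, y ≫ (a n)⟦m⟧' = x n := by
  obtain ⟨c, hT⟩ := hL
  obtain ⟨β, hβ⟩ := exists_lift K A m x
  have h0 : β ≫ (Pi.lift fun n => Pi.π K n - Pi.π K (n + 1) ≫ t n)⟦m⟧' = 0 := by
    apply hom_ext_shift K A m
    intro n
    rw [Category.assoc, ← Functor.map_comp, Pi.lift_π, Functor.map_sub, Functor.map_comp,
      Preadditive.comp_sub, hβ, reassoc_of% (hβ (n + 1)), hx, sub_self, zero_comp]
  obtain ⟨y, hy⟩ := co_exact₂ hT A m β h0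
  refine ⟨y, fun n => ?_⟩
  rw [← hβ n, ← hy, Category.assoc, ← Functor.map_comp, Pi.lift_π]

theorem eq_zero_of_limOne
    (h1 : CohCx.LimOneIsZero (fun n => (A ⟶ (K n)⟦m - 1⟧))
      (fun n => Preadditive.rightComp _ ((shiftFunctor _ (m - 1)).map (t n))))
    (y : A ⟶ L⟦m⟧) (hy : ∀ n, y ≫ (a n)⟦m⟧' = 0) : y = 0 := by
  obtain ⟨c, hT⟩ := hL
  have h0 : y ≫ (Pi.lift a)⟦m⟧' = 0 := by
    apply hom_ext_shift K A m
    intro n
    rw [Category.assoc, ← Functor.map_comp, Pi.lift_π, hy, zero_comp]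
  obtain ⟨θ, hθ⟩ := co_exact₁ hT A (m - 1) m (by omega) y h0
  obtain ⟨b, hb⟩ := h1 (fun n => θ ≫ (Pi.π K n)⟦m - 1⟧')
  obtain ⟨β, hβ⟩ := exists_lift K A (m - 1) b
  have h2 : θ = β ≫ (Pi.lift fun n => Pi.π K n - Pi.π K (n + 1) ≫ t n)⟦m - 1⟧' := by
    apply hom_ext_shift K A (m - 1)
    intro n
    have hbn := congrFun hb n
    dsimp at hbn
    rw [Category.assoc, ← Functor.map_comp, Pi.lift_π, Functor.map_sub, Functor.map_comp,
      Preadditive.comp_sub, hβ, reassoc_of% (hβ (n + 1)), ← hbn]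
    rfl
  have h3 : (Pi.lift fun n => Pi.π K n - Pi.π K (n + 1) ≫ t n) ≫ c = 0 :=
    comp_distTriang_mor_zero₂₃ _ hT
  rw [hθ, h2, Category.assoc, ← Functor.map_comp_assoc, h3, Functor.map_zero, zero_comp, comp_zero]

end Main

end Groth.Agent.Lib.Helper68.RlimMilnor
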