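import Groth.Agent.Lib.Helper68.RlimMilnor2
import Groth.Prelude.Def_Formal2

/-!
# The full Milnor exact sequence for a derived limit (helper68)

`nonempty_ker_equiv_limOne`: for `L` a derived limit of `(K n)`, the kernel of
`Hom(A, L[m]) → ∏ Hom(A, K n [m])` is isomorphic to `lim¹ Hom(A, K n [m-1])`, stated with abstract
groups identified with the Hom groups.
-/

set_option autoImplicit false

namespace Groth.Agent.Lib.Helper68.RlimMilnor

open CategoryTheory Limits Pretriangulated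

variable {D : Type*} [Category D] [Preadditive D] [HasZeroObject D] [HasShift D ℤ]
  [∀ n : ℤ, (shiftFunctor D n).Additive] [Pretriangulated D]

section Tri

variable {X Y Z : D} {f : X ⟶ Y} {g : Y ⟶ Z} {h : Z ⟶ X⟦(1 : ℤ)⟧}
  (hT : Triangle.mk f g h ∈ distTriang D) (A : D)

include hT in
lemma co_exact₃ (m : ℤ) (ψ : A ⟶ Z⟦m⟧) (hψ : ψ ≫ h⟦m⟧' = 0) :
    ∃ φ : A ⟶ Y⟦m⟧, φ ≫ g⟦m⟧' = ψ := by
  have hT' : Triangle.mk g h (-f⟦(1 : ℤ)⟧') ∈ distTriang D := rot_of_distTriang _ hT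
  exact co_exact₂ hT' A m ψ hψ

instance (X : D) (m' m : ℤ) (hm : m' + 1 = m) : IsIso (iota X m' m hm) := by
  unfold iota
  infer_instance

omit [Preadditive D] [HasZeroObject D] [∀ (n : ℤ), (shiftFunctor D n).Additive] [Pretriangulated D] in
lemma iota_naturality {X Y : D} (f : X ⟶ Y) (m' m : ℤ) (hm : m' + 1 = m) :
    (f⟦(1 : ℤ)⟧')⟦m'⟧' ≫ iota Y m' m hm = iota X m' m hm ≫ f⟦m⟧' := by
  unfold iota
  have h1 := (shiftFunctorComm D 1 m').hom.naturality f
  have h2 := (shiftFunctorAdd' D m' 1 m hm).inv.naturality f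
  dsimp at h1 h2
  rw [← Category.assoc, h1, Category.assoc, h2, Category.assoc]

end Tri

section Lift

variable (K : ℕ → D) [HasProduct K] (A : D) (k : ℤ)

/-- the lift of a family of maps to the shifted product -/
noncomputable def liftShift (b : ∀ n, A ⟶ (K n)⟦k⟧) : A ⟶ (∏ᶜ K)⟦k⟧ :=
  (isLimitShift K k).lift
    { pt := A
      π := Discrete.natTrans (fun j => b j.as) }

omit [HasZeroObject D] [∀ (n : ℤ), (shiftFunctor D n).Additive] [Pretriangulated D] in
lemma liftShift_π (b : ∀ n, A ⟶ (K n)⟦k⟧) (n : ℕ) :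
    liftShift K A k b ≫ (Pi.π K n)⟦k⟧' = b n :=
  (isLimitShift K k).fac _ ⟨n⟩

lemma liftShift_eq (b : ∀ n, A ⟶ (K n)⟦k⟧) (β : A ⟶ (∏ᶜ K)⟦k⟧)
    (h : ∀ n, β ≫ (Pi.π K n)⟦k⟧' = b n) : liftShift K A k b = β := by
  apply hom_ext_shift K A k
  intro n
  rw [liftShift_π, h]

/-- `liftShift` as an additive map -/
noncomputable def liftShiftHom : (∀ n, A ⟶ (K n)⟦k⟧) →+ (A ⟶ (∏ᶜ K)⟦k⟧) where
  toFun := liftShift K A k
  map_zero' := liftShift_eq K A k _ _ (fun n => by rw [zero_comp]; rfl)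
  map_add' b b' := liftShift_eq K A k _ _ (fun n => by
    rw [Preadditive.add_comp, liftShift_π, liftShift_π]; rfl)

end Lift

section Main

variable (K : ℕ → D) (t : ∀ n, K (n + 1) ⟶ K n) [HasProduct K] (L : D) (a : ∀ n, L ⟶ K n)
  (hL : CohCx.IsRlimVia K t L a) (A : D) (m' m : ℤ) (hm : m' + 1 = m)

universe w
variable {G : ℕ → Type w} [∀ n, AddCommGroup (G n)] (tG : ∀ n, G (n + 1) →+ G n)
  {M : Type*} [AddCommGroup M] {N : ℕ → Type*} [∀ n, AddCommGroup (N n)] (r : ∀ n, M →+ N n)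
  (eG : ∀ n, G n ≃+ (A ⟶ (K n)⟦m'⟧)) (eM : M ≃+ (A ⟶ L⟦m⟧)) (eN : ∀ n, N n →+ (A ⟶ (K n)⟦m⟧))
  (heN : ∀ n, Function.Injective (eN n))
  (hG : ∀ n x, eG n (tG n x) = eG (n + 1) x ≫ (t n)⟦m'⟧')
  (hM : ∀ n y, eN n (r n y) = eM y ≫ (a n)⟦m⟧')

include hL hm heN hG hM in
/-- the Milnor exact sequence: the kernel of `Hom(A, L[m]) → ∏ Hom(A, K n[m])` is `lim¹` -/
theorem nonempty_ker_equiv_limOne :
    Nonempty ((AddMonoidHom.pi r).ker ≃+ Formal2.limOne G tG) := by
  obtain ⟨c, hT⟩ := hL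
  -- the boundary map
  let ψ : (∀ n, A ⟶ (K n)⟦m'⟧) →+ (A ⟶ L⟦m⟧) :=
    (Preadditive.rightComp A (c⟦m'⟧' ≫ iota L m' m hm)).comp (liftShiftHom K A m')
  let pG : (∀ n, G n) ≃+ (∀ n, A ⟶ (K n)⟦m'⟧) := AddEquiv.piCongrRight eG
  let φ : (∀ n, G n) →+ M := eM.symm.toAddMonoidHom.comp (ψ.comp pG.toAddMonoidHom)
  have hψ : ∀ b, ψ b = liftShift K A m' b ≫ c⟦m'⟧' ≫ iota L m' m hm := fun b => rfl
  have hφ : ∀ b, eM (φ b) = liftShift K A m' (fun n => eG n (b n)) ≫ c⟦m'⟧' ≫ iota L m' m hm := by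
    intro b
    change eM (eM.symm _) = _
    rw [AddEquiv.apply_symm_apply]
    rfl
  have hca : ∀ n, c ≫ (a n)⟦(1 : ℤ)⟧' = 0 := by
    intro n
    have h1 : c ≫ (Pi.lift a)⟦(1 : ℤ)⟧' = 0 := comp_distTriang_mor_zero₃₁ _ hT
    have h2 : (a n)⟦(1 : ℤ)⟧' = (Pi.lift a)⟦(1 : ℤ)⟧' ≫ (Pi.π K n)⟦(1 : ℤ)⟧' := by
      rw [← Functor.map_comp, Pi.lift_π]
    rw [h2, reassoc_of% h1, zero_comp]
  have hδc : (Pi.lift fun n => Pi.π K n - Pi.π K (n + 1) ≫ t n) ≫ c = 0 :=
    comp_distTriang_mor_zero₂₃ _ hT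
  -- range of φ
  have hrange : φ.range = (AddMonoidHom.pi r).ker := by
    ext y
    constructor
    · rintro ⟨b, rfl⟩
      rw [AddMonoidHom.mem_ker]
      funext n
      apply heN n
      change eN n (r n (φ b)) = eN n 0
      rw [hM, hφ, map_zero, Category.assoc, Category.assoc, ← iota_naturality,
        ← Functor.map_comp_assoc, hca, Functor.map_zero, zero_comp, comp_zero]
    · intro hy
      rw [AddMonoidHom.mem_ker] at hy
      have hy' : ∀ n, eM y ≫ (a n)⟦m⟧' = 0 := by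
        intro n
        rw [← hM]
        have := congrFun hy n
        change r n y = 0 at this
        rw [this, map_zero]
      have h0 : eM y ≫ (Pi.lift a)⟦m⟧' = 0 := by
        apply hom_ext_shift K A m
        intro n
        rw [Category.assoc, ← Functor.map_comp, Pi.lift_π, hy', zero_comp]
      obtain ⟨θ, hθ⟩ := co_exact₁ hT A m' m hm (eM y) h0
      refine ⟨fun n => (eG n).symm (θ ≫ (Pi.π K n)⟦m'⟧'), ?_⟩
      apply eM.injective
      rw [hφ, hθ]
      congr 1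
      apply liftShift_eq
      intro n
      rw [AddEquiv.apply_symm_apply]
  -- kernel of φ
  have hker : (Formal2.towerDiff G tG).range = φ.ker := by
    ext b
    constructor
    · rintro ⟨b', rfl⟩
      rw [AddMonoidHom.mem_ker]
      apply eM.injective
      rw [hφ, map_zero]
      have h1 : liftShift K A m' (fun n => eG n (Formal2.towerDiff G tG b' n)) =
          liftShift K A m' (fun n => eG n (b' n)) ≫
            (Pi.lift fun n => Pi.π K n - Pi.π K (n + 1) ≫ t n)⟦m'⟧' := by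
        apply liftShift_eq
        intro n
        rw [Category.assoc, ← Functor.map_comp, Pi.lift_π, Functor.map_sub, Functor.map_comp,
          Preadditive.comp_sub, liftShift_π, ← Category.assoc, liftShift_π]
        change _ = eG n (b' n - tG n (b' (n + 1)))
        rw [map_sub, hG]
      rw [h1, Category.assoc, ← Functor.map_comp_assoc, hδc, Functor.map_zero, zero_comp, comp_zero]
    · intro hb
      rw [AddMonoidHom.mem_ker] at hb
      have h1 : liftShift K A m' (fun n => eG n (b n)) ≫ c⟦m'⟧' = 0 := by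
        have h2 := hφ b
        rw [hb, map_zero, ← Category.assoc] at h2
        rw [← cancel_mono (iota L m' m hm), zero_comp]
        exact h2.symm
      obtain ⟨β', hβ'⟩ := co_exact₃ hT A m' _ h1
      refine ⟨fun n => (eG n).symm (β' ≫ (Pi.π K n)⟦m'⟧'), ?_⟩
      funext n
      apply (eG n).injective
      change eG n ((eG n).symm _ - tG n ((eG (n + 1)).symm _)) = _
      rw [map_sub, hG, AddEquiv.apply_symm_apply, AddEquiv.apply_symm_apply]
      have h3 := congrArg (fun x => x ≫ (Pi.π K n)⟦m'⟧') hβ'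
      rw [liftShift_π, Category.assoc, ← Functor.map_comp, Pi.lift_π, Functor.map_sub,
        Functor.map_comp, Preadditive.comp_sub, ← Category.assoc] at h3
      exact h3
  exact ⟨(((QuotientAddGroup.quotientAddEquivOfEq hker).trans
    (QuotientAddGroup.quotientKerEquivRange φ)).trans (AddEquiv.addSubgroupCongr hrange)).symm⟩

end Main

end Groth.Agent.Lib.Helper68.RlimMilnor
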