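import Groth.Agent.Lib.Helper68.RlimInj
import Groth.Agent.Lib.Helper68.HZeroSheaf

set_option autoImplicit false
universe u
open CategoryTheory Limits Opposite

namespace Groth.Agent.Lib.Helper68.RlimInj

open Groth.Agent.Lib.Helper68.HZeroLocal Groth.Agent.Lib.Helper68.HZeroSheaf

variable {C : Type u} [SmallCategory C] {J : GrothendieckTopology C}
  [HasDerivedCategory.{u} (Sheaf J AddCommGrpCat.{u})]

lemma ηU_comp {L' K' : DerivedCategory (Sheaf J AddCommGrpCat.{u})} (α : L' ⟶ K') (W : C)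
    (ξ : S.obj (CohCx.freeSheaf J W) ⟶ L') :
    ηU K' W (ξ ≫ α) = ((H.map α).hom.app (op W)).hom (ηU L' W ξ) := by
  rw [ηU_apply, ηU_apply, Φ_comp]
  rfl

lemma exists_local_lift {L' K' : DerivedCategory (Sheaf J AddCommGrpCat.{u})} (α : L' ⟶ K')
    (V : C) (s : (H.obj L').obj.obj (op V)) (hs : ((H.map α).hom.app (op V)).hom s = 0) :
    ∃ T ∈ J V, ∀ ⦃W : C⦄ (g : W ⟶ V), T g →
      ∃ ξ : S.obj (CohCx.freeSheaf J W) ⟶ L',
        ηU L' W ξ = ((H.obj L').obj.map g.op).hom s ∧ ξ ≫ α = 0 := by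
  have hT₁ : Presheaf.imageSieve (η L') s ∈ J V := Presheaf.imageSieve_mem J (η L') s
  have key : ∀ ⦃W : C⦄ (j : W ⟶ V), Presheaf.imageSieve (η L') s j →
      ∃ (ξ : S.obj (CohCx.freeSheaf J W) ⟶ L') (R : Sieve W), R ∈ J W ∧
        ηU L' W ξ = ((H.obj L').obj.map j.op).hom s ∧
        ∀ ⦃W' : C⦄ (k : W' ⟶ W), R k → S.map (CohCx.freeSheafMap J k) ≫ ξ ≫ α = 0 := by
    intro W j hj
    obtain ⟨ξ, hξ⟩ : ∃ ξ : S.obj (CohCx.freeSheaf J W) ⟶ L',
        ηU L' W ξ = ((H.obj L').obj.map j.op).hom s := hj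
    have h0 : ηU K' W (ξ ≫ α) = ηU K' W 0 := by
      rw [ηU_comp, map_zero]
      rw [hξ]
      have h2 := ConcreteCategory.congr_hom ((H.map α).hom.naturality j.op) s
      rw [ConcreteCategory.comp_apply, ConcreteCategory.comp_apply] at h2
      refine Eq.trans h2 ?_
      erw [hs]
      exact map_zero _
    obtain ⟨R, hR, hR'⟩ := locInj_aux K' W (ξ ≫ α) 0 h0
    refine ⟨ξ, R, hR, hξ, ?_⟩
    intro W' k hk
    rw [hR' k hk, comp_zero]
  choose ξ R hR hξ hRz using key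
  refine ⟨Sieve.bind (Presheaf.imageSieve (η L') s) (fun W j hj => R j hj),
    J.bind_covering hT₁ (fun W j hj => hR j hj), ?_⟩
  rintro W g ⟨W₁, k, j, hj, hk, rfl⟩
  refine ⟨S.map (CohCx.freeSheafMap J k) ≫ ξ j hj, ?_, ?_⟩
  · rw [ηU_res, hξ j hj, op_comp, Functor.map_comp]
    rfl
  · rw [Category.assoc]
    exact hRz j hj k hk

section Main

variable (K : ℕ → DerivedCategory (Sheaf J AddCommGrpCat.{u})) (t : ∀ n, K (n + 1) ⟶ K n)
  [HasProduct K] (L : DerivedCategory (Sheaf J AddCommGrpCat.{u})) (a : ∀ n, L ⟶ K n)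
  (hL : CohCx.IsRlimVia K t L a) (m : ℤ) (nV : ℕ)

/-- the good objects -/
def Good (W : C) : Prop :=
  CohCx.LimOneIsZero (fun n => CohCx.HDU (K n) (m - 1) W)
      (fun n => Preadditive.rightComp _ ((shiftFunctor _ (m - 1)).map (t n))) ∧
    ∀ k : ℕ, Function.Injective
      (Preadditive.rightComp _ ((shiftFunctor _ m).map (CohCx.transition K t nV k)) :
        CohCx.HDU (K (nV + k)) m W → CohCx.HDU (K nV) m W)

include hL in
lemma eq_zero_of_good (W : C) (hW : Good K t m nV W)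
    (ξ : S.obj (CohCx.freeSheaf J W) ⟶ L⟦m⟧) (hξ : ξ ≫ (a nV)⟦m⟧' = 0) : ξ = 0 :=
  eq_zero_of_comp_eq_zero K t L a hL _ m nV hW.1 hW.2 ξ hξ

include hL in
theorem injective_H0 (V : C)
    (h : ∀ T ∈ J V, ∃ (ι : Type u) (Y : ι → C) (f : ∀ i, Y i ⟶ V), (∀ i, T.arrows (f i)) ∧
      Sieve.ofArrows Y f ∈ J V ∧ ∀ i, Good K t m nV (Y i)) :
    Function.Injective ((H.map ((a nV)⟦m⟧')).hom.app (op V)) := by
  rw [injective_iff_map_eq_zero]
  intro s hs
  obtain ⟨T, hT, hT'⟩ := exists_local_lift ((a nV)⟦m⟧') V s hs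
  obtain ⟨ι, Yc, f, hf, hcov, hgood⟩ := h T hT
  have hsep : Presieve.IsSeparated J ((H.obj (L⟦m⟧)).obj ⋙ forget _) := by
    apply Presieve.IsSheaf.isSeparated
    rw [← isSheaf_iff_isSheaf_of_type]
    exact ((sheafCompose J (forget AddCommGrpCat.{u})).obj (H.obj (L⟦m⟧))).2
  refine (hsep _ hcov).ext ?_
  intro W g hg
  obtain ⟨W', k, g', hg', rfl⟩ := hg
  obtain ⟨i⟩ := hg'
  obtain ⟨ξ, hξ, hξ0⟩ := hT' (f i) (hf i)
  have h0 : ξ = 0 := eq_zero_of_good K t L a hL m nV (Yc i) (hgood i) ξ hξ0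
  have h1 : ((H.obj (L⟦m⟧)).obj.map (f i).op).hom s = 0 := by
    rw [← hξ, h0, map_zero]
  change ((H.obj (L⟦m⟧)).obj.map (k ≫ f i).op).hom s = ((H.obj (L⟦m⟧)).obj.map (k ≫ f i).op).hom 0
  rw [map_zero, op_comp, Functor.map_comp]
  change ((H.obj (L⟦m⟧)).obj.map k.op).hom (((H.obj (L⟦m⟧)).obj.map (f i).op).hom s) = 0
  rw [h1, map_zero]

include hL in
theorem injective_Hm (V : C)
    (h : ∀ T ∈ J V, ∃ (ι : Type u) (Y : ι → C) (f : ∀ i, Y i ⟶ V), (∀ i, T.arrows (f i)) ∧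
      Sieve.ofArrows Y f ∈ J V ∧ ∀ i, Good K t m nV (Y i)) :
    Function.Injective (((DerivedCategory.homologyFunctor _ m).map (a nV)).hom.app (op V)) := by
  have h0 := injective_H0 K t L a hL m nV V h
  let ev : Sheaf J AddCommGrpCat.{u} ⥤ AddCommGrpCat.{u} :=
    sheafToPresheaf J _ ⋙ (evaluation _ _).obj (op V)
  let e := (DerivedCategory.homologyFunctor (Sheaf J AddCommGrpCat.{u}) 0).shiftIso m 0 m
    (add_zero m)
  let eL : H.obj (L⟦m⟧) ≅ (DerivedCategory.homologyFunctor _ m).obj L := e.app L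
  let eK : H.obj ((K nV)⟦m⟧) ≅ (DerivedCategory.homologyFunctor _ m).obj (K nV) := e.app (K nV)
  have hnat : H.map ((a nV)⟦m⟧') ≫ eK.hom =
      eL.hom ≫ (DerivedCategory.homologyFunctor _ m).map (a nV) := e.hom.naturality (a nV)
  have h2 : Mono (ev.map (H.map ((a nV)⟦m⟧'))) :=
    (AddCommGrpCat.mono_iff_injective _).2 h0
  have h4 : ev.map eL.hom ≫ ev.map ((DerivedCategory.homologyFunctor _ m).map (a nV)) =
      ev.map (H.map ((a nV)⟦m⟧')) ≫ ev.map eK.hom := by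
    rw [← ev.map_comp, ← ev.map_comp, hnat]
  have h5 : Mono (ev.map eL.hom ≫ ev.map ((DerivedCategory.homologyFunctor _ m).map (a nV))) := by
    rw [h4]
    infer_instance
  have h6 : Mono (ev.map ((DerivedCategory.homologyFunctor _ m).map (a nV))) := by
    have h7 : ev.map ((DerivedCategory.homologyFunctor _ m).map (a nV)) =
        ev.map eL.inv ≫ (ev.map eL.hom ≫
          ev.map ((DerivedCategory.homologyFunctor _ m).map (a nV))) := by
      rw [← Category.assoc, ← ev.map_comp, eL.inv_hom_id, ev.map_id, Category.id_comp]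
    rw [h7]
    infer_instance
  exact (AddCommGrpCat.mono_iff_injective _).1 h6

end Main

end Groth.Agent.Lib.Helper68.RlimInj
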