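import Groth.Agent.Lib.Helper68.TruncRlim1
import Groth.Agent.Lib.Helper68.DerLimSh2
import Groth.Agent.Lib.Helper68.RlimInj2

set_option autoImplicit false
universe u
open CategoryTheory Limits Pretriangulated DerivedCategory Opposite

namespace Groth.Agent.Lib.Helper68.TruncRlim

open Groth.Agent.Lib.Helper68.HZeroLocal Groth.Agent.Lib.Helper68.HZeroSheaf
open Groth.Agent.Lib.Helper68.RlimMilnor Groth.Agent.Lib.Helper68.DerLimSh

section General

lemma limOneIsZero_of_surjective (A : ℕ → Type u) [∀ n, AddCommGroup (A n)]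
    (t : ∀ n, A (n + 1) →+ A n) (h : ∀ n, Function.Surjective (t n)) :
    CohCx.LimOneIsZero A t := by
  intro b
  let a : ∀ n, A n := fun n => Nat.rec (motive := fun n => A n) 0
    (fun n an => Classical.choose (h n (an - b n))) n
  have ha : ∀ n, t n (a (n + 1)) = a n - b n := fun n => Classical.choose_spec (h n (a n - b n))
  refine ⟨a, funext fun n => ?_⟩
  dsimp only
  rw [ha n]
  abel

lemma limOneIsZero_of_shift (A : ℕ → Type u) [∀ n, AddCommGroup (A n)]
    (t : ∀ n, A (n + 1) →+ A n)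
    (h : CohCx.LimOneIsZero (fun n => A (n + 1)) (fun n => t (n + 1))) :
    CohCx.LimOneIsZero A t := by
  intro b
  obtain ⟨a', ha'⟩ := h (fun n => b (n + 1))
  let a : ∀ n, A n := fun n => match n with
    | 0 => b 0 + t 0 (a' 0)
    | n + 1 => a' n
  refine ⟨a, funext fun n => ?_⟩
  cases n with
  | zero =>
    change b 0 + t 0 (a' 0) - t 0 (a' 0) = b 0
    abel
  | succ n => exact congrFun ha' n

lemma limOneIsZero_of_eventually_surjective (N : ℕ) :
    ∀ (A : ℕ → Type u) [∀ n, AddCommGroup (A n)] (t : ∀ n, A (n + 1) →+ A n)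
    (_ : ∀ n, N ≤ n → Function.Surjective (t n)), CohCx.LimOneIsZero A t := by
  induction N with
  | zero =>
    intro A _ t h
    exact limOneIsZero_of_surjective A t (fun n => h n (Nat.zero_le n))
  | succ N ih =>
    intro A _ t h
    apply limOneIsZero_of_shift
    exact ih (fun n => A (n + 1)) (fun n => t (n + 1)) (fun n hn => h (n + 1) (by omega))

end General

variable {C : Type u} [SmallCategory C] {J : GrothendieckTopology C}
  [HasDerivedCategory.{u} (Sheaf J AddCommGrpCat.{u})]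

lemma subsingleton_hom_single_shift (Y : Sheaf J AddCommGrpCat.{u}) (V : C) (a : ℤ)
    (h : ∀ k : ℕ, (k : ℤ) = a → Subsingleton (CohSite.HU Y k V)) :
    Subsingleton (S.obj (CohCx.freeSheaf J V) ⟶ (S.obj Y)⟦a⟧) := by
  by_cases ha : a < 0
  · exact ⟨fun f g => (hom_single_shift_neg _ _ a ha f).trans
      (hom_single_shift_neg _ _ a ha g).symm⟩
  · obtain ⟨k, rfl⟩ : ∃ k : ℕ, a = (k : ℤ) := ⟨a.toNat, by omega⟩
    have e : CohSite.HU Y k V ≃ (S.obj (CohCx.freeSheaf J V) ⟶ (S.obj Y)⟦(k : ℤ)⟧) :=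
      Abelian.Ext.homEquiv
    have := h k rfl
    exact e.symm.subsingleton

lemma subsingleton_hom_of_iso {A M M' : DerivedCategory (Sheaf J AddCommGrpCat.{u})} (e : M ≅ M')
    (h : Subsingleton (A ⟶ M)) : Subsingleton (A ⟶ M') :=
  ⟨fun f g => by
    rw [← cancel_mono e.inv]
    exact h.elim _ _⟩

lemma subsingleton_hom_fiber (Y : Sheaf J AddCommGrpCat.{u}) (V : C) (a j : ℤ)
    (h : ∀ k : ℕ, (k : ℤ) = a + j → Subsingleton (CohSite.HU Y k V)) :
    Subsingleton (S.obj (CohCx.freeSheaf J V) ⟶ ((S.obj Y)⟦a⟧)⟦j⟧) :=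
  subsingleton_hom_of_iso ((shiftFunctorAdd' _ a j (a + j) rfl).app (S.obj Y))
    (subsingleton_hom_single_shift Y V (a + j) h)

lemma subsingleton_hom_fiber' (Y : Sheaf J AddCommGrpCat.{u}) (V : C) (a j : ℤ)
    (h : ∀ k : ℕ, (k : ℤ) = a + (j + 1) → Subsingleton (CohSite.HU Y k V)) :
    Subsingleton (S.obj (CohCx.freeSheaf J V) ⟶ (((S.obj Y)⟦a⟧)⟦(1 : ℤ)⟧)⟦j⟧) :=
  subsingleton_hom_of_iso ((shiftFunctorAdd' _ 1 j (j + 1) (by omega)).app ((S.obj Y)⟦a⟧))
    (subsingleton_hom_fiber Y V a (j + 1) h)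

variable (E : DerivedCategory (Sheaf J AddCommGrpCat.{u}))

lemma bijective_transition (n : ℕ) (j : ℤ) (V : C)
    (hv1 : ∀ k : ℕ, (k : ℤ) = (n : ℤ) + 1 + j →
      Subsingleton (CohSite.HU (CohCx.HD E (-(n : ℤ) - 1)) k V))
    (hv2 : ∀ k : ℕ, (k : ℤ) = (n : ℤ) + 1 + (j + 1) →
      Subsingleton (CohSite.HU (CohCx.HD E (-(n : ℤ) - 1)) k V)) :
    Function.Bijective (Preadditive.rightComp (S.obj (CohCx.freeSheaf J V))
      ((CohCx.truncTowerMap E n)⟦j⟧')) := by
  obtain ⟨f, h, hT⟩ := exists_fiber_single E n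
  have s1 := subsingleton_hom_fiber (CohCx.HD E (-(n : ℤ) - 1)) V ((n : ℤ) + 1) j hv1
  have s2 := subsingleton_hom_fiber' (CohCx.HD E (-(n : ℤ) - 1)) V ((n : ℤ) + 1) j hv2
  constructor
  · rw [injective_iff_map_eq_zero]
    intro ψ hψ
    obtain ⟨φ, hφ⟩ := co_exact₂ hT _ j ψ hψ
    rw [← hφ, s1.elim φ 0, zero_comp]
  · intro χ
    have hT' := rot_of_distTriang _ hT
    obtain ⟨ψ, hψ⟩ := co_exact₂ (f := CohCx.truncTowerMap E n) (g := h) hT' _ j χ (s2.elim _ _)
    exact ⟨ψ, hψ⟩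

/-- the vanishing condition at an object `V` -/
def Van (p : ℤ → ℤ) (V : C) : Prop :=
  ∀ (m : ℤ) (k : ℕ), p m < k → Subsingleton (CohSite.HU (CohCx.HD E (m - k)) k V)

/-- the threshold after which the transition maps on `H^j(V, -)` are bijective -/
def Nj (p : ℤ → ℤ) (j : ℤ) : ℕ := (max (p j - j) (p (j + 1) - j - 1)).toNat

variable {E}

lemma bijective_transition_of_van {p : ℤ → ℤ} {V : C} (hV : Van E p V) (j : ℤ) (n : ℕ)
    (hn : Nj p j ≤ n) :
    Function.Bijective (Preadditive.rightComp (S.obj (CohCx.freeSheaf J V))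
      ((CohCx.truncTowerMap E n)⟦j⟧')) := by
  have h1 : p j - j ≤ n := by
    have : p j - j ≤ (Nj p j : ℤ) := by
      unfold Nj
      omega
    omega
  have h2 : p (j + 1) - j - 1 ≤ n := by
    have : p (j + 1) - j - 1 ≤ (Nj p j : ℤ) := by
      unfold Nj
      omega
    omega
  apply bijective_transition E n j V
  · intro k hk
    have h3 := hV j k (by omega)
    have h4 : j - (k : ℤ) = -(n : ℤ) - 1 := by omega
    rw [h4] at h3
    exact h3
  · intro k hk
    have h3 := hV (j + 1) k (by omega)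
    have h4 : j + 1 - (k : ℤ) = -(n : ℤ) - 1 := by omega
    rw [h4] at h3
    exact h3

lemma injective_transition_of_van {p : ℤ → ℤ} {V : C} (hV : Van E p V) (m : ℤ) (nV : ℕ)
    (hn : Nj p m ≤ nV) (k : ℕ) :
    Function.Injective (Preadditive.rightComp (S.obj (CohCx.freeSheaf J V))
      ((CohCx.transition (CohCx.truncTower E) (CohCx.truncTowerMap E) nV k)⟦m⟧')) := by
  induction k with
  | zero =>
    intro x y hxy
    change x ≫ (𝟙 _)⟦m⟧' = y ≫ (𝟙 _)⟦m⟧' at hxy
    simpa using hxy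
  | succ k ih =>
    intro x y hxy
    change x ≫ (CohCx.truncTowerMap E (nV + k) ≫
      CohCx.transition (CohCx.truncTower E) (CohCx.truncTowerMap E) nV k)⟦m⟧' =
      y ≫ (CohCx.truncTowerMap E (nV + k) ≫
      CohCx.transition (CohCx.truncTower E) (CohCx.truncTowerMap E) nV k)⟦m⟧' at hxy
    rw [Functor.map_comp, ← Category.assoc, ← Category.assoc] at hxy
    exact (bijective_transition_of_van hV m (nV + k) (by omega)).1 (ih hxy)

lemma good_of_van {p : ℤ → ℤ} {V : C} (hV : Van E p V) (m : ℤ) (nV : ℕ) (hn : Nj p m ≤ nV) :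
    RlimInj.Good (CohCx.truncTower E) (CohCx.truncTowerMap E) m nV V := by
  refine ⟨?_, injective_transition_of_van hV m nV hn⟩
  apply limOneIsZero_of_eventually_surjective (Nj p (m - 1))
  intro n hn'
  exact (bijective_transition_of_van hV (m - 1) n hn').2

end Groth.Agent.Lib.Helper68.TruncRlim
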