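import Groth.Agent.Lib.Helper68.HLimSeq
import Groth.Agent.Lib.Helper68.RlimMilnor3
import Groth.Agent.Lib.Helper68.TruncRlim2

/-!
# Limit cones of towers of sheaves as derived limits; packaging of the Milnor sequence (helper68)
-/

set_option autoImplicit false
universe u
open CategoryTheory Limits Opposite

namespace Groth.Agent.Lib.Helper68.HLimSeq

open Groth.Agent.Lib.Helper68.HZeroLocal Groth.Agent.Lib.Helper68.HZeroSheaf DerivedCategory
open Groth.Agent.Lib.Helper68.DerLimSh

section Functor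

variable {C : Type u} [SmallCategory C] {J : GrothendieckTopology C}
  [HasDerivedCategory.{u} (Sheaf J AddCommGrpCat.{u})]
  (F : ℕᵒᵖ ⥤ Sheaf J AddCommGrpCat.{u})

/-- the objects of a tower given as a functor -/
abbrev Fobj : ℕ → Sheaf J AddCommGrpCat.{u} := fun n => F.obj (op n)

/-- the transition maps of a tower given as a functor -/
abbrev Ftr : ∀ n, Fobj F (n + 1) ⟶ Fobj F n := fun n => F.map (homOfLE (Nat.le_succ n)).op

variable (B : Set C)
  (hB : ∀ U : C, ∃ (ι : Type u) (Y : ι → C) (f : ∀ i, Y i ⟶ U),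
    Sieve.ofArrows Y f ∈ J U ∧ ∀ i, Y i ∈ B)
  (h1 : ∀ U ∈ B, ∀ (p n : ℕ), Subsingleton (CohSite.HU (F.obj (op n)) (p + 1) U))
  (h2 : ∀ U ∈ B, ∀ n : ℕ,
    Function.Surjective ((F.map (homOfLE (Nat.le_succ n)).op).hom.app (op U)).hom)
  [HasProduct (KK (Fobj F))] (c : Cone F) (hc : IsLimit c)

include hB h1 h2 hc in
/-- a limit cone of a tower of sheaves (with vanishing higher cohomology and surjective transition
maps on a basis) is a derived limit -/
theorem isRlimVia_of_isLimit :
    CohCx.IsRlimVia (KK (Fobj F)) (tt (Fobj F) (Ftr F)) (S.obj c.pt)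
      (fun n => S.map (c.π.app (op n))) := by
  let α : F ⟶ CohCx.opSequence (Fobj F) (Ftr F) := NatTrans.ofOpSequence (fun n => 𝟙 _) (fun n => by
    have h1 : (CohCx.opSequence (Fobj F) (Ftr F)).map (homOfLE (n.le_add_right 1)).op = Ftr F n :=
      Functor.ofOpSequence_map_homOfLE_succ (Ftr F) n
    exact (Category.comp_id _).trans (h1.symm.trans (Category.id_comp _).symm))
  have : IsIso α := by
    have : ∀ k, IsIso (α.app k) := fun k => by
      change IsIso (𝟙 _)
      infer_instance
    exact NatIso.isIso_of_isIso_app α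
  let e : c.pt ≅ Flim (Fobj F) (Ftr F) :=
    IsLimit.conePointsIsoOfNatIso hc (limit.isLimit _) (asIso α)
  have he : ∀ n, e.hom ≫ proj (Fobj F) (Ftr F) n = c.π.app (op n) := by
    intro n
    have h := IsLimit.conePointsIsoOfNatIso_hom_comp hc (limit.isLimit _) (asIso α) (op n)
    refine h.trans ?_
    exact Category.comp_id _
  exact isRlimVia_of_iso_Flim (Fobj F) (Ftr F) B hB h1
    (fun U hU => TruncRlim.limOneIsZero_of_surjective _ _ (fun k => h2 U hU k))
    (fun n => c.π.app (op n)) e he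

end Functor

section Algebra

variable {G : ℕ → Type u} [∀ n, AddCommGroup (G n)] (tG : ∀ n, G (n + 1) →+ G n)
  {M : Type u} [AddCommGroup M] {N : ℕ → Type u} [∀ n, AddCommGroup (N n)]
  (tN : ∀ n, N (n + 1) →+ N n) (r : ∀ n, M →+ N n)

/-- packaging the Milnor sequence as a pair of maps -/
theorem exists_alpha_beta (hr : ∀ n x, tN n (r (n + 1) x) = r n x)
    (hsurj : ∀ ξ : ∀ n, N n, (∀ n, tN n (ξ (n + 1)) = ξ n) → ∃ η : M, ∀ n, r n η = ξ n)
    (e : Nonempty ((AddMonoidHom.pi r).ker ≃+ Formal2.limOne G tG)) :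
    ∃ (α : Formal2.limOne G tG →+ M) (β : M →+ Formal2.limZero N tN),
      Function.Injective α ∧ Function.Surjective β ∧ α.range = β.ker ∧
      ∀ (x : M) (n : ℕ), (β x : ∀ n, N n) n = r n x := by
  obtain ⟨e⟩ := e
  have hmem : ∀ x : M, AddMonoidHom.pi r x ∈ Formal2.limZero N tN := by
    intro x
    rw [AddMonoidHom.mem_ker]
    funext n
    change r n x - tN n (r (n + 1) x) = 0
    rw [hr, sub_self]
  let β : M →+ Formal2.limZero N tN := (AddMonoidHom.pi r).codRestrict _ hmem
  let α : Formal2.limOne G tG →+ M :=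
    ((AddMonoidHom.pi r).ker.subtype).comp e.symm.toAddMonoidHom
  have hβker : β.ker = (AddMonoidHom.pi r).ker := by
    ext x
    rw [AddMonoidHom.mem_ker, AddMonoidHom.mem_ker]
    constructor
    · intro h
      exact congrArg Subtype.val h
    · intro h
      exact Subtype.ext h
  refine ⟨α, β, ?_, ?_, ?_, fun x n => rfl⟩
  · intro a b hab
    apply e.symm.injective
    exact Subtype.ext hab
  · rintro ⟨ξ, hξ⟩
    rw [AddMonoidHom.mem_ker] at hξ
    obtain ⟨η, hη⟩ := hsurj ξ (fun n => by
      have := congrFun hξ n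
      change ξ n - tN n (ξ (n + 1)) = 0 at this
      exact (sub_eq_zero.1 this).symm)
    refine ⟨η, Subtype.ext ?_⟩
    funext n
    exact hη n
  · rw [hβker]
    ext x
    constructor
    · rintro ⟨a, rfl⟩
      exact (e.symm a).2
    · intro hx
      exact ⟨e ⟨x, hx⟩, by
        change ((e.symm (e ⟨x, hx⟩) : (AddMonoidHom.pi r).ker) : M) = x
        rw [AddEquiv.symm_apply_apply]⟩

end Algebra

end Groth.Agent.Lib.Helper68.HLimSeq
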