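import Mathlib.Algebra.Homology.DerivedCategory.FullyFaithful
import Mathlib.Algebra.Homology.DerivedCategory.Fractions
import Mathlib.Algebra.Homology.SingleHomology
import Mathlib.CategoryTheory.Abelian.Refinements

set_option autoImplicit false
universe w v u
open CategoryTheory CategoryTheory.Limits

namespace Groth.Agent.Lib.Helper68.HZeroLocal

open DerivedCategory HomologicalComplex

variable {𝒜 : Type u} [Category.{v} 𝒜] [Abelian 𝒜] [HasDerivedCategory.{w} 𝒜]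

/-- `S = singleFunctor 0`, `H = homologyFunctor 0` -/
noncomputable abbrev S : 𝒜 ⥤ DerivedCategory 𝒜 := singleFunctor 𝒜 0
noncomputable abbrev H : DerivedCategory 𝒜 ⥤ 𝒜 := homologyFunctor 𝒜 0

/-- the map `Hom_D(A[0], K) → Hom(A, H⁰ K)` -/
noncomputable def Φ {A : 𝒜} {K : DerivedCategory 𝒜} (ξ : S.obj A ⟶ K) : A ⟶ H.obj K :=
  (singleFunctorCompHomologyFunctorIso 𝒜 0).inv.app A ≫ H.map ξ

lemma Φ_comp {A : 𝒜} {K K' : DerivedCategory 𝒜} (ξ : S.obj A ⟶ K) (κ : K ⟶ K') :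
    Φ (ξ ≫ κ) = Φ ξ ≫ H.map κ := by
  simp [Φ]

lemma Φ_precomp {A A' : 𝒜} {K : DerivedCategory 𝒜} (π : A' ⟶ A) (ξ : S.obj A ⟶ K) :
    Φ (S.map π ≫ ξ) = π ≫ Φ ξ := by
  have := (singleFunctorCompHomologyFunctorIso 𝒜 0).inv.naturality π
  dsimp at this
  simp only [Φ, Functor.map_comp]
  rw [← Category.assoc, ← this, Category.assoc]

lemma Φ_add {A : 𝒜} {K : DerivedCategory 𝒜} (ξ ξ' : S.obj A ⟶ K) :
    Φ (ξ + ξ') = Φ ξ + Φ ξ' := by
  simp [Φ]

lemma Φ_eq_zero_iff {A : 𝒜} {K : DerivedCategory 𝒜} (ξ : S.obj A ⟶ K) :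
    Φ ξ = 0 ↔ H.map ξ = 0 := by
  constructor
  · intro h
    have := congrArg (fun k => (singleFunctorCompHomologyFunctorIso 𝒜 0).hom.app A ≫ k) h
    simpa [Φ] using this
  · intro h
    simp [Φ, h]


set_option backward.isDefEq.respectTransparency false in
lemma eps_inv_app (A : 𝒜) :
    (singleFunctorCompHomologyFunctorIso 𝒜 0).inv.app A =
      (singleObjHomologySelfIso (ComplexShape.up ℤ) 0 A).inv ≫
        (homologyFunctorFactors 𝒜 0).inv.app ((single 𝒜 (ComplexShape.up ℤ) 0).obj A) := by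
  simp [singleFunctorCompHomologyFunctorIso, homologyFunctorSingleIso]
  rw [singleFunctorsPostcompQIso_inv_hom]
  erw [NatTrans.id_app, CategoryTheory.Functor.map_id, Category.comp_id]
  rfl

lemma Φ_Q_map {A : 𝒜} {M : CochainComplex 𝒜 ℤ}
    (f : (single 𝒜 (ComplexShape.up ℤ) 0).obj A ⟶ M) :
    Φ (K := Q.obj M) (Q.map f) ≫ (homologyFunctorFactors 𝒜 0).hom.app M =
      (singleObjHomologySelfIso (ComplexShape.up ℤ) 0 A).inv ≫ homologyMap f 0 := by
  have h1 := (homologyFunctorFactors 𝒜 0).hom.naturality f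
  dsimp at h1
  dsimp only [Φ]
  rw [Category.assoc]
  erw [h1]
  rw [eps_inv_app]
  erw [Category.assoc, Iso.inv_hom_id_app_assoc]
  rfl

end Groth.Agent.Lib.Helper68.HZeroLocal
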