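import Groth.Agent.Lib.Helper68.HZeroLocal

set_option autoImplicit false
universe w v u
open CategoryTheory CategoryTheory.Limits

namespace Groth.Agent.Lib.Helper68.HZeroLocal

open DerivedCategory HomologicalComplex

variable {𝒜 : Type u} [Category.{v} 𝒜] [Abelian 𝒜] [HasDerivedCategory.{w} 𝒜]

/-- the chain map `A[0] → M` attached to a cocycle -/
noncomputable def ofCycle {A : 𝒜} {M : CochainComplex 𝒜 ℤ} (z : A ⟶ M.cycles 0) :
    (single 𝒜 (ComplexShape.up ℤ) 0).obj A ⟶ M :=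
  mkHomFromSingle (z ≫ M.iCycles 0) (fun k _ => by simp)

lemma ofCycle_f {A : 𝒜} {M : CochainComplex 𝒜 ℤ} (z : A ⟶ M.cycles 0) :
    (ofCycle z).f 0 = (singleObjXSelf (ComplexShape.up ℤ) 0 A).hom ≫ z ≫ M.iCycles 0 :=
  mkHomFromSingle_f _ _

lemma cyclesMap_ofCycle {A : 𝒜} {M : CochainComplex 𝒜 ℤ} (z : A ⟶ M.cycles 0) :
    (singleObjCyclesSelfIso (ComplexShape.up ℤ) 0 A).inv ≫ cyclesMap (ofCycle z) 0 = z := by
  rw [← cancel_mono (M.iCycles 0), Category.assoc, cyclesMap_i, ofCycle_f,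
    singleObjCyclesSelfIso_inv_iCycles_assoc, Iso.inv_hom_id_assoc]

lemma Φ_ofCycle {A : 𝒜} {M : CochainComplex 𝒜 ℤ} (z : A ⟶ M.cycles 0) :
    Φ (K := Q.obj M) (Q.map (ofCycle z)) ≫ (homologyFunctorFactors 𝒜 0).hom.app M =
      z ≫ M.homologyπ 0 := by
  rw [Φ_Q_map, ← singleObjCyclesSelfIso_inv_homologyπ, Category.assoc, homologyπ_naturality,
    ← Category.assoc, cyclesMap_ofCycle]


/-- surjectivity of `Φ` up to refinement, complex version -/
lemma exists_refinement_surj_Q {A : 𝒜} (M : CochainComplex 𝒜 ℤ) (σ : A ⟶ H.obj (Q.obj M)) :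
    ∃ (A' : 𝒜) (π : A' ⟶ A) (_ : Epi π) (ξ : S.obj A' ⟶ Q.obj M), Φ ξ = π ≫ σ := by
  let σ' : A ⟶ M.homology 0 := σ ≫ (homologyFunctorFactors 𝒜 0).hom.app M
  refine ⟨pullback σ' (M.homologyπ 0), pullback.fst _ _, inferInstance,
    Q.map (ofCycle (pullback.snd σ' (M.homologyπ 0))), ?_⟩
  rw [← cancel_mono ((homologyFunctorFactors 𝒜 0).hom.app M), Φ_ofCycle, Category.assoc]
  exact pullback.condition.symm

/-- surjectivity of `Φ` up to refinement -/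
lemma exists_refinement_surj {A : 𝒜} (K : DerivedCategory 𝒜) (σ : A ⟶ H.obj K) :
    ∃ (A' : 𝒜) (π : A' ⟶ A) (_ : Epi π) (ξ : S.obj A' ⟶ K), Φ ξ = π ≫ σ := by
  let M := Q.objPreimage K
  let e : Q.obj M ≅ K := Q.objObjPreimageIso K
  obtain ⟨A', π, hπ, ξ, hξ⟩ := exists_refinement_surj_Q M (σ ≫ H.map e.inv)
  refine ⟨A', π, hπ, ξ ≫ e.hom, ?_⟩
  rw [Φ_comp, hξ, Category.assoc, Category.assoc, ← Functor.map_comp, e.inv_hom_id,
    CategoryTheory.Functor.map_id, Category.comp_id]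

end Groth.Agent.Lib.Helper68.HZeroLocal
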