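import Groth.Prelude.Def_W4c1hilbpnTgt
import Mathlib.LinearAlgebra.Dimension.Finrank
import Mathlib.RingTheory.Finiteness.Defs
import Mathlib.RingTheory.Noetherian.Basic
import Mathlib.RingTheory.Finiteness.Basic
import Mathlib.LinearAlgebra.FiniteDimensional.Defs

/-! Basic facts on monomial ideals used for the `W4c1hilbpn` rows (helper68). -/

set_option autoImplicit false
universe u

namespace Groth.Agent.Lib.Helper68

open W4c1hilbpn MvPolynomial

variable {σ : Type*} {k : Type u} [Field k]

/-- The classes of the monomials outside a monomial ideal are linearly independent in the quotient. -/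
theorem linearIndependent_monomials_not_mem (I : Ideal (MvPolynomial σ k)) (hI : IsMonomial I) :
    LinearIndependent k (fun β : {β : σ →₀ ℕ // β ∉ exps I} =>
      Ideal.Quotient.mk I (monomial β.1 (1 : k))) := by
  classical
  rw [linearIndependent_iff]
  intro l hl
  rw [Finsupp.linearCombination_apply, Finsupp.sum] at hl
  have h1 : (∑ b ∈ l.support, l b • (Ideal.Quotient.mk I) ((monomial b.1) (1 : k)))
      = Ideal.Quotient.mk I (∑ b ∈ l.support, monomial b.1 (l b)) := by
    rw [map_sum]
    refine Finset.sum_congr rfl fun b _ => ?_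
    rw [← Ideal.Quotient.mkₐ_eq_mk k, ← map_smul, smul_monomial, smul_eq_mul, mul_one]
  rw [h1, Ideal.Quotient.eq_zero_iff_mem] at hl
  by_contra hne
  obtain ⟨b, hb⟩ := Finsupp.ne_iff.mp hne
  simp only [Finsupp.coe_zero, Pi.zero_apply] at hb
  have hcoeff : coeff b.1 (∑ c ∈ l.support, monomial c.1 (l c)) = l b := by
    rw [coeff_sum]
    simp only [coeff_monomial]
    rw [Finset.sum_eq_single b]
    · simp
    · intro c _ hcb
      rw [if_neg]
      intro h
      exact hcb (Subtype.ext h)
    · intro hbs
      simp only [Finsupp.mem_support_iff, not_not] at hbs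
      simp [hbs]
  have : b.1 ∈ (∑ c ∈ l.support, monomial c.1 (l c)).support := by
    rw [mem_support_iff, hcoeff]; exact hb
  exact b.2 (hI _ hl _ this)

/-- A monomial ideal of finite colength misses only finitely many monomials. -/
theorem finite_not_mem_exps (I : Ideal (MvPolynomial σ k)) (hI : IsMonomial I)
    [Module.Finite k (MvPolynomial σ k ⧸ I)] :
    Finite {β : σ →₀ ℕ // β ∉ exps I} :=
  (linearIndependent_monomials_not_mem I hI).finite_of_isNoetherian

end Groth.Agent.Lib.Helper68
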