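import Groth.Prelude.Def_CGrpSh2
import Groth.Agent.Lib.Helper68.JShriekSheaf
import Groth.Agent.Lib.Cohomology.Helper3_RDerFunSES

open CategoryTheory Limits Opposite

namespace Groth.Agent.Lib.Helper68.HomShExact

universe w v' u'

section Sections
variable {C : Type u'} [Category.{v'} C] {J : GrothendieckTopology C}

/-- Sectionwise criterion for left exactness of a short complex of abelian sheaves. -/
lemma exact_and_mono_of_sections [HasSheafify J AddCommGrpCat.{w}]
    (S : ShortComplex (Sheaf J AddCommGrpCat.{w}))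
    (h_inj : ∀ X : Cᵒᵖ, Function.Injective (S.f.hom.app X))
    (h_ex : ∀ (X : Cᵒᵖ) (y : S.X₂.obj.obj X), S.g.hom.app X y = 0 → ∃ x, S.f.hom.app X x = y) :
    S.Exact ∧ Mono S.f := by
  rw [ShortComplex.exact_and_mono_f_iff_f_is_kernel]
  refine ⟨?_⟩
  apply isLimitOfReflects (sheafToPresheaf J AddCommGrpCat.{w})
  refine (KernelFork.isLimitMapConeEquiv _ _).symm ?_
  apply evaluationJointlyReflectsLimits
  intro X
  refine (KernelFork.isLimitMapConeEquiv _ _).symm ?_
  let T : ShortComplex AddCommGrpCat.{w} := ShortComplex.mk (S.f.hom.app X) (S.g.hom.app X) (by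
    exact congrArg (fun k => k.hom.app X) S.zero)
  have hT : T.Exact ∧ Mono T.f := by
    constructor
    · rw [ShortComplex.ab_exact_iff]
      exact h_ex X
    · rw [AddCommGrpCat.mono_iff_injective]
      exact h_inj X
  exact (T.exact_and_mono_f_iff_f_is_kernel.1 hT).some

lemma epi_of_sections_surjective {F G : Sheaf J AddCommGrpCat.{w}} (φ : F ⟶ G)
    (h : ∀ X : Cᵒᵖ, Function.Surjective (φ.hom.app X)) : Epi φ := by
  have : ∀ X, Epi (φ.hom.app X) := fun X => (AddCommGrpCat.epi_iff_surjective _).2 (h X)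
  have : Epi φ.hom := NatTrans.epi_of_epi_app _
  exact Sheaf.Hom.epi_of_presheaf_epi _ _ _

end Sections

section HomSh

universe u

variable {C : Type (u + 1)} [Category.{u} C] (J : GrothendieckTopology C)

instance ab4Small' : AB4OfSize.{u} AddCommGrpCat.{u + 1} :=
  AB4OfSize_shrink.{u, u + 1} AddCommGrpCat.{u + 1}

variable [HasSheafify J AddCommGrpCat.{u + 1}]

/-- Restriction to a slice site. -/
abbrev res (X : C) : Sheaf J AddCommGrpCat.{u + 1} ⥤ Sheaf (J.over X) AddCommGrpCat.{u + 1} :=
  J.overPullback AddCommGrpCat.{u + 1} X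

instance (X : C) : (res J X).IsRightAdjoint :=
  (JShriek.adj J X AddCommGrpCat.{u + 1}).isRightAdjoint

instance (X : C) : (res J X).IsLeftAdjoint :=
  ((Over.forget X).sheafAdjunctionCocontinuous AddCommGrpCat.{u + 1} (J.over X) J).isLeftAdjoint

lemma injective_res (X : C) (I : Sheaf J AddCommGrpCat.{u + 1}) [Injective I] :
    Injective ((res J X).obj I) :=
  Injective.injective_of_adjoint (JShriek.adj J X AddCommGrpCat.{u + 1}) I

lemma shortExact_res (X : C) {S : ShortComplex (Sheaf J AddCommGrpCat.{u + 1})} (hS : S.ShortExact) :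
    (S.map (res J X)).ShortExact :=
  hS.map_of_exact (res J X)

variable {J}

/-- Left exactness of the internal Hom in the first variable. -/
lemma homSh_leftExact₁ {S : ShortComplex (Sheaf J AddCommGrpCat.{u + 1})} (hS : S.ShortExact)
    (M : Sheaf J AddCommGrpCat.{u + 1}) :
    (S.op.map ((HomSh.homShBi J).flip.obj M)).Exact ∧
      Mono (S.op.map ((HomSh.homShBi J).flip.obj M)).f := by
  apply exact_and_mono_of_sections
  · intro X
    have hX := shortExact_res J X.unop hS
    have : Epi ((res J X.unop).map S.g) := hX.epi_g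
    refine (injective_iff_map_eq_zero _).2 ?_
    intro (φ : (res J X.unop).obj S.X₃ ⟶ (res J X.unop).obj M) hφ
    change (res J X.unop).map S.g ≫ φ ≫ (res J X.unop).map (𝟙 M) = 0 at hφ
    rw [CategoryTheory.Functor.map_id, Category.comp_id] at hφ
    exact (cancel_epi ((res J X.unop).map S.g)).1 (hφ.trans comp_zero.symm)
  · intro X
    intro (ψ : (res J X.unop).obj S.X₂ ⟶ (res J X.unop).obj M) hψ
    have hX := shortExact_res J X.unop hS
    have := hX.epi_g
    change (res J X.unop).map S.f ≫ ψ ≫ (res J X.unop).map (𝟙 M) = 0 at hψ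
    rw [CategoryTheory.Functor.map_id, Category.comp_id] at hψ
    obtain ⟨φ, hφ⟩ : ∃ φ : (res J X.unop).obj S.X₃ ⟶ (res J X.unop).obj M,
        (res J X.unop).map S.g ≫ φ = ψ := ⟨hX.exact.desc ψ hψ, hX.exact.g_desc ψ hψ⟩
    refine ⟨φ, ?_⟩
    change (res J X.unop).map S.g ≫ φ ≫ (res J X.unop).map (𝟙 M) = ψ
    rw [CategoryTheory.Functor.map_id, Category.comp_id]
    exact hφ

/-- Left exactness of the internal Hom in the second variable. -/
lemma homSh_leftExact₂ {S : ShortComplex (Sheaf J AddCommGrpCat.{u + 1})} (hS : S.ShortExact)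
    (F : Sheaf J AddCommGrpCat.{u + 1}) :
    (S.map (HomSh.homShFunctor J F)).Exact ∧ Mono ((HomSh.homShFunctor J F).map S.f) := by
  apply exact_and_mono_of_sections
  · intro X
    have hX := shortExact_res J X.unop hS
    have : Mono ((res J X.unop).map S.f) := hX.mono_f
    refine (injective_iff_map_eq_zero _).2 ?_
    intro (φ : (res J X.unop).obj F ⟶ (res J X.unop).obj S.X₁) hφ
    change (res J X.unop).map (𝟙 F) ≫ φ ≫ (res J X.unop).map S.f = 0 at hφ
    rw [CategoryTheory.Functor.map_id, Category.id_comp] at hφ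
    exact (cancel_mono ((res J X.unop).map S.f)).1 (hφ.trans zero_comp.symm)
  · intro X
    intro (ψ : (res J X.unop).obj F ⟶ (res J X.unop).obj S.X₂) hψ
    have hX := shortExact_res J X.unop hS
    have := hX.mono_f
    change (res J X.unop).map (𝟙 F) ≫ ψ ≫ (res J X.unop).map S.g = 0 at hψ
    rw [CategoryTheory.Functor.map_id, Category.id_comp] at hψ
    obtain ⟨φ, hφ⟩ : ∃ φ : (res J X.unop).obj F ⟶ (res J X.unop).obj S.X₁,
        φ ≫ (res J X.unop).map S.f = ψ := ⟨hX.exact.lift ψ hψ, hX.exact.lift_f ψ hψ⟩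
    refine ⟨φ, ?_⟩
    change (res J X.unop).map (𝟙 F) ≫ φ ≫ (res J X.unop).map S.f = ψ
    rw [CategoryTheory.Functor.map_id, Category.id_comp]
    exact hφ

instance (F : Sheaf J AddCommGrpCat.{u + 1}) : PreservesFiniteLimits (HomSh.homShFunctor J F) :=
  ((Functor.preservesFiniteLimits_tfae (HomSh.homShFunctor J F)).out 0 3).1
    (fun _ hS => homSh_leftExact₂ hS F)

/-- The internal Hom into an injective sheaf is exact in the first variable. -/
lemma epi_homShMap_of_injective {A B : Sheaf J AddCommGrpCat.{u + 1}} (f : A ⟶ B) [Mono f]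
    (I : Sheaf J AddCommGrpCat.{u + 1}) [Injective I] :
    Epi (HomSh.homShMap J f (𝟙 I)) := by
  apply epi_of_sections_surjective
  intro X
  intro (ψ : (res J X.unop).obj A ⟶ (res J X.unop).obj I)
  have := injective_res J X.unop I
  have : Mono ((res J X.unop).map f) := inferInstance
  refine ⟨Injective.factorThru ψ ((res J X.unop).map f), ?_⟩
  change (res J X.unop).map f ≫ Injective.factorThru _ _ ≫ (res J X.unop).map (𝟙 I) = ψ
  rw [CategoryTheory.Functor.map_id, Category.comp_id]
  exact Injective.comp_factorThru _ _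

omit [HasSheafify J AddCommGrpCat.{u + 1}] in
/-- Naturality of the double duality map. -/
lemma bidualMap_naturality {F F' : Sheaf J AddCommGrpCat.{u + 1}} (α : F ⟶ F')
    (M : Sheaf J AddCommGrpCat.{u + 1}) :
    HomSh.bidualMap J F M ≫ HomSh.homShMap J (HomSh.homShMap J α (𝟙 M)) (𝟙 M) =
      α ≫ HomSh.bidualMap J F' M := by
  refine Sheaf.hom_ext (NatTrans.ext (funext fun X => AddCommGrpCat.ext fun s => ?_))
  refine Sheaf.hom_ext (NatTrans.ext (funext fun U => AddCommGrpCat.ext fun φ => ?_))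
  change φ.hom.app (op (Over.mk (𝟙 _))) (α.hom.app (op (unop U).left) (F.obj.map (unop U).hom.op s)) =
    φ.hom.app (op (Over.mk (𝟙 _))) (F'.obj.map (unop U).hom.op (α.hom.app X s))
  refine congrArg (φ.hom.app (op (Over.mk (𝟙 _)))) ?_
  exact ConcreteCategory.congr_hom (α.hom.naturality (unop U).hom.op) s

section Ext

open Groth.Agent.Lib.Cohomology.RDerFunSES

variable [HasInjectiveResolutions (Sheaf J AddCommGrpCat.{u + 1})]

/-- The sequence of functors `𝓗om(X₃, -) ⟶ 𝓗om(X₂, -) ⟶ 𝓗om(X₁, -)` attached to a short exact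
sequence, which is short exact on injective sheaves. -/
noncomputable def funSES {S : ShortComplex (Sheaf J AddCommGrpCat.{u + 1})} (hS : S.ShortExact) :
    FunSES (Sheaf J AddCommGrpCat.{u + 1}) (Sheaf J AddCommGrpCat.{u + 1}) where
  F₁ := HomSh.homShFunctor J S.X₃
  F₂ := HomSh.homShFunctor J S.X₂
  F₃ := HomSh.homShFunctor J S.X₁
  α := (HomSh.homShBi J).map S.g.op
  β := (HomSh.homShBi J).map S.f.op
  zero M := (S.op.map ((HomSh.homShBi J).flip.obj M)).zero
  exact I hI := by
    have h := homSh_leftExact₁ hS I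
    have : Mono S.f := hS.mono_f
    have he : Epi (HomSh.homShMap J S.f (𝟙 I)) := epi_homShMap_of_injective S.f I
    exact ShortComplex.ShortExact.mk' h.1 h.2 he

omit [HasSheafify J AddCommGrpCat.{u + 1}] [HasInjectiveResolutions (Sheaf J AddCommGrpCat.{u + 1})] in
/-- General form: the end of the long exact sequence in degree zero. -/
lemma epi_β_app_of_isZero {A B : Type*} [Category A] [Category B] [Abelian A] [Abelian B]
    [HasInjectiveResolutions A] (T : FunSES A B)
    [PreservesFiniteLimits T.F₂] [PreservesFiniteLimits T.F₃] (M : A)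
    (hz : IsZero ((T.F₁.rightDerived 1).obj M)) : Epi (T.β.app M) := by
  have hz' : IsZero ((T.F₁.rightDerived (0 + 1)).obj M) := hz
  have h3 := T.exact₃ M 0
  have he : Epi ((NatTrans.rightDerived T.β 0).app M) := h3.epi_f (hz'.eq_of_tgt _ _)
  have hn := toRightDerivedZero_naturality T.β M
  have : Epi (T.β.app M ≫ T.F₃.toRightDerivedZero.app M) := by
    rw [← hn]
    exact epi_comp _ _
  have h := epi_comp (T.β.app M ≫ T.F₃.toRightDerivedZero.app M)
    (inv (T.F₃.toRightDerivedZero.app M))
  simpa using h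

/-- If `𝓔xt¹(X₃, M) = 0`, then `𝓗om(X₂, M) ⟶ 𝓗om(X₁, M)` is an epimorphism. -/
lemma epi_homShMap_of_isZero_extSh {S : ShortComplex (Sheaf J AddCommGrpCat.{u + 1})}
    (hS : S.ShortExact) (M : Sheaf J AddCommGrpCat.{u + 1})
    (hM : IsZero ((HomSh.extSh J S.X₃ 1).obj M)) :
    Epi (HomSh.homShMap J S.f (𝟙 M)) := by
  rw [HomSh.extSh_def] at hM
  have i2 : PreservesFiniteLimits (funSES hS).F₂ := by
    change PreservesFiniteLimits (HomSh.homShFunctor J S.X₂)
    infer_instance
  have i3 : PreservesFiniteLimits (funSES hS).F₃ := by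
    change PreservesFiniteLimits (HomSh.homShFunctor J S.X₁)
    infer_instance
  exact epi_β_app_of_isZero (funSES hS) M hM

/-- Double duality for the middle term of a short exact sequence. -/
theorem isIso_bidualMap_of_shortExact {S : ShortComplex (Sheaf J AddCommGrpCat.{u + 1})}
    (hS : S.ShortExact) (M : Sheaf J AddCommGrpCat.{u + 1})
    (hM : IsZero ((HomSh.extSh J S.X₃ 1).obj M))
    (h₁ : IsIso (HomSh.bidualMap J S.X₁ M)) (h₃ : IsIso (HomSh.bidualMap J S.X₃ M)) :
    IsIso (HomSh.bidualMap J S.X₂ M) := by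
  let D := (HomSh.homShBi J).flip.obj M
  let S' : ShortComplex (Sheaf J AddCommGrpCat.{u + 1}) := S.op.map D
  have hS' : S'.ShortExact := by
    have h := homSh_leftExact₁ hS M
    have he : Epi (HomSh.homShMap J S.f (𝟙 M)) := epi_homShMap_of_isZero_extSh hS M hM
    exact ShortComplex.ShortExact.mk' h.1 h.2 he
  let T : ShortComplex (Sheaf J AddCommGrpCat.{u + 1}) := S'.op.map D
  have hT := homSh_leftExact₁ hS' M
  let φ : S ⟶ T := ShortComplex.homMk (HomSh.bidualMap J S.X₁ M) (HomSh.bidualMap J S.X₂ M)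
    (HomSh.bidualMap J S.X₃ M) (bidualMap_naturality S.f M) (bidualMap_naturality S.g M)
  have : IsIso φ.τ₁ := h₁
  have : IsIso φ.τ₃ := h₃
  have := hS.epi_g
  have hepi : Epi T.g := by
    have h1 : Epi (S.g ≫ φ.τ₃) := epi_comp _ _
    rw [← φ.comm₂₃] at h1
    exact epi_of_epi φ.τ₂ T.g
  have hmono : Mono T.f := hT.2
  have hT2 : T.ShortExact := ShortComplex.ShortExact.mk' hT.1 hmono hepi
  exact ShortComplex.isIso₂_of_shortExact_of_isIso₁₃ φ hS hT2

end Ext

end HomSh

end Groth.Agent.Lib.Helper68.HomShExact
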