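import Mathlib.CategoryTheory.Limits.Indization.IndObject
import Mathlib.CategoryTheory.Limits.Presheaf
import Mathlib.CategoryTheory.Filtered.Final
import Mathlib.CategoryTheory.Functor.KanExtension.Adjunction
import Mathlib.CategoryTheory.Adjunction.FullyFaithful
import Mathlib.CategoryTheory.Limits.Types.Colimits
import Mathlib.CategoryTheory.Limits.FunctorCategory.Basic

/-!
# `Ind(u)` is an equivalence iff `u` is fully faithful and Cauchy dense (SGA4 I 8.?)
-/

open CategoryTheory Limits Opposite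

namespace Groth.Agent.Lib.Helper68.IndEquiv

universe u

variable {C : Type u} [SmallCategory C] {C' : Type u} [SmallCategory C'] (u : C ⥤ C')

/-- `u_!` on presheaves of sets. -/
noncomputable abbrev lanF : (Cᵒᵖ ⥤ Type u) ⥤ (C'ᵒᵖ ⥤ Type u) := u.op.lan

noncomputable instance : PreservesColimitsOfSize.{u, u} (lanF u) :=
  (u.op.lanAdjunction (Type u)).leftAdjoint_preservesColimits

/-- `u_! (y X) ≅ y (u X)`, naturally. -/
noncomputable def yonedaLanIso : yoneda ⋙ lanF u ≅ u ⋙ yoneda :=
  (Functor.isoWhiskerRight uliftYonedaIsoYoneda.{u}.symm (lanF u)) ≪≫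
    (Presheaf.compULiftYonedaIsoULiftYonedaCompLan.{u} u).symm ≪≫
    Functor.isoWhiskerLeft u uliftYonedaIsoYoneda.{u}

lemma yoneda_map_map {X Y : C} (f : X ⟶ Y) :
    yoneda.map (u.map f) = (yonedaLanIso u).inv.app X ≫ (lanF u).map (yoneda.map f) ≫
      (yonedaLanIso u).hom.app Y := by
  have := (yonedaLanIso u).hom.naturality f
  simp only [Functor.comp_map] at this
  rw [this, Iso.inv_hom_id_app_assoc]

section Forward

variable (h1 : ∀ (F G : Cᵒᵖ ⥤ Type u), IsIndObject F → IsIndObject G →
        Function.Bijective (fun φ : F ⟶ G => (lanF u).map φ))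

include h1 in
lemma faithful_of_bijective : u.Faithful where
  map_injective {X Y} f g hfg := by
    have e := yoneda_map_map u f
    rw [hfg, yoneda_map_map u g] at e
    have e2 : (lanF u).map (yoneda.map g) = (lanF u).map (yoneda.map f) := by
      have := congr_arg (fun m => (yonedaLanIso u).hom.app X ≫ m ≫ (yonedaLanIso u).inv.app Y) e
      simpa using this
    have e3 := (h1 _ _ (isIndObject_yoneda X) (isIndObject_yoneda Y)).1 e2
    exact (yoneda.map_injective e3).symm

include h1 in
lemma full_of_bijective : u.Full where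
  map_surjective {X Y} g := by
    obtain ⟨φ, hφ⟩ := (h1 _ _ (isIndObject_yoneda X) (isIndObject_yoneda Y)).2
      ((yonedaLanIso u).hom.app X ≫ yoneda.map g ≫ (yonedaLanIso u).inv.app Y)
    obtain ⟨f, rfl⟩ := yoneda.map_surjective φ
    refine ⟨f, yoneda.map_injective ?_⟩
    rw [yoneda_map_map u f]
    change (yonedaLanIso u).inv.app X ≫ (lanF u).map (yoneda.map f) ≫ _ = _
    have hφ' : (lanF u).map (yoneda.map f) =
      (yonedaLanIso u).hom.app X ≫ yoneda.map g ≫ (yonedaLanIso u).inv.app Y := hφ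
    rw [hφ']
    simp

lemma exists_retract_of_iso (X' : C') (F : Cᵒᵖ ⥤ Type u) (hF : IsIndObject F)
    (e : (lanF u).obj F ≅ yoneda.obj X') :
    ∃ (X : C) (i : X' ⟶ u.obj X) (r : u.obj X ⟶ X'), i ≫ r = 𝟙 X' := by
  let P := hF.presentation
  have hc : IsColimit ((lanF u).mapCocone P.cocone) :=
    isColimitOfPreserves (lanF u) P.coconeIsColimit
  have hc' := isColimitOfPreserves ((evaluation C'ᵒᵖ (Type u)).obj (op X')) hc
  obtain ⟨i, z, hz⟩ := Types.jointly_surjective_of_isColimit hc' (e.inv.app (op X') (𝟙 X'))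
  let ei := (yonedaLanIso u).app (P.F.obj i)
  let ρ : yoneda.obj (u.obj (P.F.obj i)) ⟶ yoneda.obj X' :=
    ei.inv ≫ ((lanF u).mapCocone P.cocone).ι.app i ≫ e.hom
  let z' : X' ⟶ u.obj (P.F.obj i) := ei.hom.app (op X') z
  refine ⟨P.F.obj i, z', yonedaEquiv ρ, ?_⟩
  have h2 : ρ.app (op X') z' = 𝟙 X' := by
    change e.hom.app (op X') ((((lanF u).mapCocone P.cocone).ι.app i).app (op X')
      (ei.inv.app (op X') (ei.hom.app (op X') z))) = 𝟙 X'
    have h3 : ei.inv.app (op X') (ei.hom.app (op X') z) = z := by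
      have := ConcreteCategory.congr_hom (NatTrans.congr_app ei.hom_inv_id (op X')) z
      simpa using this
    rw [h3]
    have h4 : (((lanF u).mapCocone P.cocone).ι.app i).app (op X') z =
        e.inv.app (op X') (𝟙 X') := hz
    rw [h4]
    have := ConcreteCategory.congr_hom (NatTrans.congr_app e.inv_hom_id (op X')) (𝟙 X')
    simpa using this
  have h5 : ρ.app (op X') z' = z' ≫ yonedaEquiv ρ := by
    have := map_yonedaEquiv ρ z'
    rw [← this]
    rfl
  rw [← h5, h2]

end Forward

section Backward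

variable [u.Full] [u.Faithful]

/-- `u_!` is fully faithful when `u` is. -/
noncomputable def lanFullyFaithful : (lanF u).FullyFaithful :=
  (u.op.lanAdjunction (Type u)).fullyFaithfulLOfIsIsoUnit

lemma bijective_map (F G : Cᵒᵖ ⥤ Type u) :
    Function.Bijective (fun φ : F ⟶ G => (lanF u).map φ) :=
  (lanFullyFaithful u).map_bijective F G

variable (G' : C'ᵒᵖ ⥤ Type u)

/-- transport of an element. -/
def toHom (a : CostructuredArrow yoneda (u.op ⋙ G')) : yoneda.obj (u.obj a.left) ⟶ G' :=
  yonedaEquiv.symm (show G'.obj (op (u.obj a.left)) from (yonedaEquiv (F := u.op ⋙ G') a.hom))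

omit [u.Full] [u.Faithful] in
lemma yonedaEquiv_toHom (a : CostructuredArrow yoneda (u.op ⋙ G')) :
    yonedaEquiv (toHom u G' a) = (yonedaEquiv (F := u.op ⋙ G') a.hom : G'.obj (op (u.obj a.left))) :=
  Equiv.apply_symm_apply _ _

omit [u.Full] [u.Faithful] in
lemma toHom_w {a b : CostructuredArrow yoneda (u.op ⋙ G')} (k : a.left ⟶ b.left) :
    yoneda.map (u.map k) ≫ toHom u G' b = toHom u G' a ↔ yoneda.map k ≫ b.hom = a.hom := by
  rw [← yonedaEquiv.apply_eq_iff_eq, ← yonedaEquiv_naturality, yonedaEquiv_toHom, yonedaEquiv_toHom,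
    ← (yonedaEquiv (F := u.op ⋙ G')).apply_eq_iff_eq, ← yonedaEquiv_naturality]
  rfl

/-- The comparison functor between categories of elements. -/
@[simps]
def Φ : CostructuredArrow yoneda (u.op ⋙ G') ⥤ CostructuredArrow yoneda G' where
  obj a := CostructuredArrow.mk (Y := u.obj a.left) (toHom u G' a)
  map {a b} f := CostructuredArrow.homMk (u.map f.left) ((toHom_w u G' f.left).2 (CostructuredArrow.w f))
  map_id a := by
    apply CostructuredArrow.hom_ext
    simp
  map_comp f g := by
    apply CostructuredArrow.hom_ext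
    simp

instance : (Φ u G').Faithful where
  map_injective {a b} f g h := by
    apply CostructuredArrow.hom_ext
    apply u.map_injective
    exact congr_arg CommaMorphism.left h

instance : (Φ u G').Full where
  map_surjective {a b} h := by
    obtain ⟨k, hk⟩ := u.map_surjective h.left
    have hw : yoneda.map h.left ≫ toHom u G' b = toHom u G' a := CostructuredArrow.w h
    rw [← hk] at hw
    refine ⟨CostructuredArrow.homMk k ((toHom_w u G' k).1 hw), ?_⟩
    apply CostructuredArrow.hom_ext
    exact hk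

variable (hr : ∀ X' : C', ∃ (X : C) (i : X' ⟶ u.obj X) (r : u.obj X ⟶ X'), i ≫ r = 𝟙 X')

/-- an element of `G' (u X)` as an object of the category of elements of `u^* G'`. -/
def mkElt (X : C) (s : G'.obj (op (u.obj X))) : CostructuredArrow yoneda (u.op ⋙ G') :=
  CostructuredArrow.mk (Y := X) (yonedaEquiv.symm s : yoneda.obj X ⟶ u.op ⋙ G')

omit [u.Full] [u.Faithful] in
lemma toHom_mkElt (X : C) (s : G'.obj (op (u.obj X))) :
    toHom u G' (mkElt u G' X s) = yonedaEquiv.symm s :=
  congr_arg yonedaEquiv.symm (Equiv.apply_symm_apply (yonedaEquiv (F := u.op ⋙ G')) s)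

include hr in
omit [u.Full] [u.Faithful] in
lemma exists_hom_Φ (d : CostructuredArrow yoneda G') :
    ∃ c, Nonempty (d ⟶ (Φ u G').obj c) := by
  obtain ⟨X, i, r, hir⟩ := hr d.left
  have hw : yoneda.map i ≫ toHom u G' (mkElt u G' X (G'.map r.op (yonedaEquiv d.hom))) = d.hom := by
    rw [toHom_mkElt]
    apply yonedaEquiv.injective
    rw [← yonedaEquiv_naturality, Equiv.apply_symm_apply]
    have h2 : G'.map i.op (G'.map r.op (yonedaEquiv d.hom)) =
        G'.map (i ≫ r).op (yonedaEquiv d.hom) := by simp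
    rw [h2, hir]
    simp
  exact ⟨mkElt u G' X (G'.map r.op (yonedaEquiv d.hom)), ⟨CostructuredArrow.homMk i hw⟩⟩

include hr in
lemma isIndObject_comp (hG' : IsIndObject G') : IsIndObject (u.op ⋙ G') := by
  have := hG'.isFiltered
  have : IsFiltered (CostructuredArrow yoneda (u.op ⋙ G')) :=
    IsFiltered.of_exists_of_isFiltered_of_fullyFaithful (Φ u G') (exists_hom_Φ u G' hr)
  exact ⟨⟨IndObjectPresentation.ofCocone (Presheaf.tautologicalCocone (u.op ⋙ G'))
    (Presheaf.isColimitTautologicalCocone (u.op ⋙ G'))⟩⟩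

include hr in
lemma nonempty_iso (hG' : IsIndObject G') : Nonempty ((lanF u).obj (u.op ⋙ G') ≅ G') := by
  have := hG'.isFiltered
  have : (Φ u G').Final :=
    Functor.final_of_exists_of_isFiltered_of_fullyFaithful (Φ u G') (exists_hom_Φ u G' hr)
  have hc1 : IsColimit ((lanF u).mapCocone (Presheaf.tautologicalCocone (u.op ⋙ G'))) :=
    isColimitOfPreserves (lanF u) (Presheaf.isColimitTautologicalCocone (u.op ⋙ G'))
  have hc2 : IsColimit ((Presheaf.tautologicalCocone G').whisker (Φ u G')) :=
    (Functor.Final.isColimitWhiskerEquiv (Φ u G') _).symm (Presheaf.isColimitTautologicalCocone G')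
  let α : (CostructuredArrow.proj yoneda (u.op ⋙ G') ⋙ yoneda) ⋙ lanF u ≅
      Φ u G' ⋙ CostructuredArrow.proj yoneda G' ⋙ yoneda :=
    Functor.associator _ _ _ ≪≫ Functor.isoWhiskerLeft _ (yonedaLanIso u) ≪≫
      NatIso.ofComponents (fun a => Iso.refl _) (by
        intro a b f
        simp only [Iso.refl_hom]
        rfl)
  exact ⟨IsColimit.coconePointsIsoOfNatIso hc1 hc2 α⟩

end Backward

end Groth.Agent.Lib.Helper68.IndEquiv
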