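import Mathlib
import Groth.Agent.Lib.Helper68.InvTwist2

/-!
# Uniqueness of the invertible twist and shift of a dualizing complex (helper68)
-/

set_option autoImplicit false
universe u
open CategoryTheory CategoryTheory.Limits MonoidalCategory
open scoped TensorProduct
attribute [local instance] HasDerivedCategory.standard

namespace Groth.Agent.Lib.Helper68.InvTwist

open Groth.Agent.Lib.Helper12

variable {A : Type u} [CommRing A]

section ShiftEq2

variable (P Q P' Q' : ModuleCat.{u} A) [Module.Flat A P] [Module.Flat A Q] [Module.Flat A P']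
  [Module.Flat A Q'] (e : P ⊗ Q ≅ 𝟙_ (ModuleCat.{u} A)) (e' : P' ⊗ Q' ≅ 𝟙_ (ModuleCat.{u} A))

include e e' in
theorem eq_of_iso_shift [Nontrivial A] (ω : Dual.D A) (hω : Dual.IsDualizing A ω) (n n' : ℤ)
    (σ : ((tD P).obj ω)⟦n⟧ ≅ ((tD P').obj ω)⟦n'⟧) : n = n' := by
  have key : ∀ i j j' : ℤ, n + i = j → n' + i = j' →
      (IsZero ((HF A j).obj ω) ↔ IsZero ((HF A j').obj ω)) := by
    intro i j j' hj hj'
    have h1 := isZero_tensor_iff P Q e ((HF A j).obj ω)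
    have h2 := isZero_tensor_iff P' Q' e' ((HF A j').obj ω)
    let ι : (tensorRight P).obj ((HF A j).obj ω) ≅ (tensorRight P').obj ((HF A j').obj ω) :=
      (HFTwistShiftIso P ω n i j hj).symm ≪≫ (HF A i).mapIso σ ≪≫ HFTwistShiftIso P' ω n' i j' hj'
    exact ⟨fun h => h2.1 ((h1.2 h).of_iso ι.symm), fun h => h1.1 ((h2.2 h).of_iso ι)⟩
  by_contra hne
  rcases lt_or_gt_of_ne hne with hlt | hgt
  · -- `n < n'`
    refine false_of_periodic ω hω (n' - n) (by omega) fun j => ?_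
    exact key (j - n) j (j + (n' - n)) (by ring) (by ring)
  · refine false_of_periodic ω hω (n - n') (by omega) fun j => ?_
    exact (key (j - n') (j + (n - n')) j (by ring) (by ring)).symm

end ShiftEq2

/-- **S11187** -/
theorem eq_and_nonempty_linearEquiv_of_iso [IsNoetherianRing A] [Nontrivial A] (ω : Dual.D A)
    (hω : Dual.IsDualizing A ω) (P P' : Type u) [AddCommGroup P] [Module A P]
    [Module.Invertible A P] [AddCommGroup P'] [Module A P'] [Module.Invertible A P']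
    [DRing.HasLTensor A (ModuleCat.of A P)] [DRing.HasLTensor A (ModuleCat.of A P')] (n n' : ℤ)
    (h : Nonempty (((DRing.LTensor A (ModuleCat.of A P)).obj ω)⟦n⟧ ≅
      ((DRing.LTensor A (ModuleCat.of A P')).obj ω)⟦n'⟧)) :
    n = n' ∧ Nonempty (P ≃ₗ[A] P') := by
  obtain ⟨h⟩ := h
  let P₀ : ModuleCat.{u} A := ModuleCat.of A P
  let Q₀ : ModuleCat.{u} A := ModuleCat.of A (Module.Dual A P)
  let P₁ : ModuleCat.{u} A := ModuleCat.of A P'
  let Q₁ : ModuleCat.{u} A := ModuleCat.of A (Module.Dual A P')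
  haveI : Module.Flat A P₀ := (inferInstance : Module.Flat A P)
  haveI : Module.Flat A Q₀ := (inferInstance : Module.Flat A (Module.Dual A P))
  haveI : Module.Flat A P₁ := (inferInstance : Module.Flat A P')
  haveI : Module.Flat A Q₁ := (inferInstance : Module.Flat A (Module.Dual A P'))
  let eP' : Q₀ ⊗ P₀ ≅ 𝟙_ (ModuleCat.{u} A) := (Module.Invertible.linearEquiv A P).toModuleIso
  let eP : P₀ ⊗ Q₀ ≅ 𝟙_ (ModuleCat.{u} A) := (β_ P₀ Q₀) ≪≫ eP'
  let eP₁' : Q₁ ⊗ P₁ ≅ 𝟙_ (ModuleCat.{u} A) := (Module.Invertible.linearEquiv A P').toModuleIso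
  let eP₁ : P₁ ⊗ Q₁ ≅ 𝟙_ (ModuleCat.{u} A) := (β_ P₁ Q₁) ≪≫ eP₁'
  let σ : ((tD P₀).obj ω)⟦n⟧ ≅ ((tD P₁).obj ω)⟦n'⟧ :=
    (shiftFunctor (Dual.D A) n).mapIso ((lTensorIsoTD P₀).app ω).symm ≪≫ h ≪≫
      (shiftFunctor (Dual.D A) n').mapIso ((lTensorIsoTD P₁).app ω)
  have hn : n = n' := eq_of_iso_shift P₀ Q₀ P₁ Q₁ eP eP₁ ω hω n n' σ
  refine ⟨hn, ?_⟩
  subst hn
  let τ : (tD P₀).obj ω ≅ (tD P₁).obj ω := (shiftFunctor (Dual.D A) n).preimageIso σ
  let L : ModuleCat.{u} A := P₁ ⊗ Q₀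
  haveI : Module.Invertible A L :=
    (inferInstance : Module.Invertible A (P' ⊗[A] Module.Dual A P))
  haveI : Module.Flat A L := inferInstance
  haveI : Module.Finite A L := inferInstance
  haveI : Module.Projective A L := inferInstance
  let κ : ω ≅ (tD L).obj ω :=
    ((tDCompIso P₀ Q₀ eP).app ω).symm ≪≫ (tD Q₀).mapIso τ ≪≫
      (tDCompIso' P₁ Q₀ L (Iso.refl _)).app ω
  let W := (DerivedCategory.Q (C := ModuleCat.{u} A)).objPreimage ω
  let e₀ : DerivedCategory.Q.obj W ≅ ω := DerivedCategory.Q.objObjPreimageIso ω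
  have hWbij : Function.Bijective (fun a : A => a • 𝟙 (DerivedCategory.Q.obj W : Dual.D A)) :=
    (Groth.Agent.Lib.Helper12.DualizingBC.isDualizing_of_iso e₀.symm hω).toEnd_bijective
  let κ' : (DerivedCategory.Q.obj W : Dual.D A) ≅ DerivedCategory.Q.obj (WL W L) :=
    e₀ ≪≫ κ ≪≫ (tD L).mapIso e₀.symm ≪≫ (tensorRight L).mapDerivedCategoryFactors.app W
  let f1 : L ≃ₗ[A] ((DerivedCategory.Q.obj W : Dual.D A) ⟶ DerivedCategory.Q.obj (WL W L)) :=
    LinearEquiv.ofBijective (thetaL W L) (bijective_thetaL W L hWbij)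
  let f2 : ((DerivedCategory.Q.obj W : Dual.D A) ⟶ DerivedCategory.Q.obj (WL W L)) ≃ₗ[A]
      ((DerivedCategory.Q.obj W : Dual.D A) ⟶ DerivedCategory.Q.obj W) :=
    LinearEquiv.ofBijective (Linear.rightComp A (DerivedCategory.Q.obj W : Dual.D A) κ'.inv)
      ⟨fun x y hxy => (cancel_mono κ'.inv).1 hxy, fun y => ⟨y ≫ κ'.hom, by
        show (y ≫ κ'.hom) ≫ κ'.inv = y
        rw [Category.assoc, Iso.hom_inv_id, Category.comp_id]⟩⟩
  let f3 : A ≃ₗ[A] ((DerivedCategory.Q.obj W : Dual.D A) ⟶ DerivedCategory.Q.obj W) :=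
    LinearEquiv.ofBijective (LinearMap.toSpanSingleton A _ (𝟙 (DerivedCategory.Q.obj W : Dual.D A)))
      hWbij
  let ℓ : (P' ⊗[A] Module.Dual A P) ≃ₗ[A] A := f1 ≪≫ₗ f2 ≪≫ₗ f3.symm
  exact ⟨((TensorProduct.rid A P').symm ≪≫ₗ
    TensorProduct.congr (LinearEquiv.refl A P') (Module.Invertible.linearEquiv A P).symm ≪≫ₗ
    (TensorProduct.assoc A P' (Module.Dual A P) P).symm ≪≫ₗ
    TensorProduct.congr ℓ (LinearEquiv.refl A P) ≪≫ₗ TensorProduct.lid A P).symm⟩

end Groth.Agent.Lib.Helper68.InvTwist
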