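import Groth.Agent.S0457
import Mathlib.CategoryTheory.Subobject.Limits
import Mathlib.CategoryTheory.Abelian.Basic

set_option autoImplicit false
universe u
open CategoryTheory CategoryTheory.Limits TopologicalSpace Opposite

namespace Groth.Agent.Lib.Helper68.IrrConst

section General

variable {X : TopCat.{u}}

/-- a morphism whose sections all lie in the sectionwise image of a mono factors through it -/
lemma exists_factor {A B K : CohTop.Ab X} (f : A ⟶ B) (g : K ⟶ B) [Mono g]
    (h : ∀ (W : (Opens X)ᵒᵖ) (a : A.obj.obj W), ∃ b : K.obj.obj W,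
      g.hom.app W b = f.hom.app W a) :
    ∃ φ : A ⟶ K, φ ≫ g = f := by
  have hz : f ≫ cokernel.π g = 0 := by
    apply Sheaf.hom_ext
    ext W a
    obtain ⟨b, hb⟩ := h W a
    have h1 : (g ≫ cokernel.π g).hom.app W b = 0 := by
      rw [cokernel.condition]; rfl
    change (cokernel.π g).hom.app W (f.hom.app W a) = 0
    rw [← hb]
    exact h1
  exact ⟨Abelian.monoLift g f hz, Abelian.monoLift_comp g f hz⟩

lemma imageSubobject_eq_of_sections {A B K : CohTop.Ab X} (f : A ⟶ B) (g : K ⟶ B) [Mono f] [Mono g]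
    (h₁ : ∀ (W : (Opens X)ᵒᵖ) (a : A.obj.obj W), ∃ b : K.obj.obj W,
      g.hom.app W b = f.hom.app W a)
    (h₂ : ∀ (W : (Opens X)ᵒᵖ) (b : K.obj.obj W), ∃ a : A.obj.obj W,
      f.hom.app W a = g.hom.app W b) :
    imageSubobject f = imageSubobject g := by
  rw [imageSubobject_mono, imageSubobject_mono]
  obtain ⟨φ, hφ⟩ := exists_factor f g h₁
  obtain ⟨ψ, hψ⟩ := exists_factor g f h₂
  exact le_antisymm (Subobject.mk_le_mk_of_comm φ hφ) (Subobject.mk_le_mk_of_comm ψ hψ)

end General



section Mono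
variable {X : TopCat.{u}}

lemma mono_of_injective {A B : CohTop.Ab X} (f : A ⟶ B)
    (h : ∀ W : (Opens X)ᵒᵖ, Function.Injective (f.hom.app W)) : Mono f := by
  have : ∀ W, Mono (f.hom.app W) := fun W => (AddCommGrpCat.mono_iff_injective _).2 (h W)
  have : Mono f.hom := NatTrans.mono_of_mono_app _
  exact Sheaf.Hom.mono_of_presheaf_mono _ _ f

lemma injective_of_mono {A B : CohTop.Ab X} (f : A ⟶ B) [Mono f] (W : (Opens X)ᵒᵖ) :
    Function.Injective (f.hom.app W) := by
  have : Mono ((sheafToPresheaf _ _).map f) := inferInstance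
  have : Mono f.hom := this
  have := (NatTrans.mono_iff_mono_app f.hom).1 this W
  exact (AddCommGrpCat.mono_iff_injective _).1 this

instance mono_restr {A B : CohTop.Ab X} (f : A ⟶ B) [Mono f] (U : Opens X) :
    Mono ((CohTop.restrFunctor U).map f) := by
  apply mono_of_injective
  intro W
  exact injective_of_mono f _


end Mono


section Val
open Groth.Agent.S0457

variable {X : TopCat.{u}} [IrreducibleSpace X]

/-- the comparison map to the explicit model, on sections -/
noncomputable abbrev cmp (V : Opens X) :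
    (CohTop.const X (ULift.{u} ℤ)).obj.obj (op V) ⟶ (irrPre (X := X) (ULift.{u} ℤ)).obj (op V) :=
  (constIso (X := X) (ULift.{u} ℤ)).hom.hom.app (op V)

noncomputable abbrev cmpInv (V : Opens X) :
    (irrPre (X := X) (ULift.{u} ℤ)).obj (op V) ⟶ (CohTop.const X (ULift.{u} ℤ)).obj.obj (op V) :=
  (constIso (X := X) (ULift.{u} ℤ)).inv.hom.app (op V)

lemma cmpInv_cmp (V : Opens X) (c : (CohTop.const X (ULift.{u} ℤ)).obj.obj (op V)) :
    cmpInv V (cmp V c) = c := by
  have h : (constIso (X := X) (ULift.{u} ℤ)).hom ≫ (constIso (X := X) (ULift.{u} ℤ)).inv = 𝟙 _ :=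
    Iso.hom_inv_id _
  have h2 := congrArg (fun φ => φ.hom.app (op V) c) h
  exact h2

lemma cmp_cmpInv (V : Opens X) (t : (irrPre (X := X) (ULift.{u} ℤ)).obj (op V)) :
    cmp V (cmpInv V t) = t := by
  have h : (constIso (X := X) (ULift.{u} ℤ)).inv ≫ (constIso (X := X) (ULift.{u} ℤ)).hom = 𝟙 _ :=
    Iso.inv_hom_id _
  have h2 := congrArg (fun φ => φ.hom.app (op V) t) h
  exact h2

/-- the value of a section of the constant sheaf ℤ over a nonempty open -/
noncomputable def val (V : Opens X) (hV : Nonempty V) :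
    (CohTop.const X (ULift.{u} ℤ)).obj.obj (op V) →+ ℤ where
  toFun c := (cmp V c ⟨hV⟩).down
  map_zero' := by
    rw [map_zero]; rfl
  map_add' a b := by
    rw [map_add]; rfl

lemma val_res {V V' : Opens X} (i : V' ≤ V) (hV : Nonempty V) (hV' : Nonempty V')
    (c : (CohTop.const X (ULift.{u} ℤ)).obj.obj (op V)) :
    val V' hV' ((CohTop.const X (ULift.{u} ℤ)).obj.map (homOfLE i).op c) = val V hV c := by
  have hnat := NatTrans.naturality_apply
    (constIso (X := X) (ULift.{u} ℤ)).hom.hom (homOfLE i).op c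
  change (cmp V' _ ⟨hV'⟩).down = (cmp V c ⟨hV⟩).down
  congr 1
  refine (congrFun hnat ⟨hV'⟩).trans ?_
  exact irrPre_map_apply _ _ _ _ _

lemma val_injective (V : Opens X) (hV : Nonempty V) : Function.Injective (val V hV) := by
  intro a b hab
  rw [← cmpInv_cmp V a, ← cmpInv_cmp V b]
  congr 1
  apply irrPre_ext
  intro h
  have : h = ⟨hV⟩ := Subsingleton.elim _ _
  subst this
  exact ULift.ext _ _ hab

lemma val_surjective (V : Opens X) (hV : Nonempty V) : Function.Surjective (val V hV) := by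
  intro m
  let t : (irrPre (X := X) (ULift.{u} ℤ)).obj (op V) := fun _ => ⟨m⟩
  refine ⟨cmpInv V t, ?_⟩
  change (cmp V (cmpInv V t) ⟨hV⟩).down = m
  rw [cmp_cmpInv]

lemma subsingleton_of_isEmpty (V : Opens X) (hV : ¬ Nonempty V) :
    Subsingleton ((CohTop.const X (ULift.{u} ℤ)).obj.obj (op V)) := by
  refine ⟨fun a b => ?_⟩
  rw [← cmpInv_cmp V a, ← cmpInv_cmp V b]
  congr 1
  apply irrPre_ext
  intro h
  exact absurd h.down hV


end Val

end Groth.Agent.Lib.Helper68.IrrConst
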