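import Groth.Agent.Lib.Helper68.IrrConst

set_option autoImplicit false
universe u
open CategoryTheory CategoryTheory.Limits TopologicalSpace Opposite

namespace Groth.Agent.Lib.Helper68.IrrConst

variable {X : TopCat.{u}} [IrreducibleSpace X]
  (H : CohTop.Ab X) (ι : H ⟶ CohTop.const X (ULift.{u} ℤ))

/-- the integer value of `ι` on a section over a nonempty open -/
noncomputable def ival (V : Opens X) (hV : Nonempty V) : H.obj.obj (op V) →+ ℤ :=
  (val V hV).comp (ι.hom.app (op V)).hom

lemma ival_apply (V : Opens X) (hV : Nonempty V) (h : H.obj.obj (op V)) :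
    ival H ι V hV h = val V hV (ι.hom.app (op V) h) := rfl

lemma ival_res {V V' : Opens X} (i : V' ≤ V) (hV : Nonempty V) (hV' : Nonempty V')
    (h : H.obj.obj (op V)) :
    ival H ι V' hV' (H.obj.map (homOfLE i).op h) = ival H ι V hV h := by
  rw [ival_apply, ival_apply]
  have hnat := NatTrans.naturality_apply ι.hom (homOfLE i).op h
  rw [hnat]
  exact val_res i hV hV' _

variable {H ι}

lemma dvd_ival {U : Opens X} (hU : Nonempty U) (h₀ : H.obj.obj (op U)) (d : ℕ) (hd : 0 < d)
    (hd₀ : ival H ι U hU h₀ = d)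
    (hmin : ∀ (n : ℕ), 0 < n → ∀ (V : Opens X) (hV : Nonempty V) (h : H.obj.obj (op V)),
      ival H ι V hV h = n → d ≤ n)
    {V : Opens X} (i : V ≤ U) (hV : Nonempty V) (h : H.obj.obj (op V)) :
    (d : ℤ) ∣ ival H ι V hV h := by
  set z := ival H ι V hV h with hz
  have hdz : (0 : ℤ) < d := by exact_mod_cast hd
  have hr0 : 0 ≤ z % d := Int.emod_nonneg _ hdz.ne'
  have hr1 : z % d < d := Int.emod_lt_of_pos _ hdz
  have hval : ival H ι V hV (h - (z / d) • (H.obj.map (homOfLE i).op h₀)) = z % d := by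
    rw [map_sub, map_zsmul, ival_res H ι i hU hV, hd₀, ← hz, Int.emod_def]
    simp [mul_comm]
  by_contra hnd
  have hne : z % d ≠ 0 := fun h0 => hnd (Int.dvd_of_emod_eq_zero h0)
  have hpos : 0 < (z % d).toNat := by
    have : 0 < z % d := lt_of_le_of_ne hr0 (Ne.symm hne)
    omega
  have := hmin (z % d).toNat hpos V hV _ (by rw [hval]; omega)
  omega

lemma exists_ival {U : Opens X} (hU : Nonempty U) (h₀ : H.obj.obj (op U)) (d : ℤ)
    (hd₀ : ival H ι U hU h₀ = d)
    {V : Opens X} (i : V ≤ U) (hV : Nonempty V) (m : ℤ) :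
    ∃ h : H.obj.obj (op V), ival H ι V hV h = d * m := by
  refine ⟨m • (H.obj.map (homOfLE i).op h₀), ?_⟩
  rw [map_zsmul, ival_res H ι i hU hV, hd₀]
  simp [mul_comm]


omit [IrreducibleSpace X] in
lemma zsmul_app (d : ℤ) (V : (Opens X)ᵒᵖ) (c : (CohTop.const X (ULift.{u} ℤ)).obj.obj V) :
    (d • 𝟙 (CohTop.const X (ULift.{u} ℤ))).hom.app V c = d • c := by
  rfl

lemma mono_zsmul (d : ℤ) (hd : d ≠ 0) : Mono (d • 𝟙 (CohTop.const X (ULift.{u} ℤ))) := by
  apply mono_of_injective
  intro W
  rw [injective_iff_map_eq_zero]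
  intro c hc
  rw [zsmul_app] at hc
  by_cases hW : Nonempty W.unop
  · apply val_injective W.unop hW
    have := congrArg (val W.unop hW) hc
    rw [map_zsmul, map_zero, smul_eq_mul] at this
    rw [map_zero]
    rcases mul_eq_zero.1 this with h | h
    · exact absurd h hd
    · exact h
  · have := subsingleton_of_isEmpty W.unop hW
    exact Subsingleton.elim _ _

variable (H ι)

theorem main [Mono ι] :
    ∃ (U : Opens X) (d : ℤ), U ≠ ⊥ ∧
      imageSubobject ((CohTop.restrFunctor U).map ι) =
        imageSubobject ((CohTop.restrFunctor U).map (d • 𝟙 (CohTop.const X (ULift.{u} ℤ)))) := by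
  classical
  by_cases hP : ∃ n : ℕ, 0 < n ∧ ∃ (V : Opens X) (hV : Nonempty V) (h : H.obj.obj (op V)),
      ival H ι V hV h = n
  · -- minimal positive value
    have hd := Nat.find_spec hP
    have hmin' := fun n => Nat.find_min' hP (m := n)
    set d := Nat.find hP with hdd
    obtain ⟨hd0, U, hU, h₀, hd₀⟩ := hd
    have hmin : ∀ (n : ℕ), 0 < n → ∀ (V : Opens X) (hV : Nonempty V) (h : H.obj.obj (op V)),
        ival H ι V hV h = n → d ≤ n := fun n hn V hV h hh => hmin' n ⟨hn, V, hV, h, hh⟩
    have hdz : (d : ℤ) ≠ 0 := by exact_mod_cast hd0.ne'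
    refine ⟨U, d, ?_, ?_⟩
    · rintro rfl
      obtain ⟨⟨x, hx⟩⟩ := hU
      exact hx
    have := mono_zsmul (X := X) (d : ℤ) hdz
    -- sectionwise claims over opens contained in U
    have claim₁ : ∀ (V : Opens X), V ≤ U → ∀ a : H.obj.obj (op V),
        ∃ b : (CohTop.const X (ULift.{u} ℤ)).obj.obj (op V),
          ((d : ℤ) • 𝟙 (CohTop.const X (ULift.{u} ℤ))).hom.app (op V) b = ι.hom.app (op V) a := by
      intro V i a
      by_cases hV : Nonempty V
      · obtain ⟨m, hm⟩ := dvd_ival hU h₀ d hd0 hd₀ hmin i hV a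
        obtain ⟨b, hb⟩ := val_surjective V hV m
        refine ⟨b, ?_⟩
        apply val_injective V hV
        rw [zsmul_app, map_zsmul, hb, smul_eq_mul, ← ival_apply, hm]
      · have := subsingleton_of_isEmpty V hV
        exact ⟨0, Subsingleton.elim _ _⟩
    have claim₂ : ∀ (V : Opens X), V ≤ U →
        ∀ b : (CohTop.const X (ULift.{u} ℤ)).obj.obj (op V), ∃ a : H.obj.obj (op V),
          ι.hom.app (op V) a =
            ((d : ℤ) • 𝟙 (CohTop.const X (ULift.{u} ℤ))).hom.app (op V) b := by
      intro V i b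
      by_cases hV : Nonempty V
      · obtain ⟨a, ha⟩ := exists_ival hU h₀ (d : ℤ) hd₀ i hV (val V hV b)
        refine ⟨a, ?_⟩
        apply val_injective V hV
        rw [zsmul_app, map_zsmul, smul_eq_mul, ← ival_apply, ha]
      · have := subsingleton_of_isEmpty V hV
        exact ⟨0, Subsingleton.elim _ _⟩
    have hle : ∀ W : (Opens ↥U)ᵒᵖ,
        (U.isOpenEmbedding.isOpenMap.functor.obj W.unop : Opens X) ≤ U := by
      rintro W _ ⟨x, _, rfl⟩
      exact x.2
    apply imageSubobject_eq_of_sections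
    · intro W a
      exact claim₁ _ (hle W) a
    · intro W b
      exact claim₂ _ (hle W) b
  · -- all values vanish: `ι = 0`
    have hz : ∀ (V : Opens X) (hV : Nonempty V) (h : H.obj.obj (op V)), ival H ι V hV h = 0 := by
      intro V hV h
      by_contra hne
      apply hP
      refine ⟨(ival H ι V hV h).natAbs, Int.natAbs_pos.2 hne, V, hV, ?_⟩
      rcases Int.natAbs_eq (ival H ι V hV h) with h1 | h1
      · exact ⟨h, h1⟩
      · refine ⟨-h, ?_⟩
        rw [map_neg]
        omega
    have hι : ι = 0 := by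
      apply Sheaf.hom_ext
      ext W a
      change ι.hom.app W a = 0
      by_cases hW : Nonempty W.unop
      · apply val_injective W.unop hW
        rw [map_zero]
        exact hz W.unop hW a
      · have := subsingleton_of_isEmpty W.unop hW
        exact Subsingleton.elim _ _
    refine ⟨⊤, 0, ?_, ?_⟩
    · intro h
      obtain ⟨x⟩ := (inferInstance : Nonempty X)
      have : x ∈ (⊤ : Opens X) := trivial
      rw [h] at this
      exact this
    · rw [hι, zero_smul, Functor.map_zero, Functor.map_zero, imageSubobject_zero,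
        imageSubobject_zero]

end Groth.Agent.Lib.Helper68.IrrConst
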