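import Groth.Agent.Lib.Helper68.JShriekSheaf

/-!
# Extension by zero of the constant sheaf `ℤ` (helper68)

`j_! ℤ_{C/U}` is the free abelian sheaf on the representable presheaf `h_U`.
-/

open CategoryTheory Limits Opposite

namespace Groth.Agent.Lib.Helper68.JShriek

universe u

/-- The group `ℤ` in universe `u`. -/
abbrev ZZ : AddCommGrpCat.{u} := AddCommGrpCat.of (ULift.{u} ℤ)

/-- The morphism `ℤ ⟶ G` picking an element of `G`. -/
def fromZZ {G : AddCommGrpCat.{u}} (g : G) : ZZ.{u} ⟶ G :=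
  AddCommGrpCat.ofHom ((zmultiplesHom G g).comp AddEquiv.ulift.toAddMonoidHom)

@[simp]
lemma fromZZ_one {G : AddCommGrpCat.{u}} (g : G) : (fromZZ g) (ULift.up 1) = g := by
  show (1 : ℤ) • g = g
  simp

lemma ZZ_hom_ext {G : AddCommGrpCat.{u}} (f f' : ZZ.{u} ⟶ G)
    (h : f (ULift.up 1) = f' (ULift.up 1)) : f = f' := by
  ext x
  obtain ⟨n⟩ := x
  have h1 : ∀ g : ZZ.{u} ⟶ G, g (ULift.up n) = n • g (ULift.up 1) := by
    intro g
    have : (ULift.up n : ULift.{u} ℤ) = n • ULift.up 1 := by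
      ext
      simp
    rw [this, map_zsmul]
  rw [h1 f, h1 f', h]

lemma fromZZ_comp {G G' : AddCommGrpCat.{u}} (g : G) (f : G ⟶ G') :
    fromZZ g ≫ f = fromZZ (f g) := by
  apply ZZ_hom_ext
  show f ((fromZZ g) (ULift.up 1)) = (fromZZ (f g)) (ULift.up 1)
  rw [fromZZ_one, fromZZ_one]

variable {C : Type u} [SmallCategory C] (U : C)

/-- The constant presheaf `ℤ` on `Over U`. -/
abbrev constZZ : (Over U)ᵒᵖ ⥤ AddCommGrpCat.{u} := (Functor.const _).obj ZZ.{u}

/-- The generators of the free abelian group on a type, as elements of `free.obj T`. -/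
def gen {T : Type u} (t : T) : (AddCommGrpCat.free.obj T : AddCommGrpCat.{u}) :=
  FreeAbelianGroup.of t

lemma free_hom_ext {T : Type u} {G : AddCommGrpCat.{u}} (f f' : AddCommGrpCat.free.obj T ⟶ G)
    (h : ∀ t, f (gen t) = f' (gen t)) : f = f' := by
  ext1
  exact FreeAbelianGroup.lift_ext _ _ h

lemma free_map_gen {T T' : Type u} (f : T ⟶ T') (t : T) :
    (AddCommGrpCat.free.map f) (gen t) = gen (f t) := by
  show FreeAbelianGroup.map f (FreeAbelianGroup.of t) = _
  rw [FreeAbelianGroup.map_of_apply]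
  rfl

/-- The comparison map `∐_{φ : V ⟶ U} ℤ ⟶ ℤ[V ⟶ U]`. -/
noncomputable def toFree (V : C) :
    ∐ (summand (constZZ U) V) ⟶ AddCommGrpCat.free.obj (V ⟶ U) :=
  Sigma.desc (fun φ => fromZZ (gen φ))

@[reassoc (attr := simp)]
lemma ι_toFree (V : C) (φ : V ⟶ U) :
    Sigma.ι (summand (constZZ U) V) φ ≫ toFree U V = fromZZ (gen φ) := by
  simp [toFree]

/-- The inverse comparison map `ℤ[V ⟶ U] ⟶ ∐_{φ : V ⟶ U} ℤ`. -/
noncomputable def ofFree (V : C) :
    AddCommGrpCat.free.obj (V ⟶ U) ⟶ ∐ (summand (constZZ U) V) :=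
  AddCommGrpCat.ofHom (FreeAbelianGroup.lift
    (fun φ => (Sigma.ι (summand (constZZ U) V) φ) (ULift.up 1)))

lemma ofFree_gen (V : C) (φ : V ⟶ U) :
    (ofFree U V) (gen φ) = (Sigma.ι (summand (constZZ U) V) φ) (ULift.up 1) :=
  FreeAbelianGroup.lift_apply_of _ _

lemma toFree_ι_one (V : C) (φ : V ⟶ U) :
    (toFree U V) ((Sigma.ι (summand (constZZ U) V) φ) (ULift.up 1)) = gen φ :=
  (ConcreteCategory.congr_hom (ι_toFree U V φ) (ULift.up 1)).trans (fromZZ_one _)

lemma toFree_ofFree (V : C) : toFree U V ≫ ofFree U V = 𝟙 _ := by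
  apply Sigma.hom_ext
  intro φ
  rw [ι_toFree_assoc, fromZZ_comp, ofFree_gen, Category.comp_id]
  apply ZZ_hom_ext
  rw [fromZZ_one]

lemma ofFree_toFree (V : C) : ofFree U V ≫ toFree U V = 𝟙 _ := by
  apply free_hom_ext
  intro φ
  show (toFree U V) ((ofFree U V) (gen φ)) = gen φ
  rw [ofFree_gen, toFree_ι_one]

/-- `j_!` of the constant presheaf `ℤ` is the free abelian presheaf on `h_U`. -/
noncomputable def shriekConstIso :
    shriekObj (constZZ U) ≅ yoneda.obj U ⋙ AddCommGrpCat.free :=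
  NatIso.ofComponents
    (fun V => ⟨toFree U V.unop, ofFree U V.unop, toFree_ofFree U _, ofFree_toFree U _⟩)
    (fun {V V'} f => by
      apply Sigma.hom_ext
      intro φ
      dsimp
      rw [ι_shriekMap_assoc, ι_toFree, ι_toFree_assoc, fromZZ_comp, free_map_gen]
      simp)

section Sheaf

variable (J : GrothendieckTopology C)

instance : PreservesFiniteLimits (restr J U AddCommGrpCat.{u}) :=
  have := (adj J U AddCommGrpCat.{u}).rightAdjoint_preservesLimits
  inferInstance

instance : PreservesFiniteColimits (restr J U AddCommGrpCat.{u}) :=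
  have := ((Over.forget U).sheafAdjunctionCocontinuous AddCommGrpCat.{u} (J.over U)
    J).leftAdjoint_preservesColimits
  inferInstance

/-- Sheafification commutes with extension by zero. -/
noncomputable def sheafifyShriekIso :
    shriekPre U AddCommGrpCat.{u} ⋙ presheafToSheaf J AddCommGrpCat.{u} ≅
      presheafToSheaf (J.over U) AddCommGrpCat.{u} ⋙ shriek J U AddCommGrpCat.{u} :=
  Adjunction.leftAdjointUniq
    ((adjPre U AddCommGrpCat.{u}).comp (sheafificationAdjunction J AddCommGrpCat.{u}))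
    ((sheafificationAdjunction (J.over U) AddCommGrpCat.{u}).comp (adj J U AddCommGrpCat.{u}))

/-- `j_! ℤ` is the free abelian sheaf on `h_U`. -/
noncomputable def shriekConstantSheafIso :
    (shriek J U AddCommGrpCat.{u}).obj
        ((constantSheaf (J.over U) AddCommGrpCat.{u}).obj ZZ.{u}) ≅
      (presheafToSheaf J AddCommGrpCat.{u}).obj (yoneda.obj U ⋙ AddCommGrpCat.free) :=
  ((sheafifyShriekIso U J).app (constZZ U)).symm ≪≫
    (presheafToSheaf J AddCommGrpCat.{u}).mapIso (shriekConstIso U)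

end Sheaf

end Groth.Agent.Lib.Helper68.JShriek
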