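import Mathlib

/-!
# Extension by zero for presheaves on a slice category (helper68)

For a category `C`, an object `U` and a category `A` with coproducts, we construct explicitly the
left adjoint `shriekPre U : ((Over U)ᵒᵖ ⥤ A) ⥤ (Cᵒᵖ ⥤ A)` of the restriction functor
`P ↦ (Over.forget U).op ⋙ P`, by the formula `(j_! P)(V) = ∐_{φ : V ⟶ U} P(V, φ)`.
When coproducts are exact in `A`, this functor preserves monomorphisms.
-/

open CategoryTheory Limits Opposite

namespace Groth.Agent.Lib.Helper68.JShriek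

universe w' w v u

variable {C : Type u} [Category.{v} C] (U : C) {A : Type w} [Category.{w'} A]
  [HasCoproducts.{v} A]

/-- The restriction functor on presheaves. -/
@[reducible, simps]
def restrPre : (Cᵒᵖ ⥤ A) ⥤ ((Over U)ᵒᵖ ⥤ A) where
  obj Q := (Over.forget U).op ⋙ Q
  map γ := Functor.whiskerLeft _ γ

variable {U}

/-- The summands of `j_! P` at `V`. -/
abbrev summand (P : (Over U)ᵒᵖ ⥤ A) (V : C) (φ : V ⟶ U) : A := P.obj (op (Over.mk φ))

lemma ι_congr (P : (Over U)ᵒᵖ ⥤ A) {V : C} {ψ ψ' : V ⟶ U} (h : ψ = ψ') {W : Over U}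
    (e : Over.mk ψ ⟶ W) (e' : Over.mk ψ' ⟶ W) (he : e.left = e'.left) :
    P.map e.op ≫ Sigma.ι (summand P V) ψ = P.map e'.op ≫ Sigma.ι (summand P V) ψ' := by
  subst h
  obtain rfl : e = e' := by
    ext
    exact he
  rfl

/-- The transition maps of `j_! P`. -/
noncomputable def shriekMap (P : (Over U)ᵒᵖ ⥤ A) {V V' : C} (f : V' ⟶ V) :
    ∐ (summand P V) ⟶ ∐ (summand P V') :=
  Sigma.desc (fun φ => P.map (Over.homMk f rfl : Over.mk (f ≫ φ) ⟶ Over.mk φ).op ≫
    Sigma.ι (summand P V') (f ≫ φ))

@[reassoc (attr := simp)]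
lemma ι_shriekMap (P : (Over U)ᵒᵖ ⥤ A) {V V' : C} (f : V' ⟶ V) (φ : V ⟶ U) :
    Sigma.ι (summand P V) φ ≫ shriekMap P f =
      P.map (Over.homMk f rfl : Over.mk (f ≫ φ) ⟶ Over.mk φ).op ≫
        Sigma.ι (summand P V') (f ≫ φ) := by
  simp [shriekMap]

/-- The presheaf `j_! P`. -/
@[reducible, simps]
noncomputable def shriekObj (P : (Over U)ᵒᵖ ⥤ A) : Cᵒᵖ ⥤ A where
  obj V := ∐ (summand P V.unop)
  map f := shriekMap P f.unop
  map_id V := by
    apply Sigma.hom_ext
    intro φ
    rw [unop_id, ι_shriekMap, Category.comp_id]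
    rw [ι_congr P (Category.id_comp φ) _ (𝟙 (Over.mk φ)) rfl]
    simp
  map_comp {V V' V''} f g := by
    apply Sigma.hom_ext
    intro φ
    rw [unop_comp, ι_shriekMap, ι_shriekMap_assoc, ι_shriekMap, ← P.map_comp_assoc, ← op_comp]
    exact ι_congr P (Category.assoc _ _ _) _ _ (by simp)

/-- The components of the functoriality of `j_!` in the presheaf. -/
noncomputable def shriekHomApp {P P' : (Over U)ᵒᵖ ⥤ A} (η : P ⟶ P') (V : C) :
    ∐ (summand P V) ⟶ ∐ (summand P' V) :=
  Sigma.desc (fun φ => η.app (op (Over.mk φ)) ≫ Sigma.ι (summand P' V) φ)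

@[reassoc (attr := simp)]
lemma ι_shriekHomApp {P P' : (Over U)ᵒᵖ ⥤ A} (η : P ⟶ P') (V : C) (φ : V ⟶ U) :
    Sigma.ι (summand P V) φ ≫ shriekHomApp η V =
      η.app (op (Over.mk φ)) ≫ Sigma.ι (summand P' V) φ := by
  simp [shriekHomApp]

set_option backward.isDefEq.respectTransparency false in
/-- The functoriality of `j_!` in the presheaf. -/
@[simps]
noncomputable def shriekHom {P P' : (Over U)ᵒᵖ ⥤ A} (η : P ⟶ P') :
    shriekObj P ⟶ shriekObj P' where
  app V := shriekHomApp η V.unop
  naturality V V' f := by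
    apply Sigma.hom_ext
    intro φ
    simp

variable (U A) in
set_option backward.isDefEq.respectTransparency false in
/-- The extension by zero functor on presheaves. -/
@[reducible, simps]
noncomputable def shriekPre : ((Over U)ᵒᵖ ⥤ A) ⥤ (Cᵒᵖ ⥤ A) where
  obj P := shriekObj P
  map η := shriekHom η
  map_id P := by
    refine NatTrans.ext (funext fun V => Sigma.hom_ext _ _ fun φ => ?_)
    simp
  map_comp η η' := by
    refine NatTrans.ext (funext fun V => Sigma.hom_ext _ _ fun φ => ?_)
    simp

set_option backward.isDefEq.respectTransparency false in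
/-- The bijection on morphisms giving the adjunction `j_! ⊣ restriction`. -/
noncomputable def homEquiv (P : (Over U)ᵒᵖ ⥤ A) (Q : Cᵒᵖ ⥤ A) :
    (shriekObj P ⟶ Q) ≃ (P ⟶ (Over.forget U).op ⋙ Q) where
  toFun α :=
    { app := fun W => (Sigma.ι (summand P W.unop.left) W.unop.hom : P.obj W ⟶ _) ≫
        α.app (op W.unop.left)
      naturality := fun W W' g => by
        have h1 := α.naturality g.unop.left.op
        dsimp at h1 ⊢
        rw [Category.assoc, ← h1, ι_shriekMap_assoc]
        have h2 := ι_congr P (Over.w g.unop) (Over.homMk g.unop.left rfl) g.unop rfl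
        rw [← Category.assoc, ← Category.assoc]
        exact congrArg (fun x => x ≫ α.app (op (unop W').left)) h2.symm }
  invFun β :=
    { app := fun V => Sigma.desc (fun φ => β.app (op (Over.mk φ)))
      naturality := fun V V' f => by
        apply Sigma.hom_ext
        intro φ
        have h1 := β.naturality (Over.homMk f.unop rfl : Over.mk (f.unop ≫ φ) ⟶ Over.mk φ).op
        dsimp at h1 ⊢
        simp [h1] }
  left_inv α := by
    refine NatTrans.ext (funext fun V => Sigma.hom_ext _ _ fun φ => ?_)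
    simp
  right_inv β := by
    ext W
    simp
    rfl

lemma homEquiv_apply_app (P : (Over U)ᵒᵖ ⥤ A) (Q : Cᵒᵖ ⥤ A) (α : shriekObj P ⟶ Q)
    (W : (Over U)ᵒᵖ) :
    (homEquiv P Q α).app W = (Sigma.ι (summand P W.unop.left) W.unop.hom : P.obj W ⟶ _) ≫
        α.app (op W.unop.left) := rfl

@[reassoc (attr := simp)]
lemma ι_homEquiv_symm_app (P : (Over U)ᵒᵖ ⥤ A) (Q : Cᵒᵖ ⥤ A) (β : P ⟶ (Over.forget U).op ⋙ Q)
    (V : Cᵒᵖ) (φ : V.unop ⟶ U) :
    Sigma.ι (summand P V.unop) φ ≫ ((homEquiv P Q).symm β).app V = β.app (op (Over.mk φ)) :=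
  colimit.ι_desc _ _

variable (U A) in
set_option backward.isDefEq.respectTransparency false in
/-- The adjunction between extension by zero and restriction on presheaves. -/
noncomputable def adjPre : shriekPre U A ⊣ restrPre U :=
  Adjunction.mkOfHomEquiv
    { homEquiv := homEquiv
      homEquiv_naturality_left_symm := fun {P' P Q} η β => by
        refine NatTrans.ext (funext fun V => Sigma.hom_ext _ _ fun φ => ?_)
        have h1 := ι_homEquiv_symm_app P' Q (η ≫ β) V φ
        have h2 := ι_homEquiv_symm_app P Q β V φ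
        rw [h1]
        simp only [shriekPre_map, NatTrans.comp_app, shriekHom_app, ι_shriekHomApp_assoc]
        rw [h2]
      homEquiv_naturality_right := fun {P Q Q'} α γ => by
        ext W
        simp only [NatTrans.comp_app, homEquiv_apply_app, Category.assoc]
        rfl }

section Mono

variable [HasPullbacks A] [AB4OfSize.{v} A]

lemma mono_shriekHomApp {P P' : (Over U)ᵒᵖ ⥤ A} (η : P ⟶ P') [Mono η] (V : C) :
    Mono (shriekHomApp η V) := by
  let τ : Discrete.functor (summand P V) ⟶ Discrete.functor (summand P' V) :=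
    Discrete.natTrans (fun φ => η.app (op (Over.mk φ.as)))
  have : Mono τ := by
    have : ∀ k, Mono (τ.app k) := fun k => by
      dsimp [τ]
      infer_instance
    exact NatTrans.mono_of_mono_app τ
  refine colim.map_mono' τ (colimit.isColimit _) (colimit.isColimit _) _ ?_
  rintro ⟨φ⟩
  exact ι_shriekHomApp η V φ

instance : (shriekPre U A).PreservesMonomorphisms where
  preserves {P P'} η _ := by
    have : ∀ V, Mono (((shriekPre U A).map η).app V) := fun V => mono_shriekHomApp η V.unop
    exact NatTrans.mono_of_mono_app _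

end Mono

end Groth.Agent.Lib.Helper68.JShriek
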