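import Groth.Agent.Lib.Helper68.KInj

/-!
# K-injective complexes and equivalences of categories (helper68)
-/

open CategoryTheory Limits

namespace Groth.Agent.Lib.Helper68.KInj

universe v v' u u'

variable {A : Type u} [Category.{v} A] [Abelian A]
  {B : Type u'} [Category.{v'} B] [Abelian B]

/-- An equivalence of abelian categories preserves K-injective complexes. -/
lemma isKInjective_map_of_equivalence (e : A ≌ B) (I : CochainComplex A ℤ) [I.IsKInjective] :
    CochainComplex.IsKInjective
      ((e.functor.mapHomologicalComplex (ComplexShape.up ℤ)).obj I) := by
  have : e.functor.Additive := Functor.additive_of_preserves_binary_products _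
  have : e.inverse.Additive := Functor.additive_of_preserves_binary_products _
  exact isKInjective_map_of_adjunction (u := e.functor) (w := e.inverse) e.symm.toAdjunction I

end Groth.Agent.Lib.Helper68.KInj
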