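import Groth.Agent.Lib.Helper68.KInj

/-!
# Limits of towers of K-injective complexes (helper68)

A limit of a tower `… → I₂ → I₁ → I₀` of K-injective complexes whose transition maps are
termwise split epimorphisms is K-injective.
-/

open CategoryTheory Limits Opposite

namespace Groth.Agent.Lib.Helper68.KInj

universe v u

open CochainComplex HomComplex

variable {A : Type u} [Category.{v} A] [Abelian A]

/-- The inductive step: a null-homotopy of `f₀ = f₁ ≫ p` lifts along a termwise split
epimorphism `p : I₁ ⟶ I₀` between K-injective complexes to a null-homotopy of `f₁`. -/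
lemma exists_lift_cochain {K I₁ I₀ : CochainComplex A ℤ} [I₁.IsKInjective] [I₀.IsKInjective]
    (hK : K.Acyclic) (p : I₁ ⟶ I₀) (hp : ∀ m : ℤ, IsSplitEpi (p.f m))
    (f₁ : K ⟶ I₁) (a : Cochain K I₀ (-1)) (ha : δ (-1) 0 a = Cochain.ofHom (f₁ ≫ p)) :
    ∃ b : Cochain K I₁ (-1), δ (-1) 0 b = Cochain.ofHom f₁ ∧
      b.comp (Cochain.ofHom p) (add_zero (-1)) = a := by
  -- a first null-homotopy of `f₁`
  obtain ⟨β, hβ⟩ : ∃ β : Cochain K I₁ (-1), δ (-1) 0 β = Cochain.ofHom f₁ := by
    obtain ⟨h⟩ := IsKInjective.nonempty_homotopy_zero f₁ hK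
    obtain ⟨z, hz⟩ := Cochain.equivHomotopy _ _ h
    rw [Cochain.ofHom_zero, add_zero] at hz
    exact ⟨z, hz.symm⟩
  -- the defect is a cocycle of degree `-1`
  let γ : Cochain K I₀ (-1) := β.comp (Cochain.ofHom p) (add_zero (-1)) - a
  have hγ : δ (-1) 0 γ = 0 := by
    simp only [γ, δ_sub, δ_comp_ofHom, hβ, ha, Cochain.ofHom_comp, sub_self]
  obtain ⟨κ, hκ⟩ := IsKInjective.eq_δ_of_cocycle (Cocycle.mk γ 0 (by simp) hγ) hK (-2) (by simp)
  replace hκ : δ (-2) (-1) κ = γ := hκ
  -- lift `κ` along the termwise splittings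
  let κ' : Cochain K I₁ (-2) := Cochain.mk (fun i j hij => κ.v i j hij ≫ section_ (p.f j))
  have hκ' : κ'.comp (Cochain.ofHom p) (add_zero (-2)) = κ := by
    ext i j hij
    simp [κ', Cochain.comp_zero_cochain_v]
  refine ⟨β - δ (-2) (-1) κ', ?_, ?_⟩
  · rw [δ_sub, δ_δ, sub_zero, hβ]
  · rw [Cochain.sub_comp, ← δ_comp_ofHom, hκ', hκ]
    simp [γ]

variable [HasLimitsOfShape ℕᵒᵖ A]

/-- A limit of a tower of K-injective complexes with termwise split epimorphic transition maps is
K-injective. -/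
lemma isKInjective_limit_tower (I : ℕᵒᵖ ⥤ CochainComplex A ℤ)
    (h1 : ∀ n : ℕ, (I.obj (op n)).IsKInjective)
    (h2 : ∀ (n : ℕ) (m : ℤ), IsSplitEpi ((I.map (homOfLE (Nat.le_succ n)).op).f m)) :
    (limit I).IsKInjective where
  nonempty_homotopy_zero {K} f hK := by
    let fn : ∀ n : ℕ, K ⟶ I.obj (op n) := fun n => f ≫ limit.π I (op n)
    let S : ℕ → Type _ := fun n =>
      {α : Cochain K (I.obj (op n)) (-1) // δ (-1) 0 α = Cochain.ofHom (fn n)}
    have hfn : ∀ n, fn (n + 1) ≫ I.map (homOfLE (Nat.le_succ n)).op = fn n := fun n => by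
      simp only [fn, Category.assoc, limit.w]
    have step : ∀ (n : ℕ) (a : S n), ∃ b : S (n + 1),
        b.1.comp (Cochain.ofHom (I.map (homOfLE (Nat.le_succ n)).op)) (add_zero (-1)) = a.1 := by
      intro n a
      have := h1 n
      have := h1 (n + 1)
      obtain ⟨b, hb1, hb2⟩ := exists_lift_cochain hK (I.map (homOfLE (Nat.le_succ n)).op) (h2 n)
        (fn (n + 1)) a.1 (by rw [hfn]; exact a.2)
      exact ⟨⟨b, hb1⟩, hb2⟩
    have s0 : Nonempty (S 0) := by
      have := h1 0
      obtain ⟨h⟩ := IsKInjective.nonempty_homotopy_zero (fn 0) hK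
      obtain ⟨z, hz⟩ := Cochain.equivHomotopy _ _ h
      rw [Cochain.ofHom_zero, add_zero] at hz
      exact ⟨⟨z, hz.symm⟩⟩
    let seq : ∀ n, S n := fun n => Nat.rec s0.some (fun n a => (step n a).choose) n
    have hseq : ∀ n, (seq (n + 1)).1.comp
        (Cochain.ofHom (I.map (homOfLE (Nat.le_succ n)).op)) (add_zero (-1)) = (seq n).1 :=
      fun n => (step n (seq n)).choose_spec
    obtain ⟨α, hα1, hα2⟩ : ∃ α : ∀ n : ℕ, Cochain K (I.obj (op n)) (-1),
        (∀ n, δ (-1) 0 (α n) = Cochain.ofHom (fn n)) ∧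
        (∀ n, (α (n + 1)).comp (Cochain.ofHom (I.map (homOfLE (Nat.le_succ n)).op))
          (add_zero (-1)) = α n) :=
      ⟨fun n => (seq n).1, fun n => (seq n).2, hseq⟩
    have hc := fun q : ℤ => isLimitMapConeEval (limit.isLimit I) q
    refine nonempty_homotopy_zero_of_limit (limit.cone I) hc f (fun j => α j.unop) ?_
      (fun j => hα1 j.unop)
    -- compatibility with all transition maps
    have key : ∀ (n k : ℕ) (g : op (n + k) ⟶ op n),
        (α (n + k)).comp (Cochain.ofHom (I.map g)) (add_zero (-1)) = α n := by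
      intro n k
      induction k with
      | zero =>
        intro g
        obtain rfl : g = 𝟙 _ := Subsingleton.elim _ _
        rw [CategoryTheory.Functor.map_id]
        exact Cochain.comp_id _
      | succ k ih =>
        intro g
        have hg : g = (homOfLE (Nat.le_succ (n + k))).op ≫ (homOfLE (Nat.le_add_right n k)).op :=
          Subsingleton.elim _ _
        rw [hg, CategoryTheory.Functor.map_comp, Cochain.ofHom_comp,
          ← Cochain.comp_assoc_of_second_is_zero_cochain]
        erw [hα2 (n + k)]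
        exact ih _
    rintro ⟨n'⟩ ⟨n⟩ g
    obtain ⟨k, rfl⟩ : ∃ k, n' = n + k := Nat.exists_eq_add_of_le (leOfHom g.unop)
    exact key n k g

end Groth.Agent.Lib.Helper68.KInj
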