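import Mathlib
import Groth.Agent.Lib.Helper32.KunTen
import Groth.Agent.Lib.Helper36.TensorTerms

/-!
Helper (helper68): top-degree Künneth for the tensor product of two bounded-above cochain
complexes of modules: if `K₁` vanishes above `a+1` and `K₂` above `b+1`, then
`H^{a+b+2}(K₁ ⊗ K₂) ≅ H^{a+1}(K₁) ⊗ H^{b+1}(K₂)`.
-/

set_option autoImplicit false
universe u

open CategoryTheory CategoryTheory.Limits MonoidalCategory HomologicalComplex TensorProduct

namespace Groth.Agent.Lib.Helper68.KunTop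

open Groth.Agent.Lib.Helper32.KunTen

variable {R : Type u} [CommRing R]

/-- top homology as a quotient of the top term -/
noncomputable def topHomologyIso (C : CochainComplex (ModuleCat.{u} R) ℤ) (m : ℤ)
    (h : IsZero (C.X (m + 1 + 1))) :
    C.homology (m + 1) ≅ ModuleCat.of R (C.X (m + 1) ⧸ LinearMap.range (C.d m (m + 1)).hom) :=
  C.isoHomologyι (m + 1) (m + 1 + 1) (by simp) (h.eq_of_tgt _ _) ≪≫
    C.opcyclesIsoSc' m (m + 1) (m + 1 + 1) (by simp) (by simp) ≪≫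
    (C.sc' m (m + 1) (m + 1 + 1)).moduleCatOpcyclesIso

variable (K₁ K₂ : CochainComplex (ModuleCat.{u} R) ℤ) (a b m : ℤ)
  (h₁ : ∀ i : ℤ, a + 1 < i → IsZero (K₁.X i)) (h₂ : ∀ j : ℤ, b + 1 < j → IsZero (K₂.X j))
  (hm : a + 1 + (b + 1) = m + 1)

include h₁ h₂ in
lemma inc_eq_zero (i j : ℤ) (h : i + j = m + 1) (hne : ¬ (i = a + 1 ∧ j = b + 1))
    (hm : a + 1 + (b + 1) = m + 1)
    (t : ↑(K₁.X i ⊗ K₂.X j)) : (inc K₁ K₂ i j (m + 1) h).hom t = 0 := by
  have hz : IsZero (K₁.X i ⊗ K₂.X j) := by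
    by_cases hi : a + 1 < i
    · exact subsingleton_tensor_left _ _ (h₁ i hi)
    · exact subsingleton_tensor_right _ _ (h₂ j (by omega))
  have := ModuleCat.subsingleton_of_isZero hz
  rw [Subsingleton.elim t 0, map_zero]

include h₁ h₂ hm in
lemma incTop_surjective :
    Function.Surjective (inc K₁ K₂ (a + 1) (b + 1) (m + 1) hm).hom := by
  intro x
  refine induction_on K₁ K₂ (P := fun x => ∃ t, (inc K₁ K₂ (a + 1) (b + 1) (m + 1) hm).hom t = x)
    x ⟨0, map_zero _⟩ ?_ ?_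
  · rintro x y ⟨t, rfl⟩ ⟨s, rfl⟩
    exact ⟨t + s, map_add _ _ _⟩
  · intro i j h t
    by_cases hh : i = a + 1 ∧ j = b + 1
    · obtain ⟨rfl, rfl⟩ := hh
      exact ⟨t, rfl⟩
    · exact ⟨0, by rw [map_zero, inc_eq_zero K₁ K₂ a b m h₁ h₂ i j h hh hm t]⟩

include h₁ h₂ hm in
/-- the top term of the tensor complex -/
noncomputable def topEquiv : (TensorProduct R (K₁.X (a + 1)) (K₂.X (b + 1))) ≃ₗ[R]
    ((K₁ ⊗ K₂).X (m + 1)) :=
  LinearEquiv.ofBijective (inc K₁ K₂ (a + 1) (b + 1) (m + 1) hm).hom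
    ⟨inc_injective K₁ K₂ _ _ _ hm, incTop_surjective K₁ K₂ a b m h₁ h₂ hm⟩

/-- the submodule of the top term cut out by boundaries -/
noncomputable abbrev bdry : Submodule R (TensorProduct R (K₁.X (a + 1)) (K₂.X (b + 1))) :=
  LinearMap.range (TensorProduct.map (LinearMap.range (K₁.d a (a + 1)).hom).subtype
      (LinearMap.id : K₂.X (b + 1) →ₗ[R] K₂.X (b + 1))) ⊔
    LinearMap.range (TensorProduct.map (LinearMap.id : K₁.X (a + 1) →ₗ[R] K₁.X (a + 1))
      (LinearMap.range (K₂.d b (b + 1)).hom).subtype)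

include h₁ h₂ hm in
lemma range_d_le :
    LinearMap.range ((K₁ ⊗ K₂).d m (m + 1)).hom ≤
      (bdry K₁ K₂ a b).map (topEquiv K₁ K₂ a b m h₁ h₂ hm).toLinearMap := by
  rintro _ ⟨x, rfl⟩
  refine induction_on K₁ K₂ (P := fun x => ((K₁ ⊗ K₂).d m (m + 1)).hom x ∈
    (bdry K₁ K₂ a b).map (topEquiv K₁ K₂ a b m h₁ h₂ hm).toLinearMap) x ?_ ?_ ?_
  · rw [map_zero]; exact Submodule.zero_mem _
  · intro x y hx hy
    rw [map_add]; exact Submodule.add_mem _ hx hy
  · intro i j h t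
    induction t using TensorProduct.induction_on with
    | zero => rw [map_zero, map_zero]; exact Submodule.zero_mem _
    | add t s ht hs => rw [map_add, map_add]; exact Submodule.add_mem _ ht hs
    | tmul x y =>
      rw [inc_d_succ_apply]
      refine Submodule.add_mem _ ?_ (Submodule.smul_of_tower_mem _ _ ?_)
      · by_cases hh : i + 1 = a + 1 ∧ j = b + 1
        · obtain ⟨hi, rfl⟩ := hh
          obtain rfl : i = a := by omega
          refine ⟨((K₁.d i (i + 1)).hom x) ⊗ₜ[R] y, Submodule.mem_sup_left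
            ⟨(⟨(K₁.d i (i + 1)).hom x, ⟨x, rfl⟩⟩ : LinearMap.range (K₁.d i (i + 1)).hom) ⊗ₜ[R] y,
              rfl⟩, rfl⟩
        · rw [inc_eq_zero K₁ K₂ a b m h₁ h₂ (i + 1) j (by omega) hh hm]
          exact Submodule.zero_mem _
      · by_cases hh : i = a + 1 ∧ j + 1 = b + 1
        · obtain ⟨rfl, hj⟩ := hh
          obtain rfl : j = b := by omega
          refine ⟨x ⊗ₜ[R] ((K₂.d j (j + 1)).hom y), Submodule.mem_sup_right
            ⟨x ⊗ₜ[R] (⟨(K₂.d j (j + 1)).hom y, ⟨y, rfl⟩⟩ : LinearMap.range (K₂.d j (j + 1)).hom),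
              rfl⟩, rfl⟩
        · rw [inc_eq_zero K₁ K₂ a b m h₁ h₂ i (j + 1) (by omega) hh hm]
          exact Submodule.zero_mem _

include h₁ h₂ hm in
lemma le_range_d :
    (bdry K₁ K₂ a b).map (topEquiv K₁ K₂ a b m h₁ h₂ hm).toLinearMap ≤
      LinearMap.range ((K₁ ⊗ K₂).d m (m + 1)).hom := by
  rw [Submodule.map_le_iff_le_comap]
  refine sup_le ?_ ?_
  · rintro _ ⟨t, rfl⟩
    induction t using TensorProduct.induction_on with
    | zero => rw [map_zero]; exact Submodule.zero_mem _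
    | add t s ht hs => rw [map_add]; exact Submodule.add_mem _ ht hs
    | tmul x y =>
      obtain ⟨_, ⟨x', rfl⟩⟩ := x
      rw [Submodule.mem_comap]
      show (inc K₁ K₂ (a + 1) (b + 1) (m + 1) hm).hom (((K₁.d a (a + 1)).hom x') ⊗ₜ[R] y) ∈
        LinearMap.range ((K₁ ⊗ K₂).d m (m + 1)).hom
      have h := inc_d_succ_apply K₁ K₂ a (b + 1) m (by omega) x' y
      have hz : (K₂.d (b + 1) (b + 1 + 1)).hom y = 0 := by
        have := ModuleCat.subsingleton_of_isZero (h₂ (b + 1 + 1) (by omega))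
        exact Subsingleton.elim _ _
      rw [hz, TensorProduct.tmul_zero, map_zero, smul_zero, add_zero] at h
      exact ⟨_, h⟩
  · rintro _ ⟨t, rfl⟩
    induction t using TensorProduct.induction_on with
    | zero => rw [map_zero]; exact Submodule.zero_mem _
    | add t s ht hs => rw [map_add]; exact Submodule.add_mem _ ht hs
    | tmul x y =>
      obtain ⟨_, ⟨y', rfl⟩⟩ := y
      have h := inc_d_succ_apply K₁ K₂ (a + 1) b m (by omega) x y'
      have hz : (K₁.d (a + 1) (a + 1 + 1)).hom x = 0 := by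
        have := ModuleCat.subsingleton_of_isZero (h₁ (a + 1 + 1) (by omega))
        exact Subsingleton.elim _ _
      rw [hz, TensorProduct.zero_tmul, map_zero, zero_add] at h
      have h' : (inc K₁ K₂ (a + 1) (b + 1) (m + 1) hm).hom (x ⊗ₜ[R] ((K₂.d b (b + 1)).hom y')) =
          ((a + 1).negOnePow : ℤ) • (((K₁ ⊗ K₂).d m (m + 1)).hom
            ((inc K₁ K₂ (a + 1) b m (by omega)).hom (x ⊗ₜ[R] y'))) := by
        rw [h, smul_smul]
        have : ((a + 1).negOnePow : ℤ) * ((a + 1).negOnePow : ℤ) = 1 := by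
          rw [← Units.val_mul, ← Int.negOnePow_add, Int.negOnePow_even _ ⟨a + 1, rfl⟩]; rfl
        rw [this, one_smul]
      rw [Submodule.mem_comap]
      show (inc K₁ K₂ (a + 1) (b + 1) (m + 1) hm).hom (x ⊗ₜ[R] ((K₂.d b (b + 1)).hom y')) ∈
        LinearMap.range ((K₁ ⊗ K₂).d m (m + 1)).hom
      rw [h']
      exact Submodule.smul_of_tower_mem _ _ ⟨_, rfl⟩

include h₁ h₂ hm in
/-- **Top-degree Künneth.** -/
theorem nonempty_topKunneth :
    Nonempty ((K₁ ⊗ K₂).homology (m + 1) ≅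
      ModuleCat.of R (TensorProduct R (K₁.homology (a + 1)) (K₂.homology (b + 1)))) := by
  have hT : IsZero ((K₁ ⊗ K₂).X (m + 1 + 1)) :=
    Groth.Agent.Lib.Helper36.TT.isZero_tensor_X K₁ K₂ (m + 1 + 1) (fun p q hpq => by
      by_cases hp : a + 1 < p
      · exact Or.inl (h₁ p hp)
      · exact Or.inr (h₂ q (by omega)))
  have e0 := topHomologyIso (K₁ ⊗ K₂) m hT
  have e1 := (topHomologyIso K₁ a (h₁ _ (by omega))).toLinearEquiv
  have e2 := (topHomologyIso K₂ b (h₂ _ (by omega))).toLinearEquiv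
  have hS : (bdry K₁ K₂ a b).map (topEquiv K₁ K₂ a b m h₁ h₂ hm).toLinearMap =
      LinearMap.range ((K₁ ⊗ K₂).d m (m + 1)).hom :=
    le_antisymm (le_range_d K₁ K₂ a b m h₁ h₂ hm) (range_d_le K₁ K₂ a b m h₁ h₂ hm)
  have e3 := Submodule.Quotient.equiv (bdry K₁ K₂ a b) _ (topEquiv K₁ K₂ a b m h₁ h₂ hm) hS
  have e4 := TensorProduct.quotientTensorQuotientEquiv (LinearMap.range (K₁.d a (a + 1)).hom)
    (LinearMap.range (K₂.d b (b + 1)).hom)
  exact ⟨e0 ≪≫ (e3.symm ≪≫ₗ e4.symm ≪≫ₗ (TensorProduct.congr e1 e2).symm).toModuleIso⟩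

end Groth.Agent.Lib.Helper68.KunTop
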