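import Mathlib
import Groth.Agent.Lib.Helper68.KunTop
import Groth.Agent.Lib.Helper36.LTensorCxBalance
import Groth.Agent.Lib.Helper12.DRingSplit
import Groth.Agent.Lib.Helper12.DRingTop

/-!
Helper (helper68): top-degree Künneth for the derived tensor product with a complex.
-/

set_option autoImplicit false
universe u

open CategoryTheory CategoryTheory.Limits MonoidalCategory HomologicalComplex TensorProduct
open DRing

attribute [local instance] HasDerivedCategory.standard

namespace Groth.Agent.Lib.Helper68.KunTop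

open Groth.Agent.Lib.Helper12 Groth.Agent.Lib.Helper36.LTCx

theorem nontrivial_tensor_of_isLocalRing {R : Type u} [CommRing R] [IsLocalRing R] (M N : Type u)
    [AddCommGroup M] [Module R M] [AddCommGroup N] [Module R N]
    [Module.Finite R M] [Module.Finite R N] [Nontrivial M] [Nontrivial N] :
    Nontrivial (M ⊗[R] N) := by
  let k := IsLocalRing.ResidueField R
  have hM : Nontrivial (k ⊗[R] M) := by
    rw [← not_subsingleton_iff_nontrivial, IsLocalRing.subsingleton_tensorProduct]
    exact not_subsingleton M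
  have hN : Nontrivial (k ⊗[R] N) := by
    rw [← not_subsingleton_iff_nontrivial, IsLocalRing.subsingleton_tensorProduct]
    exact not_subsingleton N
  have h3 : Nontrivial ((k ⊗[R] M) ⊗[k] (k ⊗[R] N)) := inferInstance
  have e := TensorProduct.AlgebraTensorModule.distribBaseChange R k M N
  have h4 : Nontrivial (k ⊗[R] (M ⊗[R] N)) := e.toEquiv.nontrivial
  by_contra h
  rw [not_nontrivial_iff_subsingleton] at h
  exact not_subsingleton (k ⊗[R] (M ⊗[R] N)) inferInstance

variable {A : Type u} [CommRing A]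

/-- **Top-degree Künneth, derived form.** -/
theorem kunneth_top (E : Cx A) [DRing.HasLTensorCx A E] (X : Dual.D A) (a b : ℤ)
    (hX : ∀ i : ℤ, a < i → IsZero ((HF A i).obj X))
    (hE : ∀ j : ℤ, b < j → IsZero ((HF A j).obj (toD E))) :
    (∀ n : ℤ, a + b < n → IsZero ((HF A n).obj ((DRing.LTensorCx A E).obj X))) ∧
    Nonempty ((HF A (a + b)).obj ((DRing.LTensorCx A E).obj X) ≅
      ModuleCat.of A (((HF A a).obj X : ModuleCat.{u} A) ⊗[A] ((HF A b).obj (toD E) : ModuleCat.{u} A))) := by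
  obtain ⟨P, hPb, hPp, ⟨eP⟩⟩ := exists_projective_rep X a hX
  obtain ⟨E', hE'b, hE'p, ⟨eE⟩⟩ := exists_projective_rep (toD E) b hE
  obtain ⟨e⟩ := nonempty_lTensorCx_iso E E' P a hPb hPp b hE'b hE'p eE
  have eF : (DRing.LTensorCx A E).obj X ≅ toD (P ⊗ E') :=
    (DRing.LTensorCx A E).mapIso eP.symm ≪≫ e
  refine ⟨fun n hn => ?_, ?_⟩
  · exact (isZero_HF_toD_of_vanishesAbove
      (Groth.Agent.Lib.Helper36.TT.vanishesAbove_tensor P E' hPb hE'b) n hn).of_iso
      ((HF A n).mapIso eF)
  · obtain ⟨a', rfl⟩ : ∃ a', a = a' + 1 := ⟨a - 1, by ring⟩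
    obtain ⟨b', rfl⟩ : ∃ b', b = b' + 1 := ⟨b - 1, by ring⟩
    have hm : a' + 1 + (b' + 1) = (a' + b' + 1) + 1 := by ring
    obtain ⟨k⟩ := nonempty_topKunneth P E' a' b' (a' + b' + 1) hPb hE'b hm
    rw [hm]
    have e1 : (HF A (a' + 1)).obj X ≅ P.homology (a' + 1) :=
      (HF A (a' + 1)).mapIso eP.symm ≪≫
        (DerivedCategory.homologyFunctorFactors (ModuleCat.{u} A) (a' + 1)).app P
    have e2 : (HF A (b' + 1)).obj (toD E) ≅ E'.homology (b' + 1) :=
      (HF A (b' + 1)).mapIso eE.symm ≪≫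
        (DerivedCategory.homologyFunctorFactors (ModuleCat.{u} A) (b' + 1)).app E'
    exact ⟨(HF A (a' + b' + 1 + 1)).mapIso eF ≪≫
      (DerivedCategory.homologyFunctorFactors (ModuleCat.{u} A) (a' + b' + 1 + 1)).app (P ⊗ E') ≪≫ k ≪≫
      (TensorProduct.congr e1.toLinearEquiv e2.toLinearEquiv).symm.toModuleIso⟩

end Groth.Agent.Lib.Helper68.KunTop
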