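import Mathlib
import Groth.Agent.Lib.Helper68.KunTop2

/-!
Helper (helper68): over a Noetherian local ring, `L ⊗^L E ≅ A[0]` (bounded above, finite cohomology)
forces `L ≅ A[n]`, `E ≅ A[-n]`.
-/

set_option autoImplicit false
universe u

open CategoryTheory CategoryTheory.Limits MonoidalCategory HomologicalComplex TensorProduct
open DRing DerivedCategory

attribute [local instance] HasDerivedCategory.standard

namespace Groth.Agent.Lib.Helper68.KunTop

open Groth.Agent.Lib.Helper12 Groth.Agent.Lib.Helper36.LTCx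

variable {A : Type u} [CommRing A]

/-- an object with cohomology concentrated in one degree is a shifted module -/
theorem nonempty_iso_single_of_HF (X : Dual.D A) (a : ℤ) (M : ModuleCat.{u} A)
    (h : ∀ i : ℤ, i ≠ a → IsZero ((HF A i).obj X)) (e : (HF A a).obj X ≅ M) :
    Nonempty (X ≅ (DerivedCategory.singleFunctor (ModuleCat.{u} A) a).obj M) := by
  have h1 : X.IsLE a := by rw [DerivedCategory.isLE_iff]; intro i hi; exact h i (by omega)
  have h2 : X.IsGE a := by rw [DerivedCategory.isGE_iff]; intro i hi; exact h i (by omega)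
  obtain ⟨Y, ⟨e'⟩⟩ := DerivedCategory.exists_iso_singleFunctor_obj_of_isGE_of_isLE X a
  have eY : Y ≅ M := (HFSingleIso a Y).symm ≪≫ (HF A a).mapIso e'.symm ≪≫ e
  exact ⟨e' ≪≫ (DerivedCategory.singleFunctor (ModuleCat.{u} A) a).mapIso eY⟩

lemma isZero_HF_inD (M : ModuleCat.{u} A) (n : ℤ) (hn : n ≠ 0) :
    IsZero ((HF A n).obj ((DerivedCategory.singleFunctor (ModuleCat.{u} A) 0).obj M)) := by
  rcases lt_or_gt_of_ne hn with h | h
  · exact DerivedCategory.isZero_of_isGE _ 0 n h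
  · exact DerivedCategory.isZero_of_isLE _ 0 n h

/-- existence of a top nonvanishing degree -/
lemma exists_top_degree (X : Dual.D A) (hb : ∃ b : ℤ, ∀ i : ℤ, b < i → Subsingleton (Dual.HD A X i))
    (hne : ∃ i : ℤ, Nontrivial (Dual.HD A X i)) :
    ∃ a : ℤ, Nontrivial (Dual.HD A X a) ∧ ∀ i : ℤ, a < i → IsZero ((HF A i).obj X) := by
  obtain ⟨b, hb⟩ := hb
  obtain ⟨a, ha, hmax⟩ := Int.exists_greatest_of_bdd (P := fun i => Nontrivial (Dual.HD A X i))
    ⟨b, fun z hz => by
      by_contra hlt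
      have := hb z (by omega)
      exact not_subsingleton _ this⟩ hne
  refine ⟨a, ha, fun i hi => ?_⟩
  have : ¬ Nontrivial (Dual.HD A X i) := fun hn => by
    have := hmax i hn
    omega
  rw [not_nontrivial_iff_subsingleton] at this
  exact ModuleCat.isZero_of_subsingleton _

/-- the shifted unit complex represents `A[x]` -/
noncomputable def toDShiftUnitIso (A : Type u) [CommRing A] (x : ℤ) :
    toD ((𝟙_ (Cx A))⟦x⟧) ≅ (Dual.inD A A)⟦x⟧ :=
  (DerivedCategory.Q.commShiftIso x).app (𝟙_ (Cx A)) ≪≫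
    (shiftFunctor (Dual.D A) x).mapIso
      ((DerivedCategory.singleFunctorIsoCompQ (ModuleCat.{u} A) 0).app (ModuleCat.of A A)).symm

noncomputable def shiftUnitTensorIso (E : Cx A) (x : ℤ) :
    ((𝟙_ (Cx A))⟦x⟧ ⊗ E) ≅ E⟦x⟧ :=
  CochainComplex.mapBifunctorShift₁Iso (𝟙_ (Cx A)) E (curriedTensor (ModuleCat.{u} A)) x ≪≫
    (shiftFunctor (Cx A) x).mapIso (λ_ E)

instance isKProjective_unit (A : Type u) [CommRing A] : (𝟙_ (Cx A)).IsKProjective := by
  refine Groth.Agent.Lib.Helper12.isKProjective_of_vanishesAbove (𝟙_ (Cx A)) 0 ?_ ?_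
  · intro i hi
    exact HomologicalComplex.isZero_single_obj_X _ _ _ _ (by omega)
  · intro i
    by_cases hi : i = 0
    · subst hi
      exact Module.Projective.of_equiv
        (HomologicalComplex.singleObjXSelf (ComplexShape.up ℤ) 0 (ModuleCat.of A A)).toLinearEquiv.symm
    · have : IsZero ((𝟙_ (Cx A)).X i) := HomologicalComplex.isZero_single_obj_X _ _ _ _ hi
      have := ModuleCat.subsingleton_of_isZero this
      infer_instance

/-- `A[x] ⊗^L E ≅ E[x]`. -/
theorem nonempty_lTensorCx_shiftUnit (E : Cx A) [DRing.HasLTensorCx A E] (x : ℤ) :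
    Nonempty ((DRing.LTensorCx A E).obj ((Dual.inD A A)⟦x⟧) ≅ (toD E)⟦x⟧) :=
  ⟨(DRing.LTensorCx A E).mapIso (toDShiftUnitIso A x).symm ≪≫
    lTensorCxObjIso E ((𝟙_ (Cx A))⟦x⟧) ≪≫ DerivedCategory.Q.mapIso (shiftUnitTensorIso E x) ≪≫
    (DerivedCategory.Q.commShiftIso x).app E⟩

end Groth.Agent.Lib.Helper68.KunTop
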