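import Mathlib
import Groth.Agent.Lib.Helper68.KunTop3

set_option autoImplicit false
universe u

open CategoryTheory CategoryTheory.Limits MonoidalCategory HomologicalComplex TensorProduct
open DRing DerivedCategory

attribute [local instance] HasDerivedCategory.standard

namespace Groth.Agent.Lib.Helper68.KunTop

open Groth.Agent.Lib.Helper12 Groth.Agent.Lib.Helper36.LTCx

variable {A : Type u} [CommRing A]

/-- retract of a zero object -/
lemma isZero_of_retract {C : Type*} [Category C] [HasZeroMorphisms C] {X Y : C} (i : X ⟶ Y) (r : Y ⟶ X)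
    (h : i ≫ r = 𝟙 X) (hY : IsZero Y) : IsZero X := by
  rw [IsZero.iff_id_eq_zero, ← h, hY.eq_of_tgt i 0, zero_comp]

variable [IsLocalRing A]

theorem main (L : Dual.D A) (E : DRing.Cx A) [DRing.HasLTensorCx A E]
    (hLfin : ∀ i : ℤ, Module.Finite A (Dual.HD A L i))
    (hLbdd : ∃ b : ℤ, ∀ i : ℤ, b < i → Subsingleton (Dual.HD A L i))
    (hEfin : ∀ i : ℤ, Module.Finite A (Dual.HD A (DRing.toD E) i))
    (hEbdd : ∃ b : ℤ, ∀ i : ℤ, b < i → Subsingleton (Dual.HD A (DRing.toD E) i))
    (h : Nonempty ((DRing.LTensorCx A E).obj L ≅ Dual.inD A A)) :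
    ∃ n : ℤ, Nonempty (L ≅ (Dual.inD A A)⟦n⟧) ∧ Nonempty (DRing.toD E ≅ (Dual.inD A A)⟦(-n)⟧) := by
  obtain ⟨h⟩ := h
  set F := DRing.LTensorCx A E with hF
  -- cohomology of `F L`
  have hFL0 : (HF A 0).obj (F.obj L) ≅ ModuleCat.of A A :=
    (HF A 0).mapIso h ≪≫ HFSingleIso 0 (ModuleCat.of A A)
  have hFLn : ∀ n : ℤ, n ≠ 0 → IsZero ((HF A n).obj (F.obj L)) := fun n hn =>
    (isZero_HF_inD (ModuleCat.of A A) n hn).of_iso ((HF A n).mapIso h)
  have hFL0' : ¬ IsZero ((HF A 0).obj (F.obj L)) := fun hz => by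
    have := ModuleCat.subsingleton_of_isZero (hz.of_iso hFL0.symm)
    exact not_subsingleton A this
  -- nonvanishing
  have hLne : ∃ i : ℤ, Nontrivial (Dual.HD A L i) := by
    by_contra hcon
    simp only [not_exists, not_nontrivial_iff_subsingleton] at hcon
    obtain ⟨bE, hbE⟩ := hEbdd
    have := (kunneth_top E L (0 - bE - 1) bE (fun i _ => by
      have := hcon i
      exact ModuleCat.isZero_of_subsingleton _) (fun j hj => by
      have := hbE j hj
      exact ModuleCat.isZero_of_subsingleton _)).1 0 (by omega)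
    exact hFL0' this
  have hEne : ∃ i : ℤ, Nontrivial (Dual.HD A (DRing.toD E) i) := by
    by_contra hcon
    simp only [not_exists, not_nontrivial_iff_subsingleton] at hcon
    obtain ⟨bL, hbL⟩ := hLbdd
    have := (kunneth_top E L bL (0 - bL - 1) (fun i hi => by
      have := hbL i hi
      exact ModuleCat.isZero_of_subsingleton _) (fun j _ => by
      have := hcon j
      exact ModuleCat.isZero_of_subsingleton _)).1 0 (by omega)
    exact hFL0' this
  obtain ⟨a, haN, haZ⟩ := exists_top_degree L hLbdd hLne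
  obtain ⟨b, hbN, hbZ⟩ := exists_top_degree (DRing.toD E) hEbdd hEne
  obtain ⟨hK1, ⟨hK2⟩⟩ := kunneth_top E L a b haZ hbZ
  have := hLfin a
  have := hEfin b
  have hMN : Nontrivial (((HF A a).obj L : ModuleCat.{u} A) ⊗[A]
      ((HF A b).obj (DRing.toD E) : ModuleCat.{u} A)) :=
    nontrivial_tensor_of_isLocalRing (R := A) (Dual.HD A L a) (Dual.HD A (DRing.toD E) b)
  have hab : a + b = 0 := by
    by_contra hne
    have hz := (hFLn (a + b) hne).of_iso hK2.symm
    have := ModuleCat.subsingleton_of_isZero hz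
    exact not_subsingleton _ this
  rw [hab] at hK2
  have eMN : (((HF A a).obj L : ModuleCat.{u} A) ⊗[A]
      ((HF A b).obj (DRing.toD E) : ModuleCat.{u} A)) ≃ₗ[A] A :=
    (hK2.symm ≪≫ hFL0).toLinearEquiv
  have hMinv : Module.Invertible A ((HF A a).obj L : ModuleCat.{u} A) := Module.Invertible.left eMN
  have hNinv : Module.Invertible A ((HF A b).obj (DRing.toD E) : ModuleCat.{u} A) :=
    Module.Invertible.right eMN
  obtain ⟨eM⟩ := (Module.Invertible.free_iff_linearEquiv (R := A)
    (M := ((HF A a).obj L : ModuleCat.{u} A))).mp inferInstance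
  obtain ⟨eN⟩ := (Module.Invertible.free_iff_linearEquiv (R := A)
    (M := ((HF A b).obj (DRing.toD E) : ModuleCat.{u} A))).mp inferInstance
  -- split off the top cohomology of `L`
  have hS : Nonempty (((TStructure.t : Triangulated.TStructure (Dual.D A)).truncGE a).obj L ≅
      (DerivedCategory.singleFunctor (ModuleCat.{u} A) a).obj (ModuleCat.of A A)) := by
    refine nonempty_iso_single_of_HF _ a _ ?_ ((HFTruncGEIso L a a le_rfl).symm ≪≫ eM.toModuleIso)
    intro i hi
    rcases lt_or_gt_of_ne hi with h' | h'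
    · exact isZero_HF_truncGE L a i h'
    · exact (haZ i h').of_iso (HFTruncGEIso L a i (by omega)).symm
  obtain ⟨eS⟩ := hS
  have hP' : VanishesOutside (singleCx a (ModuleCat.of A A)) a a := fun i hi =>
    HomologicalComplex.isZero_single_obj_X _ _ _ _ (by omega)
  have hproj : ∀ i, Module.Projective A ((singleCx a (ModuleCat.of A A)).X i) := by
    intro i
    by_cases hi : i = a
    · subst hi
      exact Module.Projective.of_equiv
        (HomologicalComplex.singleObjXSelf (ComplexShape.up ℤ) i (ModuleCat.of A A)).toLinearEquiv.symm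
    · have : IsZero ((singleCx a (ModuleCat.of A A)).X i) :=
        HomologicalComplex.isZero_single_obj_X _ _ _ _ hi
      have := ModuleCat.subsingleton_of_isZero this
      infer_instance
  obtain ⟨e, he1, -⟩ := exists_splitting_of_projective L a (singleCx a (ModuleCat.of A A)) a hP' hproj
    (toDSingleIso' a _ ≪≫ eS.symm)
  obtain ⟨C, ι, r, hιr, hCZ, hCiso⟩ : ∃ (C : Dual.D A) (ι : C ⟶ L) (r : L ⟶ C), ι ≫ r = 𝟙 C ∧
      (∀ i : ℤ, a ≤ i → IsZero ((HF A i).obj C)) ∧
      (∀ i : ℤ, i < a → Nonempty ((HF A i).obj C ≅ (HF A i).obj L)) :=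
    ⟨_, ((TStructure.t : Triangulated.TStructure (Dual.D A)).truncLTι a).app L,
      e.hom ≫ biprod.fst, by rw [← Category.assoc, he1, biprod.inl_fst],
      fun i hi => isZero_HF_truncLT L a i hi, fun i hi => ⟨HFTruncLTIso L a i hi⟩⟩
  have hFC : ∀ n : ℤ, IsZero ((HF A n).obj (F.obj C)) := by
    intro n
    by_cases hn : n = 0
    · subst hn
      exact (kunneth_top E C (a - 1) b (fun i hi => hCZ i (by omega)) hbZ).1 0 (by omega)
    · exact isZero_of_retract ((HF A n).map (F.map ι)) ((HF A n).map (F.map r))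
        (by rw [← CategoryTheory.Functor.map_comp, ← CategoryTheory.Functor.map_comp, hιr, CategoryTheory.Functor.map_id, CategoryTheory.Functor.map_id])
        (hFLn n hn)
  have hCz : ∀ i : ℤ, IsZero ((HF A i).obj C) := by
    by_contra hcon
    have hCne : ∃ i : ℤ, Nontrivial (Dual.HD A C i) := by
      by_contra h2
      simp only [not_exists, not_nontrivial_iff_subsingleton] at h2
      exact hcon (fun i => by
        have := h2 i
        exact ModuleCat.isZero_of_subsingleton _)
    obtain ⟨c, hcN, hcZ⟩ := exists_top_degree C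
      ⟨a - 1, fun i hi => ModuleCat.subsingleton_of_isZero (hCZ i (by omega))⟩ hCne
    have hca : c < a := by
      by_contra hge
      have := ModuleCat.subsingleton_of_isZero (hCZ c (by omega))
      exact not_subsingleton _ this
    obtain ⟨kc⟩ := hCiso c hca
    have hfin : Module.Finite A (Dual.HD A C c) :=
      Module.Finite.equiv kc.toLinearEquiv.symm
    obtain ⟨-, ⟨k⟩⟩ := kunneth_top E C c b hcZ hbZ
    have hnt : Nontrivial (((HF A c).obj C : ModuleCat.{u} A) ⊗[A]
        ((HF A b).obj (DRing.toD E) : ModuleCat.{u} A)) :=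
      nontrivial_tensor_of_isLocalRing (R := A) (Dual.HD A C c) (Dual.HD A (DRing.toD E) b)
    have := ModuleCat.subsingleton_of_isZero ((hFC (c + b)).of_iso k.symm)
    exact not_subsingleton _ this
  obtain ⟨eL⟩ : Nonempty (L ≅
      (DerivedCategory.singleFunctor (ModuleCat.{u} A) a).obj (ModuleCat.of A A)) := by
    refine nonempty_iso_single_of_HF L a _ ?_ eM.toModuleIso
    intro i hi
    rcases lt_or_gt_of_ne hi with h' | h'
    · obtain ⟨ki⟩ := hCiso i h'
      exact (hCz i).of_iso ki.symm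
    · exact haZ i h'
  have eL' : L ≅ (Dual.inD A A)⟦-a⟧ := eL ≪≫
    (((DerivedCategory.singleFunctors (ModuleCat.{u} A)).shiftIso (-a) a 0 (by omega)).app
      (ModuleCat.of A A)).symm
  obtain ⟨eE⟩ := nonempty_lTensorCx_shiftUnit E (-a)
  have e1 : (DRing.toD E)⟦-a⟧ ≅ Dual.inD A A := eE.symm ≪≫ F.mapIso eL'.symm ≪≫ h
  have e2 : DRing.toD E ≅ (Dual.inD A A)⟦a⟧ :=
    (shiftFunctorCompIsoId (Dual.D A) (-a) a (by omega)).symm.app (DRing.toD E) ≪≫
      (shiftFunctor (Dual.D A) a).mapIso e1
  refine ⟨-a, ⟨eL'⟩, ?_⟩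
  rw [neg_neg]
  exact ⟨e2⟩

end Groth.Agent.Lib.Helper68.KunTop
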