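import Mathlib
import Groth.Agent.Lib.Helper36.TensorSingle

set_option autoImplicit false
universe u
open CategoryTheory CategoryTheory.Limits CategoryTheory.Pretriangulated MonoidalCategory
open HomologicalComplex
attribute [local instance] HasDerivedCategory.standard
namespace Groth.Agent.Lib.Helper68.LTC
open Groth.Agent.Lib.Helper36 DerivedCategory

variable {A : Type u} [CommRing A]

/-- termwise tensor with `M` -/
noncomputable abbrev Gc (M : ModuleCat.{u} A) : DRing.Cx A ⥤ DRing.Cx A :=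
  (tensorRight M).mapHomologicalComplex (ComplexShape.up ℤ)

lemma inc_naturality {E E' : DRing.Cx A} (f : E ⟶ E') (M : ModuleCat.{u} A) (n : ℤ) :
    TS.inc E M n ≫ (f ▷ TS.sM M).f n = (f.f n ▷ M) ≫ TS.inc E' M n := by
  have h1 : (f ▷ TS.sM M) = HomologicalComplex.mapBifunctorMap f (𝟙 (TS.sM M)) _ _ := by
    rw [← MonoidalCategory.tensorHom_id]
    rfl
  rw [h1]
  unfold TS.inc
  rw [Category.assoc]
  erw [HomologicalComplex.ι_mapBifunctorMap]
  have h2 : ((curriedTensor (ModuleCat.{u} A)).obj (E'.X n)).map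
      (HomologicalComplex.Hom.f (𝟙 (TS.sM M)) 0) = 𝟙 _ := by
    rw [HomologicalComplex.id_f]
    exact CategoryTheory.Functor.map_id _ _
  rw [h2, Category.id_comp]
  have h3 : ((curriedTensor (ModuleCat.{u} A)).map (f.f n)).app ((TS.sM M).X 0) =
      f.f n ▷ (TS.sM M).X 0 := rfl
  rw [h3, ← Category.assoc, ← Category.assoc, ← MonoidalCategory.whisker_exchange]

lemma tsi_inv_naturality {E E' : DRing.Cx A} (f : E ⟶ E') (M : ModuleCat.{u} A) :
    (TS.tensorSingleIso E M).inv ≫ (f ▷ TS.sM M) = (Gc M).map f ≫ (TS.tensorSingleIso E' M).inv := by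
  refine HomologicalComplex.hom_ext _ _ (fun n => ?_)
  rw [HomologicalComplex.comp_f, HomologicalComplex.comp_f, TS.tensorSingleIso_inv_f,
    TS.tensorSingleIso_inv_f]
  exact inc_naturality f M n

lemma tsi_hom_naturality {E E' : DRing.Cx A} (f : E ⟶ E') (M : ModuleCat.{u} A) :
    (f ▷ TS.sM M) ≫ (TS.tensorSingleIso E' M).hom = (TS.tensorSingleIso E M).hom ≫ (Gc M).map f := by
  rw [← cancel_epi (TS.tensorSingleIso E M).inv, ← Category.assoc, tsi_inv_naturality,
    Category.assoc, Iso.inv_hom_id, Category.comp_id, Iso.inv_hom_id_assoc]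

/-- the triangulated functor `K(A) ⥤ D(A)`, termwise tensor with `M` then localize -/
noncomputable abbrev Φ (M : ModuleCat.{u} A) :
    HomotopyCategory (ModuleCat.{u} A) (ComplexShape.up ℤ) ⥤ Dual.D A :=
  (tensorRight M).mapHomotopyCategory (ComplexShape.up ℤ) ⋙ DerivedCategory.Qh

open CochainComplex in
theorem exists_fiber {X Y : DRing.Cx A} (j : X ⟶ Y) :
    ∃ (πA : (mappingCone j)⟦(-1 : ℤ)⟧ ⟶ X),
      (HomotopyCategory.quotient _ _).map (πA ≫ j) = 0 ∧
      ∀ (M : ModuleCat.{u} A) {W : Dual.D A} (e : W ⟶ Q.obj ((Gc M).obj X)),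
        e ≫ Q.map ((Gc M).map j) = 0 →
        ∃ h : W ⟶ Q.obj ((Gc M).obj ((mappingCone j)⟦(-1 : ℤ)⟧)),
          h ≫ Q.map ((Gc M).map πA) = e := by
  have hT₀ := HomotopyCategory.mappingCone_triangleh_distinguished j
  have hT₁ := inv_rot_of_distTriang _ hT₀
  set T₁ := (mappingCone.triangleh j).invRotate with hT₁def
  let qX := (HomotopyCategory.quotient (ModuleCat.{u} A) (ComplexShape.up ℤ)).obj X
  let qY := (HomotopyCategory.quotient (ModuleCat.{u} A) (ComplexShape.up ℤ)).obj Y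
  let qP := (HomotopyCategory.quotient (ModuleCat.{u} A) (ComplexShape.up ℤ)).obj
    ((mappingCone j)⟦(-1 : ℤ)⟧)
  let O₁ := T₁.obj₁
  let m₁ : O₁ ⟶ qX := T₁.mor₁
  let m₂ : qX ⟶ qY := (HomotopyCategory.quotient (ModuleCat.{u} A) (ComplexShape.up ℤ)).map j
  have h0 : m₁ ≫ m₂ = 0 := comp_distTriang_mor_zero₁₂ T₁ hT₁
  let cs : qP ≅ O₁ :=
    ((HomotopyCategory.quotient (ModuleCat.{u} A) (ComplexShape.up ℤ)).commShiftIso (-1 : ℤ)).app
      (mappingCone j)
  let πK : qP ⟶ qX := cs.hom ≫ m₁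
  have h0' : πK ≫ m₂ = 0 := by
    show (cs.hom ≫ m₁) ≫ m₂ = 0
    rw [Category.assoc, h0, comp_zero]
  refine ⟨(HomotopyCategory.quotient _ _).preimage πK, ?_, ?_⟩
  · rw [Functor.map_comp, Functor.map_preimage]
    exact h0'
  · intro M W e he
    have hΦ := (Φ M).map_distinguished T₁ hT₁
    obtain ⟨h'', hh''⟩ := Triangle.coyoneda_exact₂ _ hΦ e he
    let h3 : W ⟶ (Φ M).obj O₁ := h''
    have hh3 : e = h3 ≫ (Φ M).map m₁ := hh''
    have hcs : cs.inv ≫ πK = m₁ := by
      show cs.inv ≫ cs.hom ≫ m₁ = m₁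
      rw [Iso.inv_hom_id_assoc]
    have key : (h3 ≫ (Φ M).map cs.inv) ≫ (Φ M).map πK = e := by
      rw [Category.assoc, ← Functor.map_comp, hcs]
      exact hh3.symm
    refine ⟨h3 ≫ (Φ M).map cs.inv, ?_⟩
    have h1 : Q.map ((Gc M).map ((HomotopyCategory.quotient _ _).preimage πK)) =
        (Φ M).map πK := by
      show DerivedCategory.Qh.map ((HomotopyCategory.quotient _ _).map ((Gc M).map _)) = _
      rw [← Functor.mapHomotopyCategory_map, Functor.map_preimage]
      rfl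
    rw [h1]
    exact key

end Groth.Agent.Lib.Helper68.LTC
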