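import Mathlib
import Groth.Agent.Lib.Helper94.KoszulReg
import Groth.Agent.Lib.Helper12.ExtLES

set_option autoImplicit false
universe u
open CategoryTheory CategoryTheory.Limits CategoryTheory.Pretriangulated MonoidalCategory
open HomologicalComplex CochainComplex
attribute [local instance] HasDerivedCategory.standard
namespace Groth.Agent.Lib.Helper68.LTC
open DerivedCategory Groth.Agent.Lib.Helper94.KoszulReg Groth.Agent.Lib.Helper12

variable {A : Type u} [CommRing A]

lemma isKProjective_mappingCone {X Y : DRing.Cx A} (j : X ⟶ Y) [X.IsKProjective]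
    [Y.IsKProjective] : (mappingCone j).IsKProjective := by
  rw [CochainComplex.isKProjective_iff_leftOrthogonal]
  exact ObjectProperty.ext_of_isTriangulatedClosed₃ _ _
    (HomotopyCategory.mappingCone_triangleh_distinguished j)
    (CochainComplex.IsKProjective.leftOrthogonal X) (CochainComplex.IsKProjective.leftOrthogonal Y)

lemma isKProjective_kz (X : DRing.Cx A) [X.IsKProjective] : ∀ l : List A, (kz X l).IsKProjective
  | [] => inferInstanceAs X.IsKProjective
  | f :: fs => by
    have := isKProjective_kz X fs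
    exact isKProjective_mappingCone (f • 𝟙 (kz X fs))

instance isKProjective_unit : (𝟙_ (DRing.Cx A)).IsKProjective := by
  have : ∀ n : ℤ, Projective ((𝟙_ (DRing.Cx A)).X n) := by
    intro n
    by_cases hn : n = 0
    · subst hn
      have : Projective (ModuleCat.of A A) := by
        rw [← IsProjective.iff_projective]
        infer_instance
      exact Projective.of_iso
        (HomologicalComplex.singleObjXSelf (ComplexShape.up ℤ) 0 (𝟙_ (ModuleCat.{u} A))).symm this
    · exact (HomologicalComplex.isZero_single_obj_X (ComplexShape.up ℤ) 0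
        (𝟙_ (ModuleCat.{u} A)) n hn).projective
  have : (𝟙_ (DRing.Cx A)).IsStrictlyLE 0 :=
    inferInstanceAs (CochainComplex.IsStrictlyLE
      ((HomologicalComplex.single (ModuleCat.{u} A) (ComplexShape.up ℤ) 0).obj
      (𝟙_ (ModuleCat.{u} A))) 0)
  exact CochainComplex.isKProjective_of_projective _ 0

/-- the canonical map `X ⟶ kz X l` -/
noncomputable def jmap (X : DRing.Cx A) : ∀ l : List A, X ⟶ kz X l
  | [] => 𝟙 X
  | f :: fs => jmap X fs ≫ mappingCone.inr (f • 𝟙 (kz X fs))

/-- descending a map along `kz` when the target is killed by the elements of the list -/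
noncomputable def kdesc {X Y : DRing.Cx A} (g : X ⟶ Y) :
    ∀ l : List A, (∀ y ∈ l, y • 𝟙 Y = 0) → (kz X l ⟶ Y)
  | [], _ => g
  | f :: fs, h =>
    mappingCone.desc (f • 𝟙 (kz X fs)) 0
      (kdesc g fs (fun y hy => h y (List.mem_cons_of_mem _ hy))) (by
        have h1 : (f • 𝟙 (kz X fs)) ≫ kdesc g fs (fun y hy => h y (List.mem_cons_of_mem _ hy)) = 0 := by
          rw [Linear.smul_comp, Category.id_comp]
          have := h f (List.mem_cons_self)
          calc f • kdesc g fs _ = kdesc g fs _ ≫ (f • 𝟙 Y) := by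
                rw [Linear.comp_smul, Category.comp_id]
            _ = 0 := by rw [this, comp_zero]
        rw [h1, HomComplex.Cochain.ofHom_zero, HomComplex.δ_zero])

lemma jmap_kdesc {X Y : DRing.Cx A} (g : X ⟶ Y) :
    ∀ (l : List A) (h : ∀ y ∈ l, y • 𝟙 Y = 0), jmap X l ≫ kdesc g l h = g
  | [], _ => Category.id_comp _
  | f :: fs, h => by
    show (jmap X fs ≫ mappingCone.inr (f • 𝟙 (kz X fs))) ≫ mappingCone.desc _ _ _ _ = g
    rw [Category.assoc, mappingCone.inr_desc]
    exact jmap_kdesc g fs _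

theorem exists_piD (I : Ideal A) (l : List A) (hl : ∀ y ∈ l, y ∈ I)
    (P : DRing.Cx A) (πA : P ⟶ 𝟙_ (DRing.Cx A))
    (h : (HomotopyCategory.quotient _ _).map (πA ≫ jmap (𝟙_ (DRing.Cx A)) l) = 0) :
    ∃ πD : (Q.obj P : Dual.D A) ⟶ Q.obj ((HomologicalComplex.single (ModuleCat.{u} A)
        (ComplexShape.up ℤ) 0).obj (ModuleCat.of A ↥I)),
      πD ≫ Q.map ((HomologicalComplex.single (ModuleCat.{u} A) (ComplexShape.up ℤ) 0).map
        (ModuleCat.ofHom I.subtype)) = Q.map πA := by
  let sQ : DRing.Cx A := (HomologicalComplex.single (ModuleCat.{u} A) (ComplexShape.up ℤ) 0).obj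
    (ModuleCat.of A (A ⧸ (I : Submodule A A)))
  let g : 𝟙_ (DRing.Cx A) ⟶ sQ :=
    (HomologicalComplex.single (ModuleCat.{u} A) (ComplexShape.up ℤ) 0).map
      (ModuleCat.ofHom (Submodule.mkQ (I : Submodule A A)))
  have hkill : ∀ y ∈ l, y • 𝟙 sQ = 0 := by
    intro y hy
    have h1 : y • 𝟙 (ModuleCat.of A (A ⧸ (I : Submodule A A))) = 0 := by
      apply ModuleCat.hom_ext
      apply LinearMap.ext
      intro x
      obtain ⟨a, rfl⟩ := Submodule.Quotient.mk_surjective _ x
      show y • (Submodule.Quotient.mk a : A ⧸ (I : Submodule A A)) = 0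
      rw [← Submodule.Quotient.mk_smul, Submodule.Quotient.mk_eq_zero]
      exact I.mul_mem_right a (hl y hy)
    apply HomologicalComplex.from_single_hom_ext
    let e := HomologicalComplex.singleObjXSelf (ComplexShape.up ℤ) 0
      (ModuleCat.of A (A ⧸ (I : Submodule A A)))
    show y • 𝟙 (sQ.X 0) = 0
    have h3 : 𝟙 (sQ.X 0) = e.hom ≫ 𝟙 _ ≫ e.inv := by
      rw [Category.id_comp, e.hom_inv_id]
    rw [h3, ← Linear.comp_smul, ← Linear.smul_comp, h1, zero_comp, comp_zero]
  let aug := kdesc g l hkill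
  have haug : jmap (𝟙_ (DRing.Cx A)) l ≫ aug = g := jmap_kdesc g l hkill
  have hz : (Q.map πA : (Q.obj P : Dual.D A) ⟶ _) ≫ Q.map g = 0 := by
    rw [← haug, ← Functor.map_comp, ← Category.assoc, Functor.map_comp]
    have : (Q.map (πA ≫ jmap (𝟙_ (DRing.Cx A)) l) : (Q.obj P : Dual.D A) ⟶ _) = 0 := by
      show DerivedCategory.Qh.map ((HomotopyCategory.quotient _ _).map _) = 0
      rw [h, Functor.map_zero]
    rw [this, zero_comp]
  have hdist := (subSC_shortExact (I : Submodule A A)).singleTriangle_distinguished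
  obtain ⟨πD, hπD⟩ := Triangle.coyoneda_exact₂ _ hdist (Q.map πA) hz
  exact ⟨πD, hπD.symm⟩

end Groth.Agent.Lib.Helper68.LTC
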