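import Mathlib
import Groth.Agent.Lib.Helper12.ExtSourceAR
import Groth.Agent.Lib.Helper12.DRingCanTrunc

set_option autoImplicit false
universe u
open CategoryTheory CategoryTheory.Limits CategoryTheory.Pretriangulated
attribute [local instance] HasDerivedCategory.standard
namespace Groth.Agent.Lib.Helper68.LTK
open Groth.Agent.Lib.Helper12

variable {A : Type u} [CommRing A]

/-- inclusion `I^n M → M` as a morphism in `D(A)` -/
noncomputable abbrev incl (I : Ideal A) (n : ℕ) (M : Type u) [AddCommGroup M] [Module A M] :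
    Dual.inD A ↥(I ^ n • (⊤ : Submodule A M)) ⟶ Dual.inD A M :=
  (DerivedCategory.singleFunctor (ModuleCat.{u} A) 0).map
    (ModuleCat.ofHom (I ^ n • (⊤ : Submodule A M)).subtype)

def Killed (I : Ideal A) (K : Dual.D A) : Prop :=
  ∀ (M : Type u) [AddCommGroup M] [Module A M] [Module.Finite A M] (e : Dual.inD A M ⟶ K),
    ∃ n : ℕ, incl I n M ≫ e = 0

def Tors (I : Ideal A) (N : ModuleCat.{u} A) : Prop := ∃ c : ℕ, ∀ r ∈ I ^ c, ∀ x : N, r • x = 0

lemma incl_le (I : Ideal A) (M : Type u) [AddCommGroup M] [Module A M] {n m : ℕ} (h : n ≤ m) :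
    ∃ j : Dual.inD A ↥(I ^ m • (⊤ : Submodule A M)) ⟶ Dual.inD A ↥(I ^ n • (⊤ : Submodule A M)),
      incl I m M = j ≫ incl I n M := by
  have hle : I ^ m • (⊤ : Submodule A M) ≤ I ^ n • (⊤ : Submodule A M) :=
    Submodule.smul_mono_left (Ideal.pow_le_pow_right h)
  refine ⟨(DerivedCategory.singleFunctor (ModuleCat.{u} A) 0).map
    (ModuleCat.ofHom (Submodule.inclusion hle)), ?_⟩
  rw [← Functor.map_comp]
  rfl

lemma incl_add (I : Ideal A) (M : Type u) [AddCommGroup M] [Module A M] (n1 n2 : ℕ) :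
    ∃ j : Dual.inD A ↥(I ^ (n1 + n2) • (⊤ : Submodule A M)) ⟶
        Dual.inD A ↥(I ^ n2 • (⊤ : Submodule A ↥(I ^ n1 • (⊤ : Submodule A M)))),
      incl I (n1 + n2) M = j ≫ incl I n2 ↥(I ^ n1 • (⊤ : Submodule A M)) ≫ incl I n1 M := by
  set N1 : Submodule A M := I ^ n1 • ⊤ with hN1
  set N2 : Submodule A ↥N1 := I ^ n2 • ⊤ with hN2
  have hmap : N2.map N1.subtype = I ^ (n1 + n2) • (⊤ : Submodule A M) := by
    rw [hN2, Submodule.map_smul'', Submodule.map_top, Submodule.range_subtype, hN1, ← mul_smul,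
      ← pow_add, add_comm]
  let e := Submodule.equivMapOfInjective N1.subtype N1.injective_subtype N2
  let φ : ↥(I ^ (n1 + n2) • (⊤ : Submodule A M)) →ₗ[A] ↥N2 :=
    e.symm.toLinearMap ∘ₗ (LinearEquiv.ofEq _ _ hmap.symm).toLinearMap
  refine ⟨(DerivedCategory.singleFunctor (ModuleCat.{u} A) 0).map (ModuleCat.ofHom φ), ?_⟩
  rw [← Functor.map_comp, ← Functor.map_comp]
  rw [← ModuleCat.ofHom_comp, ← ModuleCat.ofHom_comp]
  have key : (I ^ (n1 + n2) • (⊤ : Submodule A M)).subtype =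
      (N1.subtype ∘ₗ N2.subtype) ∘ₗ φ := by
    apply LinearMap.ext
    intro x
    show (x : M) = N1.subtype (N2.subtype (φ x))
    have h1 : ((e (e.symm (LinearEquiv.ofEq _ _ hmap.symm x)) : ↥(N2.map N1.subtype)) : M) =
        N1.subtype ((e.symm (LinearEquiv.ofEq _ _ hmap.symm x) : ↥N2) : ↥N1) :=
      Submodule.coe_equivMapOfInjective_apply N1.subtype N1.injective_subtype N2 _
    rw [LinearEquiv.apply_symm_apply] at h1
    exact h1
  show (DerivedCategory.singleFunctor (ModuleCat.{u} A) 0).map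
    (ModuleCat.ofHom (I ^ (n1 + n2) • (⊤ : Submodule A M)).subtype) = _
  rw [key]

variable [IsNoetherianRing A]

lemma killed_iso (I : Ideal A) {K K' : Dual.D A} (e : K ≅ K') (h : Killed I K) : Killed I K' := by
  intro M _ _ _ f
  obtain ⟨n, hn⟩ := h M (f ≫ e.inv)
  refine ⟨n, ?_⟩
  have := congrArg (· ≫ e.hom) hn
  simpa using this

lemma killed_zero (I : Ideal A) (K : Dual.D A) (h : IsZero K) : Killed I K := by
  intro M _ _ _ f
  exact ⟨0, h.eq_of_tgt _ _⟩

lemma killed_ext (I : Ideal A) (T : Triangle (Dual.D A)) (hT : T ∈ distTriang (Dual.D A))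
    (h1 : Killed I T.obj₁) (h3 : Killed I T.obj₃) : Killed I T.obj₂ := by
  intro M _ _ _ e
  obtain ⟨n1, hn1⟩ := h3 M (e ≫ T.mor₂)
  rw [← Category.assoc] at hn1
  obtain ⟨e1, he1⟩ := Triangle.coyoneda_exact₂ T hT (incl I n1 M ≫ e) hn1
  have : IsNoetherian A M := isNoetherian_of_isNoetherianRing_of_finite A M
  obtain ⟨n2, hn2⟩ := h1 ↥(I ^ n1 • (⊤ : Submodule A M)) e1
  obtain ⟨j, hj⟩ := incl_add I M n1 n2
  refine ⟨n1 + n2, ?_⟩
  rw [hj, Category.assoc, Category.assoc, he1, reassoc_of% hn2, zero_comp, comp_zero]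

lemma isZero_inD_of_tors (I : Ideal A) (N : Type u) [AddCommGroup N] [Module A N] (c : ℕ)
    (hc : ∀ r ∈ I ^ c, ∀ x : N, r • x = 0) :
    IsZero (Dual.inD A ↥(I ^ c • (⊤ : Submodule A N))) := by
  apply isZero_inD (M := ModuleCat.of A ↥(I ^ c • (⊤ : Submodule A N)))
  have hbot : I ^ c • (⊤ : Submodule A N) = ⊥ := by
    rw [eq_bot_iff, Submodule.smul_le]
    intro r hr x _
    rw [hc r hr x]
    exact Submodule.zero_mem _
  have : Subsingleton ↥(I ^ c • (⊤ : Submodule A N)) := by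
    rw [hbot]; infer_instance
  exact ModuleCat.isZero_of_subsingleton _

lemma killed_single (I : Ideal A) (N : ModuleCat.{u} A) (a : ℤ) (hN : Tors I N) :
    Killed I ((DerivedCategory.singleFunctor (ModuleCat.{u} A) a).obj N) := by
  by_cases ha : 0 < a
  · intro M _ _ _ e
    refine ⟨0, ?_⟩
    have : e = 0 := DerivedCategory.TStructure.t.zero_of_isLE_of_isGE e 0 a ha
      (by infer_instance) (by infer_instance)
    rw [this, comp_zero]
  · obtain ⟨p, hp⟩ : ∃ p : ℕ, -a = (p : ℤ) := ⟨(-a).toNat, by omega⟩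
    refine killed_iso I (singleFunctorShiftIso a N).symm ?_
    rw [hp]
    intro M _ _ _ e
    obtain ⟨c0, hc0⟩ := hN
    obtain ⟨c, hc⟩ := ext_source_artinRees I M N p
    obtain ⟨e', he'⟩ := hc (c + c0) (by omega) e
    refine ⟨c + c0, ?_⟩
    have hz : IsZero (Dual.inD A ↥(I ^ (c + c0 - c) • (⊤ : Submodule A N))) := by
      have : c + c0 - c = c0 := by omega
      rw [this]
      exact isZero_inD_of_tors I N c0 hc0
    have hz' : IsZero ((Dual.inD A ↥(I ^ (c + c0 - c) • (⊤ : Submodule A N)))⟦(p : ℤ)⟧) :=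
      (shiftFunctor (Dual.D A) (p : ℤ)).map_isZero hz
    rw [← he', hz'.eq_of_tgt e' 0, zero_comp]

theorem killed_of_bounded_tors (I : Ideal A) (K : Dual.D A) (a b : ℤ)
    (hK : ∀ i, i < a ∨ b < i → IsZero ((HF A i).obj K))
    (hQ : ∀ i, Tors I ((HF A i).obj K)) : Killed I K := by
  refine homology_induction (Killed I) (Tors I) ?_ (fun e h => killed_iso I e h)
    (killed_zero I) (fun M a h => killed_single I M a h)
    (fun T hT h1 h3 => killed_ext I T hT h1 h3) K a b hK hQ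
  intro M N e ⟨c, hc⟩
  refine ⟨c, fun r hr x => ?_⟩
  have h2 : e.hom.hom (r • e.inv.hom x) = 0 := by rw [hc r hr (e.inv.hom x), map_zero]
  rw [LinearMap.map_smul] at h2
  have h3 : e.hom.hom (e.inv.hom x) = x := by
    rw [← LinearMap.comp_apply, ← ModuleCat.hom_comp, e.inv_hom_id]; rfl
  rw [h3] at h2
  exact h2

end Groth.Agent.Lib.Helper68.LTK
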