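import Mathlib
import Groth.Agent.Lib.Helper12.PwInjKoszul
import Groth.Agent.Lib.Helper94.KoszulReg

set_option autoImplicit false
universe u
open CategoryTheory CategoryTheory.Limits CategoryTheory.Pretriangulated
attribute [local instance] HasDerivedCategory.standard
namespace Groth.Agent.Lib.Helper68.LTKz
open Groth.Agent.Lib.Helper12 Groth.Agent.Lib.Helper12.PwInj DerivedCategory
open Groth.Agent.Lib.Helper94.KoszulReg

variable {A : Type u} [CommRing A] [IsNoetherianRing A]

structure KCond (l : List A) (K : Dual.D A) : Prop where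
  pos : ∀ j : ℤ, 0 < j → IsZero ((HF A j).obj K)
  neg : ∀ j : ℤ, j < -(l.length : ℤ) → IsZero ((HF A j).obj K)
  fin : ∀ j : ℤ, Module.Finite A ((HF A j).obj K)
  kill : ∀ j : ℤ, ∀ y ∈ l, ∀ h : (HF A j).obj K, ∃ k : ℕ, y ^ k • h = 0

lemma KCond.of_iso {l : List A} {K K' : Dual.D A} (e : K ≅ K') (h : KCond l K) : KCond l K' where
  pos j hj := IsZero.of_iso (h.pos j hj) ((HF A j).mapIso e.symm)
  neg j hj := IsZero.of_iso (h.neg j hj) ((HF A j).mapIso e.symm)
  fin j := by
    haveI := h.fin j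
    exact Module.Finite.equiv ((HF A j).mapIso e).toLinearEquiv
  kill j y hy x := by
    obtain ⟨k, hk⟩ := h.kill j y hy (((HF A j).mapIso e).inv.hom x)
    refine ⟨k, ?_⟩
    have h2 : ((HF A j).mapIso e).hom.hom (y ^ k • ((HF A j).mapIso e).inv.hom x) = 0 := by
      rw [hk, map_zero]
    rw [LinearMap.map_smul] at h2
    have h3 : ((HF A j).mapIso e).hom.hom (((HF A j).mapIso e).inv.hom x) = x := by
      rw [← LinearMap.comp_apply, ← ModuleCat.hom_comp, ((HF A j).mapIso e).inv_hom_id]; rfl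
    rw [h3] at h2
    exact h2

lemma KCond.step {l : List A} {K : Dual.D A} (hK : KCond l K) (y : A) {C : Dual.D A}
    (u : K ⟶ C) (v : C ⟶ K⟦(1 : ℤ)⟧)
    (hT : Triangle.mk (y • 𝟙 K) u v ∈ distTriang (Dual.D A)) : KCond (y :: l) C := by
  obtain ⟨hpos, hneg, hfin, hkill⟩ := hK
  set T := Triangle.mk (y • 𝟙 K) u v with hTdef
  let δ' : ∀ j : ℤ, (HF A j).obj C →ₗ[A] (HF A (j + 1)).obj K := fun j =>
    (HomologySequence.δ T j (j + 1) rfl).hom
  have fa : ∀ (j : ℤ) (x : (HF A j).obj C),
      δ' j x = 0 →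
      ∃ t : (HF A j).obj K, ((HF A j).map u).hom t = x := fun j x hx =>
    (ShortComplex.moduleCat_exact_iff _).mp (HomologySequence.exact₃ T hT j (j + 1) rfl) x hx
  have fb : ∀ (j : ℤ) (x : (HF A j).obj C),
      y • δ' j x = 0 := fun j x => by
    have e2 := congrArg (fun f => f.hom x) (HomologySequence.δ_comp T hT j (j + 1) rfl)
    simp only [ModuleCat.hom_comp, LinearMap.comp_apply] at e2
    have e3 : ((HF A (j + 1)).map (y • 𝟙 K)).hom
        ((HomologySequence.δ T j (j + 1) rfl).hom x) = 0 := e2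
    exact (HF_map_smul_id K y (j + 1) _).symm.trans e3
  have fc : ∀ (j : ℤ) (t : (HF A j).obj K), ((HF A j).map u).hom (y • t) = 0 := fun j t => by
    have h0 : (HF A j).map (y • 𝟙 K) ≫ (HF A j).map u = 0 := by
      rw [← Functor.map_comp]
      have := comp_distTriang_mor_zero₁₂ T hT
      change (HF A j).map (T.mor₁ ≫ T.mor₂) = 0
      rw [this, Functor.map_zero]
    have e2 := congrArg (fun f => f.hom t) h0
    simp only [ModuleCat.hom_comp, LinearMap.comp_apply] at e2
    have e3 : ((HF A j).map u).hom (((HF A j).map (y • 𝟙 K)).hom t) = 0 := e2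
    rw [HF_map_smul_id K y j t] at e3
    exact e3
  have hS : ∀ j : ℤ, (ShortComplex.mk ((HF A j).map u)
      (HomologySequence.δ T j (j + 1) rfl)
      (HomologySequence.comp_δ T hT j (j + 1) rfl)).Exact := fun j =>
    HomologySequence.exact₃ T hT j (j + 1) rfl
  refine ⟨?_, ?_, ?_, ?_⟩
  · intro j hj
    exact (hS j).isZero_of_both_zeros ((hpos j hj).eq_of_src _ _)
      ((hpos (j + 1) (by omega)).eq_of_tgt _ _)
  · intro j hj
    simp only [List.length_cons, Nat.cast_add, Nat.cast_one] at hj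
    exact (hS j).isZero_of_both_zeros ((hneg j (by omega)).eq_of_src _ _)
      ((hneg (j + 1) (by omega)).eq_of_tgt _ _)
  · intro j
    exact finite_of_exact _ (hS j) (hfin j) (hfin (j + 1))
  · intro j y' hy' x
    rcases List.mem_cons.mp hy' with rfl | hy'
    · refine ⟨2, ?_⟩
      have h1 : δ' j (y' • x) = 0 := by
        rw [map_smul]; exact fb j x
      obtain ⟨t, ht⟩ := fa j _ h1
      rw [pow_two, mul_smul, ← ht, ← map_smul]
      exact fc j t
    · obtain ⟨k, hk⟩ := hkill (j + 1) y' hy' (δ' j x)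
      have h1 : δ' j (y' ^ k • x) = 0 := by
        rw [map_smul]; exact hk
      obtain ⟨t, ht⟩ := fa j _ h1
      obtain ⟨k', hk'⟩ := hkill j y' hy' t
      refine ⟨k' + k, ?_⟩
      rw [pow_add, mul_smul, ← ht, ← map_smul, hk', map_zero]

/-- the Koszul-type complex `kz Z l` satisfies `KCond l` when `Z` satisfies `KCond []` -/
theorem kcond_kz (Z : CochainComplex (ModuleCat.{u} A) ℤ) (hZ : KCond [] (Q.obj Z)) :
    ∀ l : List A, KCond l (Q.obj (kz Z l))
  | [] => hZ
  | f :: fs => by
    have ih := kcond_kz Z hZ fs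
    have hT := DerivedCategory.mappingCone_triangle_distinguished (f • 𝟙 (kz Z fs))
    have hmap : (Q : _ ⥤ Dual.D A).map (f • 𝟙 (kz Z fs)) = f • 𝟙 (Q.obj (kz Z fs)) := by
      rw [Functor.map_smul, CategoryTheory.Functor.map_id]
    refine KCond.step ih f (C := Q.obj (kz Z (f :: fs)))
      ((Q.mapTriangle.obj (CochainComplex.mappingCone.triangle (f • 𝟙 (kz Z fs)))).mor₂)
      ((Q.mapTriangle.obj (CochainComplex.mappingCone.triangle (f • 𝟙 (kz Z fs)))).mor₃) ?_
    rw [← hmap]
    exact hT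

/-- torsion consequence -/
theorem tors_of_kcond (I : Ideal A) (l : List A) (hI : I = Ideal.span {y | y ∈ l})
    (N : Type u) [AddCommGroup N] [Module A N] [Module.Finite A N]
    (hkill : ∀ y ∈ l, ∀ h : N, ∃ k : ℕ, y ^ k • h = 0) :
    ∃ c : ℕ, ∀ r ∈ I ^ c, ∀ x : N, r • x = 0 := by
  classical
  have hle : I ≤ (Module.annihilator A N).radical := by
    rw [hI, Ideal.span_le]
    intro y hy
    obtain ⟨S, hS⟩ := (Module.Finite.fg_top (R := A) (M := N))
    choose k hk using hkill y hy
    refine ⟨∑ g ∈ S, k g, ?_⟩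
    rw [Module.mem_annihilator]
    intro x
    have hx : x ∈ Submodule.span A (S : Set N) := by rw [hS]; trivial
    induction hx using Submodule.span_induction with
    | mem g hg =>
      have hdiv : k g ≤ ∑ g ∈ S, k g := Finset.single_le_sum (fun _ _ => Nat.zero_le _) hg
      obtain ⟨d, hd⟩ := Nat.exists_eq_add_of_le hdiv
      rw [hd, pow_add, mul_comm, mul_smul, hk g, smul_zero]
    | zero => simp
    | add a b _ _ ha hb => rw [smul_add, ha, hb, add_zero]
    | smul r a _ ha => rw [smul_comm, ha, smul_zero]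
  have hfg : I.FG := by
    rw [hI]
    exact ⟨l.toFinset, by congr 1; ext; simp⟩
  obtain ⟨c, hc⟩ := Ideal.exists_pow_le_of_le_radical_of_fg hle hfg
  exact ⟨c, fun r hr x => Module.mem_annihilator.mp (hc hr) x⟩

end Groth.Agent.Lib.Helper68.LTKz
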