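import Mathlib.CategoryTheory.Functor.KanExtension.Adjunction
import Mathlib.CategoryTheory.Limits.Types.Colimits
import Mathlib.CategoryTheory.Limits.Presheaf

/-! An explicit model of the left Kan extension of a presheaf of sets (helper68). -/

set_option autoImplicit false
universe u

open CategoryTheory CategoryTheory.Limits Opposite

namespace Groth.Agent.Lib.Helper68

variable {C : Type u} [SmallCategory C] {D : Type u} [SmallCategory D]
variable (G : C ⥤ D) (P : Cᵒᵖ ⥤ Type u)

/-- Elements of the explicit left Kan extension before taking connected components. -/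
structure LanElt (W : D) where
  V : C
  p : W ⟶ G.obj V
  x : P.obj (op V)

variable {G P} in
/-- The generating relation. -/
def LanElt.Rel {W : D} (a b : LanElt G P W) : Prop :=
  ∃ s : a.V ⟶ b.V, a.p ≫ G.map s = b.p ∧ P.map s.op b.x = a.x

variable {G P} in
/-- Precomposition. -/
def LanElt.precomp {W W' : D} (w : W' ⟶ W) (a : LanElt G P W) : LanElt G P W' :=
  ⟨a.V, w ≫ a.p, a.x⟩

variable {G P} in
theorem LanElt.Rel.precomp {W W' : D} (w : W' ⟶ W) {a b : LanElt G P W} (h : a.Rel b) :
    (a.precomp w).Rel (b.precomp w) := by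
  obtain ⟨s, h1, h2⟩ := h
  exact ⟨s, by simp [LanElt.precomp, h1], h2⟩

/-- The explicit left Kan extension of `P` along `G`. -/
def lanObj : Dᵒᵖ ⥤ Type u where
  obj W := Quot (LanElt.Rel (G := G) (P := P) (W := W.unop))
  map w := ↾(Quot.map (LanElt.precomp w.unop) (fun _ _ h => h.precomp w.unop))
  map_id W := by
    ext x
    induction x using Quot.inductionOn with
    | h a => simp [Quot.map, LanElt.precomp]
  map_comp w w' := by
    ext x
    induction x using Quot.inductionOn with
    | h a => simp [Quot.map, LanElt.precomp]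

theorem lanObj_map_mk {W W' : D} (w : W' ⟶ W) (a : LanElt G P W) :
    (lanObj G P).map w.op (Quot.mk _ a) = Quot.mk _ (a.precomp w) := rfl

/-- The unit. -/
def lanUnit : P ⟶ G.op ⋙ lanObj G P where
  app V := ↾(fun x => Quot.mk _ ⟨V.unop, 𝟙 _, x⟩)
  naturality V V' s := by
    ext x
    change Quot.mk _ _ = Quot.mk _ _
    apply Quot.sound
    exact ⟨s.unop, by simp [LanElt.precomp], rfl⟩

theorem lanUnit_app_apply (V : C) (x : P.obj (op V)) :
    (lanUnit G P).app (op V) x = Quot.mk _ ⟨V, 𝟙 _, x⟩ := rfl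

theorem lanObj_mk_eq {W : D} (a : LanElt G P W) :
    (Quot.mk _ a : (lanObj G P).obj (op W)) =
      (lanObj G P).map a.p.op ((lanUnit G P).app (op a.V) a.x) := by
  rw [lanUnit_app_apply, lanObj_map_mk]
  cases a
  simp [LanElt.precomp]

variable {G P} in
/-- The morphism out of the explicit left Kan extension attached to a morphism to a restriction. -/
def lanDesc {Q : Dᵒᵖ ⥤ Type u} (σ : P ⟶ G.op ⋙ Q) : lanObj G P ⟶ Q where
  app W := ↾(Quot.lift (fun a => Q.map a.p.op (σ.app (op a.V) a.x)) (by
    rintro a b ⟨s, h1, h2⟩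
    have hn := NatTrans.naturality_apply σ s.op b.x
    rw [← h2, hn, ← h1]
    change _ = Q.map (a.p ≫ G.map s).op _
    rw [op_comp, Functor.map_comp]
    rfl))
  naturality W W' w := by
    ext x
    induction x using Quot.inductionOn with
    | h a =>
      change Q.map (w.unop ≫ a.p).op _ = Q.map w (Q.map a.p.op _)
      rw [op_comp, Functor.map_comp]
      rfl

variable {G P} in
theorem lanDesc_app_mk {Q : Dᵒᵖ ⥤ Type u} (σ : P ⟶ G.op ⋙ Q) {W : D} (a : LanElt G P W) :
    (lanDesc σ).app (op W) (Quot.mk _ a) = Q.map a.p.op (σ.app (op a.V) a.x) := rfl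

variable {G P} in
theorem lanUnit_lanDesc {Q : Dᵒᵖ ⥤ Type u} (σ : P ⟶ G.op ⋙ Q) :
    lanUnit G P ≫ Functor.whiskerLeft G.op (lanDesc σ) = σ := by
  ext V x
  change Q.map (𝟙 _) (σ.app V x) = σ.app V x
  simp

variable {G P} in
theorem lanObj_hom_ext {Q : Dᵒᵖ ⥤ Type u} {τ τ' : lanObj G P ⟶ Q}
    (h : lanUnit G P ≫ Functor.whiskerLeft G.op τ = lanUnit G P ≫ Functor.whiskerLeft G.op τ') :
    τ = τ' := by
  ext W x
  induction x using Quot.inductionOn with
  | h a =>
    rw [lanObj_mk_eq]
    have h1 := NatTrans.naturality_apply τ a.p.op ((lanUnit G P).app (op a.V) a.x)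
    have h2 := NatTrans.naturality_apply τ' a.p.op ((lanUnit G P).app (op a.V) a.x)
    refine h1.trans (Eq.trans ?_ h2.symm)
    exact congrArg (Q.map a.p.op) (congrArg (fun m => m.app (op a.V) a.x) h)

variable {P} in
/-- Functoriality of the explicit left Kan extension. -/
def lanMap {P' : Cᵒᵖ ⥤ Type u} (α : P ⟶ P') : lanObj G P ⟶ lanObj G P' :=
  lanDesc (α ≫ lanUnit G P')

variable {P} in
theorem lanMap_app_mk {P' : Cᵒᵖ ⥤ Type u} (α : P ⟶ P') {W : D} (a : LanElt G P W) :
    (lanMap G α).app (op W) (Quot.mk _ a) = Quot.mk _ ⟨a.V, a.p, α.app (op a.V) a.x⟩ := by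
  change (lanObj G P').map a.p.op (Quot.mk _ ⟨a.V, 𝟙 _, α.app (op a.V) a.x⟩) = _
  rw [lanObj_map_mk]
  simp only [LanElt.precomp, Category.comp_id]

variable {P} in
theorem lanUnit_lanMap {P' : Cᵒᵖ ⥤ Type u} (α : P ⟶ P') :
    lanUnit G P ≫ Functor.whiskerLeft G.op (lanMap G α) = α ≫ lanUnit G P' :=
  lanUnit_lanDesc _

/-- The explicit model is isomorphic to Mathlib's left Kan extension. -/
noncomputable def lanIso : G.op.lan.obj P ≅ lanObj G P where
  hom := ((G.op.lanAdjunction (Type u)).homEquiv P (lanObj G P)).symm (lanUnit G P)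
  inv := lanDesc ((G.op.lanAdjunction (Type u)).unit.app P)
  hom_inv_id := by
    apply ((G.op.lanAdjunction (Type u)).homEquiv _ _).injective
    rw [Adjunction.homEquiv_naturality_right, Equiv.apply_symm_apply, Adjunction.homEquiv_id]
    exact lanUnit_lanDesc _
  inv_hom_id := by
    apply lanObj_hom_ext
    have h1 : lanUnit G P ≫ Functor.whiskerLeft G.op
        (lanDesc ((G.op.lanAdjunction (Type u)).unit.app P) ≫
          ((G.op.lanAdjunction (Type u)).homEquiv P (lanObj G P)).symm (lanUnit G P)) =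
        (lanUnit G P ≫ Functor.whiskerLeft G.op
          (lanDesc ((G.op.lanAdjunction (Type u)).unit.app P))) ≫
          Functor.whiskerLeft G.op
            (((G.op.lanAdjunction (Type u)).homEquiv P (lanObj G P)).symm (lanUnit G P)) := by
      rw [Functor.whiskerLeft_comp, Category.assoc]
    rw [h1, lanUnit_lanDesc]
    have h2 := (G.op.lanAdjunction (Type u)).homEquiv_unit (X := P) (Y := lanObj G P)
      (f := ((G.op.lanAdjunction (Type u)).homEquiv P (lanObj G P)).symm (lanUnit G P))
    rw [Equiv.apply_symm_apply] at h2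
    rw [Functor.whiskerLeft_id', Category.comp_id]
    exact h2.symm

theorem unit_lanIso_hom :
    (G.op.lanAdjunction (Type u)).unit.app P ≫ Functor.whiskerLeft G.op (lanIso G P).hom =
      lanUnit G P := by
  have h2 := (G.op.lanAdjunction (Type u)).homEquiv_unit (X := P) (Y := lanObj G P)
    (f := ((G.op.lanAdjunction (Type u)).homEquiv P (lanObj G P)).symm (lanUnit G P))
  rw [Equiv.apply_symm_apply] at h2
  exact h2.symm

variable {P} in
theorem lanIso_naturality {P' : Cᵒᵖ ⥤ Type u} (α : P ⟶ P') :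
    G.op.lan.map α ≫ (lanIso G P').hom = (lanIso G P).hom ≫ lanMap G α := by
  apply ((G.op.lanAdjunction (Type u)).homEquiv _ _).injective
  rw [Adjunction.homEquiv_naturality_left, Adjunction.homEquiv_naturality_right]
  change α ≫ ((G.op.lanAdjunction (Type u)).homEquiv P' (lanObj G P'))
      (((G.op.lanAdjunction (Type u)).homEquiv P' (lanObj G P')).symm (lanUnit G P')) =
    ((G.op.lanAdjunction (Type u)).homEquiv P (lanObj G P))
      (((G.op.lanAdjunction (Type u)).homEquiv P (lanObj G P)).symm (lanUnit G P)) ≫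
        Functor.whiskerLeft G.op (lanMap G α)
  rw [Equiv.apply_symm_apply, Equiv.apply_symm_apply, lanUnit_lanMap]

end Groth.Agent.Lib.Helper68
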