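import Groth.Agent.Lib.Helper68.LanExplicit
import Mathlib.CategoryTheory.Limits.Types.Pullbacks
import Mathlib.CategoryTheory.Limits.Shapes.Pullback.IsPullback.Basic

/-! Left Kan extension along a faithful functor that is full on slices (helper68). -/

set_option autoImplicit false
universe u

open CategoryTheory CategoryTheory.Limits Opposite

namespace Groth.Agent.Lib.Helper68

variable {C : Type u} [SmallCategory C] {D : Type u} [SmallCategory D]
variable (G : C ⥤ D)

/-- `G` is full on slices: a morphism `G A ⟶ G B` over `G X` comes from a morphism `A ⟶ B`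
over `X`. -/
def SliceFull : Prop :=
  ∀ ⦃A B X : C⦄ (a : A ⟶ X) (b : B ⟶ X) (g : G.obj A ⟶ G.obj B), g ≫ G.map b = G.map a →
    ∃ s : A ⟶ B, G.map s = g ∧ s ≫ b = a

theorem sliceFull_of_post_full (h : ∀ X : C, (Over.post (X := X) G).Full) : SliceFull G := by
  intro A B X a b g hg
  have := h X
  let g' : (Over.post (X := X) G).obj (Over.mk a) ⟶ (Over.post (X := X) G).obj (Over.mk b) :=
    Over.homMk g (by exact hg)
  obtain ⟨s', hs'⟩ := (Over.post (X := X) G).map_surjective g'
  refine ⟨s'.left, ?_, by simpa using Over.w s'⟩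
  exact congrArg CommaMorphism.left hs'

variable {G} (P : Cᵒᵖ ⥤ Type u)

/-- The set of elements of `P V₀` represented by an element of the explicit left Kan extension
at `G V₀`. -/
def lanFibre (V₀ : C) (a : LanElt G P (G.obj V₀)) : Set (P.obj (op V₀)) :=
  {y | ∃ t : V₀ ⟶ a.V, G.map t = a.p ∧ y = P.map t.op a.x}

theorem lanFibre_eq_of_rel (hG : SliceFull G) (V₀ : C) {a b : LanElt G P (G.obj V₀)}
    (h : a.Rel b) : lanFibre P V₀ a = lanFibre P V₀ b := by
  obtain ⟨s, h1, h2⟩ := h
  ext y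
  constructor
  · rintro ⟨t, ht, rfl⟩
    refine ⟨t ≫ s, by rw [Functor.map_comp, ht, h1], ?_⟩
    rw [← h2, op_comp, Functor.map_comp]
    rfl
  · rintro ⟨t', ht', rfl⟩
    obtain ⟨t, ht, hts⟩ := hG t' s a.p (by rw [h1, ht'])
    refine ⟨t, ht, ?_⟩
    rw [← h2, ← hts, op_comp, Functor.map_comp]
    rfl

/-- The fibre of an element of the explicit left Kan extension at `G V₀`. -/
def lanFibreQuot (hG : SliceFull G) (V₀ : C) :
    (lanObj G P).obj (op (G.obj V₀)) → Set (P.obj (op V₀)) :=
  Quot.lift (lanFibre P V₀) (fun _ _ h => lanFibre_eq_of_rel P hG V₀ h)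

theorem lanFibreQuot_unit [G.Faithful] (hG : SliceFull G) (V₀ : C) (x : P.obj (op V₀)) :
    lanFibreQuot P hG V₀ ((lanUnit G P).app (op V₀) x) = {x} := by
  change lanFibre P V₀ ⟨V₀, 𝟙 _, x⟩ = {x}
  ext y
  constructor
  · rintro ⟨t, ht, rfl⟩
    have : t = 𝟙 V₀ := G.map_injective (by rw [ht, G.map_id])
    subst this
    simp
  · rintro rfl
    exact ⟨𝟙 _, G.map_id _, by simp⟩

theorem eq_unit_of_mem_lanFibreQuot (hG : SliceFull G) (V₀ : C)
    (ξ : (lanObj G P).obj (op (G.obj V₀))) (x : P.obj (op V₀))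
    (hx : x ∈ lanFibreQuot P hG V₀ ξ) : ξ = (lanUnit G P).app (op V₀) x := by
  induction ξ using Quot.inductionOn with
  | h a =>
    obtain ⟨t, ht, rfl⟩ := hx
    apply Eq.symm
    apply Quot.sound
    exact ⟨t, by simpa using ht, rfl⟩

theorem lanUnit_injective [G.Faithful] (hG : SliceFull G) (V₀ : C) :
    Function.Injective ((lanUnit G P).app (op V₀)) := by
  intro x x' h
  have h1 := lanFibreQuot_unit P hG V₀ x
  have h2 := lanFibreQuot_unit P hG V₀ x'
  rw [h] at h1
  have : ({x'} : Set (P.obj (op V₀))) = {x} := h2.symm.trans h1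
  exact (Set.singleton_eq_singleton_iff.mp this).symm

end Groth.Agent.Lib.Helper68
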