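import Mathlib.CategoryTheory.Sites.Canonical
import Mathlib.CategoryTheory.Adjunction.Reflective
import Mathlib.CategoryTheory.Limits.Preserves.Finite
import Mathlib.CategoryTheory.Limits.Preserves.Shapes.Equalizers
import Mathlib.CategoryTheory.Limits.Preserves.Shapes.Pullbacks
import Mathlib.CategoryTheory.Limits.Constructions.EpiMono
import Mathlib.CategoryTheory.Limits.FunctorCategory.Basic
import Mathlib.CategoryTheory.Limits.Types.Limits
import Mathlib.CategoryTheory.Limits.Shapes.Pullback.IsPullback.Basic
import Mathlib.CategoryTheory.ObjectProperty.FullSubcategory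

/-!
# Lex reflective subcategories of presheaves give Grothendieck topologies (SGA4 II 5.5, half)
-/

open CategoryTheory Limits Opposite

namespace Groth.Agent.Lib.Helper68.LexRefl

universe u

variable {C : Type u} [SmallCategory C] (P : ObjectProperty (Cᵒᵖ ⥤ Type u))
  [Reflective P.ι]

/-- `L u` is an isomorphism iff every object of `P` sees `u` as a bijection. -/
lemma isIso_map_iff {A B : Cᵒᵖ ⥤ Type u} (v : A ⟶ B) :
    IsIso ((reflector P.ι).map v) ↔
      ∀ F : Cᵒᵖ ⥤ Type u, P F → Function.Bijective (fun φ : B ⟶ F => v ≫ φ) := by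
  let adj := reflectorAdjunction P.ι
  have key : ∀ (G : P.FullSubcategory),
      (fun φ : B ⟶ P.ι.obj G => v ≫ φ) =
        (adj.homEquiv A G) ∘ (fun ψ : (reflector P.ι).obj B ⟶ G => (reflector P.ι).map v ≫ ψ) ∘
          (adj.homEquiv B G).symm := by
    intro G
    funext φ
    simp only [Function.comp_apply]
    rw [Adjunction.homEquiv_naturality_left, Equiv.apply_symm_apply]
  constructor
  · intro h F hF
    have := key ⟨F, hF⟩
    change Function.Bijective (fun φ : B ⟶ P.ι.obj ⟨F, hF⟩ => v ≫ φ)
    rw [this]
    refine (adj.homEquiv A _).bijective.comp (Function.Bijective.comp ?_ (adj.homEquiv B _).symm.bijective)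
    exact (isIso_iff_coyoneda_map_bijective _).1 h _
  · intro h
    rw [isIso_iff_coyoneda_map_bijective]
    intro G
    have h1 := h G.obj G.property
    change Function.Bijective (fun φ : B ⟶ P.ι.obj G => v ≫ φ) at h1
    rw [key G] at h1
    have h2 := (Function.Bijective.of_comp_iff' (adj.homEquiv A G).bijective _).1 h1
    exact (Function.Bijective.of_comp_iff _ (adj.homEquiv B G).symm.bijective).1 h2

/-- sheaf criterion -/
lemma isIso_map_functorInclusion_iff {X : C} (S : Sieve X) :
    IsIso ((reflector P.ι).map S.functorInclusion) ↔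
      ∀ F : Cᵒᵖ ⥤ Type u, P F → Presieve.IsSheafFor F S.arrows := by
  rw [isIso_map_iff]
  refine forall_congr' (fun F => forall_congr' (fun _ => ?_))
  rw [Presieve.isSheafFor_iff_yonedaSheafCondition, Presieve.YonedaSheafCondition,
    Function.bijective_iff_existsUnique]

/-- The sieve of arrows along which the section `b` lifts through `v`. -/
def liftSieve {A B : Cᵒᵖ ⥤ Type u} (v : A ⟶ B) {X : C} (b : B.obj (op X)) : Sieve X where
  arrows Y f := ∃ a : A.obj (op Y), v.app (op Y) a = B.map f.op b
  downward_closed := by
    rintro Y Z f ⟨a, ha⟩ g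
    refine ⟨A.map g.op a, ?_⟩
    rw [NatTrans.naturality_apply, ha]
    simp

variable [PreservesFiniteLimits (reflector P.ι)]

lemma isIso_map_liftSieve {A B : Cᵒᵖ ⥤ Type u} (v : A ⟶ B) {X : C} (b : B.obj (op X))
    (hv : IsIso ((reflector P.ι).map v)) :
    IsIso ((reflector P.ι).map (liftSieve v b).functorInclusion) := by
  let b' : yoneda.obj X ⟶ B := yonedaEquiv.symm b
  have hsq : IsPullback ((reflector P.ι).map (pullback.fst v b'))
      ((reflector P.ι).map (pullback.snd v b')) ((reflector P.ι).map v) ((reflector P.ι).map b') :=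
    (IsPullback.of_hasPullback v b').map (reflector P.ι)
  have h1 : IsIso ((reflector P.ι).map (pullback.snd v b')) := hsq.isIso_snd_of_isIso
  have hcond : ∀ (Z : Cᵒᵖ) (z : (pullback v b').obj Z),
      v.app Z ((pullback.fst v b').app Z z) = B.map ((pullback.snd v b').app Z z).op b := by
    intro Z z
    have := ConcreteCategory.congr_hom (NatTrans.congr_app (pullback.condition (f := v) (g := b')) Z) z
    simpa [b'] using this
  let t : pullback v b' ⟶ (liftSieve v b).functor :=
    { app := fun Z => ↾(fun z => ⟨(pullback.snd v b').app Z z, (pullback.fst v b').app Z z,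
        hcond Z z⟩)
      naturality := by
        intro Z Z' g
        ext z
        apply Subtype.ext
        exact NatTrans.naturality_apply (pullback.snd v b') g z }
  have ht : t ≫ (liftSieve v b).functorInclusion = pullback.snd v b' := by
    ext Z z
    rfl
  have h2 : (inv ((reflector P.ι).map (pullback.snd v b')) ≫ (reflector P.ι).map t) ≫
      (reflector P.ι).map (liftSieve v b).functorInclusion = 𝟙 _ := by
    rw [Category.assoc, ← Functor.map_comp, ht, IsIso.inv_hom_id]
  have : IsSplitEpi ((reflector P.ι).map (liftSieve v b).functorInclusion) := ⟨⟨⟨_, h2⟩⟩⟩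
  have : Mono ((reflector P.ι).map (liftSieve v b).functorInclusion) := inferInstance
  exact isIso_of_mono_of_isSplitEpi _

lemma liftSieve_functorInclusion {X Y : C} (S : Sieve X) (f : Y ⟶ X) :
    liftSieve S.functorInclusion (f : (yoneda.obj X).obj (op Y)) = S.pullback f := by
  ext Z g
  constructor
  · rintro ⟨a, ha⟩
    have : S a.1 := a.2
    have e : a.1 = g ≫ f := ha
    rw [e] at this
    exact this
  · intro h
    exact ⟨⟨g ≫ f, h⟩, rfl⟩

/-- The topology. -/
def topology : GrothendieckTopology C := Sheaf.finestTopology {F | P F}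

theorem mem_topology_iff {X : C} (S : Sieve X) :
    S ∈ topology P X ↔ IsIso ((reflector P.ι).map S.functorInclusion) := by
  constructor
  · intro hS
    rw [isIso_map_functorInclusion_iff]
    intro F hF
    exact Sheaf.sheaf_for_finestTopology {F | P F} hF _ hS
  · intro h
    apply Sheaf.mem_finestTopology_of_forall_isSheafFor
    intro F hF Y f
    have h1 := isIso_map_liftSieve P S.functorInclusion (f : (yoneda.obj X).obj (op Y)) h
    rw [liftSieve_functorInclusion] at h1
    exact (isIso_map_functorInclusion_iff P _).1 h1 F hF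

omit [Reflective P.ι] [PreservesFiniteLimits (reflector P.ι)] in
theorem isSheaf_of_prop {F : Cᵒᵖ ⥤ Type u} (hF : P F) : Presieve.IsSheaf (topology P) F :=
  Sheaf.sheaf_for_finestTopology {F | P F} hF

/-- A morphism between sheaves inverted by the reflector is injective. -/
lemma injective_app_of_isIso_map {F G : Cᵒᵖ ⥤ Type u} (v : F ⟶ G)
    (hF : Presieve.IsSheaf (topology P) F) (hv : IsIso ((reflector P.ι).map v)) (X : C) :
    Function.Injective (v.app (op X)) := by
  intro x y hxy
  let x' : yoneda.obj X ⟶ F := yonedaEquiv.symm x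
  let y' : yoneda.obj X ⟶ F := yonedaEquiv.symm y
  have hxy' : x' ≫ v = y' ≫ v := by
    rw [yonedaEquiv_symm_naturality_right, yonedaEquiv_symm_naturality_right, hxy]
  have hL : (reflector P.ι).map x' = (reflector P.ι).map y' := by
    rw [← cancel_mono ((reflector P.ι).map v), ← Functor.map_comp, ← Functor.map_comp, hxy']
  have hE : IsIso ((reflector P.ι).map (equalizer.ι x' y')) := by
    have hl := isLimitForkMapOfIsLimit (reflector P.ι) (equalizer.condition x' y')
      (equalizerIsEqualizer x' y')
    exact isIso_limit_cone_parallelPair_of_eq hL hl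
  have hS := (mem_topology_iff P _).2
    (isIso_map_liftSieve P (equalizer.ι x' y') (𝟙 X : (yoneda.obj X).obj (op X)) hE)
  refine (hF _ hS).isSeparatedFor.ext ?_
  rintro Y f ⟨a, ha⟩
  have h1 := ConcreteCategory.congr_hom (NatTrans.congr_app (equalizer.condition x' y') (op Y)) a
  have h2 : (equalizer.ι x' y').app (op Y) a = f := by
    rw [ha]
    simp
  simpa [x', y', h2] using h1

/-- A morphism between sheaves inverted by the reflector is surjective. -/
lemma surjective_app_of_isIso_map {F G : Cᵒᵖ ⥤ Type u} (v : F ⟶ G)
    (hF : Presieve.IsSheaf (topology P) F) (hG : Presieve.IsSheaf (topology P) G)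
    (hv : IsIso ((reflector P.ι).map v)) (X : C) :
    Function.Surjective (v.app (op X)) := by
  intro y
  have hinj := injective_app_of_isIso_map P v hF hv
  have hS := (mem_topology_iff P _).2 (isIso_map_liftSieve P v y hv)
  choose a ha using fun (Y : C) (f : Y ⟶ X) (hf : liftSieve v y f) => hf
  let fam : Presieve.FamilyOfElements F (liftSieve v y).arrows := fun Y f hf => a Y f hf
  have hfam : fam.Compatible := by
    rw [Presieve.compatible_iff_sieveCompatible]
    intro Y Z f g hf
    apply hinj
    dsimp only [fam]
    rw [ha, NatTrans.naturality_apply, ha]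
    simp
  obtain ⟨x, hx, -⟩ := hF _ hS fam hfam
  refine ⟨x, ?_⟩
  refine (hG _ hS).isSeparatedFor.ext ?_
  intro Y f hf
  rw [← NatTrans.naturality_apply, hx f hf]
  exact ha Y f hf

variable [P.IsClosedUnderIsomorphisms]

theorem prop_of_isSheaf {F : Cᵒᵖ ⥤ Type u} (hF : Presieve.IsSheaf (topology P) F) : P F := by
  let adj := reflectorAdjunction P.ι
  let G : Cᵒᵖ ⥤ Type u := P.ι.obj ((reflector P.ι).obj F)
  have hG : P G := ((reflector P.ι).obj F).property
  let v : F ⟶ G := adj.unit.app F
  have hv : IsIso ((reflector P.ι).map v) := by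
    have h1 := adj.left_triangle_components F
    have h2 : IsIso (adj.counit.app ((reflector P.ι).obj F)) := inferInstance
    have : IsIso ((reflector P.ι).map (adj.unit.app F) ≫ adj.counit.app ((reflector P.ι).obj F)) := by
      rw [h1]; exact IsIso.id _
    exact IsIso.of_isIso_comp_right ((reflector P.ι).map (adj.unit.app F))
      (adj.counit.app ((reflector P.ι).obj F))
  have hGs := isSheaf_of_prop P hG
  have hiso : IsIso v := by
    have : ∀ X : Cᵒᵖ, IsIso (v.app X) := by
      intro X
      rw [isIso_iff_bijective]
      exact ⟨injective_app_of_isIso_map P v hF hv X.unop,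
        surjective_app_of_isIso_map P v hF hGs hv X.unop⟩
    exact NatIso.isIso_of_isIso_app v
  exact P.prop_of_iso (asIso v).symm hG

end Groth.Agent.Lib.Helper68.LexRefl
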