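import Groth.Prelude.Def_CohCx
import Mathlib.CategoryTheory.Sites.MayerVietorisSquare
import Mathlib.Algebra.Homology.DerivedCategory.SingleTriangle

set_option autoImplicit false

namespace Groth.Agent.Lib.Helper68.MVDer

open CategoryTheory Limits Pretriangulated

section General

variable {D : Type*} [Category D] [Preadditive D] [HasZeroObject D] [HasShift D ℤ]
  [∀ n : ℤ, (shiftFunctor D n).Additive] [Pretriangulated D]
  {X Y Z : D} (f : X ⟶ Y) (g : Y ⟶ Z) (h : Z ⟶ X⟦(1 : ℤ)⟧)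

/-- The connecting homomorphism `Hom(X, K[n]) → Hom(Z, K[n+1])` of a triangle `X ⟶ Y ⟶ Z ⟶ X[1]`. -/
noncomputable def delta (K : D) (n : ℤ) : (X ⟶ K⟦n⟧) →+ (Z ⟶ K⟦n + 1⟧) where
  toFun φ := h ≫ φ⟦(1 : ℤ)⟧' ≫ (shiftFunctorAdd' D n 1 (n + 1) rfl).inv.app K
  map_zero' := by simp
  map_add' φ ψ := by simp

omit [HasZeroObject D] [Pretriangulated D] in
lemma delta_apply (K : D) (n : ℤ) (φ : X ⟶ K⟦n⟧) :
    delta h K n φ = h ≫ φ⟦(1 : ℤ)⟧' ≫ (shiftFunctorAdd' D n 1 (n + 1) rfl).inv.app K := rfl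

variable {f g h} (hT : Triangle.mk f g h ∈ distTriang D) (K : D) (n : ℤ)

include hT

lemma comp_comp_eq_zero {L : D} (θ : Z ⟶ L) : f ≫ g ≫ θ = 0 := by
  have : f ≫ g = 0 := comp_distTriang_mor_zero₁₂ _ hT
  rw [← Category.assoc, this, zero_comp]

lemma exists_of_comp_eq_zero {L : D} (ψ : Y ⟶ L) (hψ : f ≫ ψ = 0) : ∃ θ : Z ⟶ L, ψ = g ≫ θ :=
  Triangle.yoneda_exact₂ _ hT ψ hψ

lemma delta_comp (ψ : Y ⟶ K⟦n⟧) : delta h K n (f ≫ ψ) = 0 := by
  have : h ≫ f⟦(1 : ℤ)⟧' = 0 := comp_distTriang_mor_zero₃₁ _ hT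
  rw [delta_apply, Functor.map_comp, Category.assoc, ← Category.assoc h, this, zero_comp]

lemma comp_delta (φ : X ⟶ K⟦n⟧) : g ≫ delta h K n φ = 0 := by
  have : g ≫ h = 0 := comp_distTriang_mor_zero₂₃ _ hT
  rw [delta_apply, ← Category.assoc, this, zero_comp]

lemma exists_of_delta_eq_zero (φ : X ⟶ K⟦n⟧) (h0 : delta h K n φ = 0) :
    ∃ ψ : Y ⟶ K⟦n⟧, f ≫ ψ = φ := by
  have h1 : h ≫ φ⟦(1 : ℤ)⟧' = 0 := by
    rw [delta_apply, ← Category.assoc] at h0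
    have h2 := congrArg (fun k => k ≫ (shiftFunctorAdd' D n 1 (n + 1) rfl).hom.app K) h0
    simpa using h2
  obtain ⟨k, hk⟩ : ∃ k : Y⟦(1 : ℤ)⟧ ⟶ (K⟦n⟧)⟦(1 : ℤ)⟧, φ⟦(1 : ℤ)⟧' = (-f⟦(1 : ℤ)⟧') ≫ k :=
    Triangle.yoneda_exact₃ _ (rot_of_distTriang _ hT) (φ⟦(1 : ℤ)⟧') h1
  obtain ⟨ψ, rfl⟩ := (shiftFunctor D (1 : ℤ)).map_surjective k
  refine ⟨-ψ, ?_⟩
  apply (shiftFunctor D (1 : ℤ)).map_injective
  rw [hk]
  simp

lemma exists_delta_eq (θ : Z ⟶ K⟦n + 1⟧) (h0 : g ≫ θ = 0) :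
    ∃ φ : X ⟶ K⟦n⟧, delta h K n φ = θ := by
  obtain ⟨k, hk⟩ : ∃ k : X⟦(1 : ℤ)⟧ ⟶ K⟦n + 1⟧, θ = h ≫ k := Triangle.yoneda_exact₃ _ hT θ h0
  obtain ⟨φ, hφ⟩ := (shiftFunctor D (1 : ℤ)).map_surjective
    (k ≫ (shiftFunctorAdd' D n 1 (n + 1) rfl).hom.app K)
  refine ⟨φ, ?_⟩
  rw [delta_apply, hφ, hk]
  simp

end General

section Ab

universe w

lemma exact_mk₂ {A B C : Type w} [AddCommGroup A] [AddCommGroup B] [AddCommGroup C]
    (f : A →+ B) (g : B →+ C) (hz : ∀ a, g (f a) = 0) (he : ∀ b, g b = 0 → ∃ a, f a = b) :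
    (ComposableArrows.mk₂ (AddCommGrpCat.ofHom f) (AddCommGrpCat.ofHom g)).Exact := by
  refine ComposableArrows.exact₂_mk _ ?_ ?_
  · ext a
    exact hz a
  · rw [ShortComplex.ab_exact_iff]
    exact he

end Ab

section MV

universe u

open DerivedCategory

variable {C : Type u} [SmallCategory C] {J : GrothendieckTopology C}
    [HasWeakSheafify J (Type u)] [HasDerivedCategory.{u} (Sheaf J AddCommGrpCat.{u})]
    (S : J.MayerVietorisSquare) (K : DerivedCategory (Sheaf J AddCommGrpCat.{u}))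


/-- The first map of the Mayer-Vietoris triangle. -/
noncomputable abbrev m₁ : (singleFunctor (Sheaf J AddCommGrpCat.{u}) 0).obj (CohCx.freeSheaf J S.X₁) ⟶ (singleFunctor (Sheaf J AddCommGrpCat.{u}) 0).obj ((CohCx.freeSheaf J S.X₂) ⊞ (CohCx.freeSheaf J S.X₃)) :=
  (singleFunctor (Sheaf J AddCommGrpCat.{u}) 0).map (biprod.lift (CohCx.freeSheafMap J S.f₁₂) (-CohCx.freeSheafMap J S.f₁₃))

/-- The second map of the Mayer-Vietoris triangle. -/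
noncomputable abbrev m₂ : (singleFunctor (Sheaf J AddCommGrpCat.{u}) 0).obj ((CohCx.freeSheaf J S.X₂) ⊞ (CohCx.freeSheaf J S.X₃)) ⟶ (singleFunctor (Sheaf J AddCommGrpCat.{u}) 0).obj (CohCx.freeSheaf J S.X₄) :=
  (singleFunctor (Sheaf J AddCommGrpCat.{u}) 0).map (biprod.desc (CohCx.freeSheafMap J S.f₂₄) (CohCx.freeSheafMap J S.f₃₄))

/-- The third map of the Mayer-Vietoris triangle. -/
noncomputable def m₃ : (singleFunctor (Sheaf J AddCommGrpCat.{u}) 0).obj (CohCx.freeSheaf J S.X₄) ⟶ ((singleFunctor (Sheaf J AddCommGrpCat.{u}) 0).obj (CohCx.freeSheaf J S.X₁))⟦(1 : ℤ)⟧ :=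
  S.shortComplex_shortExact.singleδ

lemma tri_dist : Triangle.mk (m₁ S) (m₂ S) (m₃ S) ∈ distTriang _ :=
  S.shortComplex_shortExact.singleTriangle_distinguished

/-- The connecting homomorphisms. -/
noncomputable def δ (n : ℤ) : CohCx.HDU K n S.X₁ →+ CohCx.HDU K (n + 1) S.X₄ :=
  delta (m₃ S) K n

omit [HasWeakSheafify J (Type u)] in
lemma eps_injective {A B : Sheaf J AddCommGrpCat.{u}} {L : DerivedCategory (Sheaf J AddCommGrpCat.{u})}
    (ψ : (singleFunctor (Sheaf J AddCommGrpCat.{u}) 0).obj (A ⊞ B) ⟶ L)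
    (h1 : (singleFunctor (Sheaf J AddCommGrpCat.{u}) 0).map (biprod.inl : A ⟶ A ⊞ B) ≫ ψ = 0)
    (h2 : (singleFunctor (Sheaf J AddCommGrpCat.{u}) 0).map (biprod.inr : B ⟶ A ⊞ B) ≫ ψ = 0) : ψ = 0 := by
  have : ψ = (singleFunctor (Sheaf J AddCommGrpCat.{u}) 0).map (𝟙 (A ⊞ B)) ≫ ψ := by simp
  rw [this, ← biprod.total, Functor.map_add, Functor.map_comp, Functor.map_comp,
    Preadditive.add_comp, Category.assoc, Category.assoc, h1, h2]
  simp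

lemma I1l {L : DerivedCategory (Sheaf J AddCommGrpCat.{u})} (θ : (singleFunctor (Sheaf J AddCommGrpCat.{u}) 0).obj (CohCx.freeSheaf J S.X₄) ⟶ L) :
    (singleFunctor (Sheaf J AddCommGrpCat.{u}) 0).map (CohCx.freeSheafMap J S.f₂₄) ≫ θ = (singleFunctor (Sheaf J AddCommGrpCat.{u}) 0).map biprod.inl ≫ m₂ S ≫ θ := by
  rw [← Category.assoc, ← Functor.map_comp, biprod.inl_desc]

lemma I1r {L : DerivedCategory (Sheaf J AddCommGrpCat.{u})} (θ : (singleFunctor (Sheaf J AddCommGrpCat.{u}) 0).obj (CohCx.freeSheaf J S.X₄) ⟶ L) :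
    (singleFunctor (Sheaf J AddCommGrpCat.{u}) 0).map (CohCx.freeSheafMap J S.f₃₄) ≫ θ = (singleFunctor (Sheaf J AddCommGrpCat.{u}) 0).map biprod.inr ≫ m₂ S ≫ θ := by
  rw [← Category.assoc, ← Functor.map_comp, biprod.inr_desc]

lemma I2 {L : DerivedCategory (Sheaf J AddCommGrpCat.{u})} (ψ : (singleFunctor (Sheaf J AddCommGrpCat.{u}) 0).obj ((CohCx.freeSheaf J S.X₂) ⊞ (CohCx.freeSheaf J S.X₃)) ⟶ L) :
    m₁ S ≫ ψ =
      (singleFunctor (Sheaf J AddCommGrpCat.{u}) 0).map (CohCx.freeSheafMap J S.f₁₂) ≫ (singleFunctor (Sheaf J AddCommGrpCat.{u}) 0).map biprod.inl ≫ ψ -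
      (singleFunctor (Sheaf J AddCommGrpCat.{u}) 0).map (CohCx.freeSheafMap J S.f₁₃) ≫ (singleFunctor (Sheaf J AddCommGrpCat.{u}) 0).map biprod.inr ≫ ψ := by
  rw [← Category.assoc, ← Category.assoc, ← Preadditive.sub_comp, ← Functor.map_comp,
    ← Functor.map_comp, ← Functor.map_sub]
  congr 1
  change (singleFunctor (Sheaf J AddCommGrpCat.{u}) 0).map _ = _
  congr 1
  apply biprod.hom_ext <;> simp [Preadditive.sub_comp]

theorem main :
    ∃ δ : ∀ n : ℤ, CohCx.HDU K n S.X₁ →+ CohCx.HDU K (n + 1) S.X₄,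
      ∀ n : ℤ,
        (ComposableArrows.mk₂
          (AddCommGrpCat.ofHom ((CohCx.HDUres K n S.f₂₄).prod (CohCx.HDUres K n S.f₃₄)))
          (AddCommGrpCat.ofHom ((CohCx.HDUres K n S.f₁₂).coprod (-(CohCx.HDUres K n S.f₁₃))))).Exact ∧
        (ComposableArrows.mk₂
          (AddCommGrpCat.ofHom ((CohCx.HDUres K n S.f₁₂).coprod (-(CohCx.HDUres K n S.f₁₃))))
          (AddCommGrpCat.ofHom (δ n))).Exact ∧
        (ComposableArrows.mk₂ (AddCommGrpCat.ofHom (δ n))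
          (AddCommGrpCat.ofHom ((CohCx.HDUres K (n + 1) S.f₂₄).prod (CohCx.HDUres K (n + 1) S.f₃₄)))).Exact := by
  refine ⟨δ S K, fun n => ?_⟩
  have hT := tri_dist S
  -- the morphism attached to a pair
  let pair : ∀ (m : ℤ), CohCx.HDU K m S.X₂ × CohCx.HDU K m S.X₃ →
      ((singleFunctor (Sheaf J AddCommGrpCat.{u}) 0).obj ((CohCx.freeSheaf J S.X₂) ⊞ (CohCx.freeSheaf J S.X₃)) ⟶ K⟦m⟧) :=
    fun m x => (singleFunctor (Sheaf J AddCommGrpCat.{u}) 0).map biprod.fst ≫ x.1 + (singleFunctor (Sheaf J AddCommGrpCat.{u}) 0).map biprod.snd ≫ x.2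
  have pair_inl : ∀ m x, (singleFunctor (Sheaf J AddCommGrpCat.{u}) 0).map biprod.inl ≫ pair m x = x.1 := by
    intro m x
    simp only [pair, Preadditive.comp_add, ← Category.assoc, ← Functor.map_comp]
    simp
  have pair_inr : ∀ m x, (singleFunctor (Sheaf J AddCommGrpCat.{u}) 0).map biprod.inr ≫ pair m x = x.2 := by
    intro m x
    simp only [pair, Preadditive.comp_add, ← Category.assoc, ← Functor.map_comp]
    simp
  have hQ : ∀ (ψ : (singleFunctor (Sheaf J AddCommGrpCat.{u}) 0).obj ((CohCx.freeSheaf J S.X₂) ⊞ (CohCx.freeSheaf J S.X₃)) ⟶ K⟦n⟧),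
      ((CohCx.HDUres K n S.f₁₂).coprod (-(CohCx.HDUres K n S.f₁₃)))
        ((singleFunctor (Sheaf J AddCommGrpCat.{u}) 0).map biprod.inl ≫ ψ, (singleFunctor (Sheaf J AddCommGrpCat.{u}) 0).map biprod.inr ≫ ψ) = m₁ S ≫ ψ := by
    intro ψ
    refine Eq.trans ?_ (I2 S ψ).symm
    rw [AddMonoidHom.coprod_apply, AddMonoidHom.neg_apply, sub_eq_add_neg]
    rfl
  have hQ' : ∀ x, ((CohCx.HDUres K n S.f₁₂).coprod (-(CohCx.HDUres K n S.f₁₃))) x =
      m₁ S ≫ pair n x := by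
    rintro ⟨a, b⟩
    rw [← hQ, pair_inl, pair_inr]
  have hP : ∀ (m : ℤ) (θ : CohCx.HDU K m S.X₄),
      ((CohCx.HDUres K m S.f₂₄).prod (CohCx.HDUres K m S.f₃₄)) θ =
        ((singleFunctor (Sheaf J AddCommGrpCat.{u}) 0).map biprod.inl ≫ m₂ S ≫ θ, (singleFunctor (Sheaf J AddCommGrpCat.{u}) 0).map biprod.inr ≫ m₂ S ≫ θ) := by
    intro m θ
    refine Prod.ext ?_ ?_
    · exact I1l S θ
    · exact I1r S θ
  refine ⟨?_, ?_, ?_⟩
  · refine exact_mk₂ _ _ ?_ ?_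
    · intro θ
      rw [hP n θ, hQ]
      exact comp_comp_eq_zero hT θ
    · intro x hx
      rw [hQ'] at hx
      obtain ⟨θ, hθ⟩ := exists_of_comp_eq_zero hT _ hx
      refine ⟨θ, ?_⟩
      rw [hP n θ, ← hθ, pair_inl, pair_inr]
  · refine exact_mk₂ _ _ ?_ ?_
    · intro x
      rw [hQ']
      exact delta_comp hT K n _
    · intro φ hφ
      obtain ⟨ψ, hψ⟩ := exists_of_delta_eq_zero hT K n φ hφ
      exact ⟨_, (hQ ψ).trans hψ⟩
  · refine exact_mk₂ _ _ ?_ ?_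
    · intro φ
      rw [hP (n + 1)]
      have h0 : m₂ S ≫ δ S K n φ = 0 := comp_delta hT K n φ
      rw [h0, comp_zero, comp_zero]
      rfl
    · intro θ hθ
      rw [hP (n + 1)] at hθ
      have h1 : m₂ S ≫ θ = 0 :=
        eps_injective _ (congrArg Prod.fst hθ) (congrArg Prod.snd hθ)
      exact exists_delta_eq hT K n θ h1

end MV

end Groth.Agent.Lib.Helper68.MVDer
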