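import Groth.Agent.Lib.Helper68.FiltRing
import Mathlib.LinearAlgebra.Matrix.ToLin
import Mathlib.Data.Int.Interval
import Mathlib.Data.Finite.Sigma

namespace Groth.Agent.Lib.Helper68.MatCx

open CategoryTheory CategoryTheory.Limits
open Groth.Agent.Lib.Helper68.FiltRing

universe u

/-- a "matrix model" of a complex of finite projective modules: idempotent matrices `e i`
and differentials `D i`. -/
@[ext]
structure MC (n : ℤ → ℕ) (S : Type u) [CommRing S] where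
  e : ∀ i, Matrix (Fin (n i)) (Fin (n i)) S
  D : ∀ i, Matrix (Fin (n (i + 1))) (Fin (n i)) S
  ee : ∀ i, e i * e i = e i
  eD : ∀ i, e (i + 1) * D i = D i
  De : ∀ i, D i * e i = D i
  DD : ∀ i, D (i + 1) * D i = 0

variable {n : ℤ → ℕ} {S S' : Type u} [CommRing S] [CommRing S']

/-- image of a matrix model under a ring homomorphism -/
def MC.map (φ : S →+* S') (M : MC n S) : MC n S' where
  e i := (M.e i).map φ
  D i := (M.D i).map φ
  ee i := by rw [← Matrix.map_mul, M.ee]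
  eD i := by rw [← Matrix.map_mul, M.eD]
  De i := by rw [← Matrix.map_mul, M.De]
  DD i := by rw [← Matrix.map_mul, M.DD, Matrix.map_zero _ (map_zero φ)]

lemma finite_sigma (a b : ℤ) (hn : ∀ i, i < a ∨ b < i → n i = 0) (A : ℤ → Type)
    [∀ i, Finite (A i)] : Finite (Σ i : ℤ, A i × Fin (n i)) := by
  have hmem : ∀ (i : ℤ) (q : Fin (n i)), i ∈ Finset.Icc a b := by
    intro i q
    by_contra hcon
    rw [Finset.mem_Icc, not_and_or, not_le, not_le] at hcon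
    have := hn i hcon
    rw [this] at q
    exact q.elim0
  let f : (Σ i : ℤ, A i × Fin (n i)) → (Σ i : Finset.Icc a b, A i.1 × Fin (n i.1)) :=
    fun x => ⟨⟨x.1, hmem x.1 x.2.2⟩, x.2⟩
  refine Finite.of_injective f ?_
  rintro ⟨i, x⟩ ⟨i', x'⟩ h
  simp only [f, Sigma.mk.injEq, Subtype.mk.injEq] at h
  obtain ⟨rfl, h2⟩ := h
  rw [eq_of_heq h2]

section Lift

variable {J : Type u} [SmallCategory J] [IsFiltered J] {F : J ⥤ CommRingCat.{u}} {c : Cocone F}
  (hc : IsColimit c)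

include hc in
theorem exists_lift (a b : ℤ) (hn : ∀ i, i < a ∨ b < i → n i = 0) (M : MC n c.pt) :
    ∃ (j : J) (Mj : MC n (F.obj j)), Mj.map (c.ι.app j).hom = M := by
  classical
  have fin1 : Finite (Σ i : ℤ, Fin (n i) × Fin (n i)) := finite_sigma a b hn _
  have fin2 : Finite (Σ i : ℤ, Fin (n (i + 1)) × Fin (n i)) := finite_sigma a b hn _
  have fin3 : Finite (Σ i : ℤ, Fin (n (i + 1 + 1)) × Fin (n i)) := finite_sigma a b hn _
  -- lift the entries
  let x : (Σ i : ℤ, Fin (n i) × Fin (n i)) ⊕ (Σ i : ℤ, Fin (n (i + 1)) × Fin (n i)) → c.pt :=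
    Sum.elim (fun t => M.e t.1 t.2.1 t.2.2) (fun t => M.D t.1 t.2.1 t.2.2)
  obtain ⟨j, y, hy⟩ := exists_rep_finite hc _ x
  let e0 : ∀ i, Matrix (Fin (n i)) (Fin (n i)) (F.obj j) :=
    fun i => Matrix.of fun p q => y (Sum.inl ⟨i, p, q⟩)
  let D0 : ∀ i, Matrix (Fin (n (i + 1))) (Fin (n i)) (F.obj j) :=
    fun i => Matrix.of fun p q => y (Sum.inr ⟨i, p, q⟩)
  have he0 : ∀ i, (e0 i).map (c.ι.app j).hom = M.e i := by
    intro i; ext p q; exact hy (Sum.inl ⟨i, p, q⟩)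
  have hD0 : ∀ i, (D0 i).map (c.ι.app j).hom = M.D i := by
    intro i; ext p q; exact hy (Sum.inr ⟨i, p, q⟩)
  -- the equations
  let yy : ((Σ i : ℤ, Fin (n i) × Fin (n i)) ⊕ (Σ i : ℤ, Fin (n (i + 1)) × Fin (n i))) ⊕
      ((Σ i : ℤ, Fin (n (i + 1)) × Fin (n i)) ⊕ (Σ i : ℤ, Fin (n (i + 1 + 1)) × Fin (n i))) →
        F.obj j :=
    Sum.elim (Sum.elim (fun t => (e0 t.1 * e0 t.1) t.2.1 t.2.2)
        (fun t => (e0 (t.1 + 1) * D0 t.1) t.2.1 t.2.2))
      (Sum.elim (fun t => (D0 t.1 * e0 t.1) t.2.1 t.2.2)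
        (fun t => (D0 (t.1 + 1) * D0 t.1) t.2.1 t.2.2))
  let zz : ((Σ i : ℤ, Fin (n i) × Fin (n i)) ⊕ (Σ i : ℤ, Fin (n (i + 1)) × Fin (n i))) ⊕
      ((Σ i : ℤ, Fin (n (i + 1)) × Fin (n i)) ⊕ (Σ i : ℤ, Fin (n (i + 1 + 1)) × Fin (n i))) →
        F.obj j :=
    Sum.elim (Sum.elim (fun t => (e0 t.1) t.2.1 t.2.2) (fun t => (D0 t.1) t.2.1 t.2.2))
      (Sum.elim (fun t => (D0 t.1) t.2.1 t.2.2) (fun _ => 0))
  have hmap : ∀ {l m : Type} [Fintype l] [Fintype m] (N : Matrix l m (F.obj j)) (p : l) (q : m),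
      (c.ι.app j).hom (N p q) = (N.map (c.ι.app j).hom) p q := fun N p q => rfl
  have hyz : ∀ t, (c.ι.app j).hom (yy t) = (c.ι.app j).hom (zz t) := by
    rintro ((⟨i, p, q⟩ | ⟨i, p, q⟩) | (⟨i, p, q⟩ | ⟨i, p, q⟩))
    · simp only [yy, zz, Sum.elim_inl]
      rw [hmap, hmap, Matrix.map_mul, he0, M.ee]
    · simp only [yy, zz, Sum.elim_inl, Sum.elim_inr]
      rw [hmap, hmap, Matrix.map_mul, he0, hD0, M.eD]
    · simp only [yy, zz, Sum.elim_inl, Sum.elim_inr]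
      rw [hmap, hmap, Matrix.map_mul, he0, hD0, M.De]
    · simp only [yy, zz, Sum.elim_inr]
      rw [hmap, Matrix.map_mul, hD0, hD0, M.DD, map_zero]; rfl
  obtain ⟨k, f, hf⟩ := exists_eq_finite hc _ yy zz hyz
  have hmapf : ∀ {l m : Type} [Fintype l] [Fintype m] (N : Matrix l m (F.obj j)) (p : l) (q : m),
      (F.map f).hom (N p q) = (N.map (F.map f).hom) p q := fun N p q => rfl
  refine ⟨k, { e := fun i => (e0 i).map (F.map f).hom
               D := fun i => (D0 i).map (F.map f).hom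
               ee := ?_, eD := ?_, De := ?_, DD := ?_ }, ?_⟩
  · intro i
    rw [← Matrix.map_mul]
    ext p q
    exact hf (Sum.inl (Sum.inl ⟨i, p, q⟩))
  · intro i
    rw [← Matrix.map_mul]
    ext p q
    exact hf (Sum.inl (Sum.inr ⟨i, p, q⟩))
  · intro i
    rw [← Matrix.map_mul]
    ext p q
    exact hf (Sum.inr (Sum.inl ⟨i, p, q⟩))
  · intro i
    rw [← Matrix.map_mul]
    ext p q
    have := hf (Sum.inr (Sum.inr ⟨i, p, q⟩))
    simp only [yy, zz, Sum.elim_inr, map_zero] at this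
    exact this
  · ext i p q
    · change (c.ι.app k).hom ((F.map f).hom (e0 i p q)) = M.e i p q
      rw [ι_map]; exact hy (Sum.inl ⟨i, p, q⟩)
    · change (c.ι.app k).hom ((F.map f).hom (D0 i p q)) = M.D i p q
      rw [ι_map]; exact hy (Sum.inr ⟨i, p, q⟩)

end Lift

end Groth.Agent.Lib.Helper68.MatCx
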