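import Groth.Agent.Lib.Helper68.MatCx1
import Groth.Agent.Lib.Helper12.FlatExtendScalars
import Mathlib.LinearAlgebra.TensorProduct.Pi
import Mathlib.Algebra.Homology.HomologicalComplex
import Mathlib.Algebra.Category.ModuleCat.Projective

namespace Groth.Agent.Lib.Helper68.MatCx

open CategoryTheory CategoryTheory.Limits Matrix

universe u

variable {n : ℤ → ℕ} {S S' : Type u} [CommRing S] [CommRing S']

section ToCx

variable (M : MC n S)

/-- the submodule of vectors fixed by the idempotent `e i` -/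
def MC.fix (i : ℤ) : Submodule S (Fin (n i) → S) where
  carrier := {v | M.e i *ᵥ v = v}
  add_mem' := by
    intro a b ha hb
    simp only [Set.mem_ofPred_eq] at ha hb ⊢
    rw [Matrix.mulVec_add, ha, hb]
  zero_mem' := Matrix.mulVec_zero _
  smul_mem' := by
    intro c v hv
    simp only [Set.mem_ofPred_eq] at hv ⊢
    rw [Matrix.mulVec_smul, hv]

lemma MC.mem_fix (i : ℤ) (v : Fin (n i) → S) : v ∈ M.fix i ↔ M.e i *ᵥ v = v := Iff.rfl

/-- the projection onto the fixed submodule -/
noncomputable def MC.projLin (i : ℤ) : (Fin (n i) → S) →ₗ[S] M.fix i :=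
  LinearMap.codRestrict (M.fix i) (Matrix.toLin' (M.e i)) (fun v => by
    rw [MC.mem_fix, Matrix.toLin'_apply, Matrix.mulVec_mulVec, M.ee])

/-- the differential on fixed submodules -/
noncomputable def MC.dLin (i : ℤ) : M.fix i →ₗ[S] M.fix (i + 1) :=
  LinearMap.codRestrict (M.fix (i + 1)) ((Matrix.toLin' (M.D i)).comp (M.fix i).subtype)
    (fun v => by
      rw [MC.mem_fix, LinearMap.comp_apply, Matrix.toLin'_apply, Matrix.mulVec_mulVec, M.eD])

lemma MC.projLin_subtype (i : ℤ) : (M.projLin i).comp (M.fix i).subtype = LinearMap.id := by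
  ext v : 1
  apply Subtype.ext
  change Matrix.toLin' (M.e i) v.1 = v.1
  rw [Matrix.toLin'_apply]
  exact v.2

lemma MC.subtype_projLin (i : ℤ) :
    (M.fix i).subtype.comp (M.projLin i) = Matrix.toLin' (M.e i) := rfl

lemma MC.subtype_dLin (i : ℤ) :
    (M.fix (i + 1)).subtype.comp (M.dLin i) = (Matrix.toLin' (M.D i)).comp (M.fix i).subtype :=
  rfl

lemma MC.dLin_dLin (i : ℤ) : (M.dLin (i + 1)).comp (M.dLin i) = 0 := by
  ext v : 1
  apply Subtype.ext
  change Matrix.toLin' (M.D (i + 1)) (Matrix.toLin' (M.D i) v.1) = 0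
  rw [Matrix.toLin'_apply, Matrix.toLin'_apply, Matrix.mulVec_mulVec, M.DD, Matrix.zero_mulVec]

instance (i : ℤ) : Module.Finite S (M.fix i) :=
  Module.Finite.of_surjective (M.projLin i) (fun v =>
    ⟨v.1, LinearMap.congr_fun (M.projLin_subtype i) v⟩)

instance (i : ℤ) : Module.Projective S (M.fix i) :=
  Module.Projective.of_split (M.fix i).subtype (M.projLin i) (M.projLin_subtype i)

/-- the complex of finite projective modules attached to a matrix model -/
noncomputable def MC.toCx : CochainComplex (ModuleCat.{u} S) ℤ :=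
  CochainComplex.of (fun i => ModuleCat.of S (M.fix i)) (fun i => ModuleCat.ofHom (M.dLin i))
    (fun i => by rw [← ModuleCat.ofHom_comp, M.dLin_dLin]; rfl)

/-- inclusion of a term into the free module -/
noncomputable def MC.incl (i : ℤ) : M.toCx.X i ⟶ ModuleCat.of S (Fin (n i) → S) :=
  ModuleCat.ofHom (M.fix i).subtype

/-- projection from the free module onto a term -/
noncomputable def MC.proj (i : ℤ) : ModuleCat.of S (Fin (n i) → S) ⟶ M.toCx.X i :=
  ModuleCat.ofHom (M.projLin i)

lemma MC.incl_proj (i : ℤ) : M.incl i ≫ M.proj i = 𝟙 _ := by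
  apply ModuleCat.hom_ext
  exact M.projLin_subtype i

lemma MC.proj_incl (i : ℤ) :
    M.proj i ≫ M.incl i = ModuleCat.ofHom (Matrix.toLin' (M.e i)) := by
  apply ModuleCat.hom_ext
  exact M.subtype_projLin i

lemma MC.toCx_d (i : ℤ) : M.toCx.d i (i + 1) = ModuleCat.ofHom (M.dLin i) := by
  exact CochainComplex.of_d (fun i => ModuleCat.of S (M.fix i))
    (fun i => ModuleCat.ofHom (M.dLin i)) i

lemma MC.d_incl (i : ℤ) :
    M.toCx.d i (i + 1) ≫ M.incl (i + 1) = M.incl i ≫ ModuleCat.ofHom (Matrix.toLin' (M.D i)) := by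
  rw [M.toCx_d]
  apply ModuleCat.hom_ext
  exact M.subtype_dLin i

lemma MC.finite_projective (i : ℤ) :
    Module.Finite S (M.toCx.X i) ∧ Module.Projective S (M.toCx.X i) :=
  ⟨inferInstanceAs (Module.Finite S (M.fix i)), inferInstanceAs (Module.Projective S (M.fix i))⟩

lemma MC.isZero_X (i : ℤ) (hi : n i = 0) : IsZero (M.toCx.X i) := by
  have : Subsingleton (Fin (n i) → S) := by
    rw [hi]; infer_instance
  have : Subsingleton (M.fix i) := inferInstance
  exact ModuleCat.isZero_of_subsingleton (ModuleCat.of S (M.fix i))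

end ToCx

section BaseChange

open ChangeOfRings TensorProduct

variable (φ : S →+* S')

/-- extension of scalars of a finite free module -/
noncomputable def alpha (m : ℕ) :
    (ModuleCat.extendScalars.{u, u, u} φ).obj (ModuleCat.of S (Fin m → S)) ≅
      ModuleCat.of S' (Fin m → S') :=
  letI := φ.toAlgebra
  ((Groth.Agent.Lib.Helper12.extScObjEquiv (A := S) (B := S') (Fin m → S)).trans
    (TensorProduct.piScalarRight S S' S' (Fin m))).toModuleIso

lemma alpha_hom_one_tmul (m : ℕ) (v : Fin m → S) :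
    (alpha φ m).hom ((1 : S') ⊗ₜ[S,φ] (v : ModuleCat.of S (Fin m → S))) = fun k => φ (v k) := by
  letI := φ.toAlgebra
  change (TensorProduct.piScalarRight S S' S' (Fin m)) ((1 : S') ⊗ₜ[S] v) = _
  rw [TensorProduct.piScalarRight_apply, TensorProduct.piScalarRightHom_tmul]
  funext k
  rw [Algebra.smul_def, mul_one]
  rfl

lemma alpha_naturality {l m : ℕ} (N : Matrix (Fin l) (Fin m) S) :
    (ModuleCat.extendScalars.{u, u, u} φ).map (ModuleCat.ofHom (Matrix.toLin' N)) ≫
        (alpha φ l).hom =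
      (alpha φ m).hom ≫ ModuleCat.ofHom (Matrix.toLin' (N.map φ)) := by
  apply ModuleCat.ExtendScalars.hom_ext
  intro v
  have h1 := alpha_hom_one_tmul φ m v
  have h2 := alpha_hom_one_tmul φ l ((ModuleCat.ofHom (Matrix.toLin' N)) v)
  change (alpha φ l).hom ((1 : S') ⊗ₜ[S,φ] ((ModuleCat.ofHom (Matrix.toLin' N)) v)) =
    (Matrix.toLin' (N.map φ)) ((alpha φ m).hom ((1 : S') ⊗ₜ[S,φ] v))
  rw [h1, h2]
  funext k
  change φ ((N *ᵥ v) k) = (N.map φ *ᵥ fun k => φ (v k)) k
  exact RingHom.map_mulVec φ N v k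

end BaseChange

end Groth.Agent.Lib.Helper68.MatCx
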