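import Groth.Agent.Lib.Helper68.MatCx2
import Groth.Agent.Lib.Helper12.DerivedBaseChange

namespace Groth.Agent.Lib.Helper68.MatCx

open CategoryTheory CategoryTheory.Limits Matrix DRing
open Groth.Agent.Lib.Helper12

universe u

section Generic

variable {C : Type*} [Category C] {X F G Y : C} (A : X ⟶ F) (B : F ⟶ X) (a : F ≅ G)
  (ι : G ⟶ Y) (σ : Y ⟶ G)

lemma retract_hom_inv (hAB : A ≫ B = 𝟙 X) (hBA : B ≫ A = a.hom ≫ ι ≫ σ ≫ a.inv) :
    (A ≫ a.hom ≫ ι) ≫ (σ ≫ a.inv ≫ B) = 𝟙 X :=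
  calc (A ≫ a.hom ≫ ι) ≫ (σ ≫ a.inv ≫ B) = A ≫ (a.hom ≫ ι ≫ σ ≫ a.inv) ≫ B := by
        simp only [Category.assoc]
    _ = A ≫ (B ≫ A) ≫ B := by rw [hBA]
    _ = (A ≫ B) ≫ (A ≫ B) := by simp only [Category.assoc]
    _ = 𝟙 X := by rw [hAB, Category.comp_id]

lemma retract_inv_hom (hBA : B ≫ A = a.hom ≫ ι ≫ σ ≫ a.inv) (hσι : σ ≫ ι = 𝟙 Y) :
    (σ ≫ a.inv ≫ B) ≫ (A ≫ a.hom ≫ ι) = 𝟙 Y :=
  calc (σ ≫ a.inv ≫ B) ≫ (A ≫ a.hom ≫ ι) = σ ≫ a.inv ≫ (B ≫ A) ≫ a.hom ≫ ι := by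
        simp only [Category.assoc]
    _ = σ ≫ a.inv ≫ (a.hom ≫ ι ≫ σ ≫ a.inv) ≫ a.hom ≫ ι := by rw [hBA]
    _ = (σ ≫ ι) ≫ (σ ≫ ι) := by simp
    _ = 𝟙 Y := by rw [hσι, Category.comp_id]

end Generic

section Compare

variable {n : ℤ → ℕ} {S R : Type u} [CommRing S] [CommRing R] (φ : S →+* R)
  (Mj : MC n S) (E : Cx R)
  (ι : ∀ i, ModuleCat.of R (Fin (n i) → R) ⟶ E.X i)
  (σ : ∀ i, E.X i ⟶ ModuleCat.of R (Fin (n i) → R))
  (hσι : ∀ i, σ i ≫ ι i = 𝟙 _)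
  (he : ∀ i, ι i ≫ σ i = ModuleCat.ofHom (Matrix.toLin' ((Mj.e i).map φ)))
  (hD : ∀ i, ι i ≫ E.d i (i + 1) ≫ σ (i + 1) = ModuleCat.ofHom (Matrix.toLin' ((Mj.D i).map φ)))

/-- the comparison map in degree `i` -/
noncomputable def cmpHom (i : ℤ) :
    (ModuleCat.extendScalars.{u, u, u} φ).obj (Mj.toCx.X i) ⟶ E.X i :=
  (ModuleCat.extendScalars.{u, u, u} φ).map (Mj.incl i) ≫ (alpha φ (n i)).hom ≫ ι i

/-- the inverse comparison map in degree `i` -/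
noncomputable def cmpInv (i : ℤ) :
    E.X i ⟶ (ModuleCat.extendScalars.{u, u, u} φ).obj (Mj.toCx.X i) :=
  σ i ≫ (alpha φ (n i)).inv ≫ (ModuleCat.extendScalars.{u, u, u} φ).map (Mj.proj i)

lemma map_incl_proj (i : ℤ) :
    (ModuleCat.extendScalars.{u, u, u} φ).map (Mj.incl i) ≫
      (ModuleCat.extendScalars.{u, u, u} φ).map (Mj.proj i) = 𝟙 _ := by
  rw [← Functor.map_comp, Mj.incl_proj]
  exact (ModuleCat.extendScalars.{u, u, u} φ).map_id _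

include he in
lemma map_proj_incl (i : ℤ) :
    (ModuleCat.extendScalars.{u, u, u} φ).map (Mj.proj i) ≫
      (ModuleCat.extendScalars.{u, u, u} φ).map (Mj.incl i) =
        (alpha φ (n i)).hom ≫ ι i ≫ σ i ≫ (alpha φ (n i)).inv := by
  rw [← Functor.map_comp, Mj.proj_incl, ← Category.assoc (ι i), he, ← Category.assoc,
    ← alpha_naturality, Category.assoc, Iso.hom_inv_id, Category.comp_id]

include he in
lemma cmpHom_cmpInv (i : ℤ) : cmpHom φ Mj E ι i ≫ cmpInv φ Mj E σ i = 𝟙 _ :=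
  retract_hom_inv _ _ _ _ _ (map_incl_proj φ Mj i) (map_proj_incl φ Mj E ι σ he i)

include he hσι in
lemma cmpInv_cmpHom (i : ℤ) : cmpInv φ Mj E σ i ≫ cmpHom φ Mj E ι i = 𝟙 _ :=
  retract_inv_hom _ _ _ _ _ (map_proj_incl φ Mj E ι σ he i) (hσι i)

include hD hσι in
lemma cmpHom_comm (i : ℤ) :
    (ModuleCat.extendScalars.{u, u, u} φ).map (Mj.toCx.d i (i + 1)) ≫ cmpHom φ Mj E ι (i + 1) =
      cmpHom φ Mj E ι i ≫ E.d i (i + 1) := by
  have h1 : ModuleCat.ofHom (Matrix.toLin' ((Mj.D i).map φ)) ≫ ι (i + 1) =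
      ι i ≫ E.d i (i + 1) := by
    rw [← hD]
    simp only [Category.assoc]
    rw [hσι, Category.comp_id]
  calc (ModuleCat.extendScalars.{u, u, u} φ).map (Mj.toCx.d i (i + 1)) ≫ cmpHom φ Mj E ι (i + 1)
      = (ModuleCat.extendScalars.{u, u, u} φ).map (Mj.toCx.d i (i + 1) ≫ Mj.incl (i + 1)) ≫
          (alpha φ (n (i + 1))).hom ≫ ι (i + 1) := by
        rw [Functor.map_comp, Category.assoc]; rfl
    _ = (ModuleCat.extendScalars.{u, u, u} φ).map (Mj.incl i) ≫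
          ((ModuleCat.extendScalars.{u, u, u} φ).map (ModuleCat.ofHom (Matrix.toLin' (Mj.D i))) ≫
            (alpha φ (n (i + 1))).hom) ≫ ι (i + 1) := by
        rw [Mj.d_incl, Functor.map_comp]; simp only [Category.assoc]
    _ = (ModuleCat.extendScalars.{u, u, u} φ).map (Mj.incl i) ≫ (alpha φ (n i)).hom ≫
          ModuleCat.ofHom (Matrix.toLin' ((Mj.D i).map φ)) ≫ ι (i + 1) := by
        rw [alpha_naturality]; simp only [Category.assoc]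
    _ = cmpHom φ Mj E ι i ≫ E.d i (i + 1) := by
        rw [h1]; unfold cmpHom; simp only [Category.assoc]

include hD hσι he in
/-- the comparison isomorphism `R ⊗ (complex of the matrix model over S) ≅ E`. -/
lemma nonempty_cmpIso : Nonempty (bcCx φ Mj.toCx ≅ E) := by
  refine ⟨HomologicalComplex.Hom.isoOfComponents
    (fun i => ⟨cmpHom φ Mj E ι i, cmpInv φ Mj E σ i, cmpHom_cmpInv φ Mj E ι σ he i,
      cmpInv_cmpHom φ Mj E ι σ hσι he i⟩) ?_⟩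
  intro i j hij
  obtain rfl : i + 1 = j := hij
  exact (cmpHom_comm φ Mj E ι σ hσι hD i).symm

end Compare

end Groth.Agent.Lib.Helper68.MatCx
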