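import Groth.Prelude.Def_DRing2
import Mathlib.Algebra.Homology.DerivedCategory.KProjective
import Mathlib.Algebra.Category.ModuleCat.Projective
import Mathlib.LinearAlgebra.Trace
import Mathlib.Order.Interval.Finset.Basic
import Mathlib.Data.Int.Interval

set_option autoImplicit false
universe u
open CategoryTheory CategoryTheory.Limits

namespace Groth.Agent.Lib.Helper68.PerfTrace

variable {Λ : Type u} [CommRing Λ]

/-- the alternating trace of an endomorphism -/
noncomputable def chi (P : DRing.Cx Λ) (a b : ℤ) (f : P ⟶ P) : Λ :=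
  ∑ i ∈ Finset.Icc a b, ((i.negOnePow : ℤˣ) : ℤ) • LinearMap.trace Λ (P.X i) (f.f i).hom

lemma isKProjective (P : DRing.Cx Λ) (a b : ℤ) (hP : DRing.VanishesOutside P a b)
    (hPf : DRing.TermwiseFiniteFree P) : CochainComplex.IsKProjective P := by
  have : P.IsStrictlyLE b := by
    rw [CochainComplex.isStrictlyLE_iff]
    intro i hi
    exact hP i (Or.inr hi)
  have : ∀ n, Projective (P.X n) := by
    intro n
    have := (hPf n).2
    exact ModuleCat.projective_of_free (Module.Free.chooseBasis Λ (P.X n))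
  exact CochainComplex.isKProjective_of_projective P b

/-- cyclicity -/
lemma chi_comm (P Q : DRing.Cx Λ) (a b : ℤ) (hPf : DRing.TermwiseFiniteFree P)
    (hQf : DRing.TermwiseFiniteFree Q) (s : P ⟶ Q) (t : Q ⟶ P) :
    chi P a b (s ≫ t) = chi Q a b (t ≫ s) := by
  unfold chi
  refine Finset.sum_congr rfl fun i _ => ?_
  congr 1
  have := (hPf i).1
  have := (hPf i).2
  have := (hQf i).1
  have := (hQf i).2
  exact LinearMap.trace_comp_comm' (s.f i).hom (t.f i).hom


/-- homotopy invariance -/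
lemma chi_eq_of_homotopy (P : DRing.Cx Λ) (a b : ℤ) (hP : DRing.VanishesOutside P a b)
    (hPf : DRing.TermwiseFiniteFree P) (f g : P ⟶ P) (h : Homotopy f g) :
    chi P a b f = chi P a b g := by
  have hfin : ∀ i, Module.Finite Λ (P.X i) := fun i => (hPf i).1
  have hfree : ∀ i, Module.Free Λ (P.X i) := fun i => (hPf i).2
  let S : ℤ → Λ := fun j => LinearMap.trace Λ (P.X (j + 1)) (h.hom (j + 1) j ≫ P.d j (j + 1)).hom
  have hS0 : ∀ j, (j < a ∨ b ≤ j) → S j = 0 := by
    intro j hj
    have hz : h.hom (j + 1) j ≫ P.d j (j + 1) = 0 := by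
      rcases hj with hj | hj
      · have hz := hP j (Or.inl hj)
        rw [hz.eq_of_tgt (h.hom (j + 1) j) 0, zero_comp]
      · have hz := hP (j + 1) (Or.inr (by omega))
        exact hz.eq_of_src _ _
    change LinearMap.trace Λ (P.X (j + 1)) (h.hom (j + 1) j ≫ P.d j (j + 1)).hom = 0
    rw [hz]
    exact map_zero _
  have hT : ∀ i j (hij : j + 1 = i),
      LinearMap.trace Λ (P.X i) (h.hom i j ≫ P.d j i).hom = S j := by
    intro i j hij
    subst hij
    rfl
  have hU : ∀ i, LinearMap.trace Λ (P.X i) (P.d i (i + 1) ≫ h.hom (i + 1) i).hom = S i := by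
    intro i
    exact LinearMap.trace_comp_comm' (P.d i (i + 1)).hom (h.hom (i + 1) i).hom
  have key : ∀ i, LinearMap.trace Λ (P.X i) (f.f i).hom =
      S i + S (i - 1) + LinearMap.trace Λ (P.X i) (g.f i).hom := by
    intro i
    have h1 := h.comm i
    rw [dNext_eq h.hom (show (ComplexShape.up ℤ).Rel i (i + 1) from rfl),
      prevD_eq h.hom (show (ComplexShape.up ℤ).Rel (i - 1) i by simp)] at h1
    rw [h1, ModuleCat.hom_add, ModuleCat.hom_add, map_add, map_add, hU,
      hT i (i - 1) (by omega)]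
  unfold chi
  simp only [key, smul_add, Finset.sum_add_distrib]
  suffices hs : (∑ i ∈ Finset.Icc a b, ((i.negOnePow : ℤˣ) : ℤ) • S i) +
      ∑ i ∈ Finset.Icc a b, ((i.negOnePow : ℤˣ) : ℤ) • S (i - 1) = 0 by
    rw [hs, zero_add]
  have e1 : ∑ i ∈ Finset.Icc a b, ((i.negOnePow : ℤˣ) : ℤ) • S i =
      ∑ i ∈ Finset.Icc (a - 1) b, ((i.negOnePow : ℤˣ) : ℤ) • S i := by
    apply Finset.sum_subset
    · intro i hi
      rw [Finset.mem_Icc] at hi ⊢
      omega
    · intro i hi hi'
      rw [Finset.mem_Icc] at hi hi'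
      rw [hS0 i (by omega), smul_zero]
  have e2 : ∑ i ∈ Finset.Icc a b, ((i.negOnePow : ℤˣ) : ℤ) • S (i - 1) =
      ∑ j ∈ Finset.Icc (a - 1) b, (((j + 1).negOnePow : ℤˣ) : ℤ) • S j := by
    have e3 : ∑ i ∈ Finset.Icc a b, ((i.negOnePow : ℤˣ) : ℤ) • S (i - 1) =
        ∑ j ∈ Finset.Icc (a - 1) (b - 1), (((j + 1).negOnePow : ℤˣ) : ℤ) • S j := by
      have hmap : (Finset.Icc (a - 1) (b - 1)).map (addRightEmbedding (1 : ℤ)) = Finset.Icc a b := by
        rw [Finset.map_add_right_Icc]
        congr 1 <;> omega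
      rw [← hmap, Finset.sum_map]
      refine Finset.sum_congr rfl fun j _ => ?_
      simp
    rw [e3]
    apply Finset.sum_subset
    · intro i hi
      rw [Finset.mem_Icc] at hi ⊢
      omega
    · intro i hi hi'
      rw [Finset.mem_Icc] at hi hi'
      rw [hS0 i (by omega), smul_zero]
  rw [e1, e2, ← Finset.sum_add_distrib]
  apply Finset.sum_eq_zero
  intro j _
  rw [Int.negOnePow_succ, Units.val_neg, neg_smul, add_neg_cancel]

end Groth.Agent.Lib.Helper68.PerfTrace
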