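import Groth.Agent.Lib.Helper68.PerfTrace

set_option autoImplicit false
universe w v u
open CategoryTheory CategoryTheory.Limits

namespace Groth.Agent.Lib.Helper68.PerfTrace

section General

variable {C : Type u} [Category.{v} C] [Abelian C] [HasDerivedCategory.{w} C]

open DerivedCategory

lemma exists_lift {K L : CochainComplex C ℤ} [K.IsKProjective] (φ : Q.obj K ⟶ Q.obj L) :
    ∃ a : K ⟶ L, Q.map a = φ := by
  obtain ⟨g, hg⟩ := (CochainComplex.IsKProjective.Qh_map_bijective K
    ((HomotopyCategory.quotient C (ComplexShape.up ℤ)).obj L)).2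
      ((quotientCompQhIso C).hom.app K ≫ φ ≫ (quotientCompQhIso C).inv.app L)
  obtain ⟨a, rfl⟩ := (HomotopyCategory.quotient C (ComplexShape.up ℤ)).map_surjective g
  refine ⟨a, ?_⟩
  have := quotientCompQhIso_hom_naturality a
  rw [hg] at this
  simp only [Category.assoc, Iso.inv_hom_id_app, Category.comp_id] at this
  exact ((cancel_epi _).1 this).symm

lemma nonempty_homotopy {K L : CochainComplex C ℤ} [K.IsKProjective] (a a' : K ⟶ L)
    (h : Q.map a = Q.map a') : Nonempty (Homotopy a a') := by
  have h1 : Qh.map ((HomotopyCategory.quotient C (ComplexShape.up ℤ)).map a) =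
      Qh.map ((HomotopyCategory.quotient C (ComplexShape.up ℤ)).map a') := by
    have e1 := quotientCompQhIso_hom_naturality a
    have e2 := quotientCompQhIso_hom_naturality a'
    rw [h, ← e2] at e1
    exact (cancel_mono _).1 e1
  have h2 := (CochainComplex.IsKProjective.Qh_map_bijective K
    ((HomotopyCategory.quotient C (ComplexShape.up ℤ)).obj L)).1 h1
  exact ⟨HomotopyCategory.homotopyOfEq _ _ h2⟩

end General


section Main

attribute [local instance] HasDerivedCategory.standard

variable {Λ : Type u} [CommRing Λ]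

theorem main (P Q : DRing.Cx Λ) (a b : ℤ) (hP : DRing.VanishesOutside P a b)
    (hQ : DRing.VanishesOutside Q a b) (hPf : DRing.TermwiseFiniteFree P)
    (hQf : DRing.TermwiseFiniteFree Q) (f : P ⟶ P) (g : Q ⟶ Q)
    (α : DRing.toD P ≅ DRing.toD Q)
    (h : α.hom ≫ DerivedCategory.Q.map g = DerivedCategory.Q.map f ≫ α.hom) :
    chi P a b f = chi Q a b g := by
  have := isKProjective P a b hP hPf
  have := isKProjective Q a b hQ hQf
  obtain ⟨s, hs⟩ := exists_lift (K := P) (L := Q) α.hom
  obtain ⟨t, ht⟩ := exists_lift (K := Q) (L := P) α.inv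
  obtain ⟨h1⟩ := nonempty_homotopy (s ≫ t) (𝟙 P) (by
    rw [Functor.map_comp, hs, ht, CategoryTheory.Functor.map_id]
    exact α.hom_inv_id)
  obtain ⟨h2⟩ := nonempty_homotopy (t ≫ s) (𝟙 Q) (by
    rw [Functor.map_comp, hs, ht, CategoryTheory.Functor.map_id]
    exact α.inv_hom_id)
  obtain ⟨h3⟩ := nonempty_homotopy (s ≫ g) (f ≫ s) (by
    rw [Functor.map_comp, Functor.map_comp, hs]
    exact h)
  calc chi P a b f = chi P a b (f ≫ s ≫ t) := by
        refine (chi_eq_of_homotopy P a b hP hPf _ _ ?_).symm
        exact ((h1.compLeft f).trans (Homotopy.ofEq (Category.comp_id f)))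
    _ = chi P a b ((f ≫ s) ≫ t) := by rw [Category.assoc]
    _ = chi Q a b (t ≫ f ≫ s) := chi_comm P Q a b hPf hQf _ _
    _ = chi Q a b (t ≫ s ≫ g) := by
        refine (chi_eq_of_homotopy Q a b hQ hQf _ _ ?_).symm
        exact h3.compLeft t
    _ = chi Q a b ((t ≫ s) ≫ g) := by rw [Category.assoc]
    _ = chi Q a b g := by
        refine chi_eq_of_homotopy Q a b hQ hQf _ _ ?_
        exact ((h2.compRight g).trans (Homotopy.ofEq (Category.id_comp g)))

end Main

end Groth.Agent.Lib.Helper68.PerfTrace
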