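import Mathlib
import Groth.Agent.S1032
import Groth.Agent.Lib.Helper68.FrobRG4

/-!
# `RΓ_I` always exists, and transfer of the torsion colocalisation along triangulated functors
(helper68)
-/

set_option autoImplicit false
universe u
open CategoryTheory CategoryTheory.Limits CategoryTheory.Pretriangulated DerivedCategory
attribute [local instance] HasDerivedCategory.standard

namespace Groth.Agent.Lib.Helper68.RGBC

open Groth.Agent.Lib.Helper36.GM Groth.Agent.Lib.Helper6.RGammaAdj Groth.Agent.Lib.Helper12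
  Groth.Agent.Lib.Helper68.FrobRG

variable {A : Type u} [CommRing A]

/-- the total right derived functor `RΓ_I` always exists -/
theorem hasRgammaI (I : Ideal A) : DRing.HasRgammaI I := by
  have hK : ∀ K : CochainComplex (ModuleCat.{u} A) ℤ,
      ∃ (J : CochainComplex (ModuleCat.{u} A) ℤ) (f : K ⟶ J), J.IsKInjective ∧ QuasiIso f := by
    intro K
    obtain ⟨J, f, hJ, hf, -, -⟩ := Groth.Agent.Lib.Helper99.KInj.exists_kInjective_resolution K
    exact ⟨J, f, hJ, hf⟩
  exact (Groth.Agent.S1032.result hK (DRing.gammaIKh I)).1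

/-- bigger ideal, smaller torsion class -/
lemma tors_mono {I I' : Ideal A} (h : I' ≤ I) (T : Dual.D A) (hT : Tors I T) : Tors I' T := by
  intro i m
  obtain ⟨n, hn⟩ := hT i m
  exact ⟨n, fun a ha => hn a (Ideal.pow_right_mono h n ha)⟩

/-- the cone of `g • 𝟙 X` is killed by `g ^ 2` -/
lemma sq_smul_id_cone {X Z : Dual.D A} (g : A) (β : X ⟶ Z) (γ : Z ⟶ X⟦(1 : ℤ)⟧)
    (hT : Triangle.mk (g • 𝟙 X) β γ ∈ distTriang (Dual.D A)) : g ^ 2 • 𝟙 Z = 0 := by
  have h12 : (g • 𝟙 X) ≫ β = 0 := comp_distTriang_mor_zero₁₂ _ hT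
  have h31 : γ ≫ (g • 𝟙 X)⟦(1 : ℤ)⟧' = 0 := comp_distTriang_mor_zero₃₁ _ hT
  have hβ : β ≫ (g • 𝟙 Z) = 0 := by
    rw [Linear.comp_smul, Category.comp_id]
    rw [Linear.smul_comp, Category.id_comp] at h12
    exact h12
  obtain ⟨r, hr⟩ : ∃ r : X⟦(1 : ℤ)⟧ ⟶ Z, g • 𝟙 Z = γ ≫ r :=
    Triangle.yoneda_exact₃ _ hT (g • 𝟙 Z) hβ
  have hγ : g • γ = 0 := by
    have : (g • 𝟙 X)⟦(1 : ℤ)⟧' = g • 𝟙 (X⟦(1 : ℤ)⟧) := by
      rw [Functor.map_smul, CategoryTheory.Functor.map_id]
    rw [this, Linear.comp_smul, Category.comp_id] at h31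
    exact h31
  rw [pow_two, mul_smul, hr, ← Linear.smul_comp, hγ, zero_comp]

lemma isZero_of_tors_rightOrth (I : Ideal A) {Z : Dual.D A} (h1 : Tors I Z)
    (h2 : RightOrth (Tors I) Z) : IsZero Z := by
  rw [IsZero.iff_id_eq_zero]
  exact h2 Z h1 _

/-- **Dévissage**: every object right orthogonal to the `(gs)`-torsion objects is built in finitely
many steps from objects on which some `g ∈ gs` acts invertibly; hence it has every property `P`
which these have and which is stable under extensions. -/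
theorem prop_of_rightOrth [IsNoetherianRing A] (P : Dual.D A → Prop)
    (hP0 : ∀ C : Dual.D A, IsZero C → P C)
    (hP3 : ∀ T ∈ distTriang (Dual.D A), P T.obj₁ → P T.obj₃ → P T.obj₂) (gs : List A) :
    (∀ (Y : Dual.D A) (g : A), g ∈ gs → IsIso (g • 𝟙 Y) → P Y) →
      ∀ C : Dual.D A, RightOrth (Tors (Ideal.span {x | x ∈ gs})) C → P C := by
  induction gs with
  | nil =>
    intro _ C hC
    apply hP0
    rw [IsZero.iff_id_eq_zero]
    apply hC C
    intro i m
    refine ⟨1, fun a ha => ?_⟩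
    have : a = 0 := by simpa using ha
    rw [this, zero_smul]
  | cons g gs ih =>
    intro hP C hC
    have hle : Ideal.span {x | x ∈ gs} ≤ Ideal.span {x | x ∈ g :: gs} :=
      Ideal.span_mono (fun x hx => List.mem_cons_of_mem g hx)
    haveI := hasRgammaI (Ideal.span {x | x ∈ gs})
    haveI := hasRgammaI (Ideal.span {x | x ∈ g :: gs})
    obtain ⟨ε, hR, uR⟩ := exists_counit_terminal (Ideal.span {x | x ∈ gs}) C
    obtain ⟨C', β, γ, hT⟩ := distinguished_cocone_triangle ε
    have hC' : RightOrth (Tors (Ideal.span {x | x ∈ gs})) C' :=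
      rightOrth_cone (shiftStable_tors _) ε β γ hT uR
    have hPC' : P C' :=
      ih (fun Y g' hg' hY => hP Y g' (List.mem_cons_of_mem g hg') hY) C' hC'
    have hC'I : RightOrth (Tors (Ideal.span {x | x ∈ g :: gs})) C' :=
      fun T hT' a => hC' T (tors_mono hle T hT') a
    have hR'I : RightOrth (Tors (Ideal.span {x | x ∈ g :: gs}))
        ((DRing.RgammaI (Ideal.span {x | x ∈ gs})).obj C) := by
      have hT2 := inv_rot_of_distTriang _ (inv_rot_of_distTriang _ hT)
      exact RightOrth.obj₃ (shiftStable_tors _) _ hT2 (hC.shift (shiftStable_tors _) (-1))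
        (hC'I.shift (shiftStable_tors _) (-1))
    obtain ⟨Z, β', γ', hT'⟩ := distinguished_cocone_triangle
      (g • 𝟙 ((DRing.RgammaI (Ideal.span {x | x ∈ gs})).obj C))
    have hZr : RightOrth (Tors (Ideal.span {x | x ∈ g :: gs})) Z :=
      RightOrth.obj₃ (shiftStable_tors _) _ hT' hR'I hR'I
    have hZt : Tors (Ideal.span {x | x ∈ g :: gs}) Z := by
      apply tors_of_leftOrth_local
      intro W g₀ hg₀ hW c
      rcases List.mem_cons.mp hg₀ with rfl | hg₀'
      · apply eq_zero_of_pow_smul_eq_zero g₀ hW 2 c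
        rw [← Category.id_comp c, ← Linear.smul_comp, sq_smul_id_cone g₀ β' γ' hT', zero_comp]
      · have hWr : RightOrth (Tors (Ideal.span {x | x ∈ gs})) W :=
          rightOrth_of_isIso_smul _ g₀ (Ideal.subset_span hg₀') W hW
        have h1 : β' ≫ c = 0 := hWr _ hR _
        obtain ⟨c', hc'⟩ : ∃ c' : ((DRing.RgammaI (Ideal.span {x | x ∈ gs})).obj C)⟦(1 : ℤ)⟧ ⟶ W,
            c = γ' ≫ c' := Triangle.yoneda_exact₃ _ hT' c h1
        rw [hc', hWr _ (shiftStable_tors _ _ 1 hR) c', comp_zero]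
    have hZ0 : IsZero Z := isZero_of_tors_rightOrth _ hZt hZr
    have hiso : IsIso (g • 𝟙 ((DRing.RgammaI (Ideal.span {x | x ∈ gs})).obj C)) :=
      (Triangle.isZero₃_iff_isIso₁ _ hT').1 hZ0
    exact hP3 _ hT (hP _ g (List.mem_cons_self ..) hiso) hPC'

variable {B : Type u} [CommRing B]

/-- a triangulated functor sending `g`-local objects (`g ∈ gs`) into the right orthogonal of the
`J`-torsion objects carries terminal maps from `(gs)`-torsion objects to maps which are terminal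
from `J`-torsion objects -/
theorem bijective_postcomp_map [IsNoetherianRing A] [IsNoetherianRing B]
    (Ψ : Dual.D A ⥤ Dual.D B) [Ψ.CommShift ℤ] [Ψ.IsTriangulated]
    (gs : List A) (J : Ideal B)
    (hΨ : ∀ (Y : Dual.D A) (g : A), g ∈ gs → IsIso (g • 𝟙 Y) → RightOrth (Tors J) (Ψ.obj Y))
    {R K : Dual.D A} (ε : R ⟶ K)
    (uR : ∀ T : Dual.D A, Tors (Ideal.span {x | x ∈ gs}) T →
      Function.Bijective (fun b : T ⟶ R => b ≫ ε)) :
    ∀ S : Dual.D B, Tors J S → Function.Bijective (fun a : S ⟶ Ψ.obj R => a ≫ Ψ.map ε) := by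
  obtain ⟨C, β, γ, hT⟩ := distinguished_cocone_triangle ε
  have hC : RightOrth (Tors (Ideal.span {x | x ∈ gs})) C :=
    rightOrth_cone (shiftStable_tors _) ε β γ hT uR
  have hΨC : RightOrth (Tors J) (Ψ.obj C) := by
    refine prop_of_rightOrth (fun X => RightOrth (Tors J) (Ψ.obj X)) ?_ ?_ gs hΨ C hC
    · intro X hX T hT' a
      exact (Ψ.map_isZero hX).eq_of_tgt _ _
    · intro T hT' h1 h3
      have hΨT := Ψ.map_distinguished _ hT'
      have hT2 := inv_rot_of_distTriang _ hΨT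
      exact RightOrth.obj₃ (shiftStable_tors J) _ hT2 (h3.shift (shiftStable_tors J) (-1)) h1
  have hΨT := Ψ.map_distinguished _ hT
  exact bijective_postcomp_of_rightOrth (shiftStable_tors J) (Ψ.map ε) (Ψ.map β)
    (Ψ.map γ ≫ (Ψ.commShiftIso (1 : ℤ)).hom.app R) hΨT hΨC

/-- **Transfer of `RΓ`**: a triangulated functor `Ψ : D(A) ⥤ D(B)` which sends `g`-local objects
(`g ∈ gs`, `I = (gs)`) into the right orthogonal of the `J`-torsion objects and `I`-torsion objects
to `J`-torsion objects satisfies `Ψ (RΓ_I K) ≅ RΓ_J (Ψ K)`. -/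
theorem nonempty_map_RgammaI_iso [IsNoetherianRing A] [IsNoetherianRing B]
    (Ψ : Dual.D A ⥤ Dual.D B) [Ψ.CommShift ℤ] [Ψ.IsTriangulated]
    (I : Ideal A) (gs : List A) (hI : Ideal.span {x | x ∈ gs} = I) (J : Ideal B)
    [DRing.HasRgammaI I] [DRing.HasRgammaI J]
    (hΨ : ∀ (Y : Dual.D A) (g : A), g ∈ gs → IsIso (g • 𝟙 Y) → RightOrth (Tors J) (Ψ.obj Y))
    (hΨT : ∀ T : Dual.D A, Tors I T → Tors J (Ψ.obj T)) (K : Dual.D A) :
    Nonempty (Ψ.obj ((DRing.RgammaI I).obj K) ≅ (DRing.RgammaI J).obj (Ψ.obj K)) := by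
  subst hI
  obtain ⟨ε, hR, uR⟩ := exists_counit_terminal (Ideal.span {x | x ∈ gs}) K
  obtain ⟨ε', hR', uR'⟩ := exists_counit_terminal J (Ψ.obj K)
  obtain ⟨e, -⟩ := exists_iso_of_terminal J (hΨT _ hR) hR' (Ψ.map ε) ε'
    (bijective_postcomp_map Ψ gs J hΨ ε uR) uR'
  exact ⟨e⟩

/-- every ideal of a Noetherian ring is spanned by a list -/
lemma exists_list_span [IsNoetherianRing A] (I : Ideal A) :
    ∃ gs : List A, Ideal.span {x | x ∈ gs} = I := by
  classical
  obtain ⟨s, hs⟩ : I.FG := IsNoetherian.noetherian I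
  refine ⟨s.toList, ?_⟩
  rw [← hs]
  congr 1
  ext x
  simp

end Groth.Agent.Lib.Helper68.RGBC
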