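import Mathlib
import Groth.Agent.Lib.Helper68.RGBC1
import Groth.Agent.Lib.Helper12.FlatAdj
import Groth.Agent.Lib.Helper6.RGammaColim

/-!
# `RΓ_I` commutes with derived base change and with restriction of scalars (helper68)
-/

set_option autoImplicit false
universe u
open CategoryTheory CategoryTheory.Limits CategoryTheory.Pretriangulated DerivedCategory
attribute [local instance] HasDerivedCategory.standard

namespace Groth.Agent.Lib.Helper68.RGBC

open Groth.Agent.Lib.Helper36.GM Groth.Agent.Lib.Helper6.RGammaAdj Groth.Agent.Lib.Helper12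
  Groth.Agent.Lib.Helper68.FrobRG Groth.Agent.Lib.Helper6.PowTorsHB

variable {A B : Type u} [CommRing A] [CommRing B] [IsNoetherianRing A] [IsNoetherianRing B]
  (φ : A →+* B)

lemma span_map_list (gs : List A) :
    Ideal.span {y | y ∈ gs.map φ} = (Ideal.span {x | x ∈ gs}).map φ := by
  rw [Ideal.map_span]
  congr 1
  ext y
  simp [List.mem_map]

attribute [local instance] lBaseChangeCommShift

/-- `RΓ` commutes with derived base change along any map of Noetherian rings -/
theorem nonempty_lBaseChange_RgammaI_iso' [DRing.HasLBaseChange φ] (I : Ideal A)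
    [DRing.HasRgammaI I] [DRing.HasRgammaI (I.map φ)] (K : Dual.D A) :
    Nonempty ((DRing.LBaseChange φ).obj ((DRing.RgammaI I).obj K) ≅
      (DRing.RgammaI (I.map φ)).obj ((DRing.LBaseChange φ).obj K)) := by
  obtain ⟨gs, hI⟩ := exists_list_span I
  haveI := lBaseChange_isTriangulated φ
  have hJ : Ideal.span {y | y ∈ gs.map φ} = I.map φ := by rw [span_map_list, hI]
  refine nonempty_map_RgammaI_iso (DRing.LBaseChange φ) I gs hI (I.map φ) ?_ ?_ K
  · intro Y g hg hY
    have hgI : g ∈ I := by
      rw [← hI]
      exact Ideal.subset_span hg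
    apply rightOrth_of_isIso_smul (I.map φ) (φ g) (Ideal.mem_map_of_mem φ hgI)
    rw [← lBaseChange_map_smul_id φ g Y]
    infer_instance
  · intro T hT
    rw [← hJ]
    apply tors_of_leftOrth_local
    intro W g' hg' hW c
    obtain ⟨g, hg, rfl⟩ := List.mem_map.mp hg'
    have hgI : g ∈ I := by
      rw [← hI]
      exact Ideal.subset_span hg
    have hr : RightOrth (Tors I) ((DRing.restrictD φ).obj W) := by
      apply rightOrth_of_isIso_smul I g hgI
      rw [← restrictD_map_smul_id φ g W]
      infer_instance
    have h0 : (lBaseChangeAdj φ).homEquiv T W c = 0 := hr T hT _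
    apply ((lBaseChangeAdj φ).homEquiv T W).injective
    rw [h0, Adjunction.homEquiv_unit, Functor.map_zero, comp_zero]

/-- restriction of scalars commutes with cohomology -/
noncomputable def HDRestrictIso (K : Dual.D B) (i : ℤ) :
    (DerivedCategory.homologyFunctor (ModuleCat.{u} A) i).obj ((DRing.restrictD φ).obj K) ≅
      (ModuleCat.restrictScalars.{u} φ).obj
        ((DerivedCategory.homologyFunctor (ModuleCat.{u} B) i).obj K) :=
  (mapDerivedCategoryHomologyIso (ModuleCat.restrictScalars.{u} φ) i).app K

lemma isPowerTorsion_restrictScalars (I : Ideal A) (M : ModuleCat.{u} B)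
    (h : LocCoh.IsPowerTorsion (I.map φ) M) :
    LocCoh.IsPowerTorsion I ((ModuleCat.restrictScalars.{u} φ).obj M) := by
  intro m
  obtain ⟨n, hn⟩ := h m
  refine ⟨n, fun a ha => ?_⟩
  have : φ a ∈ (I.map φ) ^ n := by
    rw [← Ideal.map_pow]
    exact Ideal.mem_map_of_mem φ ha
  exact hn (φ a) this

/-- `RΓ` commutes with restriction of scalars along any map of Noetherian rings -/
theorem nonempty_restrictD_RgammaI_iso (I : Ideal A)
    [DRing.HasRgammaI I] [DRing.HasRgammaI (I.map φ)] (K : Dual.D B) :
    Nonempty ((DRing.restrictD φ).obj ((DRing.RgammaI (I.map φ)).obj K) ≅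
      (DRing.RgammaI I).obj ((DRing.restrictD φ).obj K)) := by
  obtain ⟨gs, hI⟩ := exists_list_span I
  have hJ : Ideal.span {y | y ∈ gs.map φ} = I.map φ := by rw [span_map_list, hI]
  refine nonempty_map_RgammaI_iso (DRing.restrictD φ) (I.map φ) (gs.map φ) hJ I ?_ ?_ K
  · intro Y g' hg' hY
    obtain ⟨g, hg, rfl⟩ := List.mem_map.mp hg'
    have hgI : g ∈ I := by
      rw [← hI]
      exact Ideal.subset_span hg
    apply rightOrth_of_isIso_smul I g hgI
    rw [← restrictD_map_smul_id φ g Y]
    infer_instance
  · intro T hT i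
    exact isPowerTorsion_of_iso I (HDRestrictIso φ T i).symm
      (isPowerTorsion_restrictScalars φ I _ (hT i))

end Groth.Agent.Lib.Helper68.RGBC
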