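import Mathlib
import Groth.Agent.Lib.Helper68.RGBC2
import Groth.Agent.Lib.Helper36.HasLeftDerived

/-!
# `H^i_I` of complexes: flat base change and restriction of scalars (helper68)
-/

set_option autoImplicit false
universe u v w
open CategoryTheory CategoryTheory.Limits CategoryTheory.Pretriangulated DerivedCategory
open scoped TensorProduct
attribute [local instance] HasDerivedCategory.standard

namespace Groth.Agent.Lib.Helper68.RGBC

open Groth.Agent.Lib.Helper36.GM Groth.Agent.Lib.Helper6.RGammaAdj Groth.Agent.Lib.Helper12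
  Groth.Agent.Lib.Helper68.FrobRG Groth.Agent.Lib.Helper6.PowTorsHB

section Congr

variable {A B : Type u} [CommRing A] [CommRing B] (φ : A →+* B)

/-- extension of scalars along a linear equivalence between modules in possibly different
universes -/
noncomputable def extendScalarsCongr {M : ModuleCat.{v} A} {N : ModuleCat.{w} A} (e : M ≃ₗ[A] N) :
    ((ModuleCat.extendScalars.{u, u, v} φ).obj M) ≃ₗ[B]
      ((ModuleCat.extendScalars.{u, u, w} φ).obj N) := by
  let S' : ModuleCat.{u} A := (ModuleCat.restrictScalars φ).obj (ModuleCat.of B B)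
  let e₀ : TensorProduct A S' M ≃ₗ[A] TensorProduct A S' N :=
    TensorProduct.congr (LinearEquiv.refl A S') e
  let sm : B → TensorProduct A S' M → TensorProduct A S' M := fun b x =>
    (b • (show ((ModuleCat.extendScalars.{u, u, v} φ).obj M) from x) :
      ((ModuleCat.extendScalars.{u, u, v} φ).obj M))
  let sn : B → TensorProduct A S' N → TensorProduct A S' N := fun b x =>
    (b • (show ((ModuleCat.extendScalars.{u, u, w} φ).obj N) from x) :
      ((ModuleCat.extendScalars.{u, u, w} φ).obj N))
  have sm_add : ∀ b x y, sm b (x + y) = sm b x + sm b y := fun b x y =>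
    smul_add (A := ((ModuleCat.extendScalars.{u, u, v} φ).obj M)) b x y
  have sm_zero : ∀ b, sm b 0 = 0 := fun b =>
    smul_zero (A := ((ModuleCat.extendScalars.{u, u, v} φ).obj M)) b
  have sn_add : ∀ b x y, sn b (x + y) = sn b x + sn b y := fun b x y =>
    smul_add (A := ((ModuleCat.extendScalars.{u, u, w} φ).obj N)) b x y
  have sn_zero : ∀ b, sn b 0 = 0 := fun b =>
    smul_zero (A := ((ModuleCat.extendScalars.{u, u, w} φ).obj N)) b
  have sm_tmul : ∀ b (s : S') (m : M), sm b (s ⊗ₜ[A] m) =
      (show S' from (b * (show B from s))) ⊗ₜ[A] m := fun b s m => rfl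
  have sn_tmul : ∀ b (s : S') (m : N), sn b (s ⊗ₜ[A] m) =
      (show S' from (b * (show B from s))) ⊗ₜ[A] m := fun b s m => rfl
  have hsmul : ∀ (b : B) (x : TensorProduct A S' M), e₀ (sm b x) = sn b (e₀ x) := by
    intro b x
    induction x using TensorProduct.induction_on with
    | zero => rw [sm_zero, map_zero, sn_zero]
    | tmul s m =>
      rw [sm_tmul]
      rfl
    | add x y hx hy => rw [sm_add, map_add, map_add, sn_add, hx, hy]
  exact
    { toFun := fun x => e₀ x
      invFun := fun x => e₀.symm x
      left_inv := fun x => e₀.symm_apply_apply x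
      right_inv := fun x => e₀.apply_symm_apply x
      map_add' := fun x y => e₀.map_add x y
      map_smul' := fun b x => hsmul b x }

/-- restriction of scalars along a semilinear-compatible equivalence -/
noncomputable def restrictScalarsCongr {M : ModuleCat.{v} B} {N : ModuleCat.{w} B}
    (e : M ≃ₗ[B] N) :
    ((ModuleCat.restrictScalars.{v} φ).obj M) ≃ₗ[A] ((ModuleCat.restrictScalars.{w} φ).obj N) :=
  { toFun := fun x => e x
    invFun := fun x => e.symm x
    left_inv := fun x => e.symm_apply_apply x
    right_inv := fun x => e.apply_symm_apply x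
    map_add' := fun x y => e.map_add x y
    map_smul' := fun a x => e.map_smul (φ a) x }

end Congr

variable {A B : Type u} [CommRing A] [CommRing B] [Algebra A B] [IsNoetherianRing A]
  [IsNoetherianRing B]

/-- **S1805**: flat base change for `H^i_I` of complexes -/
theorem nonempty_HDI_lBaseChange_iso [Module.Flat A B] [DRing.HasLBaseChange (algebraMap A B)]
    (I : Ideal A) (K : Dual.D A) (i : ℤ) :
    Nonempty (Dual2.HDI B (I.map (algebraMap A B)) ((DRing.LBaseChange (algebraMap A B)).obj K) i ≅
      (ModuleCat.extendScalars (algebraMap A B)).obj (Dual2.HDI A I K i)) := by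
  haveI := hasRgammaI I
  haveI := hasRgammaI (I.map (algebraMap A B))
  obtain ⟨e1⟩ := Groth.Agent.Lib.Helper6.RGammaColim.nonempty_HD_equiv (I.map (algebraMap A B))
    ((DRing.LBaseChange (algebraMap A B)).obj K) i
  obtain ⟨e2⟩ := nonempty_lBaseChange_RgammaI_iso' (algebraMap A B) I K
  obtain ⟨e4⟩ := Groth.Agent.Lib.Helper6.RGammaColim.nonempty_HD_equiv I K i
  let X := (DRing.RgammaI I).obj K
  let e3 : (DerivedCategory.homologyFunctor (ModuleCat.{u} B) i).obj
      ((DRing.LBaseChange (algebraMap A B)).obj X) ≅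
      (extSc A B).obj ((DerivedCategory.homologyFunctor (ModuleCat.{u} A) i).obj X) :=
    (DerivedCategory.homologyFunctor (ModuleCat.{u} B) i).mapIso
      ((Groth.Agent.Lib.Helper12.FlatHomBC.lBaseChangeIsoExtScD (A := A) (B := B)).app X) ≪≫
      (mapDerivedCategoryHomologyIso (extSc A B) i).app X
  let e2' := (DerivedCategory.homologyFunctor (ModuleCat.{u} B) i).mapIso e2
  let e5 := extendScalarsCongr (algebraMap A B) e4
  exact ⟨(e1.symm ≪≫ₗ e2'.symm.toLinearEquiv ≪≫ₗ e3.toLinearEquiv ≪≫ₗ e5).toModuleIso⟩

/-- **S1804**: restriction of scalars for `H^i_I` of complexes -/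
theorem nonempty_HDI_restrictD_iso (I : Ideal A) (K : Dual.D B) (i : ℤ) :
    Nonempty (Dual2.HDI A I ((DRing.restrictD (algebraMap A B)).obj K) i ≅
      (ModuleCat.restrictScalars (algebraMap A B)).obj
        (Dual2.HDI B (I.map (algebraMap A B)) K i)) := by
  haveI := hasRgammaI I
  haveI := hasRgammaI (I.map (algebraMap A B))
  obtain ⟨e1⟩ := Groth.Agent.Lib.Helper6.RGammaColim.nonempty_HD_equiv I
    ((DRing.restrictD (algebraMap A B)).obj K) i
  obtain ⟨e2⟩ := nonempty_restrictD_RgammaI_iso (algebraMap A B) I K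
  obtain ⟨e4⟩ := Groth.Agent.Lib.Helper6.RGammaColim.nonempty_HD_equiv (I.map (algebraMap A B)) K i
  let e2' := (DerivedCategory.homologyFunctor (ModuleCat.{u} A) i).mapIso e2
  let e3 := HDRestrictIso (algebraMap A B) ((DRing.RgammaI (I.map (algebraMap A B))).obj K) i
  let e5 := restrictScalarsCongr (algebraMap A B) e4
  exact ⟨(e1.symm ≪≫ₗ e2'.symm.toLinearEquiv ≪≫ₗ e3.toLinearEquiv ≪≫ₗ e5).toModuleIso⟩

end Groth.Agent.Lib.Helper68.RGBC
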