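import Groth.Agent.Lib.Helper68.ExtAdj
import Groth.Agent.Lib.Helper68.JShriekSheaf
import Groth.Prelude.Def_CohTop
import Groth.Prelude.Def_CohCx
import Groth.Prelude.Def_FreeSh
import Mathlib.Topology.Sheaves.Over

set_option autoImplicit false
universe u
open CategoryTheory CategoryTheory.Limits TopologicalSpace Opposite

namespace Groth.Agent.Lib.Helper68.RestrDer

open Groth.Agent.Lib.Helper68

/-- an isomorphism from a natural bijection of the corepresented functors -/
def isoOfHomEquiv {𝒞 : Type*} [Category 𝒞] {A B : 𝒞} (e : ∀ F, (A ⟶ F) ≃ (B ⟶ F))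
    (nat : ∀ (F G : 𝒞) (φ : A ⟶ F) (g : F ⟶ G), e G (φ ≫ g) = e F φ ≫ g) : A ≅ B where
  hom := (e B).symm (𝟙 B)
  inv := e A (𝟙 A)
  hom_inv_id := by
    apply (e A).injective
    rw [nat, Equiv.apply_symm_apply, Category.id_comp]
  inv_hom_id := by
    rw [← nat, Category.id_comp, Equiv.apply_symm_apply]

variable {X : TopCat.{u}} (U : Opens X)

/-- extension by zero from an open subspace -/
noncomputable def jShriek : CohTop.Ab (TopCat.of U) ⥤ CohTop.Ab X :=
  (U.sheafEquivOver (A := AddCommGrpCat.{u})).inverse ⋙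
    JShriek.shriek (Opens.grothendieckTopology X) U AddCommGrpCat.{u}

/-- extension by zero is left adjoint to restriction -/
noncomputable def jAdj : jShriek U ⊣ CohTop.restrFunctor U :=
  ((U.sheafEquivOver (A := AddCommGrpCat.{u})).symm.toAdjunction.comp
    (JShriek.adj (Opens.grothendieckTopology X) U AddCommGrpCat.{u})).ofNatIsoRight
      (U.overPullbackSheafEquivOver (A := AddCommGrpCat.{u}))

noncomputable instance : (jShriek U).Additive := (jAdj U).left_adjoint_additive

noncomputable instance : PreservesFiniteColimits (jShriek U) :=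
  have := (jAdj U).leftAdjoint_preservesColimits
  inferInstance

noncomputable instance : PreservesFiniteLimits (jShriek U) := by
  dsimp only [jShriek]
  infer_instance

/-- the image of the whole open subspace is `U` -/
lemma image_top : (U.isOpenEmbedding.isOpenMap.functor.obj (⊤ : Opens ↥U) : Opens X) = U := by
  ext x
  constructor
  · rintro ⟨y, _, rfl⟩
    exact y.2
  · intro hx
    exact ⟨⟨x, hx⟩, trivial, rfl⟩

/-- sections of the restriction over the whole of `U` -/
noncomputable def sectEquiv (F : CohTop.Ab X) :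
    ((CohTop.restrFunctor U).obj F).obj.obj (op (⊤ : Opens (TopCat.of U))) ≃+ F.obj.obj (op U) :=
  (F.obj.mapIso (eqToIso (image_top U).symm).op).addCommGroupIsoToAddEquiv

lemma sectEquiv_naturality {F G : CohTop.Ab X} (g : F ⟶ G)
    (s : ((CohTop.restrFunctor U).obj F).obj.obj (op (⊤ : Opens (TopCat.of U)))) :
    sectEquiv U G ((((CohTop.restrFunctor U).map g).hom.app (op ⊤)).hom s) =
      (g.hom.app (op U)).hom (sectEquiv U F s) := by
  exact (ConcreteCategory.congr_hom (g.hom.naturality (eqToIso (image_top U).symm).op.hom) s).symm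

noncomputable abbrev ZU : CohTop.Ab X := CohCx.freeSheaf (Opens.grothendieckTopology X) U
noncomputable abbrev Ztop : CohTop.Ab (TopCat.of U) :=
  CohCx.freeSheaf (Opens.grothendieckTopology (TopCat.of U)) (⊤ : Opens (TopCat.of U))

/-- the natural bijection `Hom(j_! ℤ_⊤, F) ≃ Hom(ℤ_U, F)` -/
noncomputable def homEquiv (F : CohTop.Ab X) :
    ((jShriek U).obj (Ztop U) ⟶ F) ≃ (ZU U ⟶ F) :=
  ((jAdj U).homEquiv (Ztop U) F).trans <|
    (CohFree.homEquivSect (Opens.grothendieckTopology (TopCat.of U)) ⊤
      ((CohTop.restrFunctor U).obj F)).toEquiv.trans <|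
    (sectEquiv U F).toEquiv.trans
      (CohFree.homEquivSect (Opens.grothendieckTopology X) U F).symm.toEquiv

lemma homEquiv_naturality (F G : CohTop.Ab X) (φ : (jShriek U).obj (Ztop U) ⟶ F) (g : F ⟶ G) :
    homEquiv U G (φ ≫ g) = homEquiv U F φ ≫ g := by
  apply (CohFree.homEquivSect (Opens.grothendieckTopology X) U G).injective
  have h1 : CohFree.homEquivSect (Opens.grothendieckTopology X) U G (homEquiv U F φ ≫ g) =
      (g.hom.app (op U)).hom (CohFree.homEquivSect (Opens.grothendieckTopology X) U F
        (homEquiv U F φ)) := rfl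
  rw [h1]
  dsimp only [homEquiv, Equiv.trans_apply, AddEquiv.toEquiv_eq_coe, AddEquiv.coe_toEquiv,
    AddEquiv.coe_toEquiv_symm]
  rw [AddEquiv.apply_symm_apply, AddEquiv.apply_symm_apply, Adjunction.homEquiv_naturality_right,
    ← sectEquiv_naturality]
  rfl

/-- `j_! ℤ_⊤ ≅ ℤ_U` -/
noncomputable def shriekFreeIso : (jShriek U).obj (Ztop U) ≅ ZU U :=
  isoOfHomEquiv (homEquiv U) (homEquiv_naturality U)

end Groth.Agent.Lib.Helper68.RestrDer
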