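import Groth.Agent.Lib.Helper68.RestrDer

set_option autoImplicit false
universe u
open CategoryTheory CategoryTheory.Limits TopologicalSpace Opposite

namespace Groth.Agent.Lib.Helper68.RestrDer

open Groth.Agent.Lib.Helper68

variable {X : TopCat.{u}} (U : Opens X)
    [HasDerivedCategory.{u} (CohTop.Ab X)] [HasDerivedCategory.{u} (CohTop.Ab (TopCat.of U))]
    [PreservesFiniteLimits (CohTop.restrFunctor U)] [PreservesFiniteColimits (CohTop.restrFunctor U)]

noncomputable def main (K : DerivedCategory (CohTop.Ab X)) (p : ℤ) :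
    CohCx.HDU K p U ≃+ CohCx.HDU ((CohTop.restrFunctor U).mapDerivedCategory.obj K) p ⊤ :=
  (ExtAdj.precompAddEquiv
      ((DerivedCategory.singleFunctor (CohTop.Ab X) 0).mapIso (shriekFreeIso U)) _).trans <|
    (ExtAdj.precompAddEquiv (((jShriek U).mapDerivedCategorySingleFunctor 0).app (Ztop U)) _).trans <|
    ((ExtAdj.adjDer (jAdj U)).homAddEquiv _ _).trans <|
    (ExtAdj.postcompAddEquiv _ (((CohTop.restrFunctor U).mapDerivedCategory.commShiftIso p).app K))

end Groth.Agent.Lib.Helper68.RestrDer
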