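import Mathlib.CategoryTheory.Triangulated.Pretriangulated
import Mathlib.CategoryTheory.Triangulated.TriangleShift
import Mathlib.CategoryTheory.Limits.Preserves.Shapes.Products

set_option autoImplicit false

namespace Groth.Agent.Lib.Helper68.RlimMilnor

open CategoryTheory Limits Pretriangulated

variable {D : Type*} [Category D] [Preadditive D] [HasZeroObject D] [HasShift D ℤ]
  [∀ n : ℤ, (shiftFunctor D n).Additive] [Pretriangulated D]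
  {X Y Z : D} {f : X ⟶ Y} {g : Y ⟶ Z} {h : Z ⟶ X⟦(1 : ℤ)⟧}
  (hT : Triangle.mk f g h ∈ distTriang D) (A : D)

include hT

lemma co_exact₂ (m : ℤ) (ψ : A ⟶ Y⟦m⟧) (hψ : ψ ≫ g⟦m⟧' = 0) :
    ∃ φ : A ⟶ X⟦m⟧, φ ≫ f⟦m⟧' = ψ := by
  have hT' := Triangle.shift_distinguished _ hT m
  obtain ⟨φ₀, hφ₀⟩ : ∃ φ₀ : A ⟶ X⟦m⟧, ψ = φ₀ ≫ (m.negOnePow • f⟦m⟧') :=
    Triangle.coyoneda_exact₂ _ hT' ψ (by
      change ψ ≫ (m.negOnePow • g⟦m⟧') = 0
      rw [Linear.comp_units_smul, hψ, smul_zero])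
  refine ⟨m.negOnePow • φ₀, ?_⟩
  rw [hφ₀, Linear.comp_units_smul, Linear.units_smul_comp]

/-- the comparison morphism used in `co_exact₁` -/
noncomputable def iota (X : D) (m' m : ℤ) (hm : m' + 1 = m) : (X⟦(1 : ℤ)⟧)⟦m'⟧ ⟶ X⟦m⟧ :=
  (shiftFunctorComm D 1 m').hom.app X ≫ (shiftFunctorAdd' D m' 1 m hm).inv.app X

lemma co_exact₁ (m' m : ℤ) (hm : m' + 1 = m) (φ : A ⟶ X⟦m⟧) (hφ : φ ≫ f⟦m⟧' = 0) :
    ∃ θ : A ⟶ Z⟦m'⟧, φ = θ ≫ h⟦m'⟧' ≫ iota X m' m hm := by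
  have hT' := Triangle.shift_distinguished _ hT m'
  obtain ⟨θ₀, hθ₀⟩ : ∃ θ₀ : A ⟶ Z⟦m'⟧, φ ≫ (shiftFunctorAdd' D m' 1 m hm).hom.app X =
      θ₀ ≫ (m'.negOnePow • h⟦m'⟧' ≫ (shiftFunctorComm D 1 m').hom.app X) :=
    Triangle.coyoneda_exact₁ _ hT' (φ ≫ (shiftFunctorAdd' D m' 1 m hm).hom.app X) (by
      change (φ ≫ (shiftFunctorAdd' D m' 1 m hm).hom.app X) ≫ (m'.negOnePow • f⟦m'⟧')⟦(1 : ℤ)⟧' = 0
      rw [Functor.map_units_smul, Linear.comp_units_smul, Category.assoc]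
      have := (shiftFunctorAdd' D m' 1 m hm).hom.naturality f
      dsimp at this
      rw [← this, reassoc_of% hφ, zero_comp, smul_zero])
  refine ⟨m'.negOnePow • θ₀, ?_⟩
  have h2 := congrArg (fun k => k ≫ (shiftFunctorAdd' D m' 1 m hm).inv.app X) hθ₀
  simp only [Category.assoc, Iso.hom_inv_id_app, Category.comp_id] at h2
  rw [h2, iota]
  simp only [Linear.comp_units_smul, Linear.units_smul_comp, Category.assoc]

end Groth.Agent.Lib.Helper68.RlimMilnor
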