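import Mathlib.CategoryTheory.Abelian.SerreClass.Localization
import Mathlib.Algebra.Homology.DerivedCategory.ExactFunctor

set_option autoImplicit false
universe w w' v v' u u'
open CategoryTheory CategoryTheory.Limits

namespace Groth.Agent.Lib.Helper68.SerreDer

variable {A : Type u} [Category.{v} A] [Abelian A] (P : ObjectProperty A) [P.IsSerreClass]
  {Q : Type u'} [Category.{v'} Q] [Abelian Q] (L : A ⥤ Q) [L.IsLocalization P.isoModSerre]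
  [L.Additive]

include P in
lemma exists_up {A₀ A₁ : A} (d : A₀ ⟶ A₁) {Y₁ Y₂ : Q} (e₁ : L.obj A₁ ≅ Y₁) (δ : Y₁ ⟶ Y₂)
    (h : L.map d ≫ e₁.hom ≫ δ = 0) :
    ∃ (A₂ : A) (d' : A₁ ⟶ A₂) (e₂ : L.obj A₂ ≅ Y₂),
      d ≫ d' = 0 ∧ L.map d' ≫ e₂.hom = e₁.hom ≫ δ := by
  have : L.EssSurj := Localization.essSurj L P.isoModSerre
  let B := L.objPreimage Y₂
  let ε : L.obj B ≅ Y₂ := L.objObjPreimageIso Y₂
  obtain ⟨φ, hφ⟩ := Localization.exists_leftFraction L P.isoModSerre (e₁.hom ≫ δ ≫ ε.inv)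
  let σ : L.obj B ≅ L.obj φ.Y' := Localization.isoOfHom L P.isoModSerre φ.s φ.hs
  have hσ : σ.hom = L.map φ.s := rfl
  have hf : L.map φ.f = e₁.hom ≫ δ ≫ ε.inv ≫ σ.hom := by
    rw [hσ, ← φ.map_comp_map_s L (Localization.inverts L P.isoModSerre), ← hφ]
    simp only [Category.assoc]
  have hzero : L.map (d ≫ φ.f) = 0 := by
    rw [L.map_comp, hf, reassoc_of% h, zero_comp]
  have hP : P (Abelian.image (d ≫ φ.f)) :=
    (ObjectProperty.SerreClassLocalization.map_eq_zero_iff L P _).1 hzero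
  have hπ : P.isoModSerre (cokernel.π (d ≫ φ.f)) := by
    rw [ObjectProperty.isoModSerre_iff_of_epi]
    exact hP
  let τ : L.obj φ.Y' ≅ L.obj (cokernel (d ≫ φ.f)) :=
    Localization.isoOfHom L P.isoModSerre _ hπ
  have hτ : τ.hom = L.map (cokernel.π (d ≫ φ.f)) := rfl
  refine ⟨cokernel (d ≫ φ.f), φ.f ≫ cokernel.π (d ≫ φ.f), τ.symm ≪≫ σ.symm ≪≫ ε, ?_, ?_⟩
  · rw [← Category.assoc, cokernel.condition]
  · rw [L.map_comp, ← hτ, hf]
    simp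

include P in
lemma exists_down {A₁ A₂ : A} (d : A₁ ⟶ A₂) {Y₀ Y₁ : Q} (e₁ : L.obj A₁ ≅ Y₁) (δ : Y₀ ⟶ Y₁)
    (h : δ ≫ e₁.inv ≫ L.map d = 0) :
    ∃ (A₀ : A) (d' : A₀ ⟶ A₁) (e₀ : L.obj A₀ ≅ Y₀),
      d' ≫ d = 0 ∧ L.map d' ≫ e₁.hom = e₀.hom ≫ δ := by
  have : L.EssSurj := Localization.essSurj L P.isoModSerre
  let B := L.objPreimage Y₀
  let ε : L.obj B ≅ Y₀ := L.objObjPreimageIso Y₀
  obtain ⟨φ, hφ⟩ := Localization.exists_rightFraction L P.isoModSerre (ε.hom ≫ δ ≫ e₁.inv)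
  let σ : L.obj φ.X' ≅ L.obj B := Localization.isoOfHom L P.isoModSerre φ.s φ.hs
  have hσ : σ.hom = L.map φ.s := rfl
  have hf : L.map φ.f = σ.hom ≫ ε.hom ≫ δ ≫ e₁.inv := by
    rw [hσ, ← φ.map_s_comp_map L (Localization.inverts L P.isoModSerre), ← hφ]
  have hzero : L.map (φ.f ≫ d) = 0 := by
    rw [L.map_comp, hf]
    simp only [Category.assoc, h, comp_zero]
  have hP : P (Abelian.image (φ.f ≫ d)) :=
    (ObjectProperty.SerreClassLocalization.map_eq_zero_iff L P _).1 hzero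
  have hι : P.isoModSerre (kernel.ι (φ.f ≫ d)) := by
    rw [ObjectProperty.isoModSerre_iff_of_mono]
    exact P.prop_of_iso (Abelian.coimageIsoImage (φ.f ≫ d)).symm hP
  let τ : L.obj (kernel (φ.f ≫ d)) ≅ L.obj φ.X' :=
    Localization.isoOfHom L P.isoModSerre _ hι
  have hτ : τ.hom = L.map (kernel.ι (φ.f ≫ d)) := rfl
  refine ⟨kernel (φ.f ≫ d), kernel.ι (φ.f ≫ d) ≫ φ.f, τ ≪≫ σ ≪≫ ε, ?_, ?_⟩
  · rw [Category.assoc, kernel.condition]
  · rw [L.map_comp, ← hτ, hf]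
    simp

end Groth.Agent.Lib.Helper68.SerreDer
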