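import Groth.Agent.Lib.Helper68.SerreDer

set_option autoImplicit false
universe w w' v v' u u'
open CategoryTheory CategoryTheory.Limits

namespace Groth.Agent.Lib.Helper68.SerreDer

variable {A : Type u} [Category.{v} A] [Abelian A] (P : ObjectProperty A) [P.IsSerreClass]
  {Q : Type u'} [Category.{v'} Q] [Abelian Q] (L : A ⥤ Q) [L.IsLocalization P.isoModSerre]
  [L.Additive]

/-- a lifted differential -/
structure Edge {Y₁ Y₂ : Q} (δ : Y₁ ⟶ Y₂) where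
  src : A
  tgt : A
  d : src ⟶ tgt
  eS : L.obj src ≅ Y₁
  eT : L.obj tgt ≅ Y₂
  comm : L.map d ≫ eT.hom = eS.hom ≫ δ

variable {L}

include P

lemma Edge.exists_next {Y₁ Y₂ Y₃ : Q} {δ : Y₁ ⟶ Y₂} (E : Edge L δ) (δ' : Y₂ ⟶ Y₃)
    (h : δ ≫ δ' = 0) :
    ∃ (A₂ : A) (d' : E.tgt ⟶ A₂) (e₂ : L.obj A₂ ≅ Y₃),
      E.d ≫ d' = 0 ∧ L.map d' ≫ e₂.hom = E.eT.hom ≫ δ' :=
  exists_up P L E.d E.eT δ' (by rw [reassoc_of% E.comm, h, comp_zero])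

lemma Edge.exists_prev {Y₀ Y₁ Y₂ : Q} {δ : Y₁ ⟶ Y₂} (E : Edge L δ) (δ' : Y₀ ⟶ Y₁)
    (h : δ' ≫ δ = 0) :
    ∃ (A₀ : A) (d' : A₀ ⟶ E.src) (e₀ : L.obj A₀ ≅ Y₀),
      d' ≫ E.d = 0 ∧ L.map d' ≫ E.eS.hom = e₀.hom ≫ δ' := by
  refine exists_down P L E.d E.eS δ' ?_
  have : E.eS.inv ≫ L.map E.d = δ ≫ E.eT.inv := by
    rw [Iso.inv_comp_eq, ← Category.assoc, ← E.comm, Category.assoc, Iso.hom_inv_id,
      Category.comp_id]
  rw [this, reassoc_of% h, zero_comp]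

/-- the next lifted differential -/
noncomputable def Edge.next {Y₁ Y₂ Y₃ : Q} {δ : Y₁ ⟶ Y₂} (E : Edge L δ) (δ' : Y₂ ⟶ Y₃)
    (h : δ ≫ δ' = 0) : Edge L δ' where
  src := E.tgt
  tgt := (E.exists_next P δ' h).choose
  d := (E.exists_next P δ' h).choose_spec.choose
  eS := E.eT
  eT := (E.exists_next P δ' h).choose_spec.choose_spec.choose
  comm := (E.exists_next P δ' h).choose_spec.choose_spec.choose_spec.2

lemma Edge.d_next_d {Y₁ Y₂ Y₃ : Q} {δ : Y₁ ⟶ Y₂} (E : Edge L δ) (δ' : Y₂ ⟶ Y₃)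
    (h : δ ≫ δ' = 0) : E.d ≫ (E.next P δ' h).d = 0 :=
  (E.exists_next P δ' h).choose_spec.choose_spec.choose_spec.1

/-- the previous lifted differential -/
noncomputable def Edge.prev {Y₀ Y₁ Y₂ : Q} {δ : Y₁ ⟶ Y₂} (E : Edge L δ) (δ' : Y₀ ⟶ Y₁)
    (h : δ' ≫ δ = 0) : Edge L δ' where
  src := (E.exists_prev P δ' h).choose
  tgt := E.src
  d := (E.exists_prev P δ' h).choose_spec.choose
  eS := (E.exists_prev P δ' h).choose_spec.choose_spec.choose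
  eT := E.eS
  comm := (E.exists_prev P δ' h).choose_spec.choose_spec.choose_spec.2

lemma Edge.prev_d_d {Y₀ Y₁ Y₂ : Q} {δ : Y₁ ⟶ Y₂} (E : Edge L δ) (δ' : Y₀ ⟶ Y₁)
    (h : δ' ≫ δ = 0) : (E.prev P δ' h).d ≫ E.d = 0 :=
  (E.exists_prev P δ' h).choose_spec.choose_spec.choose_spec.1

variable (L) in
/-- an initial edge -/
lemma exists_edge {Y₁ Y₂ : Q} (δ : Y₁ ⟶ Y₂) : Nonempty (Edge L δ) := by
  have : L.EssSurj := Localization.essSurj L P.isoModSerre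
  obtain ⟨A₂, d', e₂, -, h⟩ := exists_up P L (0 : L.objPreimage Y₁ ⟶ L.objPreimage Y₁)
    (L.objObjPreimageIso Y₁) δ (by simp)
  exact ⟨⟨_, _, d', _, e₂, h⟩⟩

end Groth.Agent.Lib.Helper68.SerreDer
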