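import Groth.Agent.Lib.Helper68.SerreDer2

set_option autoImplicit false
universe w w' v v' u u'
open CategoryTheory CategoryTheory.Limits

namespace Groth.Agent.Lib.Helper68.SerreDer

variable {A : Type u} [Category.{v} A] [Abelian A] (P : ObjectProperty A) [P.IsSerreClass]
  {Q : Type u'} [Category.{v'} Q] [Abelian Q] (L : A ⥤ Q) [L.IsLocalization P.isoModSerre]
  [L.Additive] (Y : CochainComplex Q ℤ)

/-- right half of the lifted complex -/
noncomputable def rEdge : ∀ k : ℕ, Edge L (Y.d (Int.ofNat k) (Int.ofNat k + 1))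
  | 0 => (exists_edge P L _).some
  | k + 1 => (rEdge k).next P (Y.d (Int.ofNat (k + 1)) (Int.ofNat (k + 1) + 1))
      (Y.d_comp_d _ _ _)

/-- left half of the lifted complex -/
noncomputable def lEdge : ∀ k : ℕ, Edge L (Y.d (Int.negSucc k) (Int.negSucc k + 1))
  | 0 => (rEdge P L Y 0).prev P (Y.d (Int.negSucc 0) (Int.negSucc 0 + 1)) (Y.d_comp_d _ _ _)
  | k + 1 => (lEdge k).prev P (Y.d (Int.negSucc (k + 1)) (Int.negSucc (k + 1) + 1))
      (Y.d_comp_d _ _ _)

/-- the objects of the lifted complex -/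
noncomputable def liftX : ℤ → A
  | .ofNat k => (rEdge P L Y k).src
  | .negSucc k => (lEdge P L Y k).src

/-- the comparison isomorphisms -/
noncomputable def liftIso : ∀ n : ℤ, L.obj (liftX P L Y n) ≅ Y.X n
  | .ofNat k => (rEdge P L Y k).eS
  | .negSucc k => (lEdge P L Y k).eS

/-- the differentials of the lifted complex -/
noncomputable def liftD : ∀ n : ℤ, liftX P L Y n ⟶ liftX P L Y (n + 1)
  | .ofNat k => (rEdge P L Y k).d
  | .negSucc 0 => (lEdge P L Y 0).d
  | .negSucc (k + 1) => (lEdge P L Y (k + 1)).d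


lemma liftD_comp : ∀ n : ℤ, liftD P L Y n ≫ liftD P L Y (n + 1) = 0
  | .ofNat k => Edge.d_next_d P (rEdge P L Y k) _ _
  | .negSucc 0 => Edge.prev_d_d P (rEdge P L Y 0) _ _
  | .negSucc 1 => Edge.prev_d_d P (lEdge P L Y 0) _ _
  | .negSucc (k + 2) => Edge.prev_d_d P (lEdge P L Y (k + 1)) _ _

lemma liftD_comm : ∀ n : ℤ, L.map (liftD P L Y n) ≫ (liftIso P L Y (n + 1)).hom =
    (liftIso P L Y n).hom ≫ Y.d n (n + 1)
  | .ofNat k => (rEdge P L Y k).comm
  | .negSucc 0 => (lEdge P L Y 0).comm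
  | .negSucc (k + 1) => (lEdge P L Y (k + 1)).comm

/-- the lifted complex -/
noncomputable def lift : CochainComplex A ℤ :=
  CochainComplex.of (liftX P L Y) (liftD P L Y) (liftD_comp P L Y)

/-- the lifted complex maps to the given one -/
noncomputable def liftMapIso : (L.mapHomologicalComplex (ComplexShape.up ℤ)).obj (lift P L Y) ≅ Y :=
  HomologicalComplex.Hom.isoOfComponents (fun n => liftIso P L Y n) (by
    rintro i j (rfl : i + 1 = j)
    have h : (lift P L Y).d i (i + 1) = liftD P L Y i := CochainComplex.of_d _ _ _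
    have h2 : ((L.mapHomologicalComplex (ComplexShape.up ℤ)).obj (lift P L Y)).d i (i + 1) =
      L.map (liftD P L Y i) := congrArg L.map h
    exact (h2 ▸ (liftD_comm P L Y i).symm))

end Groth.Agent.Lib.Helper68.SerreDer
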