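import Mathlib

/-!
Helper (helper68): commutative algebra core for splitting truncations after localization.
-/

set_option autoImplicit false

open TensorProduct

namespace Groth.Agent.Lib.Helper68.SplitLoc

section general

variable {R : Type*} [CommRing R] {F₁ F₂ F₃ : Type*} [AddCommGroup F₁] [AddCommGroup F₂]
  [AddCommGroup F₃] [Module R F₁] [Module R F₂] [Module R F₃]

/-- the map induced by `β` on the cokernel of `α` -/
noncomputable def bar (α : F₁ →ₗ[R] F₂) (β : F₂ →ₗ[R] F₃) (h0 : β ∘ₗ α = 0) :
    (F₂ ⧸ LinearMap.range α) →ₗ[R] F₃ :=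
  (LinearMap.range α).liftQ β (by rw [LinearMap.range_le_ker_iff]; exact h0)

theorem bar_comp_mkQ (α : F₁ →ₗ[R] F₂) (β : F₂ →ₗ[R] F₃) (h0 : β ∘ₗ α = 0) :
    bar α β h0 ∘ₗ (LinearMap.range α).mkQ = β :=
  Submodule.liftQ_mkQ _ _ _

variable (B : Type*) [CommRing B] [Algebra R B]

theorem exact_baseChange_mkQ (α : F₁ →ₗ[R] F₂) :
    Function.Exact (α.baseChange B) ((LinearMap.range α).mkQ.baseChange B) := by
  have h := lTensor_exact B (LinearMap.exact_map_mkQ_range α) (Submodule.mkQ_surjective _)
  exact h

theorem surjective_baseChange_mkQ (α : F₁ →ₗ[R] F₂) :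
    Function.Surjective ((LinearMap.range α).mkQ.baseChange B) :=
  LinearMap.lTensor_surjective B (Submodule.mkQ_surjective _)

/-- if the induced map on the cokernel of `α` becomes injective after base change, the base
changed sequence is exact -/
theorem exact_baseChange_of_injective (α : F₁ →ₗ[R] F₂) (β : F₂ →ₗ[R] F₃) (h0 : β ∘ₗ α = 0)
    (hinj : Function.Injective ((bar α β h0).baseChange B)) :
    Function.Exact (α.baseChange B) (β.baseChange B) := by
  have hβ : β.baseChange B = (bar α β h0).baseChange B ∘ₗ (LinearMap.range α).mkQ.baseChange B := by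
    rw [← LinearMap.baseChange_comp, bar_comp_mkQ]
  intro x
  rw [hβ, LinearMap.comp_apply]
  constructor
  · intro hx
    have h1 : (LinearMap.range α).mkQ.baseChange B x = 0 := hinj (by rw [hx, map_zero])
    exact (exact_baseChange_mkQ B α x).mp h1
  · intro hx
    rw [(exact_baseChange_mkQ B α x).mpr hx, map_zero]

/-- conversely exactness gives injectivity on the cokernel -/
theorem injective_baseChange_bar_of_exact (α : F₁ →ₗ[R] F₂) (β : F₂ →ₗ[R] F₃) (h0 : β ∘ₗ α = 0)
    (hex : Function.Exact (α.baseChange B) (β.baseChange B)) :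
    Function.Injective ((bar α β h0).baseChange B) := by
  have hβ : β.baseChange B = (bar α β h0).baseChange B ∘ₗ (LinearMap.range α).mkQ.baseChange B := by
    rw [← LinearMap.baseChange_comp, bar_comp_mkQ]
  rw [← LinearMap.ker_eq_bot, LinearMap.ker_eq_bot']
  intro x hx
  obtain ⟨y, rfl⟩ := surjective_baseChange_mkQ B α x
  have h1 : β.baseChange B y = 0 := by rw [hβ, LinearMap.comp_apply, hx]
  obtain ⟨z, rfl⟩ := (hex y).mp h1
  exact (exact_baseChange_mkQ B α _).mpr ⟨z, rfl⟩

/-- a retraction of the base change of the induced map makes the cokernel of `β` projective -/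
theorem projective_quotient_of_retraction [Module.Projective R F₃]
    (α : F₁ →ₗ[R] F₂) (β : F₂ →ₗ[R] F₃) (h0 : β ∘ₗ α = 0)
    (ρ : B ⊗[R] F₃ →ₗ[B] B ⊗[R] (F₂ ⧸ LinearMap.range α))
    (hρ : ρ ∘ₗ (bar α β h0).baseChange B = LinearMap.id) :
    Module.Projective B ((B ⊗[R] F₃) ⧸ LinearMap.range (β.baseChange B)) := by
  have hβ : β.baseChange B = (bar α β h0).baseChange B ∘ₗ (LinearMap.range α).mkQ.baseChange B := by
    rw [← LinearMap.baseChange_comp, bar_comp_mkQ]
  set l := (bar α β h0).baseChange B with hl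
  have hr : LinearMap.range (β.baseChange B) = LinearMap.range l := by
    rw [hβ, LinearMap.range_comp_of_range_eq_top]
    exact LinearMap.range_eq_top.mpr (surjective_baseChange_mkQ B α)
  rw [hr]
  have hle : LinearMap.range l ≤ LinearMap.ker (LinearMap.id - l ∘ₗ ρ) := by
    rintro _ ⟨y, rfl⟩
    rw [LinearMap.mem_ker, LinearMap.sub_apply, LinearMap.id_apply, LinearMap.comp_apply]
    have : ρ (l y) = y := LinearMap.congr_fun hρ y
    rw [this, sub_self]
  refine Module.Projective.of_split ((LinearMap.range l).liftQ (LinearMap.id - l ∘ₗ ρ) hle)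
    (LinearMap.range l).mkQ ?_
  apply LinearMap.ext
  intro q
  obtain ⟨x, rfl⟩ := Submodule.Quotient.mk_surjective _ q
  show (LinearMap.range l).mkQ ((LinearMap.id - l ∘ₗ ρ : B ⊗[R] F₃ →ₗ[B] B ⊗[R] F₃) x) =
    Submodule.Quotient.mk x
  rw [LinearMap.sub_apply, LinearMap.id_apply, map_sub, Submodule.mkQ_apply, sub_eq_self,
    Submodule.mkQ_apply, Submodule.Quotient.mk_eq_zero]
  exact ⟨ρ x, rfl⟩

/-- from `h ∘ l = f • id` to a retraction after inverting `f` -/
theorem exists_retraction_of_comp_eq_smul {M N : Type*} [AddCommGroup M] [AddCommGroup N]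
    [Module R M] [Module R N] (l : M →ₗ[R] N) (h : N →ₗ[R] M) (f : R)
    (hf : h ∘ₗ l = f • LinearMap.id) (hu : IsUnit (algebraMap R B f)) :
    ∃ ρ : B ⊗[R] N →ₗ[B] B ⊗[R] M, ρ ∘ₗ l.baseChange B = LinearMap.id := by
  obtain ⟨u, hu⟩ := hu
  refine ⟨(↑u⁻¹ : B) • h.baseChange B, ?_⟩
  rw [LinearMap.smul_comp, ← LinearMap.baseChange_comp, hf, LinearMap.baseChange_smul,
    LinearMap.baseChange_id]
  ext m
  simp only [AlgebraTensorModule.curry_apply, curry_apply, LinearMap.coe_restrictScalars,
    LinearMap.smul_apply, LinearMap.id_coe, id_eq]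
  rw [← algebraMap_smul B f ((1 : B) ⊗ₜ[R] m), ← hu, smul_smul, Units.inv_mul, one_smul]

end general

section loc

variable {R : Type*} [CommRing R] (p : Ideal R) [p.IsPrime]
variable {M N : Type*} [AddCommGroup M] [AddCommGroup N] [Module R M] [Module R N]

/-- residue-field injectivity gives a retraction over the local ring -/
theorem exists_retraction_atPrime [Module.Finite R M] [Module.Finite R N] [Module.Free R N]
    (l : M →ₗ[R] N) (hinj : Function.Injective (l.baseChange p.ResidueField)) :
    ∃ ρ : Localization.AtPrime p ⊗[R] N →ₗ[Localization.AtPrime p] Localization.AtPrime p ⊗[R] M,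
      ρ ∘ₗ l.baseChange (Localization.AtPrime p) = LinearMap.id := by
  rw [IsLocalRing.split_injective_iff_lTensor_residueField_injective]
  let A := Localization.AtPrime p
  let k := IsLocalRing.ResidueField A
  let eM : k ⊗[A] (A ⊗[R] M) ≃ₗ[k] k ⊗[R] M := AlgebraTensorModule.cancelBaseChange R A k k M
  let eN : k ⊗[A] (A ⊗[R] N) ≃ₗ[k] k ⊗[R] N := AlgebraTensorModule.cancelBaseChange R A k k N
  have key : ∀ x, eN ((l.baseChange A).lTensor k x) = l.baseChange k (eM x) := by
    intro x
    induction x using TensorProduct.induction_on with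
    | zero => simp
    | tmul c y =>
      induction y using TensorProduct.induction_on with
      | zero => simp
      | tmul a m => simp [eN, eM]
      | add y₁ y₂ h₁ h₂ => simp only [tmul_add, map_add, h₁, h₂]
    | add x₁ x₂ h₁ h₂ => simp only [map_add, h₁, h₂]
  intro x y hxy
  apply eM.injective
  apply hinj
  rw [← key, ← key, hxy]

/-- spreading out a retraction over the local ring -/
theorem exists_comp_eq_smul_of_retraction [Module.Finite R M] [Module.FinitePresentation R N]
    (l : M →ₗ[R] N)
    (ρ : Localization.AtPrime p ⊗[R] N →ₗ[Localization.AtPrime p] Localization.AtPrime p ⊗[R] M)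
    (hρ : ρ ∘ₗ l.baseChange (Localization.AtPrime p) = LinearMap.id) :
    ∃ (f : R) (h : N →ₗ[R] M), f ∉ p ∧ h ∘ₗ l = f • LinearMap.id := by
  let A := Localization.AtPrime p
  let locM : M →ₗ[R] A ⊗[R] M := TensorProduct.mk R A M 1
  let locN : N →ₗ[R] A ⊗[R] N := TensorProduct.mk R A N 1
  have : IsLocalizedModule p.primeCompl locM :=
    (isLocalizedModule_iff_isBaseChange p.primeCompl A _).mpr (TensorProduct.isBaseChange R M A)
  obtain ⟨h, s, hs⟩ := Module.FinitePresentation.exists_lift_of_isLocalizedModule p.primeCompl locM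
    ((ρ.restrictScalars R).comp locN)
  have h1 : locM ∘ₗ (h ∘ₗ l) = locM ∘ₗ ((s : R) • LinearMap.id) := by
    rw [← LinearMap.comp_assoc, hs]
    ext m
    simp only [LinearMap.coe_comp, Function.comp_apply, LinearMap.smul_apply,
      LinearMap.coe_restrictScalars, LinearMap.id_coe, id_eq, map_smul]
    have h2 : locN (l m) = l.baseChange A (locM m) := by
      simp [locN, locM]
    have h3 : ρ (l.baseChange A (locM m)) = locM m := LinearMap.congr_fun hρ (locM m)
    rw [h2, h3]
    rfl
  obtain ⟨t, ht⟩ := Module.Finite.exists_smul_of_comp_eq_of_isLocalizedModule p.primeCompl locM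
    _ _ h1
  refine ⟨(t : R) * (s : R), (t : R) • h, ?_, ?_⟩
  · exact (p.primeCompl.mul_mem t.2 s.2)
  · rw [LinearMap.smul_comp, mul_smul]
    exact ht

end loc


section main

universe u

variable {R : Type u} [CommRing R] (p : Ideal R) [p.IsPrime]
  {F₁ F₂ F₃ : Type u} [AddCommGroup F₁] [AddCommGroup F₂] [AddCommGroup F₃]
  [Module R F₁] [Module R F₂] [Module R F₃]
  [Module.Finite R F₂] [Module.Finite R F₃] [Module.Free R F₃]

/-- **Splitting after localization**: a complex `F₁ → F₂ → F₃` with `F₂` finite, `F₃` finite free,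
exact in the middle after tensoring with `κ(p)`, becomes exact in the middle with projective
cokernel of `β` over any `R`-algebra in which a suitable `f ∉ p` is invertible. -/
theorem exists_away_split (α : F₁ →ₗ[R] F₂) (β : F₂ →ₗ[R] F₃) (h0 : β ∘ₗ α = 0)
    (hex : Function.Exact (α.baseChange p.ResidueField) (β.baseChange p.ResidueField)) :
    ∃ f : R, f ∉ p ∧ ∀ (B : Type u) [CommRing B] [Algebra R B], IsUnit (algebraMap R B f) →
      Function.Exact (α.baseChange B) (β.baseChange B) ∧
      Module.Projective B ((B ⊗[R] F₃) ⧸ LinearMap.range (β.baseChange B)) := by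
  have hinj := injective_baseChange_bar_of_exact p.ResidueField α β h0 hex
  have : Module.FinitePresentation R F₃ := Module.finitePresentation_of_projective R F₃
  obtain ⟨ρ, hρ⟩ := exists_retraction_atPrime p (bar α β h0) hinj
  obtain ⟨f, h, hfp, hh⟩ := exists_comp_eq_smul_of_retraction p (bar α β h0) ρ hρ
  refine ⟨f, hfp, ?_⟩
  intro B _ _ hu
  obtain ⟨ρ', hρ'⟩ := exists_retraction_of_comp_eq_smul B (bar α β h0) h f hh hu
  refine ⟨exact_baseChange_of_injective _ α β h0 ?_,
    projective_quotient_of_retraction _ α β h0 ρ' hρ'⟩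
  exact Function.LeftInverse.injective (g := ρ') (fun x => LinearMap.congr_fun hρ' x)

/-- the canonical algebra structure on the residue field (named, to state transport lemmas) -/
abbrev canonκ : Algebra R p.ResidueField := inferInstance

/-- the same with an arbitrary (propositionally canonical) algebra instance on the residue field,
for use with `RingHom.toAlgebra` -/
theorem exists_away_split_gen (α : F₁ →ₗ[R] F₂) (β : F₂ →ₗ[R] F₃) (h0 : β ∘ₗ α = 0)
    (aκ : Algebra R p.ResidueField) (haκ : aκ = canonκ p)
    (hex : Function.Exact (α.baseChange p.ResidueField) (β.baseChange p.ResidueField)) :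
    ∃ f : R, f ∉ p ∧ ∀ (B : Type u) [CommRing B] [Algebra R B], IsUnit (algebraMap R B f) →
      Function.Exact (α.baseChange B) (β.baseChange B) ∧
      Module.Projective B ((B ⊗[R] F₃) ⧸ LinearMap.range (β.baseChange B)) := by
  subst haκ
  exact exists_away_split p α β h0 hex

end main

end Groth.Agent.Lib.Helper68.SplitLoc
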