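import Mathlib
import Groth.Agent.Lib.Helper68.SplitLoc1
import Groth.Agent.Lib.Helper12.DRingSplit
import Groth.Agent.Lib.Helper12.FlatExtendScalars
import Groth.Agent.Lib.Helper36.NilpotentPC

/-!
Helper (helper68): a bounded above complex of finite free modules whose fibre at `p` is exact in
degree `i` becomes, over `R_f` for some `f ∉ p`, exact in degree `i` with finite projective
`opcycles (i+1)`.
-/

set_option autoImplicit false
universe u

open CategoryTheory CategoryTheory.Limits CochainComplex DerivedCategory TensorProduct

attribute [local instance] HasDerivedCategory.standard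

namespace Groth.Agent.Lib.Helper68.SplitLoc

open Groth.Agent.Lib.Helper12 DRing Groth.Agent.Lib.Helper36 Groth.Agent.Lib.Helper36.LT
open Groth.Agent.Lib.Helper36.NilPC

variable {R : Type u} [CommRing R]

/-- exactness of the extended complex, concretely -/
theorem exactAt_extC_iff {B : Type u} [CommRing B] (φ : R →+* B) (E : Cx R) (i : ℤ) :
    ((extC φ).obj E).ExactAt i ↔
      letI := φ.toAlgebra
      Function.Exact ((E.d (i - 1) i).hom.baseChange B) ((E.d i (i + 1)).hom.baseChange B) := by
  rw [HomologicalComplex.exactAt_iff' _ (i - 1) i (i + 1) (by simp) (by simp),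
    ShortComplex.ShortExact.moduleCat_exact_iff_function_exact]
  rfl

theorem exists_away (p : Ideal R) [p.IsPrime] (i : ℤ) (E : Cx R)
    (hEff : TermwiseFiniteFree E)
    (hi : ((extC (algebraMap R p.ResidueField)).obj E).ExactAt i) :
    ∃ f : R, f ∉ p ∧ ((extC (algebraMap R (Localization.Away f))).obj E).ExactAt i ∧
      (finiteProjective (Localization.Away f)).P
        (((extC (algebraMap R (Localization.Away f))).obj E).opcycles (i + 1)) := by
  rw [exactAt_extC_iff] at hi
  have := (hEff i).1
  have := (hEff (i + 1)).1
  have := (hEff (i + 1)).2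
  have h0 : (E.d i (i + 1)).hom ∘ₗ (E.d (i - 1) i).hom = 0 := by
    rw [← ModuleCat.hom_comp, E.d_comp_d]
    rfl
  obtain ⟨f, hf, H⟩ := exists_away_split_gen p (E.d (i - 1) i).hom (E.d i (i + 1)).hom h0
    (algebraMap R p.ResidueField).toAlgebra (Algebra.algebra_ext _ _ (fun _ => rfl)) hi
  have hu : IsUnit (algebraMap R (Localization.Away f) f) :=
    IsLocalization.Away.algebraMap_isUnit f
  obtain ⟨H1, H2⟩ := @H (Localization.Away f) _ (algebraMap R (Localization.Away f)).toAlgebra hu
  refine ⟨f, hf, ?_, ?_⟩
  · rw [exactAt_extC_iff]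
    exact H1
  · let Ef := (extC (algebraMap R (Localization.Away f))).obj E
    have e := opcyclesIsoQuot Ef (i + 1)
    have hr : LinearMap.range (Ef.d (i + 1 - 1) (i + 1)).hom =
        LinearMap.range (Ef.d i (i + 1)).hom := by
      have h1 : i + 1 - 1 = i := by omega
      rw [h1]
    refine (finiteProjective (Localization.Away f)).iso e.symm ⟨?_, ?_⟩
    · have : Module.Finite (Localization.Away f) (Ef.X (i + 1)) :=
        (finiteFree_extendScalars (algebraMap R (Localization.Away f)) _ (hEff (i + 1))).1
      exact Module.Finite.quotient _ _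
    · rw [hr]
      exact H2
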