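import Mathlib
import Groth.Prelude.Def_CohDer

set_option autoImplicit false
open CategoryTheory Limits

namespace Groth.Agent.Lib.Helper68.Telescope

universe w v u

section Additive

variable {D : Type u} [Category.{v} D] [Preadditive D]
variable (F : ℕ ⥤ D) {P : D} (inj : ∀ j : ULift.{w} ℕ, F.obj j.down ⟶ P)
  (hP : IsColimit (Cofan.mk P inj))

/-- the transition map -/
abbrev tr (n : ℕ) : F.obj n ⟶ F.obj (n + 1) := F.map (homOfLE (Nat.le_succ n))

/-- the map `1 - shift` -/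
noncomputable def φ : P ⟶ P :=
  Cofan.IsColimit.desc hP (fun j => inj j - tr F j.down ≫ inj ⟨j.down + 1⟩)

lemma inj_φ (j : ULift.{w} ℕ) :
    inj j ≫ φ F inj hP = inj j - tr F j.down ≫ inj ⟨j.down + 1⟩ :=
  Cofan.IsColimit.fac hP _ j

include hP in
lemma hom_ext' {X : D} {a b : P ⟶ X} (h : ∀ j, inj j ≫ a = inj j ≫ b) : a = b :=
  Cofan.IsColimit.hom_ext hP _ _ h

/-- the map to the `m`-th term summing up the first `m` terms -/
noncomputable def σ (m : ℕ) : P ⟶ F.obj m :=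
  Cofan.IsColimit.desc hP (fun j => if h : j.down ≤ m then F.map (homOfLE h) else 0)

lemma inj_σ_of_le (j : ULift.{w} ℕ) (m : ℕ) (h : j.down ≤ m) :
    inj j ≫ σ F inj hP m = F.map (homOfLE h) := by
  refine (Cofan.IsColimit.fac hP _ j).trans ?_
  rw [dif_pos h]

lemma inj_σ_of_lt (j : ULift.{w} ℕ) (m : ℕ) (h : m < j.down) :
    inj j ≫ σ F inj hP m = 0 := by
  refine (Cofan.IsColimit.fac hP _ j).trans ?_
  rw [dif_neg (by omega)]

/-- the component maps -/
noncomputable def comp (m : ℕ) : P ⟶ F.obj m :=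
  Cofan.IsColimit.desc hP (fun j => if h : j.down = m then eqToHom (by rw [h]) else 0)

lemma inj_comp_self (m : ℕ) : inj ⟨m⟩ ≫ comp F inj hP m = 𝟙 _ := by
  refine (Cofan.IsColimit.fac hP _ _).trans ?_
  rw [dif_pos rfl]
  rfl

lemma inj_comp_of_ne (j : ULift.{w} ℕ) (m : ℕ) (h : j.down ≠ m) :
    inj j ≫ comp F inj hP m = 0 := by
  refine (Cofan.IsColimit.fac hP _ j).trans ?_
  rw [dif_neg h]

lemma φ_σ (m : ℕ) : φ F inj hP ≫ σ F inj hP m = comp F inj hP m := by
  apply hom_ext' F inj hP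
  rintro ⟨j⟩
  rw [← Category.assoc, inj_φ, Preadditive.sub_comp, Category.assoc]
  rcases lt_trichotomy j m with h | h | h
  · rw [inj_σ_of_le F inj hP ⟨j⟩ m (le_of_lt h), inj_σ_of_le F inj hP ⟨j + 1⟩ m h,
      inj_comp_of_ne F inj hP ⟨j⟩ m (ne_of_lt h), ← Functor.map_comp]
    exact sub_self _
  · subst h
    rw [inj_σ_of_le F inj hP ⟨j⟩ j le_rfl, inj_σ_of_lt F inj hP ⟨j + 1⟩ j (Nat.lt_succ_self j),
      inj_comp_self, comp_zero, sub_zero]
    exact F.map_id _
  · rw [inj_σ_of_lt F inj hP ⟨j⟩ m h, inj_σ_of_lt F inj hP ⟨j + 1⟩ m (by simp; omega),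
      inj_comp_of_ne F inj hP ⟨j⟩ m (ne_of_gt h), comp_zero, sub_zero]

/-- the truncation idempotents -/
noncomputable def trunc (N : ℕ) : P ⟶ P :=
  ∑ n ∈ Finset.range N, comp F inj hP n ≫ inj ⟨n⟩

lemma inj_trunc_of_lt (j : ULift.{w} ℕ) (N : ℕ) (h : j.down < N) :
    inj j ≫ trunc F inj hP N = inj j := by
  obtain ⟨j⟩ := j
  rw [trunc, Preadditive.comp_sum, Finset.sum_eq_single j]
  · rw [← Category.assoc, inj_comp_self, Category.id_comp]
  · intro n _ hn
    rw [← Category.assoc, inj_comp_of_ne F inj hP ⟨j⟩ n (Ne.symm hn), zero_comp]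
  · intro hj
    exact absurd (Finset.mem_range.2 h) hj

lemma inj_trunc_of_le (j : ULift.{w} ℕ) (N : ℕ) (h : N ≤ j.down) :
    inj j ≫ trunc F inj hP N = 0 := by
  rw [trunc, Preadditive.comp_sum]
  apply Finset.sum_eq_zero
  intro n hn
  rw [← Category.assoc, inj_comp_of_ne F inj hP j n
    (by have := Finset.mem_range.1 hn; omega), zero_comp]

lemma trunc_trunc (N N' : ℕ) (h : N ≤ N') :
    trunc F inj hP N ≫ trunc F inj hP N' = trunc F inj hP N := by
  apply hom_ext' F inj hP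
  intro j
  by_cases hj : j.down < N
  · rw [← Category.assoc, inj_trunc_of_lt F inj hP j N hj,
      inj_trunc_of_lt F inj hP j N' (lt_of_lt_of_le hj h)]
  · rw [← Category.assoc, inj_trunc_of_le F inj hP j N (not_lt.1 hj), zero_comp]

lemma trunc_comp (N m : ℕ) (h : N ≤ m) :
    trunc F inj hP N ≫ comp F inj hP m = 0 := by
  apply hom_ext' F inj hP
  intro j
  rw [comp_zero]
  by_cases hj : j.down < N
  · rw [← Category.assoc, inj_trunc_of_lt F inj hP j N hj,
      inj_comp_of_ne F inj hP j m (by omega)]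
  · rw [← Category.assoc, inj_trunc_of_le F inj hP j N (not_lt.1 hj), zero_comp]


section FS

variable {D' : Type*} [Category D'] [Preadditive D'] (G : D ⥤ D') [G.Additive] {K : D'}

/-- finitely supported morphisms to `G.obj P` -/
def FS (x : K ⟶ G.obj P) : Prop := ∃ N, x ≫ G.map (trunc F inj hP N) = x

lemma FS.mono {x : K ⟶ G.obj P} {N N' : ℕ} (h : N ≤ N')
    (hx : x ≫ G.map (trunc F inj hP N) = x) : x ≫ G.map (trunc F inj hP N') = x := by
  rw [← hx, Category.assoc, ← G.map_comp, trunc_trunc F inj hP N N' h]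

lemma FS_zero : FS F inj hP G (0 : K ⟶ G.obj P) := ⟨0, zero_comp⟩

lemma FS_add {x y : K ⟶ G.obj P} (hx : FS F inj hP G x) (hy : FS F inj hP G y) :
    FS F inj hP G (x + y) := by
  obtain ⟨N, hN⟩ := hx
  obtain ⟨N', hN'⟩ := hy
  refine ⟨max N N', ?_⟩
  rw [Preadditive.add_comp, FS.mono F inj hP G (le_max_left N N') hN,
    FS.mono F inj hP G (le_max_right N N') hN']

lemma FS_inj (j : ULift.{w} ℕ) (y : K ⟶ G.obj (F.obj j.down)) :
    FS F inj hP G (y ≫ G.map (inj j)) := by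
  refine ⟨j.down + 1, ?_⟩
  rw [Category.assoc, ← G.map_comp, inj_trunc_of_lt F inj hP j _ (Nat.lt_succ_self _)]

end FS

section Surj

variable {D' : Type*} [Category.{w} D'] [Preadditive D'] (G : D ⥤ D') [G.Additive] {K : D'}

lemma FS_of_surjective (hGP : IsColimit (Cofan.mk (G.obj P) (fun j => G.map (inj j))))
    [HasCoproduct (fun j : ULift.{w} ℕ => G.obj (F.obj j.down))]
    (hK : Function.Surjective
      (CohDer.homSumToHomCoprod K (fun j : ULift.{w} ℕ => G.obj (F.obj j.down))))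
    (x : K ⟶ G.obj P) : FS F inj hP G x := by
  classical
  let e : G.obj P ≅ ∐ (fun j : ULift.{w} ℕ => G.obj (F.obj j.down)) :=
    hGP.coconePointUniqueUpToIso (colimit.isColimit _)
  have he : ∀ j, G.map (inj j) ≫ e.hom = Sigma.ι (fun j : ULift.{w} ℕ => G.obj (F.obj j.down)) j :=
    fun j => hGP.comp_coconePointUniqueUpToIso_hom (colimit.isColimit _) ⟨j⟩
  have he' : ∀ j, Sigma.ι (fun j : ULift.{w} ℕ => G.obj (F.obj j.down)) j ≫ e.inv = G.map (inj j) :=
    fun j => by rw [← he j, Category.assoc, e.hom_inv_id, Category.comp_id]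
  obtain ⟨d, hd⟩ := hK (x ≫ e.hom)
  have hx : x = CohDer.homSumToHomCoprod K _ d ≫ e.inv := by
    rw [hd, Category.assoc, e.hom_inv_id, Category.comp_id]
  rw [hx]
  clear hx hd
  induction d using DirectSum.induction_on with
  | zero =>
    rw [map_zero, zero_comp]
    exact FS_zero F inj hP G
  | of j y =>
    have : CohDer.homSumToHomCoprod K (fun j : ULift.{w} ℕ => G.obj (F.obj j.down))
        (DirectSum.of _ j y) =
          y ≫ Sigma.ι (fun j : ULift.{w} ℕ => G.obj (F.obj j.down)) j := by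
      unfold CohDer.homSumToHomCoprod
      exact DirectSum.toAddMonoid_of (β := fun j : ULift.{w} ℕ => K ⟶ G.obj (F.obj j.down))
        (fun i => Preadditive.rightComp K
          (Sigma.ι (fun j : ULift.{w} ℕ => G.obj (F.obj j.down)) i)) j y
    rw [this, Category.assoc, he']
    exact FS_inj F inj hP G j y
  | add a b ha hb =>
    rw [map_add, Preadditive.add_comp]
    exact FS_add F inj hP G ha hb

end Surj

end Additive

section Pretriangulated

open Pretriangulated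

variable {D : Type u} [Category.{v} D] [Preadditive D] [HasZeroObject D] [HasShift D ℤ]
  [∀ n : ℤ, (shiftFunctor D n).Additive] [Pretriangulated D]
variable (F : ℕ ⥤ D) {P : D} (inj : ∀ j : ULift.{w} ℕ, F.obj j.down ⟶ P)
  (hP : IsColimit (Cofan.mk P inj))

theorem main {K Lc : D} (ι : ∀ n, F.obj n ⟶ Lc)
    (hι : ∀ (n m : ℕ) (h : n ≤ m), F.map (homOfLE h) ≫ ι m = ι n)
    (g : P ⟶ Lc) (hg : ∀ j, inj j ≫ g = ι j.down) (δ : Lc ⟶ P⟦(1 : ℤ)⟧)
    (hT : Triangle.mk (φ F inj hP) g δ ∈ distTriang D)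
    (hK0 : ∀ x : K ⟶ P, FS F inj hP (𝟭 D) x)
    (hK1 : ∀ x : K ⟶ P⟦(1 : ℤ)⟧, FS F inj hP (shiftFunctor D (1 : ℤ)) x) :
    (∀ x : K ⟶ Lc, ∃ (n : ℕ) (y : K ⟶ F.obj n), y ≫ ι n = x) ∧
    (∀ (n : ℕ) (y : K ⟶ F.obj n), y ≫ ι n = 0 →
      ∃ (m : ℕ) (h : n ≤ m), y ≫ F.map (homOfLE h) = 0) := by
  constructor
  · intro x
    have h0 : δ ≫ (φ F inj hP)⟦(1 : ℤ)⟧' = 0 := comp_distTriang_mor_zero₃₁ _ hT
    have h1 : (x ≫ δ) ≫ (φ F inj hP)⟦(1 : ℤ)⟧' = 0 := by
      rw [Category.assoc, h0, comp_zero]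
    have h2 : x ≫ δ = 0 := by
      obtain ⟨N, hN⟩ := hK1 (x ≫ δ)
      rw [← hN, trunc, Functor.map_sum, Preadditive.comp_sum]
      apply Finset.sum_eq_zero
      intro k _
      rw [← φ_σ, Functor.map_comp, Functor.map_comp, ← Category.assoc, ← Category.assoc, h1,
        zero_comp, zero_comp]
    obtain ⟨x', hx'⟩ : ∃ x' : K ⟶ P, x = x' ≫ g := Triangle.coyoneda_exact₃ _ hT x h2
    obtain ⟨N, hN⟩ := hK0 x'
    rw [Functor.id_map] at hN
    refine ⟨N, x' ≫ σ F inj hP N, ?_⟩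
    have h3 : trunc F inj hP N ≫ g = trunc F inj hP N ≫ σ F inj hP N ≫ ι N := by
      apply hom_ext' F inj hP
      intro j
      by_cases hj : j.down < N
      · rw [← Category.assoc, ← Category.assoc, inj_trunc_of_lt F inj hP j N hj, hg,
          ← Category.assoc, inj_σ_of_le F inj hP j N (le_of_lt hj), hι]
      · rw [← Category.assoc, ← Category.assoc, inj_trunc_of_le F inj hP j N (not_lt.1 hj),
          zero_comp, zero_comp]
    calc (x' ≫ σ F inj hP N) ≫ ι N
        = ((x' ≫ trunc F inj hP N) ≫ σ F inj hP N) ≫ ι N := by rw [hN]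
      _ = x' ≫ (trunc F inj hP N ≫ σ F inj hP N ≫ ι N) := by simp only [Category.assoc]
      _ = x' ≫ trunc F inj hP N ≫ g := by rw [h3]
      _ = x := by rw [← Category.assoc, hN, hx']
  · intro n y hy
    have h1 : (y ≫ inj ⟨n⟩) ≫ g = 0 := by
      rw [Category.assoc, hg, hy]
    obtain ⟨z, hz⟩ : ∃ z : K ⟶ P, y ≫ inj ⟨n⟩ = z ≫ φ F inj hP :=
      Triangle.coyoneda_exact₂ _ hT (y ≫ inj ⟨n⟩) h1
    obtain ⟨N, hN⟩ := hK0 z
    rw [Functor.id_map] at hN
    refine ⟨max n N, le_max_left _ _, ?_⟩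
    rw [← inj_σ_of_le F inj hP ⟨n⟩ (max n N) (le_max_left _ _), ← Category.assoc, hz,
      Category.assoc, φ_σ, ← hN, Category.assoc, trunc_comp F inj hP N _ (le_max_right _ _),
      comp_zero]

end Pretriangulated

end Groth.Agent.Lib.Helper68.Telescope
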