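import Groth.Agent.Lib.Helper68.DerCoprod

/-!
# Mapping telescopes of a `ℤ`-indexed tower of cochain complexes

Given cochain complexes `I k` (`k : ℤ`) with chain maps `τ k : I (k+1) ⟶ I k`, we construct
the telescope `T = cone (1 - τ : ∐ I k ⟶ ∐ I k)` and the sub-telescopes
`Tel i = cone (1 - τ : ∐_{k ≥ i+1} I k ⟶ ∐_{k ≥ i} I k)`, which are subcomplexes of `T`,
decreasing in `i`, with `I i ⟶ Tel i` a quasi-isomorphism.
-/

open CategoryTheory Limits CochainComplex HomComplex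

namespace Groth.Agent.Lib.Helper68.Telescope

open Groth.Agent.Lib.Helper68.DerCoprod

universe w v u

variable {A : Type u} [Category.{v} A] [Abelian A]

section HomExt

variable {J : Type w} [HasColimitsOfShape (Discrete J) A]
  {ι : Type*} {c : ComplexShape ι}

set_option backward.isDefEq.respectTransparency false in
lemma hom_extC {K : J → HomologicalComplex A c} {Y : HomologicalComplex A c}
    {f g : sigmaC K ⟶ Y} (h : ∀ j, ιC K j ≫ f = ιC K j ≫ g) : f = g := by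
  ext n
  apply colimit.hom_ext
  rintro ⟨j⟩
  have := congrArg (fun φ => φ.f n) (h j)
  simpa [ιC] using this

end HomExt

variable [HasCoproducts.{0} A]

variable (I : ℤ → CochainComplex A ℤ) (τ : ∀ k, I (k + 1) ⟶ I k)

/-- the transition map, with the relation between the indices as a hypothesis -/
def τ₂ (k k' : ℤ) (h : k' + 1 = k) : I k ⟶ I k' := by
  subst h
  exact τ k'

/-- `1 - τ` on the whole coproduct -/
noncomputable def σ : sigmaC I ⟶ sigmaC I :=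
  descC (fun k => ιC I k - τ₂ I τ k (k - 1) (by omega) ≫ ιC I (k - 1))

lemma ι_σ (k k' : ℤ) (h : k' + 1 = k) :
    ιC I k ≫ σ I τ = ιC I k - τ₂ I τ k k' h ≫ ιC I k' := by
  obtain rfl : k' = k - 1 := by omega
  simp [σ]

/-- the family `I k`, `k ≥ i` -/
abbrev Ige (i : ℤ) : {k : ℤ // i ≤ k} → CochainComplex A ℤ := fun k => I k.1

/-- inclusion of the partial coproduct in the whole coproduct -/
noncomputable def inclP (i : ℤ) : sigmaC (Ige I i) ⟶ sigmaC I :=
  descC (fun k => ιC I k.1)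

@[reassoc (attr := simp)]
lemma ι_inclP (i : ℤ) (k : {k : ℤ // i ≤ k}) :
    ιC (Ige I i) k ≫ inclP I i = ιC I k.1 := by
  simp [inclP]

/-- the retraction of `inclP` -/
noncomputable def retrP (i : ℤ) : sigmaC I ⟶ sigmaC (Ige I i) :=
  descC (fun k => if h : i ≤ k then ιC (Ige I i) ⟨k, h⟩ else 0)

@[reassoc (attr := simp)]
lemma inclP_retrP (i : ℤ) : inclP I i ≫ retrP I i = 𝟙 _ := by
  apply hom_extC
  rintro ⟨k, hk⟩
  simp [retrP, dif_pos hk]

instance (i : ℤ) : Mono (inclP I i) := mono_of_mono_fac (inclP_retrP I i)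

/-- inclusions between partial coproducts -/
noncomputable def incl (i j : ℤ) (h : i ≤ j) : sigmaC (Ige I j) ⟶ sigmaC (Ige I i) :=
  descC (fun k => ιC (Ige I i) ⟨k.1, h.trans k.2⟩)

@[reassoc (attr := simp)]
lemma ι_incl (i j : ℤ) (h : i ≤ j) (k : {k : ℤ // j ≤ k}) :
    ιC (Ige I j) k ≫ incl I i j h = ιC (Ige I i) ⟨k.1, h.trans k.2⟩ := by
  simp [incl]

@[reassoc (attr := simp)]
lemma incl_inclP (i j : ℤ) (h : i ≤ j) : incl I i j h ≫ inclP I i = inclP I j := by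
  apply hom_extC
  rintro ⟨k, hk⟩
  simp

/-- `1 - τ` on the partial coproducts -/
noncomputable def σi (i : ℤ) : sigmaC (Ige I (i + 1)) ⟶ sigmaC (Ige I i) :=
  descC (fun k => ιC (Ige I i) ⟨k.1, by have := k.2; omega⟩ -
    τ₂ I τ k.1 (k.1 - 1) (by omega) ≫ ιC (Ige I i) ⟨k.1 - 1, by have := k.2; omega⟩)

lemma ι_σi (i k k' : ℤ) (hk : i + 1 ≤ k) (h : k' + 1 = k) :
    ιC (Ige I (i + 1)) ⟨k, hk⟩ ≫ σi I τ i =
      ιC (Ige I i) ⟨k, by omega⟩ - τ₂ I τ k k' h ≫ ιC (Ige I i) ⟨k', by omega⟩ := by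
  obtain rfl : k' = k - 1 := by omega
  simp [σi]

lemma σi_inclP (i : ℤ) : σi I τ i ≫ inclP I i = inclP I (i + 1) ≫ σ I τ := by
  apply hom_extC
  rintro ⟨k, hk⟩
  rw [reassoc_of% (ι_σi I τ i k (k - 1) hk (by omega)), ι_inclP_assoc,
    ι_σ I τ k (k - 1) (by omega)]
  simp

lemma σi_incl (i : ℤ) :
    σi I τ (i + 1) ≫ incl I i (i + 1) (by omega) =
      incl I (i + 1) (i + 1 + 1) (by omega) ≫ σi I τ i := by
  apply hom_extC
  rintro ⟨k, hk⟩
  rw [reassoc_of% (ι_σi I τ (i + 1) k (k - 1) hk (by omega)), ι_incl_assoc,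
    ι_σi I τ i k (k - 1) (by omega) (by omega)]
  simp

/-! ### The splitting -/

/-- composite transition maps `I k ⟶ I i` for `k = i + n` -/
noncomputable def pk (i : ℤ) : ∀ (n : ℕ) (k : ℤ), k = i + n → (I k ⟶ I i)
  | 0, k, hk => eqToHom (by rw [hk]; simp)
  | n + 1, k, hk => τ₂ I τ k (k - 1) (by omega) ≫ pk i n (k - 1) (by push_cast at hk; omega)

/-- the components of the retraction of `σi` -/
noncomputable def rk (i : ℤ) : ∀ (n : ℕ) (k : ℤ), k = i + n → (I k ⟶ sigmaC (Ige I (i + 1)))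
  | 0, _, _ => 0
  | n + 1, k, hk => ιC (Ige I (i + 1)) ⟨k, by push_cast at hk; omega⟩ +
      τ₂ I τ k (k - 1) (by omega) ≫ rk i n (k - 1) (by push_cast at hk; omega)

lemma pk_congr (i : ℤ) (n n' : ℕ) (h : n = n') (k : ℤ) (hk : k = i + n) (hk' : k = i + n') :
    pk I τ i n k hk = pk I τ i n' k hk' := by
  subst h
  rfl

lemma rk_congr (i : ℤ) (n n' : ℕ) (h : n = n') (k : ℤ) (hk : k = i + n) (hk' : k = i + n') :
    rk I τ i n k hk = rk I τ i n' k hk' := by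
  subst h
  rfl

/-- the projection `∐_{k ≥ i} I k ⟶ I i` -/
noncomputable def p (i : ℤ) : sigmaC (Ige I i) ⟶ I i :=
  descC (fun k => pk I τ i (k.1 - i).toNat k.1 (by have := k.2; omega))

/-- the retraction of `σi` -/
noncomputable def r (i : ℤ) : sigmaC (Ige I i) ⟶ sigmaC (Ige I (i + 1)) :=
  descC (fun k => rk I τ i (k.1 - i).toNat k.1 (by have := k.2; omega))

lemma ι_p (i k : ℤ) (n : ℕ) (hk : k = i + n) :
    ιC (Ige I i) ⟨k, by omega⟩ ≫ p I τ i = pk I τ i n k hk := by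
  simp only [p, ιC_descC]
  exact pk_congr I τ i _ _ (by omega) _ _ _

lemma ι_r (i k : ℤ) (n : ℕ) (hk : k = i + n) :
    ιC (Ige I i) ⟨k, by omega⟩ ≫ r I τ i = rk I τ i n k hk := by
  simp only [r, ιC_descC]
  exact rk_congr I τ i _ _ (by omega) _ _ _

@[reassoc (attr := simp)]
lemma ι_p_self (i : ℤ) : ιC (Ige I i) ⟨i, le_refl i⟩ ≫ p I τ i = 𝟙 _ := by
  rw [ι_p I τ i i 0 (by simp)]
  simp [pk]

@[reassoc (attr := simp)]
lemma σi_r (i : ℤ) : σi I τ i ≫ r I τ i = 𝟙 _ := by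
  apply hom_extC
  rintro ⟨k, hk⟩
  obtain ⟨n, hn⟩ : ∃ n : ℕ, k = i + (n + 1 : ℕ) := ⟨(k - i - 1).toNat, by push_cast; omega⟩
  rw [reassoc_of% (ι_σi I τ i k (k - 1) hk (by omega)), Preadditive.sub_comp, Category.assoc,
    ι_r I τ i k (n + 1) hn, ι_r I τ i (k - 1) n (by push_cast at hn; omega)]
  simp [rk]

@[reassoc (attr := simp)]
lemma σi_p (i : ℤ) : σi I τ i ≫ p I τ i = 0 := by
  apply hom_extC
  rintro ⟨k, hk⟩
  obtain ⟨n, hn⟩ : ∃ n : ℕ, k = i + (n + 1 : ℕ) := ⟨(k - i - 1).toNat, by push_cast; omega⟩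
  rw [reassoc_of% (ι_σi I τ i k (k - 1) hk (by omega)), Preadditive.sub_comp, Category.assoc,
    ι_p I τ i k (n + 1) hn, ι_p I τ i (k - 1) n (by push_cast at hn; omega)]
  simp [pk]

lemma rk_σi_add (i : ℤ) : ∀ (n : ℕ) (k : ℤ) (hk : k = i + n),
    rk I τ i n k hk ≫ σi I τ i + pk I τ i n k hk ≫ ιC (Ige I i) ⟨i, le_refl i⟩ =
      ιC (Ige I i) ⟨k, by omega⟩
  | 0, k, hk => by
      obtain rfl : k = i := by simpa using hk
      simp [rk, pk]
  | n + 1, k, hk => by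
      have ih := rk_σi_add i n (k - 1) (by push_cast at hk; omega)
      simp only [rk, pk, Preadditive.add_comp, Category.assoc]
      rw [ι_σi I τ i k (k - 1) (by push_cast at hk; omega) (by omega)]
      rw [add_assoc, ← Preadditive.comp_add, ih]
      simp

lemma r_σi_add (i : ℤ) :
    r I τ i ≫ σi I τ i + p I τ i ≫ ιC (Ige I i) ⟨i, le_refl i⟩ = 𝟙 _ := by
  apply hom_extC
  rintro ⟨k, hk⟩
  obtain ⟨n, hn⟩ : ∃ n : ℕ, k = i + (n : ℕ) := ⟨(k - i).toNat, by omega⟩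
  rw [Preadditive.comp_add, ← Category.assoc, ← Category.assoc, ι_r I τ i k n hn,
    ι_p I τ i k n hn, rk_σi_add I τ i n k hn]
  simp

end Groth.Agent.Lib.Helper68.Telescope
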