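import Groth.Agent.Lib.Helper68.Telescope1

/-!
# Mapping telescopes, part 2: the telescopes as subcomplexes
-/

open CategoryTheory Limits CochainComplex HomComplex

namespace Groth.Agent.Lib.Helper68.Telescope

open Groth.Agent.Lib.Helper68.DerCoprod

universe v u

variable {A : Type u} [Category.{v} A] [Abelian A]

section MonoMap

variable {F₁ G₁ F₂ G₂ : CochainComplex A ℤ} (φ₁ : F₁ ⟶ G₁) (φ₂ : F₂ ⟶ G₂)
  (a : F₁ ⟶ F₂) (b : G₁ ⟶ G₂) (comm : φ₁ ≫ b = a ≫ φ₂)

lemma map_f_fst_v (n m : ℤ) (h : n + 1 = m) :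
    (mappingCone.map φ₁ φ₂ a b comm).f n ≫ (mappingCone.fst φ₂).1.v n m h =
      (mappingCone.fst φ₁).1.v n m h ≫ a.f m := by
  subst h
  simp [mappingCone.ext_from_iff _ (n + 1) n rfl, mappingCone.map]

lemma map_f_snd_v (n : ℤ) :
    (mappingCone.map φ₁ φ₂ a b comm).f n ≫ (mappingCone.snd φ₂).v n n (add_zero n) =
      (mappingCone.snd φ₁).v n n (add_zero n) ≫ b.f n := by
  simp [mappingCone.ext_from_iff _ (n + 1) n rfl, mappingCone.map]

lemma mono_map [Mono a] [Mono b] : Mono (mappingCone.map φ₁ φ₂ a b comm) := by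
  apply HomologicalComplex.mono_of_mono_f
  intro n
  constructor
  intro Z x y hxy
  rw [mappingCone.ext_to_iff _ n (n + 1) rfl]
  constructor
  · have := congrArg (fun t => t ≫ (mappingCone.fst φ₂).1.v n (n + 1) rfl) hxy
    simp only [Category.assoc, map_f_fst_v] at this
    rw [← Category.assoc, ← Category.assoc] at this
    exact (cancel_mono _).1 this
  · have := congrArg (fun t => t ≫ (mappingCone.snd φ₂).v n n (add_zero n)) hxy
    simp only [Category.assoc, map_f_snd_v] at this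
    rw [← Category.assoc, ← Category.assoc] at this
    exact (cancel_mono _).1 this

instance (φ : F₁ ⟶ G₁) : Mono (mappingCone.inr φ) := by
  apply HomologicalComplex.mono_of_mono_f
  intro n
  exact mono_of_mono_fac (mappingCone.inr_f_snd_v φ n)

end MonoMap

variable [HasCoproducts.{0} A]

variable (I : ℤ → CochainComplex A ℤ) (τ : ∀ k, I (k + 1) ⟶ I k)

/-- the full telescope -/
noncomputable abbrev T : CochainComplex A ℤ := mappingCone (σ I τ)

/-- the partial telescope, which is quasi-isomorphic to `I i` -/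
noncomputable abbrev Tel (i : ℤ) : CochainComplex A ℤ := mappingCone (σi I τ i)

/-- the inclusion of the partial telescope in the full telescope -/
noncomputable def telT (i : ℤ) : Tel I τ i ⟶ T I τ :=
  mappingCone.map _ _ (inclP I (i + 1)) (inclP I i) (σi_inclP I τ i)

/-- the inclusions between the partial telescopes -/
noncomputable def telLE (i : ℤ) : Tel I τ (i + 1) ⟶ Tel I τ i :=
  mappingCone.map _ _ (incl I (i + 1) (i + 1 + 1) (by omega)) (incl I i (i + 1) (by omega))
    (σi_incl I τ i)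

instance (i : ℤ) : Mono (telT I τ i) := mono_map _ _ _ _ _

@[reassoc (attr := simp)]
lemma telLE_telT (i : ℤ) : telLE I τ i ≫ telT I τ i = telT I τ (i + 1) := by
  dsimp only [telLE, telT]
  rw [← mappingCone.map_comp]
  congr 1 <;> simp

/-- the map from `I i` to the partial telescope -/
noncomputable def uT (i : ℤ) : I i ⟶ Tel I τ i :=
  ιC (Ige I i) ⟨i, le_refl i⟩ ≫ mappingCone.inr _

/-- the split short exact sequence `0 ⟶ ∐_{k > i} I k ⟶ ∐_{k ≥ i} I k ⟶ I i ⟶ 0` -/
noncomputable def telSC (i : ℤ) : ShortComplex (CochainComplex A ℤ) :=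
  ShortComplex.mk (σi I τ i) (p I τ i) (σi_p I τ i)

/-- the splitting of `telSC` -/
noncomputable def telSplitting (i : ℤ) : (telSC I τ i).Splitting where
  r := r I τ i
  s := ιC (Ige I i) ⟨i, le_refl i⟩
  f_r := σi_r I τ i
  s_g := ι_p_self I τ i
  id := r_σi_add I τ i

lemma uT_desc (i : ℤ) :
    uT I τ i ≫ (mappingCone.descShortComplex (telSC I τ i) : Tel I τ i ⟶ I i) = 𝟙 _ :=
  (Category.assoc _ _ _).trans ((congrArg (fun t => ιC (Ige I i) ⟨i, le_refl i⟩ ≫ t)
    (mappingCone.inr_descShortComplex (telSC I τ i))).trans (ι_p_self I τ i))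

instance quasiIso_uT (i : ℤ) : QuasiIso (uT I τ i) := by
  have h1 : QuasiIso (mappingCone.descShortComplex (telSC I τ i) : Tel I τ i ⟶ I i) :=
    mappingCone.quasiIso_descShortComplex (telSplitting I τ i).shortExact
  have h2 : QuasiIso (uT I τ i ≫
      (mappingCone.descShortComplex (telSC I τ i) : Tel I τ i ⟶ I i)) := by
    rw [uT_desc]
    exact @quasiIso_of_isIso _ _ _ _ _ _ _ _ (IsIso.id _) _ _
  exact @quasiIso_of_comp_right _ _ _ _ _ _ _ _ (uT I τ i)
    (mappingCone.descShortComplex (telSC I τ i) : Tel I τ i ⟶ I i) _ _ _ h1 h2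

/-- `uT` is compatible with the transition maps up to homotopy -/
noncomputable def uT_homotopy (i : ℤ) :
    Homotopy (uT I τ (i + 1) ≫ telLE I τ i) (τ i ≫ uT I τ i) := by
  have h0 : Homotopy (σi I τ i ≫ mappingCone.inr (σi I τ i)) 0 :=
    HomologicalComplex.homotopyCofiber.inrCompHomotopy (σi I τ i) (fun j => ⟨j - 1, by simp⟩)
  have h1 := h0.compLeft (ιC (Ige I (i + 1)) ⟨i + 1, le_refl _⟩)
  have e : ιC (Ige I (i + 1)) ⟨i + 1, le_refl _⟩ ≫ σi I τ i ≫ mappingCone.inr (σi I τ i) =
      uT I τ (i + 1) ≫ telLE I τ i - τ i ≫ uT I τ i := by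
    rw [reassoc_of% (ι_σi I τ i (i + 1) i (le_refl _) rfl)]
    simp [uT, telLE, τ₂, mappingCone.map]
  have h2 : Homotopy (uT I τ (i + 1) ≫ telLE I τ i - τ i ≫ uT I τ i) 0 :=
    (Homotopy.ofEq e.symm).trans (h1.trans (Homotopy.ofEq (by simp)))
  exact (Homotopy.ofEq (by simp)).trans
    ((h2.add (Homotopy.refl (τ i ≫ uT I τ i))).trans (Homotopy.ofEq (by simp)))

end Groth.Agent.Lib.Helper68.Telescope
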