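import Groth.Agent.Lib.Helper68.Telescope2

/-!
# Mapping telescopes, part 3: strictification of a homotopy-commutative cocone
-/

open CategoryTheory Limits CochainComplex HomComplex

namespace Groth.Agent.Lib.Helper68.Telescope

open Groth.Agent.Lib.Helper68.DerCoprod

universe v u

variable {A : Type u} [Category.{v} A] [Abelian A]

section Contractible

variable (X Y : CochainComplex A ℤ)

/-- the cone of the identity is contractible -/
noncomputable def coneIdHomotopy : Homotopy (𝟙 (mappingCone (𝟙 X))) 0 :=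
  mappingCone.liftHomotopy _ _ _ (mappingCone.snd _) 0 (by simp) (by simp)

/-- the first projection `Y ⊞ cone (𝟙 X) ⟶ Y` is a homotopy equivalence -/
noncomputable def fstHomotopyEquiv : HomotopyEquiv (Y ⊞ mappingCone (𝟙 X)) Y where
  hom := biprod.fst
  inv := biprod.inl
  homotopyHomInvId :=
    let h₁ := ((coneIdHomotopy X).compRight
      (biprod.inr : _ ⟶ Y ⊞ mappingCone (𝟙 X))).compLeft
        (biprod.snd : Y ⊞ mappingCone (𝟙 X) ⟶ _)
    let h₂ := Homotopy.add (Homotopy.refl (biprod.fst ≫ biprod.inl)) h₁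
    (Homotopy.ofEq (by simp)).trans (h₂.symm.trans (Homotopy.ofEq (by simp)))
  homotopyInvHomId := Homotopy.ofEq (by simp)

instance : QuasiIso (biprod.fst : Y ⊞ mappingCone (𝟙 X) ⟶ Y) :=
  (fstHomotopyEquiv X Y).quasiIso_hom

end Contractible

variable [HasCoproducts.{0} A]

variable (I : ℤ → CochainComplex A ℤ) (τ : ∀ k, I (k + 1) ⟶ I k)
  (I0 : CochainComplex A ℤ) (α : ∀ k, I k ⟶ I0) (hh : ∀ k, Homotopy (τ k ≫ α k) (α (k + 1)))

/-- the homotopies, with the relation between the indices as a hypothesis -/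
def h₂ (k k' : ℤ) (h : k' + 1 = k) : Homotopy (τ₂ I τ k k' h ≫ α k') (α k) := by
  subst h
  exact hh k'

/-- the map from the coproduct to `I0` -/
noncomputable def β : sigmaC I ⟶ I0 := descC α

/-- `(1 - τ) ≫ β` is null-homotopic -/
noncomputable def σβHomotopy : Homotopy (σ I τ ≫ β I I0 α) 0 :=
  homotopyC _ _ (fun k =>
    (Homotopy.ofEq (by
      rw [reassoc_of% (ι_σ I τ k (k - 1) (by omega))]
      simp [β])).trans
    ((Homotopy.equivSubZero (h₂ I τ I0 α hh k (k - 1) (by omega)).symm).trans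
      (Homotopy.ofEq (by simp))))

/-- the map from the telescope to `I0` -/
noncomputable def D : T I τ ⟶ I0 :=
  mappingCone.desc (σ I τ) (Cochain.equivHomotopy _ _ (σβHomotopy I τ I0 α hh)).1 (β I I0 α) (by
    have := (Cochain.equivHomotopy _ _ (σβHomotopy I τ I0 α hh)).2
    simpa using this.symm)

@[reassoc (attr := simp)]
lemma inr_D : mappingCone.inr (σ I τ) ≫ D I τ I0 α hh = β I I0 α := by
  simp [D]

/-- the filtered complex -/
noncomputable abbrev KK : CochainComplex A ℤ := I0 ⊞ mappingCone (𝟙 (T I τ))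

/-- the inclusion of the telescope in `KK` -/
noncomputable def mK : T I τ ⟶ KK I τ I0 :=
  biprod.lift (D I τ I0 α hh) (mappingCone.inr (𝟙 (T I τ)))

instance : Mono (mK I τ I0 α hh) :=
  mono_of_mono_fac (show mK I τ I0 α hh ≫ biprod.snd = mappingCone.inr (𝟙 (T I τ)) by simp [mK])

/-- the inclusion of the partial telescope in `KK` -/
noncomputable def mi (i : ℤ) : Tel I τ i ⟶ KK I τ I0 := telT I τ i ≫ mK I τ I0 α hh

instance (i : ℤ) : Mono (mi I τ I0 α hh i) := by
  dsimp only [mi]
  infer_instance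

@[reassoc (attr := simp)]
lemma telLE_mi (i : ℤ) : telLE I τ i ≫ mi I τ I0 α hh i = mi I τ I0 α hh (i + 1) := by
  simp [mi]

lemma uT_mi_fst (i : ℤ) :
    uT I τ i ≫ mi I τ I0 α hh i ≫ (biprod.fst : KK I τ I0 ⟶ I0) = α i := by
  simp [uT, mi, mK, telT, mappingCone.map, β]

end Groth.Agent.Lib.Helper68.Telescope
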