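import Groth.Agent.Lib.Helper68.Telescope

set_option autoImplicit false
open CategoryTheory Limits

namespace Groth.Agent.Lib.Helper68.Telescope

universe w v u

section Coker

variable {𝒜 : Type u} [Category.{v} 𝒜] [Preadditive 𝒜] (M : ℕ ⥤ 𝒜) (c : Cocone M)
  (hc : IsColimit c)
  {P : 𝒜} (inj : ∀ j : ULift.{w} ℕ, M.obj j.down ⟶ P) (hP : IsColimit (Cofan.mk P inj))

/-- the canonical map from the coproduct to the colimit -/
noncomputable def g : P ⟶ c.pt := Cofan.IsColimit.desc hP (fun j => c.ι.app j.down)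

lemma inj_g (j : ULift.{w} ℕ) : inj j ≫ g M c inj hP = c.ι.app j.down :=
  Cofan.IsColimit.fac hP _ j

lemma φ_g : φ M inj hP ≫ g M c inj hP = 0 := by
  apply hom_ext' M inj hP
  intro j
  rw [← Category.assoc, inj_φ, Preadditive.sub_comp, Category.assoc, inj_g, inj_g, comp_zero,
    sub_eq_zero]
  exact (c.w _).symm

lemma inj_comp_eq_of_φ_comp_eq_zero {X : 𝒜} (h : P ⟶ X) (hh : φ M inj hP ≫ h = 0) (n : ℕ) :
    tr M n ≫ inj ⟨n + 1⟩ ≫ h = inj ⟨n⟩ ≫ h := by
  have := inj ⟨n⟩ ≫= hh
  rw [← Category.assoc, inj_φ, Preadditive.sub_comp, comp_zero, sub_eq_zero, Category.assoc] at this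
  exact this.symm

/-- the cocone attached to a morphism killing `1 - shift` -/
noncomputable abbrev coconeOf {X : 𝒜} (h : P ⟶ X) (hh : φ M inj hP ≫ h = 0) : Cocone M where
  pt := X
  ι := NatTrans.ofSequence (fun n => inj ⟨n⟩ ≫ h) (fun n => by
    dsimp
    rw [Category.comp_id]
    exact inj_comp_eq_of_φ_comp_eq_zero M inj hP h hh n)

/-- the colimit of a sequence is the cokernel of `1 - shift` -/
noncomputable def gIsCokernel :
    IsColimit (CokernelCofork.ofπ (g M c inj hP) (φ_g M c inj hP)) :=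
  CokernelCofork.IsColimit.ofπ _ _
    (fun h hh => hc.desc (coconeOf M inj hP h hh))
    (fun h hh => by
      apply hom_ext' M inj hP
      intro j
      rw [← Category.assoc, inj_g, hc.fac]
      rfl)
    (fun h hh b hb => by
      apply hc.hom_ext
      intro n
      rw [hc.fac]
      change _ = inj ⟨n⟩ ≫ h
      rw [← hb, ← Category.assoc, inj_g])

end Coker

section ModuleCat

open DirectSum

variable {R : Type u} [Ring R] (M : ℕ ⥤ ModuleCat.{v} R)

/-- inclusions of the concrete coproduct -/
noncomputable def injc (j : ULift.{w} ℕ) : M.obj j.down ⟶ ModuleCat.of R (⨁ n : ℕ, M.obj n) :=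
  ModuleCat.ofHom (DirectSum.lof R ℕ (fun n => M.obj n) j.down)

/-- the concrete coproduct cofan -/
noncomputable abbrev concCofan : Cofan (fun j : ULift.{w} ℕ => M.obj j.down) :=
  Cofan.mk (ModuleCat.of R (⨁ n : ℕ, M.obj n)) (injc.{w} M)

/-- the concrete coproduct cofan is a colimit -/
noncomputable def concIsColimit : IsColimit (concCofan.{w} M) :=
  Cofan.IsColimit.mk _
    (fun s => ModuleCat.ofHom (DirectSum.toModule R ℕ _ (fun n => (s.inj ⟨n⟩).hom)))
    (fun s j => by
      ext x
      exact DirectSum.toModule_lof (M := fun n => M.obj n) (N := s.pt) R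
        (φ := fun n => (s.inj ⟨n⟩).hom) j.down x)
    (fun s m hm => by
      ext : 1
      refine DirectSum.linearMap_ext _ fun n => ?_
      ext x
      have := congr($(hm ⟨n⟩) x)
      refine this.trans ?_
      exact (DirectSum.toModule_lof (M := fun n => M.obj n) (N := s.pt) R
        (φ := fun n => (s.inj ⟨n⟩).hom) n x).symm)

lemma comp_conc (m : ℕ) :
    comp M (injc.{w} M) (concIsColimit M) m =
      ModuleCat.ofHom (DirectSum.component R ℕ (fun n => M.obj n) m) := by
  apply hom_ext' M (injc.{w} M) (concIsColimit M)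
  rintro ⟨j⟩
  by_cases hj : j = m
  · subst hj
    rw [inj_comp_self]
    ext x
    exact (DirectSum.component.lof_self (M := fun n => M.obj n) R j x).symm
  · rw [inj_comp_of_ne M (injc.{w} M) (concIsColimit M) ⟨j⟩ m hj]
    ext x
    refine Eq.symm ((DirectSum.component.of (M := fun n => M.obj n) R m j x).trans ?_)
    rw [dif_neg hj]
    rfl

lemma eq_zero_of_comp_conc (x : ⨁ n : ℕ, M.obj n)
    (h : ∀ m, (comp M (injc.{w} M) (concIsColimit M) m).hom x = 0) : x = 0 := by
  apply DirectSum.ext_component R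
  intro m
  have := h m
  rw [comp_conc] at this
  rw [map_zero]
  exact this

variable {P : ModuleCat.{v} R} (inj : ∀ j : ULift.{w} ℕ, M.obj j.down ⟶ P)
  (hP : IsColimit (Cofan.mk P inj))

include hP in
lemma eq_zero_of_comp (x : P) (h : ∀ m, (comp M inj hP m).hom x = 0) : x = 0 := by
  let e : P ≅ ModuleCat.of R (⨁ n : ℕ, M.obj n) :=
    hP.coconePointUniqueUpToIso (concIsColimit.{w} M)
  have he : ∀ j, inj j ≫ e.hom = injc.{w} M j :=
    fun j => hP.comp_coconePointUniqueUpToIso_hom (concIsColimit.{w} M) ⟨j⟩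
  have hc : ∀ m, comp M inj hP m = e.hom ≫ comp M (injc.{w} M) (concIsColimit M) m := by
    intro m
    apply hom_ext' M inj hP
    intro j
    rw [← Category.assoc, he]
    by_cases hj : j.down = m
    · subst hj
      rw [inj_comp_self M inj hP, inj_comp_self M (injc.{w} M) (concIsColimit M)]
    · rw [inj_comp_of_ne M inj hP j m hj, inj_comp_of_ne M (injc.{w} M) (concIsColimit M) j m hj]
  have h1 : e.hom.hom x = 0 := by
    apply eq_zero_of_comp_conc.{w} M
    intro m
    have := h m
    rw [hc] at this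
    exact this
  have h2 : e.inv.hom (e.hom.hom x) = x := by
    rw [← ModuleCat.comp_apply, e.hom_inv_id]
    rfl
  rw [← h2, h1, map_zero]

lemma mono_φ : Mono (φ M inj hP) := by
  rw [ModuleCat.mono_iff_injective, injective_iff_map_eq_zero]
  intro x hx
  apply eq_zero_of_comp M inj hP
  intro m
  rw [← φ_σ, ModuleCat.comp_apply]
  erw [hx]
  rw [map_zero]

end ModuleCat

end Groth.Agent.Lib.Helper68.Telescope
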