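import Groth.Agent.Lib.Helper68.TelescopeA2
import Groth.Agent.Lib.Helper68.DerCoprod
import Groth.Prelude.Def_DRing2

set_option autoImplicit false
open CategoryTheory Limits

attribute [local instance] HasDerivedCategory.standard

namespace Groth.Agent.Lib.Helper68.Telescope

universe u

open DerCoprod DerivedCategory

variable {R : Type u} [CommRing R]

/-- the index type -/
abbrev JJ := ULift.{u + 1} ℕ

instance : HasColimitsOfShape (Discrete JJ.{u}) (ModuleCat.{u} R) :=
  hasColimitsOfShape_of_equivalence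
    (Discrete.equivalence (Equiv.ulift.{u, 0}.trans Equiv.ulift.{u + 1, 0}.symm))

instance : HasExactColimitsOfShape (Discrete JJ.{u}) (ModuleCat.{u} R) :=
  HasExactColimitsOfShape.of_domain_equivalence _
    (Discrete.equivalence (Equiv.ulift.{u, 0}.trans Equiv.ulift.{u + 1, 0}.symm))

variable (L : ℕ ⥤ DRing.Cx R) (c : Cocone L) (hc : IsColimit c)

/-- the family of complexes -/
abbrev fam' : JJ.{u} → CochainComplex (ModuleCat.{u} R) ℤ := fun j => L.obj j.down

/-- `1 - shift` on the coproduct of complexes -/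
noncomputable def φC : sigmaC (fam' L) ⟶ sigmaC (fam' L) :=
  descC (fun j => ιC (fam' L) j - L.map (homOfLE (Nat.le_succ j.down)) ≫ ιC (fam' L) ⟨j.down + 1⟩)

/-- the map to the colimit -/
noncomputable def gC : sigmaC (fam' L) ⟶ c.pt :=
  descC (fun j => c.ι.app j.down)

/-- the degree `i` diagram -/
abbrev Mi (i : ℤ) : ℕ ⥤ ModuleCat.{u} R := L ⋙ HomologicalComplex.eval _ _ i

/-- the degree `i` inclusions -/
noncomputable abbrev inji (i : ℤ) (j : JJ.{u}) : (Mi L i).obj j.down ⟶ (sigmaC (fam' L)).X i :=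
  (ιC (fam' L) j).f i

/-- the degree `i` cofan is a colimit -/
noncomputable def hPi (i : ℤ) : IsColimit (Cofan.mk _ (inji L i)) :=
  IsColimit.ofIsoColimit (colimit.isColimit (Discrete.functor (fun j : JJ.{u} => (L.obj j.down).X i)))
    (Cocone.ext (Iso.refl _) (by rintro ⟨j⟩; exact Category.comp_id _))

lemma φC_f (i : ℤ) : (φC L).f i = φ (Mi L i) (inji L i) (hPi L i) := by
  apply hom_ext' (Mi L i) (inji L i) (hPi L i)
  intro j
  rw [inj_φ]
  have := congrArg (fun k => k.f i) (ιC_descC (fun j : JJ.{u} =>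
    ιC (fam' L) j - L.map (homOfLE (Nat.le_succ j.down)) ≫ ιC (fam' L) ⟨j.down + 1⟩) j)
  exact this

/-- the degree `i` map to the colimit -/
noncomputable def gi (i : ℤ) : (sigmaC (fam' L)).X i ⟶ c.pt.X i :=
  g (Mi L i) ((HomologicalComplex.eval _ _ i).mapCocone c) (inji L i) (hPi L i)

lemma φ_gi (i : ℤ) : φ (Mi L i) (inji L i) (hPi L i) ≫ gi L c i = 0 :=
  φ_g (Mi L i) ((HomologicalComplex.eval _ _ i).mapCocone c) (inji L i) (hPi L i)

/-- `gi` is a cokernel of `φ` -/
noncomputable def giIsCokernel (hc : IsColimit c) (i : ℤ) :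
    IsColimit (CokernelCofork.ofπ (gi L c i) (φ_gi L c i)) :=
  gIsCokernel (Mi L i) ((HomologicalComplex.eval _ _ i).mapCocone c)
    (isColimitOfPreserves (HomologicalComplex.eval (ModuleCat.{u} R) (ComplexShape.up ℤ) i) hc)
    (inji L i) (hPi L i)

lemma gC_f (i : ℤ) : (gC L c).f i = gi L c i := by
  apply hom_ext' (Mi L i) (inji L i) (hPi L i)
  intro j
  refine Eq.trans ?_ (inj_g (Mi L i) ((HomologicalComplex.eval _ _ i).mapCocone c)
    (inji L i) (hPi L i) j).symm
  exact congrArg (fun k => k.f i) (ιC_descC (fun j : JJ.{u} => c.ι.app j.down) j)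

lemma φC_gC : φC L ≫ gC L c = 0 := by
  ext i : 1
  rw [HomologicalComplex.comp_f, φC_f, gC_f, φ_gi]
  rfl

/-- the telescope short complex -/
noncomputable abbrev SC : ShortComplex (CochainComplex (ModuleCat.{u} R) ℤ) :=
  ShortComplex.mk (φC L) (gC L c) (φC_gC L c)

include hc in
lemma SC_shortExact : (SC L c).ShortExact := by
  apply HomologicalComplex.shortExact_of_degreewise_shortExact
  intro i
  let Si : ShortComplex (ModuleCat.{u} R) :=
    ShortComplex.mk (φ (Mi L i) (inji L i) (hPi L i)) (gi L c i) (φ_gi L c i)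
  have hSi : Si.Exact := ShortComplex.exact_of_g_is_cokernel _ (giIsCokernel L c hc i)
  have e : (SC L c).map (HomologicalComplex.eval _ _ i) ≅ Si :=
    ShortComplex.isoMk (Iso.refl _) (Iso.refl _) (Iso.refl _)
      (by
        change (φC L).f i ≫ 𝟙 _ = 𝟙 _ ≫ φ (Mi L i) (inji L i) (hPi L i)
        rw [φC_f, Category.comp_id, Category.id_comp])
      (by
        change (gC L c).f i ≫ 𝟙 _ = 𝟙 _ ≫ gi L c i
        rw [gC_f, Category.comp_id, Category.id_comp])
  have hm : Mono ((SC L c).map (HomologicalComplex.eval _ _ i)).f := by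
    change Mono ((φC L).f i)
    rw [φC_f]
    exact mono_φ (Mi L i) (inji L i) (hPi L i)
  have he : Epi ((SC L c).map (HomologicalComplex.eval _ _ i)).g := by
    change Epi ((gC L c).f i)
    rw [gC_f]
    exact epi_of_isColimit_cofork (giIsCokernel L c hc i)
  exact ShortComplex.ShortExact.mk (ShortComplex.exact_of_iso e.symm hSi)

/-- the sequence in the derived category -/
noncomputable abbrev FD : ℕ ⥤ Dual.D R := L ⋙ Q

/-- inclusions into the coproduct in the derived category -/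
noncomputable abbrev injD (j : JJ.{u}) : (FD L).obj j.down ⟶ Q.obj (sigmaC (fam' L)) :=
  Q.map (ιC (fam' L) j)

/-- the coproduct in the derived category -/
noncomputable def hPD : IsColimit (Cofan.mk (Q.obj (sigmaC (fam' L))) (injD L)) :=
  isColimitCofan (fam' L)

lemma Q_map_φC : Q.map (φC L) = φ (FD L) (injD L) (hPD L) := by
  apply hom_ext' (FD L) (injD L) (hPD L)
  intro j
  rw [inj_φ]
  change Q.map (ιC (fam' L) j) ≫ Q.map (φC L) = _
  rw [← Q.map_comp, φC, ιC_descC, Functor.map_sub, Functor.map_comp]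
  rfl

include hc in
theorem main_DRing (K : Dual.D R)
    (hK : ∀ (E : ℕ → Dual.D R) [HasCoproduct fun i : ULift.{u + 1} ℕ => E i.down],
      Function.Bijective (CohDer.homSumToHomCoprod K (fun i : ULift.{u + 1} ℕ => E i.down))) :
    (∀ x : K ⟶ DRing.toD c.pt, ∃ (n : ℕ) (y : K ⟶ DRing.toD (L.obj n)),
        y ≫ DerivedCategory.Q.map (c.ι.app n) = x) ∧
      (∀ (n : ℕ) (y : K ⟶ DRing.toD (L.obj n)), y ≫ DerivedCategory.Q.map (c.ι.app n) = 0 →
        ∃ (m : ℕ) (h : n ≤ m), y ≫ DerivedCategory.Q.map (L.map (homOfLE h)) = 0) := by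
  have hS := SC_shortExact L c hc
  have hT := triangleOfSES_distinguished hS
  have hT' : Pretriangulated.Triangle.mk (φ (FD L) (injD L) (hPD L)) (Q.map (gC L c))
      (triangleOfSESδ hS) ∈ distTriang (Dual.D R) := by
    rw [← Q_map_φC]
    exact hT
  have hK0 : ∀ x : K ⟶ Q.obj (sigmaC (fam' L)), FS (FD L) (injD L) (hPD L) (𝟭 (Dual.D R)) x := by
    intro x
    have : HasCoproduct (fun j : JJ.{u} => (𝟭 (Dual.D R)).obj ((FD L).obj j.down)) :=
      ⟨⟨⟨_, hPD L⟩⟩⟩
    exact FS_of_surjective (FD L) (injD L) (hPD L) (𝟭 (Dual.D R)) (hPD L)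
      (hK (fun n => (𝟭 (Dual.D R)).obj ((FD L).obj n))).2 x
  have hPD1 : IsColimit (Cofan.mk ((shiftFunctor (Dual.D R) (1 : ℤ)).obj (Q.obj (sigmaC (fam' L))))
      (fun j => (shiftFunctor (Dual.D R) (1 : ℤ)).map (injD L j))) :=
    isColimitCofanMkObjOfIsColimit (shiftFunctor (Dual.D R) (1 : ℤ)) _ _ (hPD L)
  have hK1 : ∀ x : K ⟶ (shiftFunctor (Dual.D R) (1 : ℤ)).obj (Q.obj (sigmaC (fam' L))),
      FS (FD L) (injD L) (hPD L) (shiftFunctor (Dual.D R) (1 : ℤ)) x := by
    intro x
    have : HasCoproduct (fun j : JJ.{u} =>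
        (shiftFunctor (Dual.D R) (1 : ℤ)).obj ((FD L).obj j.down)) := ⟨⟨⟨_, hPD1⟩⟩⟩
    exact FS_of_surjective (FD L) (injD L) (hPD L) (shiftFunctor (Dual.D R) (1 : ℤ)) hPD1
      (hK (fun n => (shiftFunctor (Dual.D R) (1 : ℤ)).obj ((FD L).obj n))).2 x
  exact main (FD L) (injD L) (hPD L) (fun n => Q.map (c.ι.app n))
    (fun n m h => by
      change Q.map (L.map (homOfLE h)) ≫ Q.map (c.ι.app m) = _
      rw [← Q.map_comp, c.w])
    (Q.map (gC L c))
    (fun j => by
      change Q.map (ιC (fam' L) j) ≫ Q.map (gC L c) = _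
      rw [← Q.map_comp, gC, ιC_descC])
    (triangleOfSESδ hS) hT' hK0 hK1

end Groth.Agent.Lib.Helper68.Telescope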