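import Groth.Agent.Lib.Helper68.CanonTopos
import Groth.Agent.S6159
import Mathlib.CategoryTheory.Limits.Presheaf
import Mathlib.CategoryTheory.Sites.CoverPreserving
import Mathlib.CategoryTheory.Functor.Flat
import Mathlib.CategoryTheory.Adjunction.Restrict
import Mathlib.CategoryTheory.Sites.Localization

/-!
# Colimit preserving functors out of a sheaf topos are left adjoints (SGA 4 IV 1.5-1.8)
-/

set_option autoImplicit false
universe v' u' u
open CategoryTheory Limits Opposite

namespace Groth.Agent.Lib.Helper68

open Groth.Agent.Helper53.TF ToposFin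

variable {C : Type u} [SmallCategory C] {J : GrothendieckTopology C}

section Continuity

variable {D : Type u} [SmallCategory D] {K : GrothendieckTopology D} (f : Sh J ⥤ Sh K)

/-- A left exact functor between sheaf topoi which preserves small epimorphic families is
continuous for the canonical topologies. -/
theorem isContinuous_canonical_of_preservesEpiFamilies [PreservesFiniteLimits f]
    (hf : SGA4.PreservesEpiFamilies.{u + 1, u + 1, u} f) :
    f.IsContinuous (Sheaf.canonicalTopology (Sh J)) (Sheaf.canonicalTopology (Sh K)) := by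
  have : RepresentablyFlat f := flat_of_preservesFiniteLimits f
  rw [Functor.isContinuous_iff_coverPreserving]
  constructor
  intro X S hS
  have hJE := JE_of_mem_canonical hS
  have hJE' : JE (fun p : Σ U : C, {g : eps J U ⟶ X // S g} => f.map p.2.1) :=
    fun Z a b h => hf _ _ _ _ (fun Z a b h => hJE a b h) Z a b h
  refine (Sheaf.canonicalTopology (Sh K)).superset_covering ?_
    (ofArrows_mem_canonical_of_JE _ hJE')
  rw [Sieve.ofArrows, Sieve.generate_le_iff]
  rintro Y g ⟨p⟩
  exact ⟨_, p.2.1, 𝟙 _, p.2.2, (Category.id_comp _).symm⟩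

end Continuity

section Adjoint

variable {ℰ : Type u'} [Category.{u} ℰ] (f : Sh J ⥤ ℰ)

/-- The inclusion of a covering sieve is inverted by sheafification. -/
theorem isIso_sheafify_functorInclusion {U : C} (R : Sieve U) (hR : R ∈ J U) :
    IsIso ((presheafToSheaf J (Type u)).map R.functorInclusion) := by
  rw [← GrothendieckTopology.W_iff]
  intro Z hZ
  rw [Function.bijective_iff_existsUnique]
  exact Presieve.isSheafFor_iff_yonedaSheafCondition.mp
    ((isSheaf_iff_isSheaf_of_type J Z).mp hZ R hR)

/-- A functor from a sheaf topos on a small site to a cocomplete category which preserves small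
colimits is a left adjoint. -/
theorem isLeftAdjoint_of_preservesColimits [HasColimitsOfSize.{u, u} ℰ]
    [PreservesColimitsOfSize.{u, u} f] : f.IsLeftAdjoint := by
  have ha : PreservesColimitsOfSize.{u, u} (presheafToSheaf J (Type u)) :=
    (sheafificationAdjunction J (Type u)).leftAdjoint_preservesColimits
  let L : (Cᵒᵖ ⥤ Type u) ⥤ ℰ := presheafToSheaf J (Type u) ⋙ f
  have hL : PreservesColimitsOfSize.{u, u} L := inferInstance
  have hLa : L.IsLeftAdjoint := Presheaf.isLeftAdjoint_of_preservesColimits.{u} (C := Cᵒᵖ) L
  let R := L.rightAdjoint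
  let adj : L ⊣ R := Adjunction.ofIsLeftAdjoint L
  have hR : ∀ Y, Presheaf.IsSheaf J (R.obj Y) := by
    intro Y
    rw [isSheaf_iff_isSheaf_of_type]
    intro U S hS
    rw [Presieve.isSheafFor_iff_yonedaSheafCondition]
    have h1 := isIso_sheafify_functorInclusion S hS
    have hiso : IsIso (L.map S.functorInclusion) :=
      inferInstanceAs (IsIso (f.map ((presheafToSheaf J (Type u)).map S.functorInclusion)))
    have hb : Function.Bijective (fun (g : L.obj (yoneda.obj U) ⟶ Y) =>
        L.map S.functorInclusion ≫ g) :=
      Function.bijective_iff_has_inverse.2 ⟨fun g => inv (L.map S.functorInclusion) ≫ g,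
        fun g => by simp, fun g => by simp⟩
    exact (Function.bijective_iff_existsUnique _).mp
      ((adj.map_comp_bijective_iff S.functorInclusion Y).mp hb)
  let g : ℰ ⥤ Sh J := ObjectProperty.lift _ R hR
  have comm1 : sheafToPresheaf J (Type u) ⋙ L ≅ f ⋙ 𝟭 ℰ :=
    (Functor.associator _ _ _).symm ≪≫
      Functor.isoWhiskerRight (sheafificationNatIso J (Type u)).symm f ≪≫
      Functor.leftUnitor f ≪≫ (Functor.rightUnitor f).symm
  have comm2 : 𝟭 ℰ ⋙ R ≅ g ⋙ sheafToPresheaf J (Type u) := Functor.leftUnitor R
  exact (adj.restrictFullyFaithful (fullyFaithfulSheafToPresheaf J (Type u))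
    (Functor.FullyFaithful.id ℰ) comm1 comm2).isLeftAdjoint

end Adjoint

end Groth.Agent.Lib.Helper68
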