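import Mathlib

/-!
# Components of the total complex of a bicomplex (shape `up ℤ`)

Projections onto the components of the total complex, idempotents cutting off the rows below a
given one, and formulas for the differential.
-/

open CategoryTheory Limits ComplexShape

namespace Groth.Agent.Lib.Helper68.TotChase

universe v u

variable {C : Type u} [Category.{v} C] [Abelian C]

variable (K L : HomologicalComplex₂ C (up ℤ) (up ℤ)) (φ : K ⟶ L)
  [K.HasTotal (up ℤ)] [L.HasTotal (up ℤ)]

/-- the differential of the total complex on a component -/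
@[reassoc]
lemma ι_d (p q n n' : ℤ) (h : p + q = n) (hn : n + 1 = n') :
    K.ιTotal (up ℤ) p q n h ≫ (K.total (up ℤ)).d n n' =
      (K.d p (p + 1)).f q ≫ K.ιTotal (up ℤ) (p + 1) q n' (by dsimp; omega) +
      p.negOnePow • ((K.X p).d q (q + 1) ≫ K.ιTotal (up ℤ) p (q + 1) n' (by dsimp; omega)) := by
  rw [HomologicalComplex₂.total_d, Preadditive.comp_add, HomologicalComplex₂.ι_D₁,
    HomologicalComplex₂.ι_D₂,
    K.d₁_eq (up ℤ) (show (up ℤ).Rel p (p + 1) from rfl) q n' (by dsimp; omega),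
    K.d₂_eq (up ℤ) p (show (up ℤ).Rel q (q + 1) from rfl) n' (by dsimp; omega)]
  simp

/-- the projection of the total complex onto a component -/
noncomputable def πT (p q n : ℤ) (h : p + q = n) : (K.total (up ℤ)).X n ⟶ (K.X p).X q :=
  K.totalDesc (fun p' q' h' =>
    if hp : p' = p then (K.XXIsoOfEq _ _ _ hp (show q' = q by dsimp at h'; omega)).hom else 0)

@[reassoc (attr := simp)]
lemma ι_πT (p q n : ℤ) (h : p + q = n) :
    K.ιTotal (up ℤ) p q n h ≫ πT K p q n h = 𝟙 _ := by
  simp [πT]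

@[reassoc]
lemma ι_πT_of_ne (p' q' p q n : ℤ) (h' : p' + q' = n) (h : p + q = n) (hp : p' ≠ p) :
    K.ιTotal (up ℤ) p' q' n h' ≫ πT K p q n h = 0 := by
  simp [πT, dif_neg hp]

/-- the idempotent of the total complex cutting off the rows `q < r` -/
noncomputable def eT (r n : ℤ) : (K.total (up ℤ)).X n ⟶ (K.total (up ℤ)).X n :=
  K.totalDesc (fun p q h => if r ≤ q then K.ιTotal (up ℤ) p q n h else 0)

@[reassoc]
lemma ι_eT_of_le (r p q n : ℤ) (h : p + q = n) (hq : r ≤ q) :
    K.ιTotal (up ℤ) p q n h ≫ eT K r n = K.ιTotal (up ℤ) p q n h := by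
  simp [eT, if_pos hq]

@[reassoc]
lemma ι_eT_of_lt (r p q n : ℤ) (h : p + q = n) (hq : q < r) :
    K.ιTotal (up ℤ) p q n h ≫ eT K r n = 0 := by
  simp [eT, if_neg (not_le.2 hq)]

@[reassoc]
lemma eT_πT_of_lt (r p q n : ℤ) (h : p + q = n) (hq : q < r) :
    eT K r n ≫ πT K p q n h = 0 := by
  apply HomologicalComplex₂.total.hom_ext
  intro p' q' h'
  dsimp at h'
  by_cases hq' : r ≤ q'
  · rw [ι_eT_of_le_assoc K r p' q' n h' hq', ι_πT_of_ne K p' q' p q n h' h (by omega), comp_zero]
  · rw [ι_eT_of_lt_assoc K r p' q' n h' (by omega), zero_comp, comp_zero]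

lemma eT_succ (r n p : ℤ) (h : p + r = n) :
    eT K r n = eT K (r + 1) n + πT K p r n h ≫ K.ιTotal (up ℤ) p r n h := by
  apply HomologicalComplex₂.total.hom_ext
  intro p' q' h'
  dsimp at h'
  rw [Preadditive.comp_add]
  by_cases hq' : r + 1 ≤ q'
  · rw [ι_eT_of_le K r p' q' n h' (by omega), ι_eT_of_le K (r + 1) p' q' n h' hq',
      ι_πT_of_ne_assoc K p' q' p r n h' h (by omega), zero_comp, add_zero]
  · by_cases hq'' : q' = r
    · subst hq''
      obtain rfl : p' = p := by omega
      rw [ι_eT_of_le K q' p' q' n h' (le_refl _), ι_eT_of_lt K (q' + 1) p' q' n h' (by omega),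
        ι_πT_assoc, zero_add]
    · rw [ι_eT_of_lt K r p' q' n h' (by omega), ι_eT_of_lt K (r + 1) p' q' n h' (by omega),
        ι_πT_of_ne_assoc K p' q' p r n h' h (by omega), zero_comp, add_zero]

lemma eT_eq_zero (r n : ℤ)
    (hz : ∀ p q : ℤ, p + q = n → r ≤ q → IsZero ((K.X p).X q)) : eT K r n = 0 := by
  apply HomologicalComplex₂.total.hom_ext
  intro p' q' h'
  dsimp at h'
  rw [comp_zero]
  by_cases hq' : r ≤ q'
  · exact (hz p' q' h' hq').eq_of_src _ _
  · exact ι_eT_of_lt K r p' q' n h' (by omega)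

variable {K L}

@[reassoc]
lemma map_πT (p q n : ℤ) (h : p + q = n) :
    (HomologicalComplex₂.total.map φ (up ℤ)).f n ≫ πT L p q n h =
      πT K p q n h ≫ (φ.f p).f q := by
  apply HomologicalComplex₂.total.hom_ext
  intro p' q' h'
  dsimp at h'
  rw [HomologicalComplex₂.ιTotal_map_assoc]
  by_cases hp : p' = p
  · subst hp
    obtain rfl : q' = q := by omega
    simp
  · rw [ι_πT_of_ne L p' q' p q n h' h hp, ι_πT_of_ne_assoc K p' q' p q n h' h hp, comp_zero,
      zero_comp]

@[reassoc]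
lemma map_eT (r n : ℤ) :
    (HomologicalComplex₂.total.map φ (up ℤ)).f n ≫ eT L r n =
      eT K r n ≫ (HomologicalComplex₂.total.map φ (up ℤ)).f n := by
  apply HomologicalComplex₂.total.hom_ext
  intro p' q' h'
  dsimp at h'
  rw [HomologicalComplex₂.ιTotal_map_assoc]
  by_cases hq' : r ≤ q'
  · rw [ι_eT_of_le L r p' q' n h' hq', ι_eT_of_le_assoc K r p' q' n h' hq',
      HomologicalComplex₂.ιTotal_map]
  · rw [ι_eT_of_lt L r p' q' n h' (by omega), ι_eT_of_lt_assoc K r p' q' n h' (by omega),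
      comp_zero, zero_comp]

end Groth.Agent.Lib.Helper68.TotChase
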