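import Groth.Agent.Lib.Helper68.TotChase1

/-!
# An elementary (refinements) characterization of quasi-isomorphisms

`RProp ψ` expresses in elementary terms that the cone of `ψ` is acyclic.
-/

open CategoryTheory Limits ComplexShape

namespace Groth.Agent.Lib.Helper68.TotChase

universe v u

variable {C : Type u} [Category.{v} C] [Abelian C]

variable {S T : CochainComplex C ℤ} (ψ : S ⟶ T)

/-- acyclicity of the cone of `ψ` in elementary terms -/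
def RProp (n₀ n₁ n₂ n₃ : ℤ) : Prop :=
  ∀ ⦃A : C⦄ (x : A ⟶ S.X n₂) (y : A ⟶ T.X n₁), x ≫ S.d n₂ n₃ = 0 →
    x ≫ ψ.f n₂ = y ≫ T.d n₁ n₂ →
    ∃ (A' : C) (π : A' ⟶ A) (_ : Epi π) (x' : A' ⟶ S.X n₁) (y' : A' ⟶ T.X n₀),
      π ≫ x = x' ≫ S.d n₁ n₂ ∧ π ≫ y = x' ≫ ψ.f n₁ + y' ≫ T.d n₀ n₁

lemma rprop_of_quasiIso [QuasiIso ψ] (n₀ n₁ n₂ n₃ : ℤ) (h₀₁ : n₀ + 1 = n₁) (h₁₂ : n₁ + 1 = n₂)
    (h₂₃ : n₂ + 1 = n₃) : RProp ψ n₀ n₁ n₂ n₃ := by
  intro A x y hx hxy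
  have hmono : Mono (HomologicalComplex.homologyMap ψ n₂) := inferInstance
  have hepi : Epi (HomologicalComplex.homologyMap ψ n₁) := inferInstance
  rw [HomologicalComplex.mono_homologyMap_iff_up_to_refinements ψ n₁ n₂ n₃ (by simp; omega)
    (by simp; omega)] at hmono
  rw [HomologicalComplex.epi_homologyMap_iff_up_to_refinements ψ n₀ n₁ n₂ (by simp; omega)
    (by simp; omega)] at hepi
  obtain ⟨A₁, π₁, hπ₁, x₁, hx₁⟩ := hmono x hx y hxy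
  have hz : (π₁ ≫ y - x₁ ≫ ψ.f n₁) ≫ T.d n₁ n₂ = 0 := by
    rw [Preadditive.sub_comp, Category.assoc, Category.assoc, ← hxy, ψ.comm,
      ← Category.assoc, ← Category.assoc, hx₁, sub_self]
  obtain ⟨A₂, π₂, hπ₂, x₂, hx₂, y₁, hy₁⟩ := hepi (π₁ ≫ y - x₁ ≫ ψ.f n₁) hz
  refine ⟨A₂, π₂ ≫ π₁, epi_comp _ _, π₂ ≫ x₁ + x₂, y₁, ?_, ?_⟩
  · rw [Category.assoc, hx₁, Preadditive.add_comp, hx₂, add_zero, Category.assoc]
  · rw [Preadditive.comp_sub] at hy₁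
    rw [Category.assoc, Preadditive.add_comp, Category.assoc, add_assoc, ← hy₁]
    abel

lemma quasiIso_of_rprop
    (h : ∀ n₀ n₁ n₂ n₃ : ℤ, n₀ + 1 = n₁ → n₁ + 1 = n₂ → n₂ + 1 = n₃ → RProp ψ n₀ n₁ n₂ n₃) :
    QuasiIso ψ := by
  rw [quasiIso_iff]
  intro n
  rw [quasiIsoAt_iff_isIso_homologyMap]
  have hmono : Mono (HomologicalComplex.homologyMap ψ n) := by
    rw [HomologicalComplex.mono_homologyMap_iff_up_to_refinements ψ (n - 1) n (n + 1)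
      (by simp) (by simp)]
    intro A x₂ hx₂ y₁ hy₁
    obtain ⟨A', π, hπ, x', y', h1, -⟩ :=
      h (n - 1 - 1) (n - 1) n (n + 1) (by omega) (by omega) rfl x₂ y₁ hx₂ hy₁
    exact ⟨A', π, hπ, x', h1⟩
  have hepi : Epi (HomologicalComplex.homologyMap ψ n) := by
    rw [HomologicalComplex.epi_homologyMap_iff_up_to_refinements ψ (n - 1) n (n + 1)
      (by simp) (by simp)]
    intro A y₂ hy₂
    obtain ⟨A', π, hπ, x', y', h1, h2⟩ :=
      h (n - 1) n (n + 1) (n + 1 + 1) (by omega) rfl rfl (0 : A ⟶ S.X (n + 1)) y₂ (by simp)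
        (by rw [zero_comp, hy₂])
    refine ⟨A', π, hπ, x', ?_, y', h2⟩
    rw [← h1, comp_zero]
  exact isIso_of_mono_of_epi _

end Groth.Agent.Lib.Helper68.TotChase
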