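import Groth.Agent.Lib.Helper68.TotChase2

/-!
# The total complex functor preserves (row-wise) quasi-isomorphisms: the diagram chase
-/

open CategoryTheory Limits ComplexShape

namespace Groth.Agent.Lib.Helper68.TotChase

universe v u

variable {C : Type u} [Category.{v} C] [Abelian C]

variable (K L : HomologicalComplex₂ C (up ℤ) (up ℤ)) (φ : K ⟶ L)
  [K.HasTotal (up ℤ)] [L.HasTotal (up ℤ)]

lemma eT_eq_id (r n : ℤ)
    (hz : ∀ p q : ℤ, p + q = n → q < r → IsZero ((K.X p).X q)) : eT K r n = 𝟙 _ := by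
  apply HomologicalComplex₂.total.hom_ext
  intro p' q' h'
  dsimp at h'
  rw [Category.comp_id]
  by_cases hq' : r ≤ q'
  · exact ι_eT_of_le K r p' q' n h' hq'
  · exact (hz p' q' h' (by omega)).eq_of_src _ _

/-- the differential of the total complex followed by a projection -/
lemma d_πT (P' P Q' Q n n' : ℤ) (hP : P' + 1 = P) (hQ : Q' + 1 = Q) (h : P' + Q = n)
    (hn : n + 1 = n') :
    (K.total (up ℤ)).d n n' ≫ πT K P Q n' (by omega) =
      πT K P' Q n h ≫ (K.d P' P).f Q +
        P.negOnePow • (πT K P Q' n (by omega) ≫ (K.X P).d Q' Q) := by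
  subst hP hQ
  apply HomologicalComplex₂.total.hom_ext
  intro p q hpq
  dsimp at hpq
  rw [ι_d_assoc K p q n n' hpq hn, Preadditive.add_comp, Preadditive.comp_add,
    Linear.units_smul_comp, Linear.comp_units_smul, Category.assoc, Category.assoc]
  by_cases hp : p = P'
  · subst hp
    obtain rfl : q = Q' + 1 := by omega
    rw [ι_πT, ι_πT_assoc, ι_πT_of_ne K p (Q' + 1 + 1) (p + 1) (Q' + 1) n' (by omega) (by omega)
      (by omega), ι_πT_of_ne_assoc K p (Q' + 1) (p + 1) Q' n hpq (by omega) (by omega)]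
    simp
  · by_cases hp' : p = P' + 1
    · subst hp'
      obtain rfl : q = Q' := by omega
      rw [ι_πT, ι_πT_assoc, ι_πT_of_ne K (P' + 1 + 1) q (P' + 1) (q + 1) n' (by omega) (by omega)
        (by omega), ι_πT_of_ne_assoc K (P' + 1) q P' (q + 1) n hpq (by omega) (by omega)]
      simp
    · rw [ι_πT_of_ne K (p + 1) q (P' + 1) (Q' + 1) n' (by omega) (by omega) (by omega),
        ι_πT_of_ne K p (q + 1) (P' + 1) (Q' + 1) n' (by omega) (by omega) (by omega),
        ι_πT_of_ne_assoc K p q P' (Q' + 1) n hpq (by omega) (by omega),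
        ι_πT_of_ne_assoc K p q (P' + 1) Q' n hpq (by omega) (by omega)]
      simp

variable {K}

/-- (C1) -/
lemma comp_d_πT {A : C} (r p p' n n' : ℤ) (x : A ⟶ (K.total (up ℤ)).X n)
    (hx : x ≫ eT K r n = x) (hp : p + 1 = p') (h : p + r = n) (hn : n + 1 = n') :
    x ≫ (K.total (up ℤ)).d n n' ≫ πT K p' r n' (by omega) =
      x ≫ πT K p r n h ≫ (K.d p p').f r := by
  rw [d_πT K p p' (r - 1) r n n' hp (by omega) h hn, Preadditive.comp_add,
    Linear.comp_units_smul]
  have : x ≫ πT K p' (r - 1) n (by omega) = 0 := by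
    rw [← hx, Category.assoc, eT_πT_of_lt K r p' (r - 1) n (by omega) (by omega), comp_zero]
  rw [reassoc_of% this, zero_comp, smul_zero, add_zero]

/-- (C2) -/
lemma ι_d_eT {A : C} (r p n n' : ℤ) (w : A ⟶ (K.X p).X r) (h : p + r = n) (hn : n + 1 = n') :
    (w ≫ K.ιTotal (up ℤ) p r n h) ≫ (K.total (up ℤ)).d n n' ≫ eT K r n' =
      (w ≫ K.ιTotal (up ℤ) p r n h) ≫ (K.total (up ℤ)).d n n' := by
  rw [Category.assoc, Category.assoc, ι_d_assoc K p r n n' h hn, ι_d K p r n n' h hn,
    Preadditive.add_comp, Linear.units_smul_comp, Category.assoc, Category.assoc,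
    ι_eT_of_le K r (p + 1) r n' (by omega) (le_refl _),
    ι_eT_of_le K r p (r + 1) n' (by omega) (by omega)]

/-- (C3) -/
lemma ι_d_πT {A : C} (r p p' n n' : ℤ) (w : A ⟶ (K.X p).X r) (hp : p + 1 = p') (h : p + r = n)
    (hn : n + 1 = n') :
    (w ≫ K.ιTotal (up ℤ) p r n h) ≫ (K.total (up ℤ)).d n n' ≫ πT K p' r n' (by omega) =
      w ≫ (K.d p p').f r := by
  rw [d_πT K p p' (r - 1) r n n' hp (by omega) h hn, Preadditive.comp_add,
    Linear.comp_units_smul, Category.assoc, Category.assoc, ι_πT_assoc,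
    ι_πT_of_ne_assoc K p r p' (r - 1) n h (by omega) (by omega), zero_comp, comp_zero,
    smul_zero, add_zero]

end Groth.Agent.Lib.Helper68.TotChase
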