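import Groth.Agent.Lib.Helper68.TotChase3

/-!
# The total complex functor preserves (row-wise) quasi-isomorphisms: the induction
-/

open CategoryTheory Limits ComplexShape

namespace Groth.Agent.Lib.Helper68.TotChase

universe v u

variable {C : Type u} [Category.{v} C] [Abelian C]

variable (K L : HomologicalComplex₂ C (up ℤ) (up ℤ)) (φ : K ⟶ L)
  [K.HasTotal (up ℤ)] [L.HasTotal (up ℤ)]

/-- the `r`-th row of a bicomplex, as a complex in the first index -/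
noncomputable abbrev row (r : ℤ) : CochainComplex C ℤ :=
  ((HomologicalComplex.eval C (up ℤ) r).mapHomologicalComplex (up ℤ)).obj K

variable {K L}

/-- the map induced on the `r`-th rows -/
noncomputable abbrev rowMap (r : ℤ) : row K r ⟶ row L r :=
  ((HomologicalComplex.eval C (up ℤ) r).mapHomologicalComplex (up ℤ)).map φ

/-- the statement proved by descending induction on the row `r` -/
def Stmt (n₀ n₁ n₂ n₃ r : ℤ) : Prop :=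
  ∀ ⦃A : C⦄ (x : A ⟶ (K.total (up ℤ)).X n₂) (y : A ⟶ (L.total (up ℤ)).X n₁),
    x ≫ eT K r n₂ = x → y ≫ eT L r n₁ = y →
    x ≫ (K.total (up ℤ)).d n₂ n₃ = 0 →
    x ≫ (HomologicalComplex₂.total.map φ (up ℤ)).f n₂ = y ≫ (L.total (up ℤ)).d n₁ n₂ →
    ∃ (A' : C) (π : A' ⟶ A) (_ : Epi π) (x' : A' ⟶ (K.total (up ℤ)).X n₁)
      (y' : A' ⟶ (L.total (up ℤ)).X n₀),
      π ≫ x = x' ≫ (K.total (up ℤ)).d n₁ n₂ ∧
        π ≫ y = x' ≫ (HomologicalComplex₂.total.map φ (up ℤ)).f n₁ +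
          y' ≫ (L.total (up ℤ)).d n₀ n₁

lemma stmt_of_zero (n₀ n₁ n₂ n₃ r : ℤ) (hK : eT K r n₂ = 0) (hL : eT L r n₁ = 0) :
    Stmt φ n₀ n₁ n₂ n₃ r := by
  intro A x y hx hy _ _
  rw [hK, comp_zero] at hx
  rw [hL, comp_zero] at hy
  refine ⟨A, 𝟙 A, inferInstance, 0, 0, ?_, ?_⟩
  · rw [← hx, comp_zero, zero_comp]
  · rw [← hy, comp_zero, zero_comp, zero_comp, add_zero]

lemma stmt_step (n₀ n₁ n₂ n₃ r p₀ p₁ p₂ p₃ : ℤ)
    (h₀₁ : n₀ + 1 = n₁) (h₁₂ : n₁ + 1 = n₂) (h₂₃ : n₂ + 1 = n₃)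
    (hp₀₁ : p₀ + 1 = p₁) (hp₁₂ : p₁ + 1 = p₂) (hp₂₃ : p₂ + 1 = p₃) (hpr : p₂ + r = n₂)
    (hrow : RProp (rowMap φ r) p₀ p₁ p₂ p₃)
    (hS : Stmt φ n₀ n₁ n₂ n₃ (r + 1)) : Stmt φ n₀ n₁ n₂ n₃ r := by
  intro A x y hx hy hxd hxy
  -- the components in the row `r`
  have hx₀ : (x ≫ πT K p₂ r n₂ hpr) ≫ (K.d p₂ p₃).f r = 0 := by
    rw [Category.assoc, ← comp_d_πT r p₂ p₃ n₂ n₃ x hx hp₂₃ hpr h₂₃, reassoc_of% hxd, zero_comp]
  have hxy₀ : (x ≫ πT K p₂ r n₂ hpr) ≫ (φ.f p₂).f r =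
      (y ≫ πT L p₁ r n₁ (by omega)) ≫ (L.d p₁ p₂).f r := by
    rw [Category.assoc, ← map_πT φ p₂ r n₂ hpr, reassoc_of% hxy, Category.assoc,
      ← comp_d_πT r p₁ p₂ n₁ n₂ y hy hp₁₂ (by omega) h₁₂]
  obtain ⟨A', π, hπ, x'₀', y'₀', h1', h2'⟩ := hrow (x ≫ πT K p₂ r n₂ hpr)
    (y ≫ πT L p₁ r n₁ (by omega)) hx₀ hxy₀
  obtain ⟨x'₀, rfl⟩ : ∃ x'₀ : A' ⟶ (K.X p₁).X r, x'₀ = x'₀' := ⟨x'₀', rfl⟩
  obtain ⟨y'₀, rfl⟩ : ∃ y'₀ : A' ⟶ (L.X p₀).X r, y'₀ = y'₀' := ⟨y'₀', rfl⟩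
  have h1 : π ≫ x ≫ πT K p₂ r n₂ hpr = x'₀ ≫ (K.d p₁ p₂).f r := h1'
  have h2 : π ≫ y ≫ πT L p₁ r n₁ (by omega) =
      x'₀ ≫ (φ.f p₁).f r + y'₀ ≫ (L.d p₀ p₁).f r := h2'
  clear h1' h2'
  -- the corrected pair
  have hp₁r : p₁ + r = n₁ := by omega
  have hp₀r : p₀ + r = n₀ := by omega
  obtain ⟨A'', π', hπ', x'', y'', h3, h4⟩ := hS
    (π ≫ x - (x'₀ ≫ K.ιTotal (up ℤ) p₁ r n₁ hp₁r) ≫ (K.total (up ℤ)).d n₁ n₂)
    (π ≫ y - (x'₀ ≫ K.ιTotal (up ℤ) p₁ r n₁ hp₁r) ≫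
        (HomologicalComplex₂.total.map φ (up ℤ)).f n₁ -
      (y'₀ ≫ L.ιTotal (up ℤ) p₀ r n₀ hp₀r) ≫ (L.total (up ℤ)).d n₀ n₁)
    (by
      generalize hX : π ≫ x - (x'₀ ≫ K.ιTotal (up ℤ) p₁ r n₁ hp₁r) ≫
        (K.total (up ℤ)).d n₁ n₂ = X
      have e1 : X ≫ eT K r n₂ = X := by
        rw [← hX, Preadditive.sub_comp, Category.assoc, Category.assoc,
          ι_d_eT r p₁ n₁ n₂ x'₀ hp₁r h₁₂, hx]
      have e2 : X ≫ πT K p₂ r n₂ hpr = 0 := by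
        rw [← hX, Preadditive.sub_comp, Category.assoc, Category.assoc,
          ι_d_πT r p₁ p₂ n₁ n₂ x'₀ hp₁₂ hp₁r h₁₂, h1, sub_self]
      rw [eT_succ K r n₂ p₂ hpr, Preadditive.comp_add, reassoc_of% e2, zero_comp,
        add_zero] at e1
      exact e1)
    (by
      generalize hY : π ≫ y - (x'₀ ≫ K.ιTotal (up ℤ) p₁ r n₁ hp₁r) ≫
            (HomologicalComplex₂.total.map φ (up ℤ)).f n₁ -
          (y'₀ ≫ L.ιTotal (up ℤ) p₀ r n₀ hp₀r) ≫ (L.total (up ℤ)).d n₀ n₁ = Y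
      have a1 : (π ≫ y) ≫ eT L r n₁ = π ≫ y := by rw [Category.assoc, hy]
      have a2 : ((x'₀ ≫ K.ιTotal (up ℤ) p₁ r n₁ hp₁r) ≫
          (HomologicalComplex₂.total.map φ (up ℤ)).f n₁) ≫ eT L r n₁ =
          (x'₀ ≫ K.ιTotal (up ℤ) p₁ r n₁ hp₁r) ≫
            (HomologicalComplex₂.total.map φ (up ℤ)).f n₁ := by
        rw [Category.assoc, map_eT φ r n₁, ← Category.assoc, Category.assoc x'₀,
          ι_eT_of_le K r p₁ r n₁ hp₁r (le_refl _)]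
      have a3 : ((y'₀ ≫ L.ιTotal (up ℤ) p₀ r n₀ hp₀r) ≫ (L.total (up ℤ)).d n₀ n₁) ≫
          eT L r n₁ = (y'₀ ≫ L.ιTotal (up ℤ) p₀ r n₀ hp₀r) ≫ (L.total (up ℤ)).d n₀ n₁ := by
        rw [Category.assoc]
        exact ι_d_eT r p₀ n₀ n₁ y'₀ hp₀r h₀₁
      have e1 : Y ≫ eT L r n₁ = Y := by
        rw [← hY, Preadditive.sub_comp, Preadditive.sub_comp, a1, a2, a3]
      have b2 : ((x'₀ ≫ K.ιTotal (up ℤ) p₁ r n₁ hp₁r) ≫
          (HomologicalComplex₂.total.map φ (up ℤ)).f n₁) ≫ πT L p₁ r n₁ hp₁r =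
          x'₀ ≫ (φ.f p₁).f r := by
        rw [Category.assoc, map_πT φ p₁ r n₁ hp₁r, Category.assoc, ι_πT_assoc]
      have b3 : ((y'₀ ≫ L.ιTotal (up ℤ) p₀ r n₀ hp₀r) ≫ (L.total (up ℤ)).d n₀ n₁) ≫
          πT L p₁ r n₁ hp₁r = y'₀ ≫ (L.d p₀ p₁).f r := by
        rw [Category.assoc]
        exact ι_d_πT r p₀ p₁ n₀ n₁ y'₀ hp₀₁ hp₀r h₀₁
      have e2 : Y ≫ πT L p₁ r n₁ hp₁r = 0 := by
        rw [← hY, Preadditive.sub_comp, Preadditive.sub_comp, Category.assoc π, b2, b3, h2]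
        abel
      rw [eT_succ L r n₁ p₁ hp₁r, Preadditive.comp_add, reassoc_of% e2, zero_comp,
        add_zero] at e1
      exact e1)
    (by
      rw [Preadditive.sub_comp, Category.assoc, Category.assoc, hxd, comp_zero,
        HomologicalComplex.d_comp_d, comp_zero, sub_zero])
    (by
      have c1 : ((y'₀ ≫ L.ιTotal (up ℤ) p₀ r n₀ hp₀r) ≫ (L.total (up ℤ)).d n₀ n₁) ≫
          (L.total (up ℤ)).d n₁ n₂ = 0 := by
        rw [Category.assoc, HomologicalComplex.d_comp_d, comp_zero]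
      have c2 : ((x'₀ ≫ K.ιTotal (up ℤ) p₁ r n₁ hp₁r) ≫ (K.total (up ℤ)).d n₁ n₂) ≫
          (HomologicalComplex₂.total.map φ (up ℤ)).f n₂ =
          ((x'₀ ≫ K.ιTotal (up ℤ) p₁ r n₁ hp₁r) ≫
            (HomologicalComplex₂.total.map φ (up ℤ)).f n₁) ≫ (L.total (up ℤ)).d n₁ n₂ := by
        simp only [Category.assoc, (HomologicalComplex₂.total.map φ (up ℤ)).comm]
      rw [Preadditive.sub_comp, Preadditive.sub_comp, Preadditive.sub_comp, c1, c2, sub_zero,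
        Category.assoc, Category.assoc π, hxy])
  refine ⟨A'', π' ≫ π, epi_comp _ _, x'' + π' ≫ x'₀ ≫ K.ιTotal (up ℤ) p₁ r n₁ hp₁r,
    y'' + π' ≫ y'₀ ≫ L.ιTotal (up ℤ) p₀ r n₀ hp₀r, ?_, ?_⟩
  · rw [Preadditive.comp_sub] at h3
    rw [Preadditive.add_comp, ← h3]
    simp only [Category.assoc]
    abel
  · rw [Preadditive.comp_sub, Preadditive.comp_sub] at h4
    rw [Preadditive.add_comp, Preadditive.add_comp]
    have : x'' ≫ (HomologicalComplex₂.total.map φ (up ℤ)).f n₁ +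
        y'' ≫ (L.total (up ℤ)).d n₀ n₁ = _ := h4.symm
    simp only [Category.assoc] at this ⊢
    rw [add_add_add_comm, this]
    abel

/-- **The total complex of a (uniformly bounded below) bicomplex preserves row-wise
quasi-isomorphisms.** -/
theorem quasiIso_total_map_of_rows (a b : ℤ)
    (hK : ∀ p q : ℤ, p < a ∨ q < b → IsZero ((K.X p).X q))
    (hL : ∀ p q : ℤ, p < a ∨ q < b → IsZero ((L.X p).X q))
    (hrow : ∀ r : ℤ, QuasiIso (rowMap φ r)) :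
    QuasiIso (HomologicalComplex₂.total.map φ (up ℤ)) := by
  apply quasiIso_of_rprop
  intro n₀ n₁ n₂ n₃ h₀₁ h₁₂ h₂₃
  have hS : ∀ k : ℕ, Stmt φ n₀ n₁ n₂ n₃ (n₂ - a + 1 - k) := by
    intro k
    induction k with
    | zero =>
      apply stmt_of_zero
      · apply eT_eq_zero
        intro p q hpq hq
        exact hK p q (Or.inl (by simp at hq; omega))
      · apply eT_eq_zero
        intro p q hpq hq
        exact hL p q (Or.inl (by simp at hq; omega))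
    | succ k ih =>
      have hr : n₂ - a + 1 - ((k + 1 : ℕ) : ℤ) + 1 = n₂ - a + 1 - k := by push_cast; ring
      rw [← hr] at ih
      have := hrow (n₂ - a + 1 - ((k + 1 : ℕ) : ℤ))
      exact stmt_step φ n₀ n₁ n₂ n₃ (n₂ - a + 1 - ((k + 1 : ℕ) : ℤ))
        (n₀ - (n₂ - a + 1 - ((k + 1 : ℕ) : ℤ))) (n₁ - (n₂ - a + 1 - ((k + 1 : ℕ) : ℤ)))
        (n₂ - (n₂ - a + 1 - ((k + 1 : ℕ) : ℤ))) (n₃ - (n₂ - a + 1 - ((k + 1 : ℕ) : ℤ)))
        h₀₁ h₁₂ h₂₃ (by omega) (by omega) (by omega) (by omega)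
        (rprop_of_quasiIso _ _ _ _ _ (by omega) (by omega) (by omega)) ih
  intro A x y hx hxy
  refine hS (n₂ - a + 1 - b).toNat x y ?_ ?_ hx hxy
  · rw [eT_eq_id K _ n₂ (fun p q _ hq => hK p q (Or.inr (by omega))), Category.comp_id]
  · rw [eT_eq_id L _ n₁ (fun p q _ hq => hL p q (Or.inr (by omega))), Category.comp_id]

instance quasiIso_rowMap [QuasiIso φ] (r : ℤ) : QuasiIso (rowMap φ r) :=
  HomologicalComplex.quasiIso_map_of_preservesHomology φ (HomologicalComplex.eval C (up ℤ) r)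

end Groth.Agent.Lib.Helper68.TotChase
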