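import Mathlib.Algebra.Homology.DerivedCategory.TStructure
import Mathlib.Algebra.Homology.DerivedCategory.HomologySequence
import Groth.Prelude.Def_CohCx

set_option autoImplicit false
universe w u
open CategoryTheory Limits Pretriangulated DerivedCategory

namespace Groth.Agent.Lib.Helper68.TruncRlim

variable {A : Type (u + 1)} [Category.{u} A] [Abelian A] [HasDerivedCategory.{w} A]

lemma isIso_homology_truncGEπ (E : DerivedCategory A) (b i : ℤ) (hi : b ≤ i) :
    IsIso ((homologyFunctor A i).map ((TStructure.t.truncGEπ b).app E)) := by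
  have hT := TStructure.t.triangleLTGE_distinguished b E
  have hm : Mono ((homologyFunctor A i).map ((TStructure.t.truncGEπ b).app E)) := by
    refine (HomologySequence.mono_homologyMap_mor₂_iff _ hT i).2 ?_
    exact (isZero_of_isLE ((TStructure.t.truncLT b).obj E) (b - 1) i (by omega)).eq_of_src _ _
  have he : Epi ((homologyFunctor A i).map ((TStructure.t.truncGEπ b).app E)) := by
    refine (HomologySequence.epi_homologyMap_mor₂_iff _ hT i (i + 1) rfl).2 ?_
    exact (isZero_of_isLE ((TStructure.t.truncLT b).obj E) (b - 1) (i + 1) (by omega)).eq_of_tgt _ _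
  exact isIso_of_mono_of_epi _

lemma toTruncTower_succ (E : DerivedCategory A) (n : ℕ) :
    CohCx.toTruncTower E (n + 1) ≫ CohCx.truncTowerMap E n = CohCx.toTruncTower E n :=
  TStructure.t.π_natTransTruncGEOfLE_app _ _ _ E

lemma isIso_homology_toTruncTower (E : DerivedCategory A) (n : ℕ) (i : ℤ) (hi : -(n : ℤ) ≤ i) :
    IsIso ((homologyFunctor A i).map (CohCx.toTruncTower E n)) :=
  isIso_homology_truncGEπ E _ i hi

lemma isIso_homology_truncTowerMap (E : DerivedCategory A) (n : ℕ) (i : ℤ) (hi : -(n : ℤ) ≤ i) :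
    IsIso ((homologyFunctor A i).map (CohCx.truncTowerMap E n)) := by
  have h1 := isIso_homology_toTruncTower E (n + 1) i (by push_cast; omega)
  have h2 := isIso_homology_toTruncTower E n i hi
  have h3 : (homologyFunctor A i).map (CohCx.toTruncTower E (n + 1)) ≫
      (homologyFunctor A i).map (CohCx.truncTowerMap E n) =
      (homologyFunctor A i).map (CohCx.toTruncTower E n) := by
    rw [← Functor.map_comp, toTruncTower_succ]
  exact IsIso.of_isIso_fac_left h3

lemma isZero_homology_truncTower (E : DerivedCategory A) (n : ℕ) (i : ℤ) (hi : i < -(n : ℤ)) :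
    IsZero ((homologyFunctor A i).obj (CohCx.truncTower E n)) :=
  isZero_of_isGE _ (-(n : ℤ)) i hi

lemma exists_fiber (E : DerivedCategory A) (n : ℕ) :
    ∃ (F : DerivedCategory A) (f : F ⟶ CohCx.truncTower E (n + 1))
      (h : CohCx.truncTower E n ⟶ F⟦(1 : ℤ)⟧),
      Triangle.mk f (CohCx.truncTowerMap E n) h ∈ distTriang _ ∧
      F.IsGE (-(n : ℤ) - 1) ∧ F.IsLE (-(n : ℤ) - 1) ∧
      Nonempty ((homologyFunctor A (-(n : ℤ) - 1)).obj F ≅
        (homologyFunctor A (-(n : ℤ) - 1)).obj E) := by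
  obtain ⟨F, f, h, hT⟩ := distinguished_cocone_triangle₁ (CohCx.truncTowerMap E n)
  have hepi : ∀ i : ℤ, -(n : ℤ) - 1 ≤ i →
      Epi ((homologyFunctor A i).map (CohCx.truncTowerMap E n)) := by
    intro i hi
    by_cases h0 : -(n : ℤ) ≤ i
    · have := isIso_homology_truncTowerMap E n i h0
      infer_instance
    · have hz := isZero_homology_truncTower E n i (by omega)
      exact ⟨fun g g' _ => hz.eq_of_src _ _⟩
  have hδ : ∀ (i j : ℤ) (hij : i + 1 = j), -(n : ℤ) - 1 ≤ i →
      HomologySequence.δ (Triangle.mk f (CohCx.truncTowerMap E n) h) i j hij = 0 := by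
    intro i j hij hi
    have := hepi i hi
    exact (HomologySequence.epi_homologyMap_mor₂_iff _ hT i j hij).1 this
  refine ⟨F, f, h, hT, ?_, ?_, ?_⟩
  · rw [isGE_iff]
    intro i hi
    refine (HomologySequence.exact₁ _ hT (i - 1) i (by omega)).isZero_of_both_isZero ?_ ?_
    · exact isZero_homology_truncTower E n (i - 1) (by omega)
    · exact isZero_homology_truncTower E (n + 1) i (by push_cast; omega)
  · rw [isLE_iff]
    intro i hi
    have hmono : Mono ((homologyFunctor A i).map f) :=
      (HomologySequence.mono_homologyMap_mor₁_iff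
        (Triangle.mk f (CohCx.truncTowerMap E n) h) hT (i - 1) i (by omega)).2
        (hδ (i - 1) i (by omega) (by omega))
    have hzero : (homologyFunctor A i).map f = 0 := by
      have h1 := isIso_homology_truncTowerMap E n i (by omega)
      have h2 : Mono ((homologyFunctor A i).map (CohCx.truncTowerMap E n)) := inferInstance
      exact (HomologySequence.mono_homologyMap_mor₂_iff
        (Triangle.mk f (CohCx.truncTowerMap E n) h) hT i).1 h2
    rw [IsZero.iff_id_eq_zero, ← cancel_mono ((homologyFunctor A i).map f), hzero, comp_zero,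
      zero_comp]
  · have hmono : Mono ((homologyFunctor A (-(n : ℤ) - 1)).map f) := by
      refine (HomologySequence.mono_homologyMap_mor₁_iff
        (Triangle.mk f (CohCx.truncTowerMap E n) h) hT (-(n : ℤ) - 2) (-(n : ℤ) - 1) (by omega)).2 ?_
      exact (isZero_homology_truncTower E n (-(n : ℤ) - 2) (by omega)).eq_of_src _ _
    have hepi' : Epi ((homologyFunctor A (-(n : ℤ) - 1)).map f) := by
      refine (HomologySequence.epi_homologyMap_mor₁_iff
        (Triangle.mk f (CohCx.truncTowerMap E n) h) hT (-(n : ℤ) - 1)).2 ?_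
      exact (isZero_homology_truncTower E n (-(n : ℤ) - 1) (by omega)).eq_of_tgt _ _
    have h1 : IsIso ((homologyFunctor A (-(n : ℤ) - 1)).map f) := isIso_of_mono_of_epi _
    have h2 := isIso_homology_toTruncTower E (n + 1) (-(n : ℤ) - 1) (by push_cast; omega)
    exact ⟨asIso ((homologyFunctor A (-(n : ℤ) - 1)).map f) ≪≫
      (asIso ((homologyFunctor A (-(n : ℤ) - 1)).map (CohCx.toTruncTower E (n + 1)))).symm⟩

end Groth.Agent.Lib.Helper68.TruncRlim

namespace Groth.Agent.Lib.Helper68.TruncRlim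

variable {A : Type (u + 1)} [Category.{u} A] [Abelian A] [HasDerivedCategory.{w} A]

lemma exists_fiber_single (E : DerivedCategory A) (n : ℕ) :
    ∃ (f : ((singleFunctor A 0).obj ((homologyFunctor A (-(n : ℤ) - 1)).obj E))⟦(n : ℤ) + 1⟧ ⟶
        CohCx.truncTower E (n + 1))
      (h : CohCx.truncTower E n ⟶
        (((singleFunctor A 0).obj ((homologyFunctor A (-(n : ℤ) - 1)).obj E))⟦(n : ℤ) + 1⟧)⟦(1 : ℤ)⟧),
      Triangle.mk f (CohCx.truncTowerMap E n) h ∈ distTriang _ := by
  obtain ⟨F, f, h, hT, hGE, hLE, ⟨e⟩⟩ := exists_fiber E n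
  obtain ⟨Y, ⟨e1⟩⟩ := exists_iso_singleFunctor_obj_of_isGE_of_isLE F (-(n : ℤ) - 1)
  have e2 : Y ≅ (homologyFunctor A (-(n : ℤ) - 1)).obj E :=
    ((singleFunctorCompHomologyFunctorIso A (-(n : ℤ) - 1)).app Y).symm ≪≫
      (homologyFunctor A (-(n : ℤ) - 1)).mapIso e1.symm ≪≫ e
  have e3 : ((singleFunctor A 0).obj ((homologyFunctor A (-(n : ℤ) - 1)).obj E))⟦(n : ℤ) + 1⟧ ≅ F :=
    ((singleFunctors A).shiftIso ((n : ℤ) + 1) (-(n : ℤ) - 1) 0 (by omega)).app _ ≪≫
      (singleFunctor A (-(n : ℤ) - 1)).mapIso e2.symm ≪≫ e1.symm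
  refine ⟨e3.hom ≫ f, h ≫ e3.inv⟦(1 : ℤ)⟧', isomorphic_distinguished _ hT _ ?_⟩
  refine Triangle.isoMk _ _ e3 (Iso.refl _) (Iso.refl _) ?_ ?_ ?_
  · exact Category.comp_id _
  · exact (Category.comp_id _).trans (Category.id_comp _).symm
  · change (h ≫ (shiftFunctor _ (1 : ℤ)).map e3.inv) ≫ (shiftFunctor _ (1 : ℤ)).map e3.hom = 𝟙 _ ≫ h
    rw [Category.id_comp, Category.assoc, ← Functor.map_comp, e3.inv_hom_id,
      CategoryTheory.Functor.map_id, Category.comp_id]

end Groth.Agent.Lib.Helper68.TruncRlim
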