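import Groth.Agent.Lib.Helper68.TruncRlim3
import Groth.Prelude.Def_CohTop

set_option autoImplicit false
universe u
open CategoryTheory Limits Pretriangulated DerivedCategory Opposite TopologicalSpace

namespace Groth.Agent.Lib.Helper68.TruncRlim

open Groth.Agent.Lib.Helper68.HZeroLocal Groth.Agent.Lib.Helper68.HZeroSheaf
open Groth.Agent.Lib.Helper68.RlimMilnor Groth.Agent.Lib.Helper68.DerLimSh

variable {X : TopCat.{u}} [HasDerivedCategory.{u} (CohTop.Ab X)]
  (E : DerivedCategory (CohTop.Ab X))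

section Top

variable [HasProduct (CohCx.truncTower E)]
  {Z : DerivedCategory (CohTop.Ab X)} (b : ∀ n, Z ⟶ CohCx.truncTower E n)
  (hZ : CohCx.IsRlimVia (CohCx.truncTower E) (CohCx.truncTowerMap E) Z b)
  (θ : E ⟶ Z) (hθ : ∀ n, θ ≫ b n = CohCx.toTruncTower E n)

include hZ hθ in
lemma isIso_stalk_of_van (m : ℤ) (x : X) (p : ℤ → ℤ)
    (h : ∀ V : Opens X, x ∈ V → ∃ U : Opens X, x ∈ U ∧ U ≤ V ∧ Van E p U) :
    IsIso ((TopCat.Presheaf.stalkFunctor AddCommGrpCat.{u} x).map
      ((DerivedCategory.homologyFunctor _ m).map θ).hom) := by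
  let nV : ℕ := max (Nj p m) (-m).toNat
  have hinj : Function.Injective ((TopCat.Presheaf.stalkFunctor AddCommGrpCat.{u} x).map
      ((DerivedCategory.homologyFunctor (CohTop.Ab X) m).map (b nV)).hom) := by
    apply RlimInj.stalk_injective_Hm _ _ Z b hZ x m nV
    intro V hV
    obtain ⟨U, hxU, hUV, hvan⟩ := h V hV
    exact ⟨U, hxU, hUV, good_of_van hvan m nV (le_max_left _ _)⟩
  have hiso : IsIso ((DerivedCategory.homologyFunctor _ m).map (CohCx.toTruncTower E nV)) :=
    isIso_homology_toTruncTower E nV m (by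
      have : (-m).toNat ≤ nV := le_max_right _ _
      omega)
  let ev : CohTop.Ab X ⥤ AddCommGrpCat.{u} :=
    sheafToPresheaf _ _ ⋙ TopCat.Presheaf.stalkFunctor AddCommGrpCat.{u} x
  have hmono' : Mono (ev.map ((DerivedCategory.homologyFunctor _ m).map (b nV))) :=
    (AddCommGrpCat.mono_iff_injective _).2 hinj
  have hiso' : IsIso (ev.map ((DerivedCategory.homologyFunctor _ m).map (CohCx.toTruncTower E nV))) :=
    inferInstance
  have hfac : ev.map ((DerivedCategory.homologyFunctor _ m).map θ) ≫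
      ev.map ((DerivedCategory.homologyFunctor _ m).map (b nV)) =
      ev.map ((DerivedCategory.homologyFunctor _ m).map (CohCx.toTruncTower E nV)) := by
    rw [← Functor.map_comp, ← Functor.map_comp, hθ]
  exact isIso_of_fac (ev.map ((DerivedCategory.homologyFunctor _ m).map θ))
    (ev.map ((DerivedCategory.homologyFunctor _ m).map (b nV))) _ hfac

include hZ hθ in
theorem isIso_theta_top
    (h : ∀ x : X, ∃ p : ℤ → ℤ, ∀ V : Opens X, x ∈ V → ∃ U : Opens X, x ∈ U ∧ U ≤ V ∧ Van E p U) :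
    IsIso θ := by
  rw [DerivedCategory.isIso_iff]
  intro m
  have : ∀ x : X, IsIso ((TopCat.Presheaf.stalkFunctor AddCommGrpCat.{u} x).map
      ((DerivedCategory.homologyFunctor _ m).map θ).1) := by
    intro x
    obtain ⟨p, hp⟩ := h x
    exact isIso_stalk_of_van E b hZ θ hθ m x p hp
  exact TopCat.Presheaf.isIso_of_stalkFunctor_map_iso _

end Top

theorem main_top [HasProduct (CohCx.truncTower E)]
    (h : ∀ x : X, ∃ p : ℤ → ℤ, ∀ V : Opens X, x ∈ V → ∃ U : Opens X, x ∈ U ∧ U ≤ V ∧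
      ∀ (m : ℤ) (k : ℕ), p m < k → Subsingleton (CohTop.HU (CohCx.HD E (m - k)) k U)) :
    CohCx.IsRlimVia (CohCx.truncTower E) (CohCx.truncTowerMap E) E (CohCx.toTruncTower E) := by
  obtain ⟨Z, b, hZ⟩ := exists_rlim (CohCx.truncTower E) (CohCx.truncTowerMap E)
  obtain ⟨θ, hθ⟩ := exists_lift_zero hZ E (CohCx.toTruncTower E) (toTruncTower_succ E)
  have hiso : IsIso θ := isIso_theta_top E b hZ θ hθ h
  exact isRlimVia_of_iso b hZ (asIso θ) _ hθ

end Groth.Agent.Lib.Helper68.TruncRlim
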