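import Groth.Agent.Lib.Helper68.TruncRlim4

set_option autoImplicit false
universe u
open CategoryTheory Limits Pretriangulated DerivedCategory Opposite TopologicalSpace

namespace Groth.Agent.Lib.Helper68.TruncRlim

variable {X : TopCat.{u}} [HasDerivedCategory.{u} (CohTop.Ab X)]
  (E : DerivedCategory (CohTop.Ab X)) [HasProduct (CohCx.truncTower E)]

theorem main_top_local_dim
    (h : ∀ x : X, ∃ d : ℕ, ∀ V : Opens X, x ∈ V → ∃ U : Opens X, x ∈ U ∧ U ≤ V ∧
      ∀ (p : ℕ) (q : ℤ), d < p → q < 0 → Subsingleton (CohTop.HU (CohCx.HD E q) p U)) :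
    CohCx.IsRlimVia (CohCx.truncTower E) (CohCx.truncTowerMap E) E (CohCx.toTruncTower E) := by
  apply main_top E
  intro x
  obtain ⟨d, hd⟩ := h x
  refine ⟨fun m => max (d : ℤ) m, fun V hV => ?_⟩
  obtain ⟨U, hxU, hUV, hU⟩ := hd V hV
  refine ⟨U, hxU, hUV, fun m k hk => ?_⟩
  have hk' : max (d : ℤ) m < k := hk
  exact hU k (m - k) (by omega) (by omega)

theorem main_top_basis (B : Set (Opens X)) (hB : Opens.IsBasis B) (p : ℤ → ℤ)
    (h : ∀ U ∈ B, ∀ (m : ℤ) (k : ℕ), p m < k → Subsingleton (CohTop.HU (CohCx.HD E (m - k)) k U)) :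
    CohCx.IsRlimVia (CohCx.truncTower E) (CohCx.truncTowerMap E) E (CohCx.toTruncTower E) := by
  apply main_top E
  intro x
  refine ⟨p, fun V hV => ?_⟩
  obtain ⟨U, hUB, hxU, hUV⟩ := Opens.isBasis_iff_nbhd.1 hB hV
  exact ⟨U, hxU, hUV, h U hUB⟩

theorem main_top_dim (B : Set (Opens X)) (hB : Opens.IsBasis B) (d : ℕ)
    (h : ∀ U ∈ B, ∀ (p : ℕ) (q : ℤ), d < p → q < 0 → Subsingleton (CohTop.HU (CohCx.HD E q) p U)) :
    CohCx.IsRlimVia (CohCx.truncTower E) (CohCx.truncTowerMap E) E (CohCx.toTruncTower E) := by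
  apply main_top_basis E B hB (fun m => max (d : ℤ) m)
  intro U hU m k hk
  have hk' : max (d : ℤ) m < k := hk
  exact h U hU k (m - k) (by omega) (by omega)

end Groth.Agent.Lib.Helper68.TruncRlim
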