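import Mathlib
import Groth.Agent.Lib.Helper36.NilpotentTor
import Groth.Agent.Lib.Helper36.NilpotentTop

/-!
Helper (helper68): two ideals with product zero.  Analogues of helper36's `NilpotentTor` /
`NilpotentTop` for a pair of surjections `φ₁ : R' → R₁`, `φ₂ : R' → R₂` with
`ker φ₁ * ker φ₂ = 0`:
* `exactAt_tensorCx_of_two`: exactness of `P ⊗ N` for all `R'`-modules `N` from exactness of
  `(P ⊗ Rᵢ) ⊗ M` for all `Rᵢ`-modules `M`;
* `finite_of_two_surjections`, `finite_quotient_range_of_two`: finiteness of a cokernel from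
  finiteness after both base changes.
-/

set_option autoImplicit false
universe u

open CategoryTheory CategoryTheory.Limits MonoidalCategory TensorProduct

namespace Groth.Agent.Lib.Helper68.TwoIdeal

open Groth.Agent.Lib.Helper36 Groth.Agent.Lib.Helper36.LT Groth.Agent.Lib.Helper36.NilTor

section tor

variable {R' R₁ R₂ : Type u} [CommRing R'] [CommRing R₁] [CommRing R₂]
  (φ₁ : R' →+* R₁) (φ₂ : R' →+* R₂)

/-- exactness for modules killed by the kernel of a surjection, from exactness after base change -/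
theorem exact_rTensor_of_killed {R' R : Type u} [CommRing R'] [CommRing R] (φ : R' →+* R)
    (hφ : Function.Surjective φ) (P : DRing.Cx R') (i : ℤ)
    (h : ∀ M : ModuleCat.{u} R, (tensorCx M (((ModuleCat.extendScalars.{u, u, u}
      φ).mapHomologicalComplex (ComplexShape.up ℤ)).obj P)).ExactAt i)
    (N' : Type u) [AddCommGroup N'] [Module R' N']
    (hN' : ∀ x ∈ RingHom.ker φ, ∀ n : N', x • n = 0) :
    Function.Exact ((P.d (i - 1) i).hom.rTensor N') ((P.d i (i + 1)).hom.rTensor N') := by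
  obtain ⟨M, ⟨e⟩⟩ := exists_restrictScalars_equiv φ hφ N' hN'
  apply exact_rTensor_congr e
  have h1 := h M
  rw [exactAt_tensorCx_iff] at h1
  have h2 := (CBC.exact_whiskerRight_extendScalars_iff φ M (P.d (i - 1) i)
    (P.d i (i + 1))).mp h1
  rw [ModuleCat.hom_whiskerRight, ModuleCat.hom_whiskerRight] at h2
  exact h2

/-- **Two ideals with product zero**: if `(P ⊗_{R'} Rᵢ) ⊗_{Rᵢ} M` is exact in degree `i` for every
`Rᵢ`-module `M` (`i = 1, 2`), then `P ⊗_{R'} N` is exact in degree `i` for every `R'`-module `N`. -/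
theorem exactAt_tensorCx_of_two (hφ₁ : Function.Surjective φ₁) (hφ₂ : Function.Surjective φ₂)
    (hker : ∀ x ∈ RingHom.ker φ₁, ∀ y ∈ RingHom.ker φ₂, x * y = 0)
    (P : DRing.Cx R') (hfl : ∀ n, Module.Flat R' (P.X n)) (i : ℤ)
    (h₁ : ∀ M : ModuleCat.{u} R₁, (tensorCx M (((ModuleCat.extendScalars.{u, u, u}
      φ₁).mapHomologicalComplex (ComplexShape.up ℤ)).obj P)).ExactAt i)
    (h₂ : ∀ M : ModuleCat.{u} R₂, (tensorCx M (((ModuleCat.extendScalars.{u, u, u}
      φ₂).mapHomologicalComplex (ComplexShape.up ℤ)).obj P)).ExactAt i)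
    (N : ModuleCat.{u} R') : (tensorCx N P).ExactAt i := by
  rw [exactAt_tensorCx_iff, ModuleCat.hom_whiskerRight, ModuleCat.hom_whiskerRight]
  have h0 : (P.d i (i + 1)).hom.comp (P.d (i - 1) i).hom = 0 := by
    rw [← ModuleCat.hom_comp, P.d_comp_d]
    rfl
  have := hfl (i + 1)
  let N₁ : Submodule R' N := RingHom.ker φ₁ • (⊤ : Submodule R' N)
  apply exact_rTensor_of_submodule (P.d (i - 1) i).hom (P.d i (i + 1)).hom h0 N N₁
  · apply exact_rTensor_of_killed φ₂ hφ₂ P i h₂
    rintro y hy ⟨n, hn⟩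
    apply Subtype.ext
    show y • n = 0
    refine Submodule.smul_induction_on hn ?_ ?_
    · intro x hx m _
      rw [← mul_smul, mul_comm, hker x hx y hy, zero_smul]
    · intro a b ha hb
      rw [smul_add, ha, hb, add_zero]
  · apply exact_rTensor_of_killed φ₁ hφ₁ P i h₁
    intro x hx q
    obtain ⟨n, rfl⟩ := Submodule.Quotient.mk_surjective _ q
    rw [← Submodule.Quotient.mk_smul, Submodule.Quotient.mk_eq_zero]
    exact Submodule.smul_mem_smul hx Submodule.mem_top

end tor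

section top

variable {S : Type*} [CommRing S]

/-- a finitely generated submodule complementing the kernel of a surjection onto a finite module -/
theorem exists_fg_sup_ker {Q W : Type*} [AddCommGroup Q] [Module S Q] [AddCommGroup W]
    [Module S W] [Module.Finite S W] (q : Q →ₗ[S] W) (hq : Function.Surjective q) :
    ∃ T : Submodule S Q, T.FG ∧ T ⊔ LinearMap.ker q = ⊤ := by
  obtain ⟨T, hT⟩ := (Module.Finite.fg_top : (⊤ : Submodule S W).FG)
  choose g hg using hq
  have h1 : Submodule.map q (Submodule.span S (g '' (T : Set W))) = ⊤ := by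
    rw [Submodule.map_span, ← Set.image_comp]
    have : (⇑q ∘ g) '' (T : Set W) = (T : Set W) := by
      ext w
      simp [hg]
    rw [this, hT]
  refine ⟨Submodule.span S (g '' (T : Set W)),
    Submodule.fg_span (T.finite_toSet.image g), ?_⟩
  rw [← Submodule.comap_map_eq, h1, Submodule.comap_top]

/-- Two-ideal Nakayama for finiteness. -/
theorem finite_of_two_surjections (I₁ I₂ : Ideal S) (h12 : I₁ * I₂ = ⊥) {Q W₁ W₂ : Type*}
    [AddCommGroup Q] [Module S Q] [AddCommGroup W₁] [Module S W₁] [Module.Finite S W₁]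
    [AddCommGroup W₂] [Module S W₂] [Module.Finite S W₂]
    (q₁ : Q →ₗ[S] W₁) (hq₁ : Function.Surjective q₁)
    (hker₁ : LinearMap.ker q₁ ≤ I₁ • (⊤ : Submodule S Q))
    (q₂ : Q →ₗ[S] W₂) (hq₂ : Function.Surjective q₂)
    (hker₂ : LinearMap.ker q₂ ≤ I₂ • (⊤ : Submodule S Q)) : Module.Finite S Q := by
  obtain ⟨T₁, hT₁fg, hT₁⟩ := exists_fg_sup_ker q₁ hq₁
  obtain ⟨T₂, hT₂fg, hT₂⟩ := exists_fg_sup_ker q₂ hq₂
  have e1 : (T₁ ⊔ T₂) ⊔ I₁ • (⊤ : Submodule S Q) = ⊤ :=
    top_le_iff.mp (hT₁.ge.trans (sup_le_sup le_sup_left hker₁))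
  have e2 : (T₁ ⊔ T₂) ⊔ I₂ • (⊤ : Submodule S Q) = ⊤ :=
    top_le_iff.mp (hT₂.ge.trans (sup_le_sup le_sup_right hker₂))
  have h3 : (⊤ : Submodule S Q) ≤ T₁ ⊔ T₂ := by
    calc (⊤ : Submodule S Q) = (T₁ ⊔ T₂) ⊔ I₁ • (⊤ : Submodule S Q) := e1.symm
      _ = (T₁ ⊔ T₂) ⊔ I₁ • ((T₁ ⊔ T₂) ⊔ I₂ • (⊤ : Submodule S Q)) := by rw [e2]
      _ = (T₁ ⊔ T₂) ⊔ (I₁ • (T₁ ⊔ T₂) ⊔ (I₁ * I₂) • (⊤ : Submodule S Q)) := by
        rw [Submodule.smul_sup, Submodule.mul_smul]
      _ ≤ T₁ ⊔ T₂ := by
        rw [h12, Submodule.bot_smul, sup_bot_eq]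
        exact sup_le le_rfl Submodule.smul_le_right
  rw [Module.finite_def, ← top_le_iff.mp h3]
  exact hT₁fg.sup hT₂fg

variable {A : Type*} [CommRing A] [Algebra S A]

/-- the comparison surjection from the cokernel of `d` to the cokernel of `A ⊗ d`, with kernel
inside `ker • ⊤` -/
theorem exists_cokernel_comparison (hφ : Function.Surjective (algebraMap S A))
    {X Y : Type*} [AddCommGroup X] [Module S X] [AddCommGroup Y] [Module S Y] (d : Y →ₗ[S] X) :
    ∃ q : (X ⧸ LinearMap.range d) →ₗ[S] (A ⊗[S] X) ⧸ LinearMap.range (d.baseChange A),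
      Function.Surjective q ∧
        LinearMap.ker q ≤ RingHom.ker (algebraMap S A) • (⊤ : Submodule S (X ⧸ LinearMap.range d)) := by
  let p : (A ⊗[S] X) →ₗ[A] (A ⊗[S] X) ⧸ LinearMap.range (d.baseChange A) :=
    (LinearMap.range (d.baseChange A)).mkQ
  let q₀ : X →ₗ[S] (A ⊗[S] X) ⧸ LinearMap.range (d.baseChange A) :=
    (p.restrictScalars S).comp (TensorProduct.mk S A X 1)
  have hq₀ : Function.Surjective q₀ := by
    intro w
    obtain ⟨t, rfl⟩ := Submodule.mkQ_surjective _ w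
    obtain ⟨x, rfl⟩ := TensorProduct.mk_surjective S X A hφ t
    exact ⟨x, rfl⟩
  have hd : LinearMap.range d ≤ LinearMap.ker q₀ := by
    rintro _ ⟨y, rfl⟩
    rw [LinearMap.mem_ker]
    show p ((1 : A) ⊗ₜ[S] d y) = 0
    rw [Submodule.mkQ_apply, Submodule.Quotient.mk_eq_zero]
    exact ⟨(1 : A) ⊗ₜ[S] y, by rw [LinearMap.baseChange_tmul]⟩
  have hker : LinearMap.ker q₀ ≤
      LinearMap.range d ⊔ RingHom.ker (algebraMap S A) • (⊤ : Submodule S X) := by
    intro x hx
    rw [LinearMap.mem_ker] at hx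
    have hx' : (1 : A) ⊗ₜ[S] x ∈ LinearMap.range (d.baseChange A) := by
      rw [← Submodule.Quotient.mk_eq_zero]
      exact hx
    obtain ⟨t, ht⟩ := hx'
    obtain ⟨y, rfl⟩ := TensorProduct.mk_surjective S Y A hφ t
    have h1 : TensorProduct.mk S A X 1 (x - d y) = 0 := by
      rw [map_sub, TensorProduct.mk_apply, TensorProduct.mk_apply, ← ht, TensorProduct.mk_apply,
        LinearMap.baseChange_tmul, sub_self]
    have h2 : x - d y ∈ RingHom.ker (algebraMap S A) • (⊤ : Submodule S X) := by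
      rw [← NilTop.ker_mk_one hφ X]
      exact h1
    have : x = d y + (x - d y) := by abel
    rw [this]
    exact Submodule.add_mem_sup ⟨y, rfl⟩ h2
  let q : (X ⧸ LinearMap.range d) →ₗ[S] (A ⊗[S] X) ⧸ LinearMap.range (d.baseChange A) :=
    Submodule.liftQ (LinearMap.range d) q₀ hd
  have hq : Function.Surjective q := by
    intro w
    obtain ⟨x, rfl⟩ := hq₀ w
    exact ⟨Submodule.Quotient.mk x, rfl⟩
  refine ⟨q, hq, ?_⟩
  rw [Submodule.ker_liftQ]
  refine (Submodule.map_mono hker).trans ?_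
  rw [Submodule.map_sup, Submodule.map_smul'', Submodule.map_top, Submodule.range_mkQ]
  refine sup_le ?_ le_rfl
  rintro _ ⟨y, hy, rfl⟩
  have : (LinearMap.range d).mkQ y = 0 := by
    rw [Submodule.mkQ_apply, Submodule.Quotient.mk_eq_zero]
    exact hy
  rw [this]
  exact zero_mem _

variable {A₂ : Type*} [CommRing A₂] [Algebra S A₂]

/-- **Top degree, two ideals with product zero**: finiteness of the cokernels of `A ⊗ d` and
`A₂ ⊗ d` implies finiteness of the cokernel of `d`. -/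
theorem finite_quotient_range_of_two (hφ : Function.Surjective (algebraMap S A))
    (hφ₂ : Function.Surjective (algebraMap S A₂))
    (h12 : RingHom.ker (algebraMap S A) * RingHom.ker (algebraMap S A₂) = ⊥)
    {X Y : Type*} [AddCommGroup X] [Module S X]
    [AddCommGroup Y] [Module S Y] (d : Y →ₗ[S] X)
    (h : Module.Finite A ((A ⊗[S] X) ⧸ LinearMap.range (d.baseChange A)))
    (h₂ : Module.Finite A₂ ((A₂ ⊗[S] X) ⧸ LinearMap.range (d.baseChange A₂))) :
    Module.Finite S (X ⧸ LinearMap.range d) := by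
  have hfinA : Module.Finite S A := Module.Finite.of_surjective (Algebra.linearMap S A) hφ
  have hfinA₂ : Module.Finite S A₂ := Module.Finite.of_surjective (Algebra.linearMap S A₂) hφ₂
  have hfinW : Module.Finite S ((A ⊗[S] X) ⧸ LinearMap.range (d.baseChange A)) :=
    Module.Finite.trans A _
  have hfinW₂ : Module.Finite S ((A₂ ⊗[S] X) ⧸ LinearMap.range (d.baseChange A₂)) :=
    Module.Finite.trans A₂ _
  obtain ⟨q, hq, hk⟩ := exists_cokernel_comparison (A := A) hφ d
  obtain ⟨q₂, hq₂, hk₂⟩ := exists_cokernel_comparison (A := A₂) hφ₂ d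
  exact finite_of_two_surjections _ _ h12 q hq hk q₂ hq₂ hk₂

end top

end Groth.Agent.Lib.Helper68.TwoIdeal
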