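import Mathlib
import Groth.Agent.Lib.Helper68.TwoIdeal1
import Groth.Agent.Lib.Helper36.NilpotentPC

/-!
Helper (helper68): pseudo-coherence descends along a pair of surjections `φ₁ : R' → R₁`,
`φ₂ : R' → R₂` with `ker φ₁ * ker φ₂ = 0` (two-ideal analogue of helper36's `NilpotentPC`).
-/

set_option autoImplicit false
universe u

open CategoryTheory CategoryTheory.Limits CochainComplex DerivedCategory MonoidalCategory
open CategoryTheory.Pretriangulated

attribute [local instance] HasDerivedCategory.standard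

namespace Groth.Agent.Lib.Helper68.TwoIdeal

open Groth.Agent.Lib.Helper12 DRing Groth.Agent.Lib.Helper36 Groth.Agent.Lib.Helper36.LT
open Groth.Agent.Lib.Helper36.NilPC

section

variable {R' R₁ R₂ : Type u} [CommRing R'] [CommRing R₁] [CommRing R₂]
  (φ₁ : R' →+* R₁) (φ₂ : R' →+* R₂)

theorem mul_eq_zero_of_ker (h12 : RingHom.ker φ₁ * RingHom.ker φ₂ = ⊥) :
    ∀ x ∈ RingHom.ker φ₁, ∀ y ∈ RingHom.ker φ₂, x * y = 0 := by
  intro x hx y hy
  have := Ideal.mul_mem_mul hx hy
  rw [h12] at this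
  exact this

/-- Finiteness of the top cohomology descends along a pair of surjections with
`ker φ₁ * ker φ₂ = 0`. -/
theorem finite_top_of_two (hφ₁ : Function.Surjective φ₁) (hφ₂ : Function.Surjective φ₂)
    (h12 : RingHom.ker φ₁ * RingHom.ker φ₂ = ⊥)
    (P : Cx R') (b : ℤ) (hP : VanishesAbove P b)
    (h₁ : Module.Finite R₁ ((HF R₁ b).obj (toD ((extC φ₁).obj P))))
    (h₂ : Module.Finite R₂ ((HF R₂ b).obj (toD ((extC φ₂).obj P)))) :
    Module.Finite R' ((HF R' b).obj (toD P)) := by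
  let _ : Algebra R' R₁ := φ₁.toAlgebra
  let _ : Algebra R' R₂ := φ₂.toAlgebra
  have hd : P.d b (b + 1) = 0 := (hP _ (by omega)).eq_of_tgt _ _
  have hd₁ : ((extC φ₁).obj P).d b (b + 1) = 0 :=
    ((ModuleCat.extendScalars.{u, u, u} φ₁).map_isZero (hP _ (by omega))).eq_of_tgt _ _
  have hd₂ : ((extC φ₂).obj P).d b (b + 1) = 0 :=
    ((ModuleCat.extendScalars.{u, u, u} φ₂).map_isZero (hP _ (by omega))).eq_of_tgt _ _
  have e : (HF R' b).obj (toD P) ≅
      ModuleCat.of R' ((P.X b) ⧸ LinearMap.range (P.d (b - 1) b).hom) :=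
    (DerivedCategory.homologyFunctorFactors (ModuleCat.{u} R') b).app P ≪≫
      P.isoHomologyι b (b + 1) (by simp) hd ≪≫ opcyclesIsoQuot P b
  have e₁ : (HF R₁ b).obj (toD ((extC φ₁).obj P)) ≅
      ModuleCat.of R₁ ((((extC φ₁).obj P).X b) ⧸
        LinearMap.range (((extC φ₁).obj P).d (b - 1) b).hom) :=
    (DerivedCategory.homologyFunctorFactors (ModuleCat.{u} R₁) b).app ((extC φ₁).obj P) ≪≫
      ((extC φ₁).obj P).isoHomologyι b (b + 1) (by simp) hd₁ ≪≫
        opcyclesIsoQuot ((extC φ₁).obj P) b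
  have e₂ : (HF R₂ b).obj (toD ((extC φ₂).obj P)) ≅
      ModuleCat.of R₂ ((((extC φ₂).obj P).X b) ⧸
        LinearMap.range (((extC φ₂).obj P).d (b - 1) b).hom) :=
    (DerivedCategory.homologyFunctorFactors (ModuleCat.{u} R₂) b).app ((extC φ₂).obj P) ≪≫
      ((extC φ₂).obj P).isoHomologyι b (b + 1) (by simp) hd₂ ≪≫
        opcyclesIsoQuot ((extC φ₂).obj P) b
  have k₁ : Module.Finite R₁ ((((extC φ₁).obj P).X b) ⧸
      LinearMap.range (((extC φ₁).obj P).d (b - 1) b).hom) :=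
    Module.Finite.equiv e₁.toLinearEquiv
  have k₂ : Module.Finite R₂ ((((extC φ₂).obj P).X b) ⧸
      LinearMap.range (((extC φ₂).obj P).d (b - 1) b).hom) :=
    Module.Finite.equiv e₂.toLinearEquiv
  have h2 : Module.Finite R' ((P.X b) ⧸ LinearMap.range (P.d (b - 1) b).hom) :=
    finite_quotient_range_of_two (S := R') (A := R₁) (A₂ := R₂) hφ₁ hφ₂ h12
      (P.d (b - 1) b).hom k₁ k₂
  exact Module.Finite.equiv e.symm.toLinearEquiv

/-- The per-ring data used in the inductive step. -/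
theorem step_data {R : Type u} [CommRing R] (φ : R' →+* R) [DRing.HasLBaseChange φ]
    (m b : ℤ) (hmb : m ≤ b) (P : Cx R') (hPb : VanishesAbove P b)
    (hPproj : ∀ i, Module.Projective R' (P.X i)) {K' : Dual.D R'} (e : toD P ≅ K')
    (hL : IsPseudoCoherent R m ((DRing.LBaseChange φ).obj K')) :
    Module.Finite R ((HF R b).obj (toD ((extC φ).obj P))) ∧
    ∀ (r : ℕ) (f : singleCx b (ModuleCat.of R' (Fin r → R')) ⟶ P),
      IsPseudoCoherent R m ((DRing.LBaseChange φ).obj (toD (mappingCone f))) := by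
  have hPfl : ∀ i, Module.Flat R' (P.X i) := fun i => by
    have := hPproj i
    infer_instance
  obtain ⟨eL⟩ := nonempty_lBaseChangeObjIso_of_flat φ P b hPb hPfl
  have hextpc : IsPseudoCoherent R m (toD ((extC φ).obj P)) :=
    isPseudoCoherent_of_iso' ((DRing.LBaseChange φ).mapIso e.symm ≪≫ eL) hL
  have hextb : VanishesAbove ((extC φ).obj P) b := fun i hi =>
    (ModuleCat.extendScalars.{u, u, u} φ).map_isZero (hPb i hi)
  refine ⟨Groth.Agent.S2068.part_a _ b (isPseudoCoherent_mono hextpc hmb)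
    (fun i hi => isZero_HF_toD_of_isZero_X _ i (hextb i hi)), ?_⟩
  intro r f
  have hFb : VanishesAbove (singleCx b (ModuleCat.of R' (Fin r → R'))) b :=
    fun i hi => isZero_singleCx_X b _ i (by omega)
  have hFo : VanishesOutside (singleCx b (ModuleCat.of R' (Fin r → R'))) b b :=
    fun i hi => isZero_singleCx_X b _ i (by omega)
  have hFff := termwiseFiniteFree_singleCx (A := R') b r
  have hTx := DerivedCategory.mappingCone_triangle_distinguished ((extC φ).map f)
  have hxff : TermwiseFiniteFree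
      ((extC φ).obj (singleCx b (ModuleCat.of R' (Fin r → R')))) :=
    fun i => finiteFree_extendScalars φ _ (hFff i)
  have h1x : IsPseudoCoherent R (m + 1)
      (toD ((extC φ).obj (singleCx b (ModuleCat.of R' (Fin r → R'))))) :=
    isPseudoCoherent_toD_of_bounded_ff ((extC φ).obj (singleCx b (ModuleCat.of R' (Fin r → R'))))
      b b (fun i hi => (ModuleCat.extendScalars.{u, u, u} φ).map_isZero (hFo i hi)) hxff (m + 1)
  have h3x : IsPseudoCoherent R m (toD (mappingCone ((extC φ).map f))) :=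
    (isPseudoCoherent_two_out_of_three _ hTx m).1 h1x hextpc
  have hCb : VanishesAbove (mappingCone f) b := by
    intro i hi
    exact vanishesAbove_cone f hFb hPb i (by
      have := max_le (show b - 1 ≤ b by omega) (le_refl b)
      omega)
  have hCfl : ∀ i, Module.Flat R' ((mappingCone f).X i) := by
    intro i
    have h := termwise_cone (projectiveP R') f
      (fun j => (finiteFree_projective _ (hFff j) : Module.Projective R' _)) hPproj i
    have : Module.Projective R' ((mappingCone f).X i) := h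
    infer_instance
  obtain ⟨eLC⟩ := nonempty_lBaseChangeObjIso_of_flat φ (mappingCone f) b hCb hCfl
  exact isPseudoCoherent_of_iso'
    (DerivedCategory.Q.mapIso (mappingCone.mapHomologicalComplexIso f
      (ModuleCat.extendScalars.{u, u, u} φ)).symm ≪≫ eLC.symm) h3x

/-- Descent of `m`-pseudo-coherence along a pair of surjections with `ker φ₁ * ker φ₂ = 0`,
by induction on `b - m`. -/
theorem isPseudoCoherent_of_two_aux (hφ₁ : Function.Surjective φ₁) (hφ₂ : Function.Surjective φ₂)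
    (h12 : RingHom.ker φ₁ * RingHom.ker φ₂ = ⊥)
    [DRing.HasLBaseChange φ₁] [DRing.HasLBaseChange φ₂] :
    ∀ (n : ℕ) (m b : ℤ) (K' : Dual.D R'), b < m + n →
      (∀ i : ℤ, b < i → IsZero ((HF R' i).obj K')) →
      IsPseudoCoherent R₁ m ((DRing.LBaseChange φ₁).obj K') →
      IsPseudoCoherent R₂ m ((DRing.LBaseChange φ₂).obj K') → IsPseudoCoherent R' m K' := by
  intro n
  induction n with
  | zero =>
    intro m b K' hb hK _ _
    exact isPseudoCoherent_of_isZero_HF m K' (fun i hi => hK i (by simp at hb; omega))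
  | succ n ih =>
    intro m b K' hb hK hL₁ hL₂
    by_cases hbn : b < m + n
    · exact ih m b K' hbn hK hL₁ hL₂
    have hmb : m ≤ b := by omega
    obtain ⟨P, hPb, hPproj, ⟨e⟩⟩ := exists_projective_rep K' b hK
    obtain ⟨hfin₁, hcone₁⟩ := step_data φ₁ m b hmb P hPb hPproj e hL₁
    obtain ⟨hfin₂, hcone₂⟩ := step_data φ₂ m b hmb P hPb hPproj e hL₂
    have hfinR' : Module.Finite R' ((HF R' b).obj (toD P)) :=
      finite_top_of_two φ₁ φ₂ hφ₁ hφ₂ h12 P b hPb hfin₁ hfin₂
    obtain ⟨r, f, hf⟩ := exists_cell b hPb hfinR'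
    have hFb : VanishesAbove (singleCx b (ModuleCat.of R' (Fin r → R'))) b :=
      fun i hi => isZero_singleCx_X b _ i (by omega)
    have hFo : VanishesOutside (singleCx b (ModuleCat.of R' (Fin r → R'))) b b :=
      fun i hi => isZero_singleCx_X b _ i (by omega)
    have hFff := termwiseFiniteFree_singleCx (A := R') b r
    have hconn : IsConn b (DerivedCategory.Q.map f) := isConn_of_top f b hFb hPb hf
    have hT := DerivedCategory.mappingCone_triangle_distinguished f
    have hC0 : ∀ i : ℤ, b - 1 < i → IsZero ((HF R' i).obj (toD (mappingCone f))) :=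
      fun i hi => IsConn.cone _ hT hconn i (by omega)
    have hconepc : IsPseudoCoherent R' m (toD (mappingCone f)) :=
      ih m (b - 1) _ (by push_cast at hb; omega) hC0 (hcone₁ r f) (hcone₂ r f)
    have hFpc : IsPseudoCoherent R' m (toD (singleCx b (ModuleCat.of R' (Fin r → R')))) :=
      isPseudoCoherent_toD_of_bounded_ff _ b b hFo hFff m
    exact isPseudoCoherent_of_iso' e
      ((isPseudoCoherent_two_out_of_three _ hT m).2.1 hFpc hconepc)

/-- Boundedness above descends along a pair of surjections with `ker φ₁ * ker φ₂ = 0`. -/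
theorem isZero_HF_of_two (hφ₁ : Function.Surjective φ₁) (hφ₂ : Function.Surjective φ₂)
    (h12 : RingHom.ker φ₁ * RingHom.ker φ₂ = ⊥)
    [DRing.HasLBaseChange φ₁] [DRing.HasLBaseChange φ₂] (K' : Dual.D R') (b : ℤ)
    (E₁ : Cx R₁) (hE₁b : VanishesAbove E₁ b) (hE₁fl : ∀ i, Module.Flat R₁ (E₁.X i))
    (eE₁ : toD E₁ ≅ (DRing.LBaseChange φ₁).obj K')
    (E₂ : Cx R₂) (hE₂b : VanishesAbove E₂ b) (hE₂fl : ∀ i, Module.Flat R₂ (E₂.X i))
    (eE₂ : toD E₂ ≅ (DRing.LBaseChange φ₂).obj K') (i : ℤ) (hi : b < i) :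
    IsZero ((HF R' i).obj K') := by
  obtain ⟨P, f, hf, hKP, hproj⟩ := KP.exists_resolution (DerivedCategory.Q.objPreimage K')
  have hiso : IsIso (DerivedCategory.Q.map f) :=
    (DerivedCategory.isIso_Q_map_iff_quasiIso _ f).mpr hf
  have e₀ : toD P ≅ K' :=
    asIso (DerivedCategory.Q.map f) ≪≫ DerivedCategory.Q.objObjPreimageIso K'
  have hKP₁ := BCKP.isKProjective_extendScalars φ₁ P
  have hKP₂ := BCKP.isKProjective_extendScalars φ₂ P
  have e₁ : toD ((extC φ₁).obj P) ≅ (DRing.LBaseChange φ₁).obj K' :=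
    (lBaseChangeObjIso φ₁ P).symm ≪≫ (DRing.LBaseChange φ₁).mapIso e₀
  have e₂ : toD ((extC φ₂).obj P) ≅ (DRing.LBaseChange φ₂).obj K' :=
    (lBaseChangeObjIso φ₂ P).symm ≪≫ (DRing.LBaseChange φ₂).mapIso e₀
  have hex : (tensorCx (𝟙_ (ModuleCat.{u} R')) P).ExactAt i :=
    exactAt_tensorCx_of_two φ₁ φ₂ hφ₁ hφ₂ (mul_eq_zero_of_ker φ₁ φ₂ h12) P (fun n => by
      have := hproj n
      infer_instance) i
      (fun M => @exactAt_tensorCx_of_subsingleton R₁ _ M (LT.hasLTensor R₁ M) _ hKP₁ _ e₁ i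
        (@subsingleton_HD_lTensor_of_flat R₁ _ M (LT.hasLTensor R₁ M) E₁ b hE₁b hE₁fl _ eE₁ i
          (hE₁b i hi)))
      (fun M => @exactAt_tensorCx_of_subsingleton R₂ _ M (LT.hasLTensor R₂ M) _ hKP₂ _ e₂ i
        (@subsingleton_HD_lTensor_of_flat R₂ _ M (LT.hasLTensor R₂ M) E₂ b hE₂b hE₂fl _ eE₂ i
          (hE₂b i hi))) _
  have hexP : P.ExactAt i :=
    (_root_.exactAt_iff_of_quasiIsoAt (tensorCxUnitIso P).hom i).mp hex
  rw [HomologicalComplex.exactAt_iff_isZero_homology] at hexP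
  have h1 : IsZero ((HF R' i).obj (toD P)) :=
    hexP.of_iso ((DerivedCategory.homologyFunctorFactors (ModuleCat.{u} R') i).app P)
  exact h1.of_iso ((HF R' i).mapIso e₀.symm)

/-- **Pseudo-coherence descends along a pair of surjections with `ker φ₁ * ker φ₂ = 0`.** -/
theorem isPseudoCoherent'_of_two (hφ₁ : Function.Surjective φ₁) (hφ₂ : Function.Surjective φ₂)
    (h12 : RingHom.ker φ₁ * RingHom.ker φ₂ = ⊥)
    [DRing.HasLBaseChange φ₁] [DRing.HasLBaseChange φ₂] (K' : Dual.D R')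
    (h₁ : IsPseudoCoherent' R₁ ((DRing.LBaseChange φ₁).obj K'))
    (h₂ : IsPseudoCoherent' R₂ ((DRing.LBaseChange φ₂).obj K')) : IsPseudoCoherent' R' K' := by
  obtain ⟨E₁, b₁, hE₁b, hE₁ff, ⟨eE₁⟩⟩ := id h₁
  obtain ⟨E₂, b₂, hE₂b, hE₂ff, ⟨eE₂⟩⟩ := id h₂
  have hE₁fl : ∀ i, Module.Flat R₁ (E₁.X i) := fun i => by
    have := (hE₁ff i).1
    have := (hE₁ff i).2
    infer_instance
  have hE₂fl : ∀ i, Module.Flat R₂ (E₂.X i) := fun i => by
    have := (hE₂ff i).1
    have := (hE₂ff i).2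
    infer_instance
  have hK : ∀ i : ℤ, max b₁ b₂ < i → IsZero ((HF R' i).obj K') :=
    isZero_HF_of_two φ₁ φ₂ hφ₁ hφ₂ h12 K' (max b₁ b₂)
      E₁ (fun i hi => hE₁b i (lt_of_le_of_lt (le_max_left _ _) hi)) hE₁fl eE₁
      E₂ (fun i hi => hE₂b i (lt_of_le_of_lt (le_max_right _ _) hi)) hE₂fl eE₂
  apply isPseudoCoherent'_of_forall
  intro m
  exact isPseudoCoherent_of_two_aux φ₁ φ₂ hφ₁ hφ₂ h12 (max b₁ b₂ - m + 1).toNat m (max b₁ b₂) K'
    (by omega) hK
    (isPseudoCoherent_of_isPseudoCoherent' h₁ m) (isPseudoCoherent_of_isPseudoCoherent' h₂ m)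

end

end Groth.Agent.Lib.Helper68.TwoIdeal
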