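import Mathlib
import Groth.Agent.Lib.Helper68.TwoIdeal2
import Groth.Agent.Lib.Helper12.DRingPerfectAmp
import Groth.Agent.Lib.Helper12.DRingPerfect
import Groth.Agent.Lib.Helper36.FibreTorAmp
import Groth.Agent.S6952

/-!
Helper (helper68): tor amplitude and perfectness descend along a pair of surjections
`φ₁ : R' → R₁`, `φ₂ : R' → R₂` with `ker φ₁ * ker φ₂ = 0`; the tower isomorphism
`(K ⊗^L R') ⊗^L_{R'} R₁ ≅ K ⊗^L R₁`.
-/

set_option autoImplicit false
universe u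

open CategoryTheory CategoryTheory.Limits CochainComplex DerivedCategory MonoidalCategory

attribute [local instance] HasDerivedCategory.standard

namespace Groth.Agent.Lib.Helper68.TwoIdeal

open Groth.Agent.Lib.Helper12 DRing Groth.Agent.Lib.Helper36 Groth.Agent.Lib.Helper36.LT
open Groth.Agent.Lib.Helper36.NilPC

section two

variable {R' R₁ R₂ : Type u} [CommRing R'] [CommRing R₁] [CommRing R₂]
  (φ₁ : R' →+* R₁) (φ₂ : R' →+* R₂)

/-- Tor amplitude descends along a pair of surjections with `ker φ₁ * ker φ₂ = 0`. -/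
theorem hasTorAmplitudeIn_of_two (hφ₁ : Function.Surjective φ₁) (hφ₂ : Function.Surjective φ₂)
    (h12 : RingHom.ker φ₁ * RingHom.ker φ₂ = ⊥)
    [DRing.HasLBaseChange φ₁] [DRing.HasLBaseChange φ₂] (K' : Dual.D R') (a b : ℤ)
    (h₁ : HasTorAmplitudeIn R₁ a b ((DRing.LBaseChange φ₁).obj K'))
    (h₂ : HasTorAmplitudeIn R₂ a b ((DRing.LBaseChange φ₂).obj K')) :
    HasTorAmplitudeIn R' a b K' := by
  obtain ⟨P, f, hf, hKP, hproj⟩ := KP.exists_resolution (DerivedCategory.Q.objPreimage K')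
  have hiso : IsIso (DerivedCategory.Q.map f) :=
    (DerivedCategory.isIso_Q_map_iff_quasiIso _ f).mpr hf
  have e₀ : toD P ≅ K' :=
    asIso (DerivedCategory.Q.map f) ≪≫ DerivedCategory.Q.objObjPreimageIso K'
  have hKP₁ := BCKP.isKProjective_extendScalars φ₁ P
  have hKP₂ := BCKP.isKProjective_extendScalars φ₂ P
  have e₁ : toD ((extC φ₁).obj P) ≅ (DRing.LBaseChange φ₁).obj K' :=
    (lBaseChangeObjIso φ₁ P).symm ≪≫ (DRing.LBaseChange φ₁).mapIso e₀
  have e₂ : toD ((extC φ₂).obj P) ≅ (DRing.LBaseChange φ₂).obj K' :=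
    (lBaseChangeObjIso φ₂ P).symm ≪≫ (DRing.LBaseChange φ₂).mapIso e₀
  have hR₁ := (@Groth.Agent.S6945.result R₁ _ (fun M => LT.hasLTensor R₁ M)
    ((DRing.LBaseChange φ₁).obj K') a b).mp h₁
  have hR₂ := (@Groth.Agent.S6945.result R₂ _ (fun M => LT.hasLTensor R₂ M)
    ((DRing.LBaseChange φ₂).obj K') a b).mp h₂
  apply (@Groth.Agent.S6945.result R' _ (fun M => LT.hasLTensor R' M) K' a b).mpr
  intro N i hi
  have hex : (tensorCx N P).ExactAt i :=
    exactAt_tensorCx_of_two φ₁ φ₂ hφ₁ hφ₂ (mul_eq_zero_of_ker φ₁ φ₂ h12) P (fun n => by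
      have := hproj n
      infer_instance) i
      (fun M => @exactAt_tensorCx_of_subsingleton R₁ _ M (LT.hasLTensor R₁ M) _ hKP₁ _ e₁ i
        (hR₁ M i hi))
      (fun M => @exactAt_tensorCx_of_subsingleton R₂ _ M (LT.hasLTensor R₂ M) _ hKP₂ _ e₂ i
        (hR₂ M i hi)) N
  exact @Groth.Agent.S6952.subsingleton_HD_of_exactAt_tensorCx R' _ N (LT.hasLTensor R' N) P hKP
    K' e₀ i hex

/-- a perfect complex has tor amplitude in the range of a representative -/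
theorem exists_hasTorAmplitudeIn_of_isPerfect {A : Type u} [CommRing A] {K : Dual.D A}
    (h : IsPerfect A K) : ∃ a b : ℤ, HasTorAmplitudeIn A a b K := by
  obtain ⟨E, a, b, hE, hfp, he⟩ := h
  exact ⟨a, b, E, hE, termwiseFlat_of_termwiseFiniteProjective hfp, he⟩

/-- **Perfectness descends along a pair of surjections with `ker φ₁ * ker φ₂ = 0`.** -/
theorem isPerfect_of_two (hφ₁ : Function.Surjective φ₁) (hφ₂ : Function.Surjective φ₂)
    (h12 : RingHom.ker φ₁ * RingHom.ker φ₂ = ⊥)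
    [DRing.HasLBaseChange φ₁] [DRing.HasLBaseChange φ₂] (K' : Dual.D R')
    (h₁ : IsPerfect R₁ ((DRing.LBaseChange φ₁).obj K'))
    (h₂ : IsPerfect R₂ ((DRing.LBaseChange φ₂).obj K')) : IsPerfect R' K' := by
  have hpc : IsPseudoCoherent' R' K' :=
    isPseudoCoherent'_of_two φ₁ φ₂ hφ₁ hφ₂ h12 K' (isPseudoCoherent'_of_isPerfect h₁)
      (isPseudoCoherent'_of_isPerfect h₂)
  obtain ⟨a₁, b₁, t₁⟩ := exists_hasTorAmplitudeIn_of_isPerfect h₁
  obtain ⟨a₂, b₂, t₂⟩ := exists_hasTorAmplitudeIn_of_isPerfect h₂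
  have t₁' : HasTorAmplitudeIn R₁ (min a₁ a₂) (max b₁ b₂) ((DRing.LBaseChange φ₁).obj K') :=
    hasTorAmplitudeIn_mono' t₁ (min_le_left _ _) (le_max_left _ _)
  have t₂' : HasTorAmplitudeIn R₂ (min a₁ a₂) (max b₁ b₂) ((DRing.LBaseChange φ₂).obj K') :=
    hasTorAmplitudeIn_mono' t₂ (min_le_right _ _) (le_max_right _ _)
  have t : HasTorAmplitudeIn R' (min a₁ a₂) (max b₁ b₂) K' :=
    hasTorAmplitudeIn_of_two φ₁ φ₂ hφ₁ hφ₂ h12 K' _ _ t₁' t₂'
  obtain ⟨G, hG, hGfp, he⟩ := exists_finiteProjective_rep_of_isPseudoCoherent' hpc t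
  exact ⟨G, _, _, hG, hGfp, he⟩

end two

section tower

variable {R R' R₁ : Type u} [CommRing R] [CommRing R'] [CommRing R₁]

/-- Tower: `(K ⊗^L_R R') ⊗^L_{R'} R₁ ≅ K ⊗^L_R R₁`. -/
theorem nonempty_lBaseChange_comp_iso (ψ : R →+* R') (φ : R' →+* R₁) (χ : R →+* R₁)
    (hχ : χ = φ.comp ψ) [DRing.HasLBaseChange ψ] [DRing.HasLBaseChange φ]
    [DRing.HasLBaseChange χ] (K : Dual.D R) :
    Nonempty ((DRing.LBaseChange φ).obj ((DRing.LBaseChange ψ).obj K) ≅
      (DRing.LBaseChange χ).obj K) := by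
  obtain ⟨P, f, hf, hKP, hproj⟩ := KP.exists_resolution (DerivedCategory.Q.objPreimage K)
  have hiso : IsIso (DerivedCategory.Q.map f) :=
    (DerivedCategory.isIso_Q_map_iff_quasiIso _ f).mpr hf
  have e₀ : toD P ≅ K :=
    asIso (DerivedCategory.Q.map f) ≪≫ DerivedCategory.Q.objObjPreimageIso K
  have hKP' := BCKP.isKProjective_extendScalars ψ P
  exact ⟨(DRing.LBaseChange φ).mapIso ((DRing.LBaseChange ψ).mapIso e₀.symm ≪≫
      lBaseChangeObjIso ψ P) ≪≫ lBaseChangeObjIso φ ((extC ψ).obj P) ≪≫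
    DerivedCategory.Q.mapIso (FibreTorAmp.extCompIso ψ φ χ hχ P).symm ≪≫
    (lBaseChangeObjIso χ P).symm ≪≫ (DRing.LBaseChange χ).mapIso e₀⟩

end tower

end Groth.Agent.Lib.Helper68.TwoIdeal
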