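import Mathlib.CategoryTheory.Localization.Triangulated
import Mathlib.CategoryTheory.Triangulated.Subcategory
import Mathlib.CategoryTheory.Linear.LinearFunctor
import Mathlib.Algebra.Module.LocalizedModule.Basic
import Mathlib.CategoryTheory.Localization.CalculusOfFractions.Fractions
import Mathlib.CategoryTheory.ObjectProperty.Retract

set_option autoImplicit false
universe w v u v' u'
open CategoryTheory CategoryTheory.Limits CategoryTheory.Pretriangulated CategoryTheory.Triangulated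
open ZeroObject

namespace Groth.Agent.Lib.Helper68.VerdierLoc

variable {A : Type w} [CommRing A] (S : Submonoid A)
    {T : Type u} [Category.{v} T] [Preadditive T] [Linear A T] [HasZeroObject T] [HasShift T ℤ]
    [∀ n : ℤ, (shiftFunctor T n).Additive] [∀ n : ℤ, (shiftFunctor T n).Linear A]
    [Pretriangulated T]

/-- Objects annihilated by an element of `S`. -/
def Ann : ObjectProperty T := fun Z => ∃ c : A, c ∈ S ∧ c • 𝟙 Z = 0

lemma Ann.smul_eq_zero {Z : T} {c : A} (h : c • 𝟙 Z = 0) {X : T} (f : X ⟶ Z) : c • f = 0 := by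
  have : c • f = f ≫ (c • 𝟙 Z) := by simp
  rw [this, h, comp_zero]

lemma Ann.smul_eq_zero' {Z : T} {c : A} (h : c • 𝟙 Z = 0) {X : T} (f : Z ⟶ X) : c • f = 0 := by
  have : c • f = (c • 𝟙 Z) ≫ f := by simp
  rw [this, h, zero_comp]

instance : (Ann (T := T) S).IsClosedUnderIsomorphisms where
  of_iso {Z Z'} e := by
    rintro ⟨c, hc, h⟩
    refine ⟨c, hc, ?_⟩
    have : c • 𝟙 Z' = e.inv ≫ (c • 𝟙 Z) ≫ e.hom := by simp
    rw [this, h, zero_comp, comp_zero]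

instance : (Ann (T := T) S).ContainsZero where
  exists_zero := ⟨0, isZero_zero T, 1, S.one_mem, (isZero_zero T).eq_of_src _ _⟩

instance : (Ann (T := T) S).IsStableUnderShift ℤ where
  isStableUnderShiftBy n :=
    { le_shift := by
        rintro Z ⟨c, hc, h⟩
        refine ⟨c, hc, ?_⟩
        have : c • 𝟙 (Z⟦n⟧) = (shiftFunctor T n).map (c • 𝟙 Z) := by
          rw [Functor.map_smul, CategoryTheory.Functor.map_id]
        rw [this, h, Functor.map_zero] }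

instance : (Ann (T := T) S).IsTriangulatedClosed₂ :=
  ObjectProperty.IsTriangulatedClosed₂.mk' (fun Tr hT => by
    rintro ⟨c₁, hc₁, h₁⟩ ⟨c₃, hc₃, h₃⟩
    refine ⟨c₁ * c₃, S.mul_mem hc₁ hc₃, ?_⟩
    have e : (c₃ • 𝟙 Tr.obj₂) ≫ Tr.mor₂ = 0 := by
      have : (c₃ • 𝟙 Tr.obj₂) ≫ Tr.mor₂ = c₃ • Tr.mor₂ := by simp
      rw [this]
      exact Ann.smul_eq_zero h₃ _
    obtain ⟨k, hk⟩ := Triangle.coyoneda_exact₂ Tr hT _ e
    rw [mul_smul, hk]
    have : c₁ • (k ≫ Tr.mor₁) = (c₁ • k) ≫ Tr.mor₁ := by simp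
    rw [this, Ann.smul_eq_zero h₁ k, zero_comp])

instance : (Ann (T := T) S).IsTriangulated where

instance : (Ann (T := T) S).IsStableUnderRetracts where
  of_retract {Z Z'} r := by
    rintro ⟨c, hc, h⟩
    refine ⟨c, hc, ?_⟩
    have : c • 𝟙 Z = r.i ≫ (c • 𝟙 Z') ≫ r.r := by simp
    rw [this, h, zero_comp, comp_zero]

/-- The cone of `f • 𝟙 X` is annihilated by `f * f`. -/
lemma ann_cone (X : T) (f : A) (hf : f ∈ S) (Z : T) (g : X ⟶ Z) (h : Z ⟶ X⟦(1 : ℤ)⟧)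
    (hT : Triangle.mk (f • 𝟙 X) g h ∈ distTriang T) : Ann S Z := by
  refine ⟨f * f, S.mul_mem hf hf, ?_⟩
  have e1 : g ≫ (f • 𝟙 Z) = 0 := by
    have : g ≫ (f • 𝟙 Z) = (f • 𝟙 X) ≫ g := by simp
    rw [this]
    exact comp_distTriang_mor_zero₁₂ _ hT
  obtain ⟨k, hk⟩ : ∃ k : X⟦(1 : ℤ)⟧ ⟶ Z, f • 𝟙 Z = h ≫ k := Triangle.yoneda_exact₃ _ hT _ e1
  rw [mul_smul, hk]
  have e2 : h ≫ (f • 𝟙 (X⟦(1 : ℤ)⟧)) = 0 := by
    have : f • 𝟙 (X⟦(1 : ℤ)⟧) = (shiftFunctor T (1 : ℤ)).map (f • 𝟙 X) := by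
      rw [Functor.map_smul, CategoryTheory.Functor.map_id]
    rw [this]
    exact comp_distTriang_mor_zero₃₁ _ hT
  have : f • (h ≫ k) = (h ≫ (f • 𝟙 (X⟦(1 : ℤ)⟧))) ≫ k := by
    rw [Linear.comp_smul, Category.comp_id, Linear.smul_comp]
  rw [this, e2, zero_comp]

variable [IsTriangulated T]

theorem isLocalizedModule
    (U : ObjectProperty T) [U.IsTriangulated] [U.IsClosedUnderIsomorphisms] [U.IsStableUnderRetracts]
    (hU : ∀ (X : T) (f : A), f ∈ S → ∀ (Z : T) (g : X ⟶ Z) (h : Z ⟶ X⟦(1 : ℤ)⟧),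
      Triangle.mk (f • 𝟙 X) g h ∈ distTriang T → U Z)
    (hmin : ∀ (U' : ObjectProperty T) [U'.IsTriangulated] [U'.IsClosedUnderIsomorphisms]
      [U'.IsStableUnderRetracts],
      (∀ (X : T) (f : A), f ∈ S → ∀ (Z : T) (g : X ⟶ Z) (h : Z ⟶ X⟦(1 : ℤ)⟧),
        Triangle.mk (f • 𝟙 X) g h ∈ distTriang T → U' Z) → U ≤ U')
    {E : Type u'} [Category.{v'} E] [Preadditive E] [Linear A E]
    (Q : T ⥤ E) [Q.Additive] [Q.Linear A] [Q.IsLocalization U.trW] (X Y : T) :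
    IsLocalizedModule S (Q.mapLinearMap A : (X ⟶ Y) →ₗ[A] (Q.obj X ⟶ Q.obj Y)) := by
  have hUA : U ≤ Ann S := hmin (Ann S) (fun X f hf Z g h hT => ann_cone S X f hf Z g h hT)
  have hinv : ∀ (f : A) (_ : f ∈ S) (X : T), IsIso (f • 𝟙 (Q.obj X)) := by
    intro f hf X
    obtain ⟨Z, g, h, hT⟩ := distinguished_cocone_triangle (f • 𝟙 X)
    have hW : U.trW (f • 𝟙 X) := ⟨Z, g, h, hT, hU X f hf Z g h hT⟩
    have := Localization.inverts Q U.trW _ hW
    rw [Functor.map_smul, CategoryTheory.Functor.map_id] at this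
    exact this
  refine ⟨?_, ?_, ?_⟩
  · rintro ⟨c, hc⟩
    have := hinv c hc Y
    rw [Module.End.isUnit_iff]
    constructor
    · intro g g' hgg
      simp only [Module.algebraMap_end_apply] at hgg
      have h1 : g ≫ (c • 𝟙 (Q.obj Y)) = g' ≫ (c • 𝟙 (Q.obj Y)) := by
        simpa using hgg
      exact (cancel_mono _).1 h1
    · intro g
      refine ⟨g ≫ inv (c • 𝟙 (Q.obj Y)), ?_⟩
      simp only [Module.algebraMap_end_apply]
      have : c • (g ≫ inv (c • 𝟙 (Q.obj Y))) = (g ≫ inv (c • 𝟙 (Q.obj Y))) ≫ (c • 𝟙 (Q.obj Y)) := by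
        simp
      rw [this, Category.assoc, IsIso.inv_hom_id, Category.comp_id]
  · intro y
    obtain ⟨φ, hφ⟩ := Localization.exists_leftFraction Q U.trW y
    obtain ⟨Z, a, b, hT, hZ⟩ := φ.hs
    obtain ⟨c, hc, hcZ⟩ := hUA _ hZ
    have e : (c • 𝟙 φ.Y') ≫ a = 0 := by
      have : (c • 𝟙 φ.Y') ≫ a = c • a := by simp
      rw [this]
      exact Ann.smul_eq_zero hcZ a
    obtain ⟨t, ht⟩ : ∃ t : φ.Y' ⟶ Y, c • 𝟙 φ.Y' = t ≫ φ.s := Triangle.coyoneda_exact₂ _ hT _ e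
    refine ⟨(φ.f ≫ t, ⟨c, hc⟩), ?_⟩
    have := Localization.inverts Q U.trW _ φ.hs
    have hy : y ≫ Q.map φ.s = Q.map φ.f := by
      rw [hφ]
      simp [MorphismProperty.LeftFraction.map]
    change c • y = Q.map (φ.f ≫ t)
    have h1 : c • y = y ≫ Q.map (c • 𝟙 Y) := by
      rw [Functor.map_smul, CategoryTheory.Functor.map_id]
      simp
    have h2 : Q.map φ.s ≫ Q.map t = Q.map (c • 𝟙 Y) := by
      rw [← cancel_mono (Q.map φ.s), Category.assoc, ← Q.map_comp t φ.s, ← ht, ← Q.map_comp]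
      simp
    rw [h1, ← h2, ← Category.assoc, hy, Q.map_comp]
  · intro x₁ x₂ h
    have h0 : Q.map (x₁ - x₂) = Q.map 0 := by
      rw [Functor.map_sub, Functor.map_zero, sub_eq_zero]
      exact h
    obtain ⟨Z, s, hs, hd⟩ := (MorphismProperty.map_eq_iff_postcomp Q U.trW _ _).1 h0
    rw [zero_comp] at hd
    obtain ⟨X₀, f₀, h₀, hT, hX₀⟩ := (U.trW_iff' s).1 hs
    obtain ⟨c, hc, hcX⟩ := hUA _ hX₀
    obtain ⟨k, hk⟩ : ∃ k : X ⟶ X₀, x₁ - x₂ = k ≫ f₀ := Triangle.coyoneda_exact₂ _ hT _ hd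
    refine ⟨⟨c, hc⟩, ?_⟩
    change c • x₁ = c • x₂
    rw [← sub_eq_zero, ← smul_sub, hk]
    have : c • (k ≫ f₀) = (c • k) ≫ f₀ := by simp
    rw [this, Ann.smul_eq_zero hcX k, zero_comp]

end Groth.Agent.Lib.Helper68.VerdierLoc
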